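import Groth.Agent.LocCoh.DepthVanishing
import Mathlib.Algebra.Module.LocalizedModule.Exact
import Mathlib.RingTheory.Support

/-!
# Finiteness of local cohomology (Faltings annihilator criterion, local nature)

* `finite_H_of_annihilated`, `finite_H_iff_annihilated`;
* `IsLocFinite`, `finite_of_isLocFinite_of_ker`, `finite_H_iff_isLocFinite`.
-/

universe u

open CategoryTheory Limits
open scoped Pointwise

namespace Groth.Agent.LocCoh

variable {R : Type u} [CommRing R] [IsNoetherianRing R] {I : Ideal R}

theorem finite_of_exact {A B C : Type u} [AddCommGroup A] [Module R A] [AddCommGroup B] [Module R B]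
    [AddCommGroup C] [Module R C] [Module.Finite R A] [Module.Finite R C] (f : A →ₗ[R] B)
    (g : B →ₗ[R] C) (h : Function.Exact f g) : Module.Finite R B := by
  have := isNoetherian_of_range_eq_ker f g h.linearMap_ker_eq.symm
  infer_instance

theorem finite_H_zero (M : ModuleCat.{u} R) [Module.Finite R M] :
    Module.Finite R ((localCohomology I 0).obj M) :=
  Module.Finite.equiv (H0Equiv I M).symm

/-- Some element of `I` is regular on `M ⧸ Γ_I M`. -/
theorem exists_isSMulRegular_quotient_torsion (M : ModuleCat.{u} R) [Module.Finite R M] :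
    ∃ x ∈ I, IsSMulRegular (M ⧸ DRing.torsionSub I M) x ∧
      Subsingleton ((localCohomology I 0).obj (ModuleCat.of R (M ⧸ DRing.torsionSub I M))) := by
  let T := DRing.torsionSub I M
  have h0 : Subsingleton ((localCohomology I 0).obj (ModuleCat.of R (M ⧸ T))) := by
    have : DRing.torsionSub I (M ⧸ T) = ⊥ := eq_bot_iff.mpr fun y hy => by
      let S : ShortComplex (ModuleCat.{u} R) :=
        ShortComplex.mk (ModuleCat.ofHom T.subtype) (ModuleCat.ofHom T.mkQ) (by ext x; simp)
      obtain ⟨z, rfl⟩ := T.mkQ_surjective y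
      obtain ⟨n, hn⟩ := hy
      obtain ⟨s, hs⟩ := IsNoetherian.noetherian (I ^ n)
      obtain ⟨m, hm⟩ := exists_common_pow (I := I) s (fun a => a • z)
        fun a ha => (Submodule.Quotient.mk_eq_zero T).mp (hn a (hs ▸ Submodule.subset_span ha))
      refine (Submodule.Quotient.mk_eq_zero T).mpr ⟨m + n, fun a ha => ?_⟩
      rw [pow_add] at ha
      induction ha using Submodule.mul_induction_on' with
      | mem_mul_mem b hb c hc =>
        rw [mul_smul]
        rw [← hs] at hc
        induction hc using Submodule.span_induction with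
        | mem t ht => exact hm t ht b hb
        | zero => simp
        | add _ _ _ _ h₁ h₂ => rw [add_smul, smul_add, h₁, h₂, add_zero]
        | smul t _ _ h₁ => rw [smul_eq_mul, mul_smul, smul_comm, h₁, smul_zero]
      | add _ _ _ _ h₁ h₂ => rw [add_smul, h₁, h₂, add_zero]
    have : Subsingleton (DRing.torsionSub I (ModuleCat.of R (M ⧸ T))) := by
      show Subsingleton (DRing.torsionSub I (M ⧸ T))
      rw [this]; infer_instance
    exact (H0Equiv I (ModuleCat.of R (M ⧸ T))).toEquiv.subsingleton
  have hne : _root_.LocCoh.idealDepth I (M ⧸ T) ≠ 0 := fun h =>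
    not_subsingleton_iff_nontrivial.mpr (nontrivial_H_zero_of_idealDepth_eq_zero I (M ⧸ T) h) h0
  obtain ⟨x, hx, hreg⟩ := Depth.exists_isSMulRegular_of_one_le_idealDepth (I := I) (M := M ⧸ T)
    (Order.one_le_iff_pos.mpr (pos_iff_ne_zero.mpr hne))
  exact ⟨x, hx, hreg, h0⟩

/-- `M` modulo its torsion, and the comparison in positive degrees. -/
theorem exists_regular_reduction (M : ModuleCat.{u} R) [Module.Finite R M] :
    ∃ (M' : ModuleCat.{u} R) (x : R), Module.Finite R M' ∧ x ∈ I ∧ IsSMulRegular M' x ∧
      Subsingleton ((localCohomology I 0).obj M') ∧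
      ∀ i : ℕ, Nonempty ((localCohomology I (i + 1)).obj M ≃ₗ[R] (localCohomology I (i + 1)).obj M') := by
  obtain ⟨x, hx, hreg, h0⟩ := exists_isSMulRegular_quotient_torsion (I := I) M
  exact ⟨ModuleCat.of R (M ⧸ DRing.torsionSub I M), x,
    inferInstanceAs (Module.Finite R (M ⧸ DRing.torsionSub I M)), hx, hreg, h0,
    fun i => ⟨LinearEquiv.ofBijective _ (bijective_map_mkQ I M i)⟩⟩

/-- Faltings: local cohomology up to degree `n` is finite when killed by `J` with `I ≤ √J`. -/
theorem finite_H_of_annihilated : ∀ (n : ℕ) (J : Ideal R), I ≤ J.radical → ∀ (M : ModuleCat.{u} R)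
    [Module.Finite R M],
      (∀ i ≤ n, ∀ a ∈ J, ∀ x : (localCohomology I i).obj M, a • x = 0) →
        ∀ i ≤ n, Module.Finite R ((localCohomology I i).obj M) := by
  intro n
  induction n with
  | zero =>
    intro J _ M _ _ i hi
    obtain rfl : i = 0 := by omega
    exact finite_H_zero M
  | succ n ih =>
    intro J hJ M _ hkill i hi
    rcases i with - | j
    · exact finite_H_zero M
    obtain ⟨M', x, hfin, hx, hreg, h0, heq⟩ := exists_regular_reduction (I := I) M
    obtain ⟨N, hN⟩ := hJ hx
    have hkill' : ∀ i ≤ n + 1, ∀ a ∈ J, ∀ z : (localCohomology I i).obj M', a • z = 0 := by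
      rintro (- | i) hi a ha z
      · exact h0.elim _ _
      · obtain ⟨e⟩ := heq i
        obtain ⟨w, rfl⟩ := e.surjective z
        rw [← map_smul, hkill (i + 1) hi a ha w, map_zero]
    let y := x ^ N
    have hS := IsSMulRegular.smulShortComplex_shortExact (M := M') (hreg.pow N)
    have hf3 : Module.Finite R (M'.smulShortComplex y).X₃ :=
      inferInstanceAs (Module.Finite R (M' ⧸ y • (⊤ : Submodule R M')))
    have hkill3 : ∀ i ≤ n, ∀ a ∈ J * J,
        ∀ z : (localCohomology I i).obj (M'.smulShortComplex y).X₃, a • z = 0 := by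
      intro i hi a ha z
      induction ha using Submodule.mul_induction_on' with
      | mem_mul_mem b hb c hc =>
        have : δH (I := I) i hS (c • z) = 0 := by
          rw [map_smul]; exact hkill' (i + 1) (by omega) c hc _
        obtain ⟨w, hw⟩ := (exact₃ (I := I) (i := i) hS (c • z)).mp this
        have hw0 : b • w = 0 := hkill' i (by omega) b hb w
        rw [mul_smul, ← hw, ← map_smul, hw0]
        exact map_zero _
      | add b _ c _ hb hc => rw [add_smul, hb, hc, add_zero]
    have hfin3 := ih (J * J) (by rwa [Ideal.radical_mul, inf_idem]) (M'.smulShortComplex y).X₃ hkill3 j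
      (by omega)
    have hsurj : Function.Surjective (δH (I := I) j hS) := fun z =>
      (exact₁ (I := I) (i := j) hS z).mp ((map_smul_id y M' z).trans (hkill' (j + 1) hi y hN z))
    have : Module.Finite R ((localCohomology I (j + 1)).obj M') := Module.Finite.of_surjective _ hsurj
    obtain ⟨e⟩ := heq j
    exact Module.Finite.equiv e.symm

omit [IsNoetherianRing R] in
/-- Finite local cohomology up to `n` is killed by a common power of `I`. -/
theorem exists_pow_kill_H (n : ℕ) (M : ModuleCat.{u} R)
    (h : ∀ i ≤ n, Module.Finite R ((localCohomology I i).obj M)) :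
    ∃ m : ℕ, ∀ i ≤ n, ∀ a ∈ I ^ m, ∀ x : (localCohomology I i).obj M, a • x = 0 := by
  have : ∀ i : Fin (n + 1), ∃ m : ℕ, ∀ a ∈ I ^ m, ∀ x : (localCohomology I i).obj M, a • x = 0 := by
    intro i
    obtain ⟨s, hs⟩ := (h i (Nat.le_of_lt_succ i.2)).fg_top
    obtain ⟨m, hm⟩ := exists_common_pow (I := I) s id fun x _ => isPowerTorsion_H (i := (i : ℕ)) M x
    refine ⟨m, fun a ha x => ?_⟩
    have hx : x ∈ Submodule.span R (s : Set ((localCohomology I i).obj M)) := hs ▸ Submodule.mem_top
    induction hx using Submodule.span_induction with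
    | mem x hx => exact hm x hx a ha
    | zero => exact smul_zero a
    | add y z _ _ hy hz => rw [smul_add, hy, hz, add_zero]
    | smul c y _ hy => rw [smul_comm, hy, smul_zero]
  choose m hm using this
  exact ⟨Finset.univ.sup m, fun i hi a ha => hm ⟨i, Nat.lt_succ_of_le hi⟩ a
    (Ideal.pow_le_pow_right (Finset.le_sup (Finset.mem_univ (⟨i, Nat.lt_succ_of_le hi⟩ : Fin (n + 1)))) ha)⟩

theorem finite_H_iff_annihilated (n : ℕ) (M : ModuleCat.{u} R) [Module.Finite R M] :
    (∀ i ≤ n, Module.Finite R ((localCohomology I i).obj M)) ↔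
      ∃ J : Ideal R, I ≤ J.radical ∧
        ∀ i ≤ n, ∀ a ∈ J, ∀ x : (localCohomology I i).obj M, a • x = 0 := by
  refine ⟨fun h => ?_, fun ⟨J, hJ, h⟩ => finite_H_of_annihilated n J hJ M h⟩
  obtain ⟨m, hm⟩ := exists_pow_kill_H n M h
  exact ⟨I ^ m, fun a ha => ⟨m, Ideal.pow_mem_pow ha m⟩, hm⟩

/-- At every prime, `N` is generated by finitely many elements up to denominators. -/
def IsLocFinite (R : Type u) [CommRing R] (N : Type u) [AddCommGroup N] [Module R N] : Prop :=
  ∀ p : PrimeSpectrum R, ∃ L : Submodule R N, L.FG ∧ ∀ x : N, ∃ u ∉ p.asIdeal, u • x ∈ L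

omit [IsNoetherianRing R] in
theorem isLocFinite_of_finite (N : Type u) [AddCommGroup N] [Module R N] [Module.Finite R N] :
    IsLocFinite R N :=
  fun p => ⟨⊤, Module.Finite.fg_top, fun _ => ⟨1, (Ideal.ne_top_iff_one _).mp p.2.ne_top,
    Submodule.mem_top⟩⟩

omit [IsNoetherianRing R] in
theorem IsLocFinite.of_surjective {N N' : Type u} [AddCommGroup N] [Module R N] [AddCommGroup N']
    [Module R N'] (h : IsLocFinite R N) (f : N →ₗ[R] N') (hf : Function.Surjective f) :
    IsLocFinite R N' := fun p => by
  obtain ⟨L, hL, hu⟩ := h p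
  refine ⟨L.map f, hL.map f, fun x => ?_⟩
  obtain ⟨x, rfl⟩ := hf x
  obtain ⟨u, hu, hux⟩ := hu x
  exact ⟨u, hu, ⟨_, hux, map_smul f u x⟩⟩

theorem IsLocFinite.of_exact {A B C : Type u} [AddCommGroup A] [Module R A] [AddCommGroup B]
    [Module R B] [AddCommGroup C] [Module R C] (hA : IsLocFinite R A) (hC : IsLocFinite R C)
    (f : A →ₗ[R] B) (g : B →ₗ[R] C) (h : Function.Exact f g) : IsLocFinite R B := fun p => by
  classical
  obtain ⟨LA, hLA, huA⟩ := hA p
  obtain ⟨LC, hLC, huC⟩ := hC p
  have hfg : (LC ⊓ LinearMap.range g).FG := by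
    have := isNoetherian_of_fg_of_noetherian LC hLC
    exact fg_of_le LC inf_le_left hLC
  obtain ⟨L, hL, hLmap⟩ : ∃ L : Submodule R B, L.FG ∧ LC ⊓ LinearMap.range g ≤ L.map g := by
    obtain ⟨s, hs⟩ := hfg
    have : ∀ c : s, ∃ b, g b = (c : C) := fun c => by
      have : (c : C) ∈ LC ⊓ LinearMap.range g := hs ▸ Submodule.subset_span c.2
      exact this.2
    choose b hb using this
    refine ⟨Submodule.span R (Set.range b), Submodule.fg_span (Set.finite_range b), ?_⟩
    rw [← hs, Submodule.span_le]
    exact fun c hc => ⟨b ⟨c, hc⟩, Submodule.subset_span ⟨_, rfl⟩, hb _⟩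
  refine ⟨LA.map f ⊔ L, (hLA.map f).sup hL, fun x => ?_⟩
  obtain ⟨u, hu, hux⟩ := huC (g x)
  obtain ⟨l, hl, hgl⟩ := hLmap ⟨hux, ⟨u • x, map_smul g u x⟩⟩
  obtain ⟨a, ha⟩ := (h (u • x - l)).mp (by rw [map_sub, map_smul, hgl, sub_self])
  obtain ⟨v, hv, hva⟩ := huA a
  refine ⟨v * u, fun hm => (p.2.mem_or_mem hm).elim hv hu, ?_⟩
  have e : (v * u) • x = f (v • a) + v • l := by
    rw [map_smul, ha, smul_sub, mul_smul, sub_add_cancel]
  rw [e]
  exact add_mem (Submodule.mem_sup_left ⟨_, hva, rfl⟩) (Submodule.mem_sup_right (L.smul_mem v hl))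
where
  fg_of_le {R : Type u} [CommRing R] [IsNoetherianRing R] {C : Type u} [AddCommGroup C] [Module R C]
      (L : Submodule R C) {L' : Submodule R C} (h : L' ≤ L) (hL : L.FG) : L'.FG := by
    have := isNoetherian_of_fg_of_noetherian L hL
    exact isNoetherian_submodule.mp this L' h

omit [IsNoetherianRing R] in
theorem isLocFinite_of_finite_localized (N : Type u) [AddCommGroup N] [Module R N]
    (h : ∀ (p : Ideal R) [p.IsPrime], Module.Finite (Localization.AtPrime p)
      (LocalizedModule p.primeCompl N)) : IsLocFinite R N := fun p => by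
  classical
  obtain ⟨s, hs⟩ := (h p.asIdeal).fg_top
  have hrep : ∀ z : LocalizedModule p.asIdeal.primeCompl N,
      ∃ (a : N) (b : p.asIdeal.primeCompl), LocalizedModule.mk a b = z := by
    intro z
    induction z using LocalizedModule.induction_on with
    | h a b => exact ⟨a, b, rfl⟩
  choose m d hmd using hrep
  let L : Submodule R N := Submodule.span R (m '' (s : Set (LocalizedModule p.asIdeal.primeCompl N)))
  refine ⟨L, Submodule.fg_span (s.finite_toSet.image m), fun x => ?_⟩
  have hsupp : p ∉ Module.support R (N ⧸ L) := by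
    rw [Module.notMem_support_iff]
    have hsurj := LocalizedModule.map_surjective p.asIdeal.primeCompl L.mkQ L.mkQ_surjective
    refine subsingleton_of_forall_eq 0 fun z => ?_
    obtain ⟨w, rfl⟩ := hsurj z
    have hw : w ∈ Submodule.span (Localization.AtPrime p.asIdeal)
        (s : Set (LocalizedModule p.asIdeal.primeCompl N)) := hs ▸ Submodule.mem_top
    induction hw using Submodule.span_induction with
    | mem z hz =>
      rw [← hmd z, LocalizedModule.map_mk]
      rw [show L.mkQ (m z) = 0 from (Submodule.Quotient.mk_eq_zero L).mpr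
        (Submodule.subset_span ⟨z, hz, rfl⟩), LocalizedModule.zero_mk]
    | zero => exact map_zero _
    | add a b _ _ ha hb => rw [map_add, ha, hb, add_zero]
    | smul c a _ ha => rw [map_smul, ha, smul_zero]
  obtain ⟨u, hu, hux⟩ := Module.notMem_support_iff'.mp hsupp (L.mkQ x)
  exact ⟨u, hu, (Submodule.Quotient.mk_eq_zero L).mp hux⟩

/-- A locally finite module which is `x`-power torsion with finite kernels of powers of `x` is finite. -/
theorem finite_of_isLocFinite_of_ker {H : Type u} [AddCommGroup H] [Module R H] {x : R}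
    (hloc : IsLocFinite R H) (htors : ∀ h : H, ∃ k : ℕ, x ^ k • h = 0)
    (hker : ∀ k : ℕ, Module.Finite R (LinearMap.ker (LinearMap.lsmul R H (x ^ k)))) :
    Module.Finite R H := by
  let K : ℕ → Submodule R H := fun k => LinearMap.ker (LinearMap.lsmul R H (x ^ k))
  have hmem : ∀ k h, h ∈ K k ↔ x ^ k • h = 0 := fun k h => LinearMap.mem_ker
  have hmono : Monotone K := monotone_nat_of_le_succ fun k h hh => by
    rw [hmem] at hh ⊢
    rw [pow_succ', mul_smul, hh, smul_zero]
  -- the supports of the successive quotients decrease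
  let Q : ℕ → Ideal R := fun k => (K k).colon (K (k + 1) : Set H)
  have hQ : Monotone Q := monotone_nat_of_le_succ fun k r hr => by
    rw [Submodule.mem_colon] at hr ⊢
    intro h hh
    have : x • h ∈ K (k + 1) := by
      rw [SetLike.mem_coe, hmem, pow_succ, mul_smul] at hh
      exact (hmem _ _).mpr hh
    have h2 := (hmem _ _).mp (hr (x • h) this)
    rw [hmem, pow_succ, mul_smul]
    rwa [smul_comm r x h] at h2
  obtain ⟨k₀, hk₀⟩ := monotone_stabilizes_iff_noetherian.mpr ‹_› ⟨Q, hQ⟩
  have hQtop : Q k₀ = ⊤ := by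
    by_contra hne
    obtain ⟨p, hp, hle⟩ := Ideal.exists_le_maximal _ hne
    obtain ⟨L, hL, hu⟩ := hloc ⟨p, hp.isPrime⟩
    obtain ⟨s, rfl⟩ := hL
    choose e he using htors
    let k := max k₀ (s.sup e)
    have hsK : Submodule.span R (s : Set H) ≤ K k := Submodule.span_le.mpr fun h hh =>
      hmono ((Finset.le_sup hh).trans (le_max_right k₀ _)) ((hmem _ _).mpr (he h))
    have hfg := (hker (k + 1)).fg_top
    obtain ⟨t, ht⟩ := Submodule.fg_top (K (k + 1)) |>.mp hfg
    choose u hu₁ hu₂ using hu
    have := hp.isPrime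
    refine (Submonoid.prod_mem p.primeCompl (t := t) (f := u) fun a _ => hu₁ a) ?_
    apply hle
    rw [show Q k₀ = Q k from hk₀ k (le_max_left _ _), Submodule.mem_colon]
    intro h hh
    rw [SetLike.mem_coe, ← ht] at hh
    induction hh using Submodule.span_induction with
    | mem a ha =>
      obtain ⟨c, hc⟩ := Finset.dvd_prod_of_mem u ha
      rw [hc, mul_comm, mul_smul]
      exact (K k).smul_mem c (hsK (hu₂ a))
    | zero => rw [smul_zero]; exact zero_mem _
    | add a b _ _ ha hb => rw [smul_add]; exact add_mem ha hb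
    | smul c a _ ha => rw [smul_comm]; exact (K k).smul_mem c ha
  have hstab : ∀ j, K (k₀ + j) ≤ K k₀ := by
    intro j
    induction j with
    | zero => exact le_rfl
    | succ j ih =>
      refine le_trans (fun h hh => ?_) ih
      have : (1 : R) ∈ Q (k₀ + j) := by
        rw [← show Q k₀ = Q (k₀ + j) from hk₀ _ (Nat.le_add_right _ _), hQtop]; trivial
      simpa using (Submodule.mem_colon.mp this) h hh
  have hK : K k₀ = ⊤ := eq_top_iff.mpr fun h _ => by
    obtain ⟨k, hk⟩ := htors h
    exact hstab k (hmono (Nat.le_add_left k k₀) ((hmem _ _).mpr hk))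
  have := hker k₀
  exact Module.Finite.equiv ((LinearEquiv.ofEq _ _ hK).trans Submodule.topEquiv)

theorem finite_H_of_isLocFinite : ∀ (n : ℕ) (M : ModuleCat.{u} R) [Module.Finite R M],
    (∀ i ≤ n, IsLocFinite R ((localCohomology I i).obj M)) →
      ∀ i ≤ n, Module.Finite R ((localCohomology I i).obj M) := by
  intro n
  induction n with
  | zero =>
    intro M _ _ i hi
    obtain rfl : i = 0 := by omega
    exact finite_H_zero M
  | succ n ih =>
    intro M _ hloc i hi
    rcases i with - | j
    · exact finite_H_zero M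
    obtain ⟨M', x, hfin, hx, hreg, h0, heq⟩ := exists_regular_reduction (I := I) M
    obtain ⟨e⟩ := heq j
    have hloc' : ∀ i ≤ n + 1, IsLocFinite R ((localCohomology I i).obj M') := by
      rintro (- | i) hi
      · exact isLocFinite_of_finite _
      · obtain ⟨e⟩ := heq i
        exact (hloc (i + 1) hi).of_surjective e.toLinearMap e.surjective
    suffices Module.Finite R ((localCohomology I (j + 1)).obj M') from Module.Finite.equiv e.symm
    refine finite_of_isLocFinite_of_ker (x := x) (hloc' (j + 1) hi) (fun h => ?_) fun k => ?_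
    · obtain ⟨k, hk⟩ := isPowerTorsion_H (I := I) (i := j + 1) M' h
      exact ⟨k, hk _ (Ideal.pow_mem_pow hx k)⟩
    · have hS := IsSMulRegular.smulShortComplex_shortExact (M := M') (hreg.pow k)
      have : Module.Finite R (M'.smulShortComplex (x ^ k)).X₃ :=
        inferInstanceAs (Module.Finite R (M' ⧸ x ^ k • (⊤ : Submodule R M')))
      have hf := ih (M'.smulShortComplex (x ^ k)).X₃ (fun i hi' =>
        IsLocFinite.of_exact (hloc' i (by omega)) (hloc' (i + 1) (by omega)) _ _
          (exact₃ (I := I) (i := i) hS)) j (by omega)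
      have hr : LinearMap.range (δH (I := I) j hS) =
          LinearMap.ker (LinearMap.lsmul R ((localCohomology I (j + 1)).obj M') (x ^ k)) := by
        ext z
        exact (exact₁ (I := I) (i := j) hS z).symm.trans
          ⟨fun h => (map_smul_id _ M' z).symm.trans h, fun h => (map_smul_id _ M' z).trans h⟩
      have hfin' := Module.Finite.range (δH (I := I) j hS)
      exact hr ▸ hfin'

end Groth.Agent.LocCoh
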