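import Groth.Agent.LocCoh.CohDim
import Groth.Agent.LocCoh.Finiteness
import Mathlib.RingTheory.HopkinsLevitzki
import Mathlib.RingTheory.KrullDimension.Regular

/-!
# Artinianness and non-vanishing of local cohomology

* `finite_iff_isArtinian_of_pow_smul_eq_zero`, `isArtinian_H_maximalIdeal`, `isArtinian_H_supportDim`;
* `exists_primes_avoiding`: a weak form of secondary decomposition for Artinian modules;
* `not_finite_H_supportDim`, `nontrivial_H_supportDim`.
-/

universe u

open CategoryTheory Limits IsLocalRing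
open scoped Pointwise

namespace Groth.Agent.LocCoh

variable {R : Type u} [CommRing R] [IsNoetherianRing R] [IsLocalRing R]

theorem finite_iff_isArtinian_of_pow_smul_eq_zero {M : Type u} [AddCommGroup M] [Module R M] (k : ℕ)
    (hk : ∀ a ∈ maximalIdeal R ^ k, ∀ x : M, a • x = 0) : Module.Finite R M ↔ IsArtinian R M := by
  rcases Nat.eq_zero_or_pos k with rfl | hpos
  · have : Subsingleton M := subsingleton_of_forall_eq 0 fun x => by simpa using hk 1 (by simp) x
    exact iff_of_true inferInstance inferInstance
  let J := maximalIdeal R ^ k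
  have hmin : maximalIdeal R ∈ J.minimalPrimes :=
    ⟨⟨inferInstance, Ideal.pow_le_self hpos.ne'⟩,
      fun q hq _ => Ideal.IsPrime.le_of_pow_le (hP := hq.1) hq.2⟩
  have := IsLocalRing.quotient_artinian_of_mem_minimalPrimes_of_isLocalRing J hmin
  have ht : Module.IsTorsionBySet R M (J : Set R) := fun x a => hk a.1 a.2 x
  letI : Module (R ⧸ J) M := ht.module
  have : IsScalarTower R (R ⧸ J) M := Module.IsTorsionBySet.isScalarTower ht
  constructor
  · intro h
    have : Module.Finite (R ⧸ J) M := Module.Finite.of_restrictScalars_finite R (R ⧸ J) M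
    have : IsArtinian (R ⧸ J) M := IsSemiprimaryRing.isNoetherian_iff_isArtinian.mp inferInstance
    exact isArtinian_of_surjective_algebraMap (R := R ⧸ J) Ideal.Quotient.mk_surjective
  · intro h
    have : IsArtinian (R ⧸ J) M := isArtinian_of_tower R h
    have : IsNoetherian (R ⧸ J) M := IsSemiprimaryRing.isNoetherian_iff_isArtinian.mpr inferInstance
    exact Module.Finite.trans (R ⧸ J) M

theorem exists_pow_kill_of_isPowerTorsion {M : Type u} [AddCommGroup M] [Module R M] [Module.Finite R M]
    (h : _root_.LocCoh.IsPowerTorsion (maximalIdeal R) M) :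
    ∃ k, ∀ a ∈ maximalIdeal R ^ k, ∀ x : M, a • x = 0 := by
  obtain ⟨s, hs⟩ := Module.Finite.fg_top (R := R) (M := M)
  obtain ⟨k, hk⟩ := exists_common_pow (I := maximalIdeal R) s id fun x _ => h x
  refine ⟨k, fun a ha x => ?_⟩
  have hx : x ∈ Submodule.span R (s : Set M) := hs ▸ Submodule.mem_top
  induction hx using Submodule.span_induction with
  | mem x hx => exact hk x hx a ha
  | zero => exact smul_zero a
  | add y z _ _ hy hz => rw [smul_add, hy, hz, add_zero]
  | smul c y _ hy => rw [smul_comm, hy, smul_zero]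

theorem isArtinian_of_finite_of_isPowerTorsion {M : Type u} [AddCommGroup M] [Module R M]
    [Module.Finite R M] (h : _root_.LocCoh.IsPowerTorsion (maximalIdeal R) M) : IsArtinian R M := by
  obtain ⟨k, hk⟩ := exists_pow_kill_of_isPowerTorsion h
  exact (finite_iff_isArtinian_of_pow_smul_eq_zero k hk).mp inferInstance

theorem isArtinian_H_zero {I : Ideal R} (M : ModuleCat.{u} R) [Module.Finite R M]
    (h : _root_.LocCoh.IsPowerTorsion (maximalIdeal R) (DRing.torsionSub I M)) :
    IsArtinian R ((localCohomology I 0).obj M) :=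
  have := isArtinian_of_finite_of_isPowerTorsion h
  isArtinian_of_linearEquiv (H0Equiv I M).symm

/-- Reduction step: `H^{i+1}` is Artinian if `Hⁱ` of the quotient by a regular element is. -/
theorem isArtinian_H_succ_of_quotient {I : Ideal R} {i : ℕ} (M : ModuleCat.{u} R) {x : R} (hx : x ∈ I)
    (hreg : IsSMulRegular M x)
    (h : IsArtinian R ((localCohomology I i).obj (M.smulShortComplex x).X₃)) :
    IsArtinian R ((localCohomology I (i + 1)).obj M) := by
  have hS := IsSMulRegular.smulShortComplex_shortExact (M := M) hreg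
  refine isArtinian_of_isArtinian_torsionBy_singleton x (fun z => ?_) ?_
  · obtain ⟨k, hk⟩ := isPowerTorsion_H (I := I) (i := i + 1) M z
    exact ⟨k, hk _ (Ideal.pow_mem_pow hx k)⟩
  · have hart : IsArtinian R (LinearMap.range (δH (I := I) i hS)) :=
      isArtinian_of_surjective _ _ (δH (I := I) i hS).surjective_rangeRestrict
    have hr : LinearMap.range (δH (I := I) i hS) =
        Submodule.torsionBy R ((localCohomology I (i + 1)).obj (M.smulShortComplex x).X₁) x := by
      ext z
      exact (exact₁ (I := I) (i := i) hS z).symm.trans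
        ⟨fun h => (Submodule.mem_torsionBy_iff _ _).mpr ((map_smul_id x M z).symm.trans h),
          fun h => (map_smul_id x M z).trans ((Submodule.mem_torsionBy_iff _ _).mp h)⟩
    exact hr ▸ hart

theorem isArtinian_H_maximalIdeal : ∀ (i : ℕ) (M : ModuleCat.{u} R) [Module.Finite R M],
    IsArtinian R ((localCohomology (maximalIdeal R) i).obj M) := by
  intro i
  induction i with
  | zero => exact fun M _ => isArtinian_H_zero M (isPowerTorsion_torsionSub _ _)
  | succ i ih =>
    intro M _
    obtain ⟨M', x, hfin, hx, hreg, -, heq⟩ := exists_regular_reduction (I := maximalIdeal R) M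
    obtain ⟨e⟩ := heq i
    have : Module.Finite R (M'.smulShortComplex x).X₃ :=
      inferInstanceAs (Module.Finite R (M' ⧸ x • (⊤ : Submodule R M')))
    have := isArtinian_H_succ_of_quotient M' hx hreg (ih (M'.smulShortComplex x).X₃)
    exact isArtinian_of_linearEquiv e.symm

/-- A finitely generated module with support of dimension `≤ 0` is `m`-power torsion. -/
theorem isPowerTorsion_of_supportDim_le_zero (M : Type u) [AddCommGroup M] [Module R M]
    [Module.Finite R M] (h : Module.supportDim R M ≤ 0) :
    _root_.LocCoh.IsPowerTorsion (maximalIdeal R) M := by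
  refine isPowerTorsion_of_support_subset (IsNoetherian.noetherian _) fun p hp => ?_
  have := Order.krullDim_nonpos_iff_forall_isMin.mp h
  have hm : (closedPoint R) ∈ Module.support R M :=
    Module.mem_support_mono (le_maximalIdeal p.2.ne_top) hp
  exact this ⟨closedPoint R, hm⟩ (b := ⟨p, hp⟩) (le_maximalIdeal p.2.ne_top)

omit [IsLocalRing R] in
theorem supportDim_quotSMulTop_succ_le {M : Type u} [AddCommGroup M] [Module R M] [Module.Finite R M]
    {x : R} (hreg : IsSMulRegular M x) :
    Module.supportDim R (QuotSMulTop x M) + 1 ≤ Module.supportDim R M := by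
  refine Module.supportDim_quotSMulTop_succ_le_of_notMem_minimalPrimes fun q hq hxq => ?_
  have : x ∈ ⋃ p ∈ associatedPrimes R M, (p : Set R) :=
    Set.mem_biUnion (Module.associatedPrimes.minimalPrimes_annihilator_subset_associatedPrimes R M hq) hxq
  rw [biUnion_associatedPrimes_eq_compl_regular] at this
  exact this hreg

theorem isArtinian_H_supportDim (I : Ideal R) : ∀ (i : ℕ) (M : ModuleCat.{u} R) [Module.Finite R M],
    Module.supportDim R M ≤ (i : WithBot ℕ∞) → IsArtinian R ((localCohomology I i).obj M) := by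
  intro i
  induction i with
  | zero =>
    intro M _ h
    have hM := isPowerTorsion_of_supportDim_le_zero M (by simpa using h)
    exact isArtinian_H_zero M (isPowerTorsion_of_injective _ (Submodule.injective_subtype _) hM)
  | succ i ih =>
    intro M _ h
    obtain ⟨x, hx, hreg, -⟩ := exists_isSMulRegular_quotient_torsion (I := I) M
    let M' := ModuleCat.of R (M ⧸ DRing.torsionSub I M)
    have : Module.Finite R M' := inferInstanceAs (Module.Finite R (M ⧸ DRing.torsionSub I M))
    have : Module.Finite R (M'.smulShortComplex x).X₃ :=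
      inferInstanceAs (Module.Finite R (M' ⧸ x • (⊤ : Submodule R M')))
    have hdim : Module.supportDim R (M'.smulShortComplex x).X₃ ≤ (i : WithBot ℕ∞) := by
      have h1 := (supportDim_quotSMulTop_succ_le (M := M') hreg).trans
        ((Module.supportDim_le_of_surjective (DRing.torsionSub I M).mkQ
          (Submodule.mkQ_surjective _)).trans h)
      rw [Nat.cast_succ] at h1
      exact ENat.WithBot.add_le_add_one_right_iff.mp h1
    have := isArtinian_H_succ_of_quotient M' hx hreg (ih (M'.smulShortComplex x).X₃ hdim)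
    exact isArtinian_of_linearEquiv (LinearEquiv.ofBijective _ (bijective_map_mkQ I M i)).symm

theorem support_quotient_maximalTorsion (M : Type u) [AddCommGroup M] [Module R M] [Module.Finite R M]
    (h : ¬ Module.supportDim R M ≤ 0) :
    Module.support R (M ⧸ DRing.torsionSub (maximalIdeal R) M) = Module.support R M := by
  refine (Module.support_subset_of_surjective _ (Submodule.mkQ_surjective _)).antisymm fun q hq => ?_
  have key : ∀ q ∈ Module.support R M, q ≠ closedPoint R →
      q ∈ Module.support R (M ⧸ DRing.torsionSub (maximalIdeal R) M) := by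
    intro q hq hne
    rw [Module.support_of_exact (LinearMap.exact_subtype_mkQ (DRing.torsionSub (maximalIdeal R) M))
      (Submodule.injective_subtype _) (Submodule.mkQ_surjective _)] at hq
    refine hq.resolve_left fun hT => hne ?_
    exact PrimeSpectrum.ext (le_antisymm (le_maximalIdeal q.2.ne_top)
      (smul_mem_support_zeroLocus (isPowerTorsion_torsionSub (maximalIdeal R) M) hT))
  by_cases hne : q = closedPoint R
  · obtain ⟨q', hq', hne'⟩ : ∃ q' ∈ Module.support R M, q' ≠ closedPoint R := by
      by_contra hcon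
      push Not at hcon
      refine h (Order.krullDim_nonpos_iff_forall_isMin.mpr fun a b _ => ?_)
      rw [Subtype.ext ((hcon a a.2).trans (hcon b b.2).symm)]
    subst hne
    exact Module.mem_support_mono (le_maximalIdeal q'.2.ne_top) (key q' hq' hne')
  · exact key q hq hne

theorem exists_primes_avoiding (H : Type u) [AddCommGroup H] [Module R H] [IsArtinian R H] :
    ∃ s : Finset (Ideal R), (∀ p ∈ s, p.IsPrime ∧ p ≠ maximalIdeal R) ∧
      ∀ x : R, (∀ p ∈ s, x ∉ p) →
        ∃ k : ℕ, ∀ a ∈ maximalIdeal R ^ k, ∀ h : H, ∃ h' : H, x • h' = a • h := by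
  classical
  suffices ∀ N : Submodule R H, ∃ s : Finset (Ideal R),
      (∀ p ∈ s, p.IsPrime ∧ p ≠ maximalIdeal R) ∧ ∀ x : R, (∀ p ∈ s, x ∉ p) →
        ∃ k : ℕ, ∀ a ∈ maximalIdeal R ^ k, ∀ h ∈ N, ∃ h' : H, x • h' = a • h by
    obtain ⟨s, hs, h⟩ := this ⊤
    exact ⟨s, hs, fun x hx => (h x hx).imp fun k hk a ha h => hk a ha h trivial⟩
  intro N
  induction N using WellFoundedLT.induction with
  | ind N ih =>
  by_cases hdec : ∃ A B : Submodule R H, A < N ∧ B < N ∧ A ⊔ B = N
  · obtain ⟨A, B, hA, hB, rfl⟩ := hdec
    obtain ⟨s, hs, h1⟩ := ih A hA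
    obtain ⟨t, ht, h2⟩ := ih B hB
    refine ⟨s ∪ t, fun p hp => (Finset.mem_union.mp hp).elim (hs p) (ht p), fun x hx => ?_⟩
    obtain ⟨k, hk⟩ := h1 x fun p hp => hx p (Finset.mem_union_left _ hp)
    obtain ⟨l, hl⟩ := h2 x fun p hp => hx p (Finset.mem_union_right _ hp)
    refine ⟨k + l, fun a ha h hh => ?_⟩
    obtain ⟨b, hb, c, hc, rfl⟩ := Submodule.mem_sup.mp hh
    obtain ⟨b', hb'⟩ := hk a (Ideal.pow_le_pow_right (Nat.le_add_right k l) ha) b hb
    obtain ⟨c', hc'⟩ := hl a (Ideal.pow_le_pow_right (Nat.le_add_left l k) ha) c hc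
    exact ⟨b' + c', by rw [smul_add, smul_add, hb', hc']⟩
  let P := (Submodule.annihilator N).radical
  by_cases hbot : N = ⊥
  · subst hbot
    exact ⟨∅, by simp, fun x _ => ⟨0, fun a _ h hh => ⟨0, by
      rw [(Submodule.mem_bot R).mp hh, smul_zero, smul_zero]⟩⟩⟩
  -- a sum-irreducible module is secondary
  have hsurj : ∀ x ∉ P, ∀ h ∈ N, ∃ h' ∈ N, x • h' = h := by
    intro x hx
    obtain ⟨k, hk⟩ := IsArtinian.monotone_stabilizes (R := R) (M := H)
      ⟨fun n => OrderDual.toDual (N.map (LinearMap.lsmul R H (x ^ n))),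
        monotone_nat_of_le_succ fun n => by
          rintro _ ⟨h, hh, rfl⟩
          exact ⟨x • h, N.smul_mem x hh, by
            show x ^ n • x • h = x ^ (n + 1) • h
            rw [pow_succ, mul_smul]⟩⟩
    have hk' : ∀ n, k ≤ n → N.map (LinearMap.lsmul R H (x ^ k)) = N.map (LinearMap.lsmul R H (x ^ n)) :=
      fun n hn => congrArg OrderDual.ofDual (hk n hn)
    let A := N.map (LinearMap.lsmul R H (x ^ k))
    let B := N ⊓ LinearMap.ker (LinearMap.lsmul R H (x ^ k))
    have hAN : A ≤ N := by
      rintro _ ⟨h, hh, rfl⟩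
      exact N.smul_mem _ hh
    have hsum : A ⊔ B = N := by
      refine le_antisymm (sup_le hAN inf_le_left) fun h hh => ?_
      obtain ⟨h', hh', he⟩ : x ^ k • h ∈ N.map (LinearMap.lsmul R H (x ^ (k + k))) :=
        hk' (k + k) (by omega) ▸ ⟨h, hh, rfl⟩
      simp only [LinearMap.lsmul_apply, pow_add, mul_smul] at he
      refine Submodule.mem_sup.mpr ⟨x ^ k • h', ⟨h', hh', rfl⟩, h - x ^ k • h', ⟨?_, ?_⟩, by abel⟩
      · exact sub_mem hh (N.smul_mem _ hh')
      · simp [smul_sub, he]
    rcases hAN.eq_or_lt with hA | hA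
    · intro h hh
      have hA' : N.map (LinearMap.lsmul R H (x ^ (k + 1))) = N := (hk' (k + 1) (by omega)).symm.trans hA
      rw [← hA'] at hh
      obtain ⟨g, hg, rfl⟩ := hh
      exact ⟨x ^ k • g, N.smul_mem _ hg, by simp [pow_succ', mul_smul]⟩
    · rcases (inf_le_left : B ≤ N).eq_or_lt with hB | hB
      · refine absurd ⟨k, Submodule.mem_annihilator.mpr fun h hh => ?_⟩ hx
        rw [← hB] at hh
        exact hh.2
      · exact absurd ⟨A, B, hA, hB, hsum⟩ hdec
  have hP : P.IsPrime := by
    refine ⟨fun e => hbot ?_, fun {a b} hab => ?_⟩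
    · rw [Ideal.radical_eq_top, Submodule.annihilator_eq_top_iff] at e
      exact e
    · by_contra hcon
      push Not at hcon
      obtain ⟨k, hk⟩ := hab
      refine hbot (eq_bot_iff.mpr fun h hh => ?_)
      have : ∀ n, ∀ h ∈ N, ∃ h' ∈ N, (a * b) ^ n • h' = h := by
        intro n
        induction n with
        | zero => exact fun h hh => ⟨h, hh, by simp⟩
        | succ n ihn =>
          intro h hh
          obtain ⟨g, hg, rfl⟩ := hsurj a hcon.1 h hh
          obtain ⟨g', hg', rfl⟩ := hsurj b hcon.2 g hg
          obtain ⟨g'', hg'', rfl⟩ := ihn g' hg'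
          exact ⟨g'', hg'', by rw [pow_succ', mul_smul, mul_smul]⟩
      obtain ⟨g, hg, rfl⟩ := this k h hh
      exact (Submodule.mem_bot R).mpr (Submodule.mem_annihilator.mp hk g hg)
  by_cases hPm : P = maximalIdeal R
  · obtain ⟨k, hk⟩ := Ideal.exists_pow_le_of_le_radical_of_fg (I := maximalIdeal R)
      (J := Submodule.annihilator N) hPm.ge (IsNoetherian.noetherian _)
    exact ⟨∅, by simp, fun x _ => ⟨k, fun a ha h hh => ⟨0, by
      rw [smul_zero, Submodule.mem_annihilator.mp (hk ha) h hh]⟩⟩⟩
  · refine ⟨{P}, fun p hp => by rw [Finset.mem_singleton] at hp; subst hp; exact ⟨hP, hPm⟩, fun x hx => ?_⟩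
    refine ⟨0, fun a _ h hh => ?_⟩
    obtain ⟨h', _, he⟩ := hsurj x (hx P (Finset.mem_singleton_self P)) h hh
    exact ⟨a • h', by rw [smul_comm, he]⟩

/-- `H^{n+1}_m(M)` is not finitely generated when `dim M = n + 1`. -/
theorem not_finite_H_supportDim : ∀ (n : ℕ) (M : ModuleCat.{u} R) [Module.Finite R M],
    Module.supportDim R M = ((n + 1 : ℕ) : WithBot ℕ∞) →
      ¬ Module.Finite R ((localCohomology (maximalIdeal R) (n + 1)).obj M) := by
  classical
  intro n
  induction n using Nat.strong_induction_on with
  | _ n ih =>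
  intro M _ hdim hfinH
  let T := DRing.torsionSub (maximalIdeal R) M
  let M' := ModuleCat.of R (M ⧸ T)
  have : Module.Finite R M' := inferInstanceAs (Module.Finite R (M ⧸ T))
  have hdim' : Module.supportDim R M' = ((n + 1 : ℕ) : WithBot ℕ∞) := by
    have hne : ¬ Module.supportDim R M ≤ 0 := by
      rw [hdim]; exact_mod_cast Nat.not_succ_le_zero n
    rw [← hdim]
    exact congrArg (fun s : Set (PrimeSpectrum R) => Order.krullDim s)
      (support_quotient_maximalTorsion M hne)
  have : Nontrivial M' := (Module.supportDim_ne_bot_iff_nontrivial (R := R) M').mp (by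
    rw [hdim']; exact WithBot.natCast_ne_bot _)
  obtain ⟨x₀, -, hreg₀, h0⟩ := exists_isSMulRegular_quotient_torsion (I := maximalIdeal R) M
  have hfin' : Module.Finite R ((localCohomology (maximalIdeal R) (n + 1)).obj M') :=
    Module.Finite.equiv (LinearEquiv.ofBijective _ (bijective_map_mkQ (maximalIdeal R) M n))
  have : IsArtinian R ((localCohomology (maximalIdeal R) n).obj M') := isArtinian_H_maximalIdeal n M'
  obtain ⟨s, hs, hsx⟩ := exists_primes_avoiding (R := R) ((localCohomology (maximalIdeal R) n).obj M')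
  -- choose `x ∈ m` regular and avoiding `s`
  have hass : ∀ p ∈ associatedPrimes R M', p ≠ maximalIdeal R := by
    intro p hp e
    obtain ⟨-, y, hy⟩ := isAssociatedPrime_iff.mp hp
    have hy0 : y ∈ DRing.torsionSub (maximalIdeal R) M' := ⟨1, fun a ha => by
      rw [pow_one, ← e, hy, Submodule.mem_colon_singleton, Submodule.mem_bot] at ha
      exact ha⟩
    rw [torsionSub_eq_bot_of_subsingleton_H_zero h0, Submodule.mem_bot] at hy0
    refine (IsAssociatedPrime.isPrime hp).ne_top ?_
    rw [hy, hy0, Submodule.colon_singleton_zero]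
  let P := (associatedPrimes.finite R M').toFinset ∪ s
  have hP : ∀ p ∈ P, p.IsPrime ∧ p ≠ maximalIdeal R := fun p hp => (Finset.mem_union.mp hp).elim
    (fun h => ⟨IsAssociatedPrime.isPrime ((Set.Finite.mem_toFinset _).mp h),
      hass p ((Set.Finite.mem_toFinset _).mp h)⟩) (hs p)
  obtain ⟨x, hxm, hxP⟩ : ∃ x ∈ maximalIdeal R, ∀ p ∈ P, x ∉ p := by
    by_contra hcon
    push Not at hcon
    obtain ⟨p, hp, hle⟩ := (Ideal.subset_union_prime ⊥ ⊥ fun p hp _ _ => (hP p hp).1).mp
      (fun y hy => by
        obtain ⟨p, hp, hyp⟩ := hcon y hy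
        exact Set.mem_biUnion hp hyp : (maximalIdeal R : Set R) ⊆ ⋃ p ∈ (P : Set (Ideal R)), (p : Set R))
    exact (hP p hp).2 ((IsLocalRing.maximalIdeal.isMaximal R).eq_of_le (hP p hp).1.ne_top hle).symm
  have hreg : IsSMulRegular M' x := by
    by_contra hnr
    have : x ∈ ⋃ p ∈ associatedPrimes R M', (p : Set R) := by
      rw [biUnion_associatedPrimes_eq_compl_regular]
      exact hnr
    obtain ⟨p, hp, hxp⟩ := Set.mem_iUnion₂.mp this
    exact hxP p (Finset.mem_union_left _ ((Set.Finite.mem_toFinset _).mpr hp)) hxp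
  have : Module.Finite R (M'.smulShortComplex x).X₃ :=
    inferInstanceAs (Module.Finite R (M' ⧸ x • (⊤ : Submodule R M')))
  have hdimQ : Module.supportDim R (M'.smulShortComplex x).X₃ + 1 = ((n + 1 : ℕ) : WithBot ℕ∞) := by
    rw [← hdim']
    exact Module.supportDim_quotSMulTop_succ_eq_supportDim_mem_jacobson (R := R) (M := M') hreg
      ((maximalIdeal_le_jacobson _) hxm)
  have hdimQ' : Module.supportDim R (M'.smulShortComplex x).X₃ = (n : WithBot ℕ∞) := by
    rw [Nat.cast_succ] at hdimQ
    exact le_antisymm (ENat.WithBot.add_le_add_one_right_iff.mp hdimQ.le)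
      (ENat.WithBot.add_le_add_one_right_iff.mp hdimQ.ge)
  rcases n with - | n
  · -- `M' ⧸ x^j M'` would be bounded
    obtain ⟨k, hk⟩ := exists_pow_kill_H (I := maximalIdeal R) 1 M' fun i hi => by
      interval_cases i
      · exact finite_H_zero M'
      · exact hfin'
    have hS := IsSMulRegular.smulShortComplex_shortExact (M := M') (hreg.pow (k + 1))
    have hinj : ∀ y : M', x ^ k • y ∈ x ^ (k + 1) • (⊤ : Submodule R M') := by
      intro y
      have hyt : Submodule.Quotient.mk y ∈
          DRing.torsionSub (maximalIdeal R) (M'.smulShortComplex (x ^ (k + 1))).X₃ := by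
        obtain ⟨m, hm⟩ := exists_pow_kill_of_isPowerTorsion
          (isPowerTorsion_of_supportDim_le_zero (M'.smulShortComplex x).X₃ (by rw [hdimQ']; rfl))
        refine ⟨m * (k + 1), fun a ha => ?_⟩
        have key : ∀ j, ∀ b ∈ (maximalIdeal R ^ m) ^ j, ∀ z : M', ∃ w : M', b • z = x ^ j • w := by
          intro j
          induction j with
          | zero => exact fun b _ z => ⟨b • z, by rw [pow_zero, one_smul]⟩
          | succ j ihj =>
            intro b hb
            rw [pow_succ] at hb
            induction hb using Submodule.mul_induction_on' with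
            | mem_mul_mem c hc d hd =>
              intro z
              have hdz : d • z ∈ x • (⊤ : Submodule R M') :=
                (Submodule.Quotient.mk_eq_zero _).mp
                  ((Submodule.Quotient.mk_smul _ _ _).trans (hm d hd (Submodule.Quotient.mk z)))
              obtain ⟨v, -, hv⟩ := (Submodule.mem_smul_pointwise_iff_exists _ _ _).mp hdz
              obtain ⟨w, hw⟩ := ihj c hc v
              exact ⟨w, by rw [mul_smul, ← hv, smul_comm c x, hw, ← mul_smul, ← pow_succ']⟩
            | add c _ d _ hc hd =>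
              intro z
              obtain ⟨w, hw⟩ := hc z
              obtain ⟨w', hw'⟩ := hd z
              exact ⟨w + w', by rw [add_smul, hw, hw', smul_add]⟩
        exact (Submodule.Quotient.mk_smul _ _ _).symm.trans
          ((Submodule.Quotient.mk_eq_zero _).mpr (by
            obtain ⟨w, hw⟩ := key (k + 1) a (by rwa [← pow_mul]) y
            rw [hw]
            exact Submodule.smul_mem_pointwise_smul w _ _ Submodule.mem_top))
      let z := (H0Equiv (maximalIdeal R) (M'.smulShortComplex (x ^ (k + 1))).X₃).symm ⟨_, hyt⟩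
      have hz : δH (I := maximalIdeal R) 0 hS (x ^ k • z) = 0 := by
        rw [map_smul]
        exact hk 1 le_rfl _ (Ideal.pow_mem_pow hxm k) _
      obtain ⟨w, hw⟩ := (exact₃ (I := maximalIdeal R) (i := 0) hS _).mp hz
      rw [show w = 0 from h0.elim _ _, map_zero] at hw
      have := congrArg (fun t => ((H0Equiv (maximalIdeal R) _ t : DRing.torsionSub (maximalIdeal R) _) :
        (M'.smulShortComplex (x ^ (k + 1))).X₃)) hw.symm
      simp only [z, map_smul, map_zero, LinearEquiv.apply_symm_apply, Submodule.coe_smul,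
        ZeroMemClass.coe_zero] at this
      exact (Submodule.Quotient.mk_eq_zero _).mp ((Submodule.Quotient.mk_smul _ _ _).trans this)
    -- so `M' = x M'`
    obtain ⟨y, hy⟩ := exists_ne (0 : M')
    have htop : x • (⊤ : Submodule R M') = ⊤ := eq_top_iff.mpr fun y _ => by
      obtain ⟨z, -, hz⟩ := Submodule.mem_smul_pointwise_iff_exists _ _ _ |>.mp (hinj y)
      rw [pow_succ, mul_smul] at hz
      exact ⟨z, trivial, hreg.pow k hz⟩
    refine Submodule.top_ne_pointwise_smul_of_mem_jacobson_annihilator
      ((maximalIdeal_le_jacobson _) hxm) htop.symm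
  · obtain ⟨l, hl⟩ := exists_pow_kill_of_isPowerTorsion
      (isPowerTorsion_H (I := maximalIdeal R) (i := n + 1 + 1) M')
    obtain ⟨k, hk⟩ := hsx x fun p hp => hxP p (Finset.mem_union_right _ hp)
    refine ih n (Nat.lt_succ_self n) (M'.smulShortComplex x).X₃ hdimQ' ?_
    have hS := IsSMulRegular.smulShortComplex_shortExact (M := M') hreg
    let g := ((localCohomology (maximalIdeal R) (n + 1)).map (M'.smulShortComplex x).g).hom
    have hgk : ∀ a ∈ maximalIdeal R ^ k, ∀ z : LinearMap.range g, a • z = 0 := by
      rintro a ha ⟨_, y, rfl⟩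
      obtain ⟨y', hy'⟩ := hk a ha y
      apply Subtype.ext
      show a • g y = 0
      exact (map_smul g a y).symm.trans ((congrArg g hy').symm.trans
        ((congrArg g (map_smul_id x M' y').symm).trans
          ((exact₂ (I := maximalIdeal R) (i := n + 1) hS).apply_apply_eq_zero y')))
    have : IsArtinian R (LinearMap.range g) := by
      have := isArtinian_H_maximalIdeal (n + 1) (M'.smulShortComplex x).X₃
      infer_instance
    have := (finite_iff_isArtinian_of_pow_smul_eq_zero k hgk).mpr this
    have : Module.Finite R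
        ((localCohomology (maximalIdeal R) (n + 1 + 1)).obj (M'.smulShortComplex x).X₁) := hfin'
    refine finite_of_exact (LinearMap.range g).subtype (δH (I := maximalIdeal R) (n + 1) hS) fun z => ?_
    exact ((exact₃ (I := maximalIdeal R) (i := n + 1) hS) z).trans
      ⟨fun h => ⟨⟨z, h⟩, rfl⟩, fun ⟨v, hv⟩ => hv ▸ v.2⟩

theorem nontrivial_H_supportDim (M : ModuleCat.{u} R) [Module.Finite R M] [Nontrivial M] (n : ℕ)
    (hn : Module.supportDim R M = (n : WithBot ℕ∞)) :
    Nontrivial ((localCohomology (maximalIdeal R) n).obj M) := by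
  rcases n with - | n
  · have ht := isPowerTorsion_of_supportDim_le_zero M (by rw [hn]; rfl)
    exact (H0EquivOfTorsion (maximalIdeal R) M ht).toEquiv.nontrivial
  · by_contra h
    have := not_nontrivial_iff_subsingleton.mp h
    exact not_finite_H_supportDim n M hn inferInstance

end Groth.Agent.LocCoh
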