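import Groth.Agent.LocCoh.CohDim
import Mathlib.RingTheory.Flat.FaithfullyFlat.Basic
import Mathlib.RingTheory.Localization.BaseChange

/-!
# Local cohomology and change of rings

* `subsingleton_H_restrict_iff`: independence of the base (for vanishing);
* `cdLE_map`: `cd(B, I B) ≤ cd(A, I)`;
* `subsingleton_H_tensor`, `subsingleton_H_of_forall_tensor`: flat base change (for vanishing);
* `cdLE_iff_localizations`.
-/

universe u

open CategoryTheory Limits TensorProduct

namespace Groth.Agent.LocCoh

variable {A : Type u} [CommRing A] {B : Type u} [CommRing B] [Algebra A B]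

section Torsion

variable {N : Type u} [AddCommGroup N] [Module A N] [Module B N] [IsScalarTower A B N]

theorem mem_torsionSub_map_iff (I : Ideal A) {z : N} :
    z ∈ DRing.torsionSub (I.map (algebraMap A B)) N ↔ z ∈ DRing.torsionSub I N := by
  refine exists_congr fun n => ?_
  rw [← Ideal.map_pow]
  refine ⟨fun h a ha => ?_, fun h b hb => ?_⟩
  · rw [← algebraMap_smul B a z]
    exact h _ (Ideal.mem_map_of_mem _ ha)
  · rw [Ideal.map] at hb
    induction hb using Submodule.span_induction with
    | mem x hx => obtain ⟨a, ha, rfl⟩ := hx; rw [algebraMap_smul]; exact h a ha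
    | zero => rw [zero_smul]
    | add x y _ _ hx hy => rw [add_smul, hx, hy, add_zero]
    | smul c x _ hx => rw [smul_eq_mul, mul_smul, hx, smul_zero]

theorem isDivModTorsion_restrict {a : A} (h : IsDivModTorsion (algebraMap A B a) N) :
    IsDivModTorsion a N := fun e => by
  obtain ⟨e', n, hn⟩ := h e
  exact ⟨e', n, by rwa [← map_pow, algebraMap_smul, algebraMap_smul] at hn⟩

end Torsion

section Restrict

variable (A) in
/-- A `B`-module regarded as an `A`-module. -/
noncomputable abbrev resA (N : ModuleCat.{u} B) : ModuleCat.{u} A :=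
  (ModuleCat.restrictScalars (algebraMap A B)).obj N

noncomputable instance (N : ModuleCat.{u} B) : Module B (resA A N) :=
  inferInstanceAs (Module B N)

instance (N : ModuleCat.{u} B) : IsScalarTower A B (resA A N) where
  smul_assoc a b x := by
    show (a • b) • (x : N) = algebraMap A B a • b • (x : N)
    rw [Algebra.smul_def, mul_smul]

theorem shortExact_resA {S : ShortComplex (ModuleCat.{u} B)} (hS : S.ShortExact) :
    (S.map (ModuleCat.restrictScalars (algebraMap A B))).ShortExact :=
  { exact := (ShortComplex.ShortExact.moduleCat_exact_iff_function_exact _).mpr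
      ((ShortComplex.ShortExact.moduleCat_exact_iff_function_exact S).mp hS.exact)
    mono_f := (ModuleCat.mono_iff_injective _).mpr ((ModuleCat.mono_iff_injective S.f).mp hS.mono_f)
    epi_g := (ModuleCat.epi_iff_surjective _).mpr ((ModuleCat.epi_iff_surjective S.g).mp hS.epi_g) }

variable [IsNoetherianRing A] [IsNoetherianRing B]

/-- Injective `B`-modules are acyclic over `A`. -/
theorem isAcyclic_resA_span : ∀ (s : Finset A) (E : ModuleCat.{u} B), Injective E →
    IsAcyclic (Ideal.span (s : Set A)) (resA A E) := by
  classical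
  intro s
  induction s using Finset.induction with
  | empty =>
    intro E _ i
    exact subsingleton_H_succ_of_isPowerTorsion _ i (resA A E) fun m =>
      ⟨1, fun a ha => by
        rw [pow_one, Finset.coe_empty, Ideal.span_empty, Ideal.mem_bot] at ha
        rw [ha, zero_smul]⟩
  | insert a s _ ih =>
    intro E hE
    have hE' : Module.Injective B E := (Module.injective_iff_injective_object B E).mpr hE
    have hdiv : IsDivModTorsion a (resA A E) :=
      isDivModTorsion_restrict (B := B) (N := resA A E)
        (isDivModTorsion_of_injective (algebraMap A B a) E)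
    rw [Finset.coe_insert, Ideal.span_insert]
    refine isAcyclic_sup (isAcyclic_span_singleton hdiv) ?_
    let T := DRing.torsionSub ((Ideal.span {a}).map (algebraMap A B)) E
    have := injective_torsionSub ((Ideal.span {a}).map (algebraMap A B)) E
    have hiff : ∀ z : E, z ∈ T ↔ (z : resA A E) ∈ DRing.torsionSub (Ideal.span {a}) (resA A E) :=
      fun z => mem_torsionSub_map_iff (B := B) (N := resA A E) (Ideal.span {a}) (z := z)
    let e : (resA A (ModuleCat.of B T) : Type u) ≃ₗ[A] DRing.torsionSub (Ideal.span {a}) (resA A E) :=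
      { toFun := fun z => ⟨(z : T).1, (hiff _).mp (z : T).2⟩
        map_add' := fun _ _ => rfl
        map_smul' := fun _ _ => rfl
        invFun := fun z => (⟨z.1, (hiff _).mpr z.2⟩ : T)
        left_inv := fun _ => rfl
        right_inv := fun _ => rfl }
    exact isAcyclic_congr e.toModuleIso (ih (ModuleCat.of B T) this)

theorem isAcyclic_resA (I : Ideal A) (E : ModuleCat.{u} B) [hE : Injective E] :
    IsAcyclic I (resA A E) := by
  obtain ⟨s, rfl⟩ := IsNoetherian.noetherian I
  exact isAcyclic_resA_span s E hE

/-- Vanishing of local cohomology does not depend on the base ring. -/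
theorem subsingleton_H_restrict_iff (I : Ideal A) : ∀ (i : ℕ) (N : ModuleCat.{u} B),
    Subsingleton ((localCohomology (I.map (algebraMap A B)) i).obj N) ↔
      Subsingleton ((localCohomology I i).obj (resA A N)) := by
  intro i
  induction i with
  | zero =>
    intro N
    rw [(H0Equiv _ N).toEquiv.subsingleton_congr, (H0Equiv I (resA A N)).toEquiv.subsingleton_congr,
      Submodule.subsingleton_iff_eq_bot, Submodule.subsingleton_iff_eq_bot, Submodule.eq_bot_iff,
      Submodule.eq_bot_iff]
    exact forall_congr' fun z => imp_congr_left (mem_torsionSub_map_iff (B := B) (N := resA A N) I)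
  | succ i ih =>
    intro N
    obtain ⟨S, hS, rfl, h2⟩ := exists_injective_shortExact N
    have hres := shortExact_resA (A := A) hS
    rcases i with - | i
    · have key := fun z : S.X₂ => mem_torsionSub_map_iff (B := B) (N := resA A S.X₂) I (z := z)
      have key3 := fun z : S.X₃ => mem_torsionSub_map_iff (B := B) (N := resA A S.X₃) I (z := z)
      refine (subsingleton_H_one_iff hS (isAcyclic_of_injective _ S.X₂ 0)).trans
        (Iff.trans ?_ (subsingleton_H_one_iff hres (isAcyclic_resA I S.X₂ 0)).symm)
      exact ⟨fun h q hq => (h q ((key3 q).mpr hq)).elim fun e he => ⟨e, (key e).mp he.1, he.2⟩,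
        fun h q hq => (h q ((key3 q).mp hq)).elim fun e he => ⟨e, (key e).mpr he.1, he.2⟩⟩
    · refine (subsingleton_H_succ_iff hS (isAcyclic_of_injective _ S.X₂) i).trans ((ih S.X₃).trans ?_)
      exact (subsingleton_H_succ_iff hres (isAcyclic_resA I S.X₂) i).symm

theorem cdLE_map {I : Ideal A} {d : ℕ} (h : _root_.LocCoh.CdLE A I d) :
    _root_.LocCoh.CdLE B (I.map (algebraMap A B)) d := fun M _ _ i hi =>
  (subsingleton_H_restrict_iff I i (ModuleCat.of B M)).mpr (h (resA A (ModuleCat.of B M)) i hi)

end Restrict

section Tensor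

variable [Module.Flat A B]

theorem torsionSub_tensor [IsNoetherianRing A] (I : Ideal A) (M : Type u) [AddCommGroup M]
    [Module A M] (z : B ⊗[A] M) :
    z ∈ DRing.torsionSub (I.map (algebraMap A B)) (B ⊗[A] M) ↔
      z ∈ LinearMap.range ((DRing.torsionSub I M).subtype.lTensor B) := by
  classical
  constructor
  · intro hz
    obtain ⟨n, hn⟩ := (mem_torsionSub_map_iff I).mp hz
    obtain ⟨s, hs⟩ := IsNoetherian.noetherian (I ^ n)
    let φ : M →ₗ[A] (s → M) := LinearMap.pi fun a => LinearMap.lsmul A M a.1
    have hker : LinearMap.ker φ ≤ DRing.torsionSub I M := fun m hm => ⟨n, fun a ha => by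
      rw [← hs] at ha
      induction ha using Submodule.span_induction with
      | mem x hx => exact congrFun (LinearMap.mem_ker.mp hm) ⟨x, hx⟩
      | zero => rw [zero_smul]
      | add x y _ _ hx hy => rw [add_smul, hx, hy, add_zero]
      | smul c x _ hx => rw [smul_eq_mul, mul_smul, hx, smul_zero]⟩
    have hcomp : ∀ (y : B ⊗[A] M) (a : s),
        TensorProduct.piRight A A B (fun _ : s => M) (φ.lTensor B y) a = (a : A) • y := fun y a => by
      induction y using TensorProduct.induction_on with
      | zero => simp
      | tmul b m => simp [φ, TensorProduct.piRight_apply, TensorProduct.tmul_smul]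
      | add x y hx hy => rw [map_add, map_add, Pi.add_apply, hx, hy, smul_add]
    have hz0 : φ.lTensor B z = 0 := (TensorProduct.piRight A A B (fun _ : s => M)).injective <| by
      rw [map_zero]
      exact funext fun a => (hcomp z a).trans (hn _ (hs ▸ Submodule.subset_span a.2))
    obtain ⟨w, hw⟩ := (Module.Flat.lTensor_exact B φ.exact_subtype_ker_map z).mp hz0
    refine ⟨(Submodule.inclusion hker).lTensor B w, ?_⟩
    rw [← LinearMap.comp_apply, ← LinearMap.lTensor_comp]
    exact hw
  · rintro ⟨w, rfl⟩
    induction w using TensorProduct.induction_on with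
    | zero => simp
    | add x y hx hy => rw [map_add]; exact add_mem hx hy
    | tmul b t =>
      rw [LinearMap.lTensor_tmul, mem_torsionSub_map_iff]
      obtain ⟨n, hn⟩ := t.2
      exact ⟨n, fun a ha => by rw [← TensorProduct.tmul_smul]; simp [hn a ha]⟩

variable (B) in
/-- Base change of a module. -/
noncomputable abbrev tens (M : ModuleCat.{u} A) : ModuleCat.{u} B := ModuleCat.of B (B ⊗[A] M)

variable (B) in
/-- Base change of a short complex. -/
noncomputable abbrev tensS (S : ShortComplex (ModuleCat.{u} A)) : ShortComplex (ModuleCat.{u} B) :=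
  ShortComplex.mk (X₁ := tens B S.X₁) (X₂ := tens B S.X₂) (X₃ := tens B S.X₃)
    (ModuleCat.ofHom (S.f.hom.baseChange B)) (ModuleCat.ofHom (S.g.hom.baseChange B))
    (ModuleCat.hom_ext <| by
      have : S.g.hom ∘ₗ S.f.hom = 0 := congrArg ModuleCat.Hom.hom S.zero
      show (S.g.hom.baseChange B) ∘ₗ (S.f.hom.baseChange B) = 0
      rw [← LinearMap.baseChange_comp, this, LinearMap.baseChange_zero])

theorem shortExact_tensS {S : ShortComplex (ModuleCat.{u} A)} (hS : S.ShortExact) :
    (tensS B S).ShortExact :=
  { exact := (ShortComplex.ShortExact.moduleCat_exact_iff_function_exact _).mpr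
      (Module.Flat.lTensor_exact B ((ShortComplex.ShortExact.moduleCat_exact_iff_function_exact S).mp hS.exact))
    mono_f := (ModuleCat.mono_iff_injective _).mpr (Module.Flat.lTensor_preserves_injective_linearMap _
      ((ModuleCat.mono_iff_injective S.f).mp hS.mono_f))
    epi_g := (ModuleCat.epi_iff_surjective _).mpr (LinearMap.lTensor_surjective B
      ((ModuleCat.epi_iff_surjective S.g).mp hS.epi_g)) }

variable (B) in
/-- The map `Γ_I X → Γ_I Y`. -/
noncomputable abbrev gammaMap (I : Ideal A) {X Y : ModuleCat.{u} A} (g : X ⟶ Y) :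
    DRing.torsionSub I X →ₗ[A] DRing.torsionSub I Y :=
  g.hom.restrict fun _ hm => DRing.map_mem_torsionSub I g.hom hm

variable [IsNoetherianRing A]

theorem forall_lift_tensor_iff (I : Ideal A) {X Y : ModuleCat.{u} A} (g : X ⟶ Y) :
    (∀ q ∈ DRing.torsionSub (I.map (algebraMap A B)) (B ⊗[A] Y),
      ∃ e ∈ DRing.torsionSub (I.map (algebraMap A B)) (B ⊗[A] X), g.hom.baseChange B e = q) ↔
      Function.Surjective ((gammaMap I g).lTensor B) := by
  have hcomm : ∀ w, g.hom.baseChange B ((DRing.torsionSub I X).subtype.lTensor B w) =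
      (DRing.torsionSub I Y).subtype.lTensor B ((gammaMap I g).lTensor B w) := fun w => by
    induction w using TensorProduct.induction_on with
    | zero => simp
    | tmul b m => simp
    | add x y hx hy => simp only [map_add, hx, hy]
  have hinj : Function.Injective ((DRing.torsionSub I Y).subtype.lTensor B) :=
    Module.Flat.lTensor_preserves_injective_linearMap _ (Submodule.injective_subtype _)
  constructor
  · intro h v
    obtain ⟨e, he, hge⟩ := h _ ((torsionSub_tensor I Y _).mpr ⟨v, rfl⟩)
    obtain ⟨w, rfl⟩ := (torsionSub_tensor I X e).mp he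
    exact ⟨w, hinj ((hcomm w).symm.trans hge)⟩
  · intro h q hq
    obtain ⟨v, rfl⟩ := (torsionSub_tensor I Y q).mp hq
    obtain ⟨w, rfl⟩ := h v
    exact ⟨_, (torsionSub_tensor I X _).mpr ⟨w, rfl⟩, hcomm w⟩

omit [Module.Flat A B] [IsNoetherianRing A] in
theorem isDivModTorsion_tensor {a : A} {M : Type u} [AddCommGroup M] [Module A M]
    (h : IsDivModTorsion a M) : IsDivModTorsion (algebraMap A B a) (B ⊗[A] M) := by
  intro z
  induction z using TensorProduct.induction_on with
  | zero => exact ⟨0, 0, by simp⟩
  | tmul b m =>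
    obtain ⟨m', n, hn⟩ := h m
    refine ⟨b ⊗ₜ m', n, ?_⟩
    rw [← map_pow, algebraMap_smul, algebraMap_smul, ← TensorProduct.tmul_smul,
      ← TensorProduct.tmul_sub, ← TensorProduct.tmul_smul, hn, TensorProduct.tmul_zero]
  | add x y hx hy =>
    obtain ⟨x', n, hn⟩ := hx
    obtain ⟨y', k, hk⟩ := hy
    refine ⟨x' + y', n + k, ?_⟩
    rw [smul_add, add_sub_add_comm, smul_add, pow_add, mul_smul, mul_smul, hk, smul_zero, add_zero,
      smul_comm, hn, smul_zero]

variable [IsNoetherianRing B]

/-- Base changes of injectives are acyclic. -/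
theorem isAcyclic_tens_span : ∀ (s : Finset A) (E : ModuleCat.{u} A), Injective E →
    IsAcyclic ((Ideal.span (s : Set A)).map (algebraMap A B)) (tens B E) := by
  classical
  intro s
  induction s using Finset.induction with
  | empty =>
    intro E _ i
    exact subsingleton_H_succ_of_isPowerTorsion _ i (tens B E) fun m =>
      ⟨1, fun a ha => by
        rw [pow_one, Finset.coe_empty, Ideal.span_empty, Ideal.map_bot, Ideal.mem_bot] at ha
        rw [ha, zero_smul]⟩
  | insert a s _ ih =>
    intro E hE
    have hE' : Module.Injective A E := (Module.injective_iff_injective_object A E).mpr hE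
    have hsing : (Ideal.span {a}).map (algebraMap A B) = Ideal.span {algebraMap A B a} := by
      rw [Ideal.map_span, Set.image_singleton]
    have hdiv : IsDivModTorsion (algebraMap A B a) (tens B E) :=
      isDivModTorsion_tensor (isDivModTorsion_of_injective a E)
    rw [Finset.coe_insert, Ideal.span_insert, Ideal.map_sup]
    refine isAcyclic_sup (hsing ▸ isAcyclic_span_singleton hdiv) ?_
    let T := DRing.torsionSub (Ideal.span {a}) E
    have := injective_torsionSub (Ideal.span {a}) E
    let f : B ⊗[A] T →ₗ[B] B ⊗[A] E := T.subtype.baseChange B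
    have hf : Function.Injective f :=
      Module.Flat.lTensor_preserves_injective_linearMap _ (Submodule.injective_subtype _)
    have hr : LinearMap.range f =
        DRing.torsionSub ((Ideal.span {a}).map (algebraMap A B)) (B ⊗[A] E) :=
      SetLike.ext fun z => (torsionSub_tensor (Ideal.span {a}) E z).symm
    exact isAcyclic_congr ((LinearEquiv.ofInjective f hf).trans (LinearEquiv.ofEq _ _ hr)).toModuleIso
      (ih (ModuleCat.of A T) this)

theorem isAcyclic_tens (I : Ideal A) (E : ModuleCat.{u} A) [hE : Injective E] :
    IsAcyclic (I.map (algebraMap A B)) (tens B E) := by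
  obtain ⟨s, rfl⟩ := IsNoetherian.noetherian I
  exact isAcyclic_tens_span s E hE

theorem subsingleton_H0_tens_iff (I : Ideal A) (M : ModuleCat.{u} A) :
    Subsingleton ((localCohomology (I.map (algebraMap A B)) 0).obj (tens B M)) ↔
      Subsingleton (B ⊗[A] DRing.torsionSub I M) := by
  rw [(H0Equiv _ (tens B M)).toEquiv.subsingleton_congr]
  have hinj : Function.Injective ((DRing.torsionSub I M).subtype.lTensor B) :=
    Module.Flat.lTensor_preserves_injective_linearMap _ (Submodule.injective_subtype _)
  refine ⟨fun h => subsingleton_of_forall_eq 0 fun w => hinj ?_, fun h => subsingleton_of_forall_eq 0 ?_⟩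
  · rw [map_zero]
    exact congrArg Subtype.val (h.elim ⟨_, (torsionSub_tensor I M _).mpr ⟨w, rfl⟩⟩ 0)
  · intro z
    obtain ⟨w, hw⟩ := (torsionSub_tensor I M _).mp z.2
    rw [h.elim w 0, map_zero] at hw
    exact Subtype.ext hw.symm

theorem subsingleton_H1_tens_iff (I : Ideal A) {S : ShortComplex (ModuleCat.{u} A)}
    (hS : S.ShortExact) [Injective S.X₂] :
    Subsingleton ((localCohomology (I.map (algebraMap A B)) 1).obj (tens B S.X₁)) ↔
      Function.Surjective ((gammaMap I S.g).lTensor B) :=
  (subsingleton_H_one_iff (shortExact_tensS hS) (isAcyclic_tens I S.X₂ 0)).trans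
    (forall_lift_tensor_iff I S.g)

omit [IsNoetherianRing A] in
theorem surjective_gammaMap_iff (I : Ideal A) {X Y : ModuleCat.{u} A} (g : X ⟶ Y) :
    Function.Surjective (gammaMap I g) ↔
      ∀ q ∈ DRing.torsionSub I Y, ∃ e ∈ DRing.torsionSub I X, g.hom e = q :=
  ⟨fun h q hq => (h ⟨q, hq⟩).elim fun e he => ⟨e.1, e.2, congrArg Subtype.val he⟩,
    fun h q => (h q.1 q.2).elim fun e he => ⟨⟨e, he.1⟩, Subtype.ext he.2⟩⟩

/-- Flat base change, the vanishing part. -/
theorem subsingleton_H_tensor (I : Ideal A) : ∀ (i : ℕ) (M : ModuleCat.{u} A),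
    Subsingleton ((localCohomology I i).obj M) →
      Subsingleton ((localCohomology (I.map (algebraMap A B)) i).obj (tens B M)) := by
  intro i
  induction i with
  | zero =>
    intro M h
    rw [subsingleton_H0_tens_iff]
    have : Subsingleton (DRing.torsionSub I M) := (H0Equiv I M).symm.toEquiv.subsingleton
    exact subsingleton_of_forall_eq 0 fun z => by
      induction z using TensorProduct.induction_on with
      | zero => rfl
      | tmul b m => rw [Subsingleton.elim m 0, TensorProduct.tmul_zero]
      | add x y hx hy => rw [hx, hy, add_zero]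
  | succ i ih =>
    intro M h
    obtain ⟨S, hS, rfl, h2⟩ := exists_injective_shortExact M
    rcases i with - | i
    · rw [subsingleton_H1_tens_iff I hS]
      exact LinearMap.lTensor_surjective B ((surjective_gammaMap_iff I S.g).mpr
        ((subsingleton_H_one_iff hS (isAcyclic_of_injective I S.X₂ 0)).mp h))
    · exact (subsingleton_H_succ_iff (shortExact_tensS hS) (isAcyclic_tens I S.X₂) i).mpr
        (ih S.X₃ ((subsingleton_H_succ_iff hS (isAcyclic_of_injective I S.X₂) i).mp h))

end Tensor

/-- Vanishing descends along a jointly faithful family of flat algebras. -/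
theorem subsingleton_H_of_forall_tensor [IsNoetherianRing A] {ι : Type*} (Bs : ι → Type u)
    [∀ j, CommRing (Bs j)] [∀ j, Algebra A (Bs j)] [∀ j, Module.Flat A (Bs j)]
    [∀ j, IsNoetherianRing (Bs j)]
    (hfaith : ∀ (N : Type u) [AddCommGroup N] [Module A N],
      (∀ j, Subsingleton (Bs j ⊗[A] N)) → Subsingleton N) (I : Ideal A) :
    ∀ (i : ℕ) (M : ModuleCat.{u} A),
      (∀ j, Subsingleton ((localCohomology (I.map (algebraMap A (Bs j))) i).obj (tens (Bs j) M))) →
        Subsingleton ((localCohomology I i).obj M) := by
  intro i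
  induction i with
  | zero =>
    intro M h
    have := hfaith _ fun j => (subsingleton_H0_tens_iff I M).mp (h j)
    exact (H0Equiv I M).toEquiv.subsingleton
  | succ i ih =>
    intro M h
    obtain ⟨S, hS, rfl, h2⟩ := exists_injective_shortExact M
    rcases i with - | i
    · rw [subsingleton_H_one_iff hS (isAcyclic_of_injective I S.X₂ 0), ← surjective_gammaMap_iff]
      rw [← LinearMap.range_eq_top, ← Submodule.Quotient.subsingleton_iff]
      refine hfaith _ fun j => subsingleton_of_forall_eq 0 fun z => ?_
      have hsurj := (subsingleton_H1_tens_iff I hS).mp (h j)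
      obtain ⟨y, rfl⟩ := LinearMap.lTensor_surjective (Bs j)
        (Submodule.mkQ_surjective (LinearMap.range (gammaMap I S.g))) z
      obtain ⟨w, rfl⟩ := hsurj y
      rw [← LinearMap.comp_apply, ← LinearMap.lTensor_comp, LinearMap.range_mkQ_comp,
        LinearMap.lTensor_zero, LinearMap.zero_apply]
    · exact (subsingleton_H_succ_iff hS (isAcyclic_of_injective I S.X₂) i).mpr
        (ih S.X₃ fun j =>
          (subsingleton_H_succ_iff (shortExact_tensS hS) (isAcyclic_tens I S.X₂) i).mp (h j))

theorem cdLE_of_cdLE_map_faithfullyFlat [IsNoetherianRing A] [IsNoetherianRing B]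
    [Module.FaithfullyFlat A B] {I : Ideal A} {d : ℕ}
    (h : _root_.LocCoh.CdLE B (I.map (algebraMap A B)) d) : _root_.LocCoh.CdLE A I d :=
  fun M _ _ i hi => subsingleton_H_of_forall_tensor (fun _ : PUnit.{1} => B)
    (fun N _ _ hN => by
      have := hN ⟨⟩
      exact Module.FaithfullyFlat.lTensor_reflects_triviality A B N)
    I i (ModuleCat.of A M) fun _ => h (B ⊗[A] M) i hi

theorem cdLE_iff_localizations [IsNoetherianRing A] (I : Ideal A) (d : ℕ) :
    _root_.LocCoh.CdLE A I d ↔ ∀ (p : Ideal A) [p.IsPrime], _root_.LocCoh.CdLE (Localization.AtPrime p)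
      (I.map (algebraMap A (Localization.AtPrime p))) d := by
  refine ⟨fun h p _ => cdLE_map h, fun h M _ _ i hi => ?_⟩
  have (p : PrimeSpectrum A) : Module.Flat A (Localization.AtPrime p.asIdeal) :=
    IsLocalization.flat _ p.asIdeal.primeCompl
  refine subsingleton_H_of_forall_tensor (fun p : PrimeSpectrum A => Localization.AtPrime p.asIdeal)
    (fun N _ _ hN => ?_) I i (ModuleCat.of A M) fun p => h p.asIdeal _ i hi
  by_contra hne
  have := not_subsingleton_iff_nontrivial.mp hne
  obtain ⟨p, hp⟩ := Module.nonempty_support_of_nontrivial (R := A) (M := N)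
  have := hN p
  exact not_subsingleton_iff_nontrivial.mpr (Module.mem_support_iff.mp hp)
    (LocalizedModule.equivTensorProduct p.asIdeal.primeCompl N).toEquiv.subsingleton

end Groth.Agent.LocCoh
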