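import Groth.Agent.LocCoh.Finiteness
import Mathlib.LinearAlgebra.LinearIndependent.Lemmas
import Mathlib.Algebra.Module.Torsion.Basic
import Mathlib.RingTheory.Ideal.AssociatedPrime.Localization

/-!
# Finiteness of `H¹_I` via the associated primes
-/

universe u

open CategoryTheory Limits

namespace Groth.Agent.LocCoh

variable {R : Type u} [CommRing R] [IsNoetherianRing R] {I : Ideal R}

omit [IsNoetherianRing R] in
/-- The short exact sequence of an injective map. -/
theorem exists_shortExact_of_injective {K F : Type u} [AddCommGroup K] [Module R K] [AddCommGroup F]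
    [Module R F] (j : K →ₗ[R] F) (hj : Function.Injective j) :
    ∃ (S : ShortComplex (ModuleCat.{u} R)), S.ShortExact ∧ S.X₁ = ModuleCat.of R K ∧
      S.X₂ = ModuleCat.of R F ∧ (Module.Finite R F → Module.Finite R S.X₃) :=
  ⟨ShortComplex.mk (ModuleCat.ofHom j) (ModuleCat.ofHom (LinearMap.range j).mkQ)
      (ModuleCat.hom_ext (LinearMap.range_mkQ_comp j)),
    { exact := (ShortComplex.ShortExact.moduleCat_exact_iff_function_exact _).mpr
        (LinearMap.exact_map_mkQ_range j)
      mono_f := (ModuleCat.mono_iff_injective _).mpr hj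
      epi_g := (ModuleCat.epi_iff_surjective _).mpr (Submodule.mkQ_surjective _) },
    rfl, rfl, fun _ => inferInstanceAs (Module.Finite R (F ⧸ LinearMap.range j))⟩

/-- `H¹` of a submodule is finite when `H¹` of the finite ambient module is. -/
theorem finite_H_one_of_injective {K F : Type u} [AddCommGroup K] [Module R K] [AddCommGroup F]
    [Module R F] [Module.Finite R F] (j : K →ₗ[R] F) (hj : Function.Injective j)
    (h : Module.Finite R (_root_.LocCoh.H I 1 F)) : Module.Finite R (_root_.LocCoh.H I 1 K) := by
  obtain ⟨S, hS, h1, h2, h3⟩ := exists_shortExact_of_injective j hj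
  have := h3 inferInstance
  have := finite_H_zero (I := I) S.X₃
  have h2' : Module.Finite R ((localCohomology I 1).obj S.X₂) := by rw [h2]; exact h
  show Module.Finite R ((localCohomology I 1).obj (ModuleCat.of R K))
  rw [← h1]
  exact finite_of_exact _ _ (exact₁ (I := I) (i := 0) hS)

omit [IsNoetherianRing R] in
theorem finite_H_pi {ι : Type u} [Fintype ι] {N : Type u} [AddCommGroup N] [Module R N] (i : ℕ)
    (h : Module.Finite R (_root_.LocCoh.H I i N)) :
    Module.Finite R (_root_.LocCoh.H I i (ι → N)) := by
  classical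
  let Φ : (ι → _root_.LocCoh.H I i N) →ₗ[R] _root_.LocCoh.H I i (ι → N) :=
    ∑ j : ι, ((localCohomology I i).map (ModuleCat.ofHom (LinearMap.single R (fun _ => N) j))).hom ∘ₗ
      LinearMap.proj j
  refine Module.Finite.of_surjective Φ fun x => ?_
  refine ⟨fun j => ((localCohomology I i).map
    (ModuleCat.ofHom (LinearMap.proj j : (ι → N) →ₗ[R] N))).hom x, ?_⟩
  obtain ⟨n, e, rfl⟩ := exists_ιH x
  simp only [Φ, LinearMap.sum_apply, LinearMap.comp_apply, LinearMap.proj_apply]
  rw [Finset.sum_congr rfl fun j _ => by rw [ιH_naturality, ιH_naturality,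
    Abelian.Ext.comp_assoc_of_second_deg_zero, Abelian.Ext.mk₀_comp_mk₀]]
  rw [← map_sum, ← Abelian.Ext.comp_sum, ← Abelian.Ext.mk₀_sum]
  have : ∑ j : ι, (ModuleCat.ofHom (LinearMap.proj j : (ι → N) →ₗ[R] N)) ≫
      ModuleCat.ofHom (LinearMap.single R (fun _ => N) j) = 𝟙 (ModuleCat.of R (ι → N)) := by
    refine ModuleCat.hom_ext (LinearMap.ext fun v => ?_)
    rw [ModuleCat.hom_sum, LinearMap.sum_apply]
    exact Finset.univ_sum_single v
  rw [this, Abelian.Ext.comp_mk₀_id]

/-- A finite module killed by the prime `p` and torsion-free off `p` embeds in `(R ⧸ p)^r`. -/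
theorem exists_injective_to_pi {K : Type u} [AddCommGroup K] [Module R K] [Module.Finite R K]
    (p : Ideal R) [p.IsPrime] (hkill : Module.IsTorsionBySet R K p)
    (hreg : ∀ a ∉ p, Function.Injective fun x : K => a • x) :
    ∃ (ι : Type u) (_ : Fintype ι) (j : K →ₗ[R] (ι → R ⧸ p)), Function.Injective j := by
  classical
  letI : Module (R ⧸ p) K := hkill.module
  have : IsScalarTower R (R ⧸ p) K := Module.IsTorsionBySet.isScalarTower hkill
  obtain ⟨s, hs⟩ := Module.Finite.fg_top (R := R) (M := K)
  obtain ⟨t, hli, hmax⟩ := exists_maximal_linearIndepOn (R ⧸ p) (fun x : s => (x : K))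
  let v : t → K := fun x => ((x : s) : K)
  have hv : LinearIndependent (R ⧸ p) v := hli
  have ha : ∀ x : s, ∃ a : R ⧸ p, a ≠ 0 ∧ a • (x : K) ∈ Submodule.span (R ⧸ p) (Set.range v) := by
    intro x
    by_cases hx : x ∈ t
    · exact ⟨1, one_ne_zero, by rw [one_smul]; exact Submodule.subset_span ⟨⟨x, hx⟩, rfl⟩⟩
    · obtain ⟨a, ha0, ha⟩ := hmax x hx
      exact ⟨a, ha0, by rwa [Set.image_eq_range] at ha⟩
  choose a ha0 ha using ha
  obtain ⟨b, hb⟩ := Ideal.Quotient.mk_surjective (∏ x : s, a x)
  have hbp : b ∉ p := fun h => Finset.prod_ne_zero_iff.mpr (fun x _ => ha0 x)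
    (hb.symm.trans (Ideal.Quotient.eq_zero_iff_mem.mpr h))
  have hspan : ∀ x : K, (∏ y : s, a y) • x ∈ Submodule.span (R ⧸ p) (Set.range v) := by
    intro x
    have hx : x ∈ Submodule.span R (s : Set K) := hs ▸ Submodule.mem_top
    induction hx using Submodule.span_induction with
    | mem x hx =>
      rw [← Finset.prod_erase_mul _ _ (Finset.mem_univ (⟨x, hx⟩ : s)), mul_smul]
      exact Submodule.smul_mem _ _ (ha ⟨x, hx⟩)
    | zero => rw [smul_zero]; exact zero_mem _
    | add x y _ _ hx hy => rw [smul_add]; exact add_mem hx hy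
    | smul c x _ hx => rw [smul_comm]; exact Submodule.smul_of_tower_mem _ c hx
  let j : K →ₗ[R ⧸ p] (t → R ⧸ p) :=
    (Finsupp.lcoeFun : (t →₀ R ⧸ p) →ₗ[R ⧸ p] (t → R ⧸ p)) ∘ₗ hv.repr ∘ₗ
      (LinearMap.lsmul (R ⧸ p) K (∏ y : s, a y)).codRestrict _ hspan
  refine ⟨t, inferInstance, j.restrictScalars R, (injective_iff_map_eq_zero _).mpr fun x hx => ?_⟩
  have h1 : hv.repr ⟨(∏ y : s, a y) • x, hspan x⟩ = 0 := DFunLike.coe_injective hx
  have h2 : (∏ y : s, a y) • x = 0 := by
    have h3 := hv.linearCombination_repr ⟨(∏ y : s, a y) • x, hspan x⟩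
    rw [h1, map_zero] at h3
    exact h3.symm
  rw [← hb] at h2
  exact hreg b hbp (h2.trans (smul_zero b).symm)

theorem finite_H_one_of_killed_pow (p : Ideal R) [p.IsPrime]
    (hgood : Module.Finite R (_root_.LocCoh.H I 1 (R ⧸ p))) : ∀ (k : ℕ) (M : Type u) [AddCommGroup M]
      [Module R M] [Module.Finite R M], (∀ a ∈ p ^ k, ∀ x : M, a • x = 0) →
      (∀ a ∉ p, Function.Injective fun x : M => a • x) →
      Module.Finite R (_root_.LocCoh.H I 1 M) := by
  intro k
  induction k with
  | zero =>
    intro M _ _ _ hkill _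
    have : Subsingleton (ModuleCat.of R M) :=
      subsingleton_of_forall_eq 0 fun x => by simpa using hkill 1 (by simp) x
    have := subsingleton_H_of_isZero (I := I) (i := 1) this
    exact inferInstance
  | succ k ih =>
    intro M _ _ _ hkill hreg
    let K : Submodule R M := Submodule.torsionBySet R M p
    have hK : Module.Finite R (_root_.LocCoh.H I 1 K) := by
      obtain ⟨ι, _, j, hj⟩ := exists_injective_to_pi (K := K) p
        (Submodule.torsionBySet_isTorsionBySet (p : Set R))
        (fun a ha x y hxy => Subtype.ext (hreg a ha (congrArg Subtype.val hxy)))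
      exact finite_H_one_of_injective j hj (finite_H_pi 1 hgood)
    have hQ : Module.Finite R (_root_.LocCoh.H I 1 (M ⧸ K)) := by
      refine ih (M ⧸ K) (fun a ha y => ?_) fun a ha => ?_
      · obtain ⟨x, rfl⟩ := K.mkQ_surjective y
        rw [← map_smul]
        refine (Submodule.Quotient.mk_eq_zero K).mpr ((Submodule.mem_torsionBySet_iff _ _).mpr ?_)
        intro b
        rw [smul_smul]
        exact hkill _ (by rw [pow_succ']; exact Ideal.mul_mem_mul b.2 ha) x
      · refine (injective_iff_map_eq_zero (DistribMulAction.toAddMonoidHom (M ⧸ K) a)).mpr fun y hy => ?_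
        obtain ⟨x, rfl⟩ := K.mkQ_surjective y
        have hax : a • x ∈ K := (Submodule.Quotient.mk_eq_zero K).mp ((map_smul K.mkQ a x).trans hy)
        refine (Submodule.Quotient.mk_eq_zero K).mpr ((Submodule.mem_torsionBySet_iff _ _).mpr fun b => ?_)
        have := (Submodule.mem_torsionBySet_iff _ _).mp hax b
        exact hreg a ha ((smul_comm a (b : R) x).trans (this.trans (smul_zero a).symm))
    let S : ShortComplex (ModuleCat.{u} R) :=
      ShortComplex.mk (ModuleCat.ofHom K.subtype) (ModuleCat.ofHom K.mkQ) (by ext x; simp)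
    have hS : S.ShortExact :=
      { exact := (ShortComplex.ShortExact.moduleCat_exact_iff_function_exact _).mpr
          (LinearMap.exact_subtype_mkQ _)
        mono_f := (ModuleCat.mono_iff_injective _).mpr (Submodule.injective_subtype _)
        epi_g := (ModuleCat.epi_iff_surjective _).mpr (Submodule.mkQ_surjective _) }
    have : Module.Finite R ((localCohomology I 1).obj S.X₁) := hK
    have : Module.Finite R ((localCohomology I 1).obj S.X₃) := hQ
    exact finite_of_exact _ _ (exact₂ (I := I) (i := 1) hS)

theorem finite_H_one_of_forall_associated : ∀ (n : ℕ) (M : Type u) [AddCommGroup M] [Module R M]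
    [Module.Finite R M], (associatedPrimes R M).ncard ≤ n →
      (∀ p ∈ associatedPrimes R M, Module.Finite R (_root_.LocCoh.H I 1 (R ⧸ p))) →
      Module.Finite R (_root_.LocCoh.H I 1 M) := by
  intro n
  induction n with
  | zero =>
    intro M _ _ _ hcard _
    have : Subsingleton (ModuleCat.of R M) := by
      by_contra h
      have := not_subsingleton_iff_nontrivial.mp h
      exact (associatedPrimes.nonempty R (M := M)).ne_empty
        ((Set.ncard_eq_zero (associatedPrimes.finite R M)).mp (Nat.le_zero.mp hcard))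
    have := subsingleton_H_of_isZero (I := I) (i := 1) this
    exact inferInstance
  | succ n ih =>
    intro M _ _ _ hcard hgood
    cases subsingleton_or_nontrivial M
    · have := subsingleton_H_of_isZero (I := I) (i := 1) (M := ModuleCat.of R M) ‹_›
      exact inferInstance
    obtain ⟨p, hp, hmin⟩ := (associatedPrimes.finite R M).exists_minimal (associatedPrimes.nonempty R M)
    have := IsAssociatedPrime.isPrime hp
    let N : Submodule R M :=
      { carrier := {x | ∃ u ∉ p, u • x = 0}
        zero_mem' := ⟨1, (Ideal.ne_top_iff_one _).mp this.ne_top, smul_zero _⟩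
        add_mem' := by
          rintro x y ⟨u, hu, hux⟩ ⟨v, hv, hvy⟩
          exact ⟨u * v, fun h => (this.mem_or_mem h).elim hu hv,
            by rw [smul_add, mul_comm u v, mul_smul, hux, smul_zero, zero_add, mul_comm, mul_smul,
              hvy, smul_zero]⟩
        smul_mem' := fun c x ⟨u, hu, hux⟩ => ⟨u, hu, by rw [smul_comm, hux, smul_zero]⟩ }
    have hNass : associatedPrimes R N ⊆ associatedPrimes R M \ {p} := by
      refine fun q hq => ⟨associatedPrimes.subset_of_injective N.injective_subtype hq, fun hqp => ?_⟩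
      obtain ⟨-, x, hx⟩ := isAssociatedPrime_iff.mp hq
      obtain ⟨u, hu, hux⟩ := x.2
      have : u ∈ q := by
        rw [hx, Submodule.mem_colon_singleton, Submodule.mem_bot]
        exact Subtype.ext hux
      exact hu (Set.mem_singleton_iff.mp hqp ▸ this)
    have hN : Module.Finite R (_root_.LocCoh.H I 1 N) := by
      refine ih N ?_ fun q hq => hgood q (hNass hq).1
      have h1 := Set.ncard_le_ncard hNass (Set.Finite.sdiff (associatedPrimes.finite R M))
      rw [Set.ncard_sdiff_singleton_of_mem hp] at h1
      omega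
    have hreg : ∀ a ∉ p, Function.Injective fun y : M ⧸ N => a • y := fun a ha => by
      refine (injective_iff_map_eq_zero (DistribMulAction.toAddMonoidHom (M ⧸ N) a)).mpr fun y hy => ?_
      obtain ⟨x, rfl⟩ := N.mkQ_surjective y
      obtain ⟨u, hu, hux⟩ := (Submodule.Quotient.mk_eq_zero N).mp ((map_smul N.mkQ a x).trans hy)
      exact (Submodule.Quotient.mk_eq_zero N).mpr
        ⟨u * a, fun h => (this.mem_or_mem h).elim hu ha, by rwa [mul_smul]⟩
    have hrad : p ≤ (Module.annihilator R (M ⧸ N)).radical := by
      rw [← Ideal.sInf_minimalPrimes]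
      refine le_sInf fun q hq => ?_
      have hqass := Module.associatedPrimes.minimalPrimes_annihilator_subset_associatedPrimes R _ hq
      have hqp : q ≤ p := fun a ha => by
        by_contra hap
        obtain ⟨-, y, hy⟩ := isAssociatedPrime_iff.mp hqass
        rw [hy, Submodule.mem_colon_singleton, Submodule.mem_bot] at ha
        have : y = 0 := hreg a hap (ha.trans (smul_zero a).symm)
        exact hq.isPrime.ne_top (by rw [hy, this, Submodule.colon_singleton_zero])
      have hq' : Module.annihilator R M ≤ q :=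
        (LinearMap.annihilator_le_of_surjective N.mkQ N.mkQ_surjective).trans hq.1.2
      have := hq.isPrime
      obtain ⟨q', hq'min, hq'le⟩ := Ideal.exists_minimalPrimes_le hq'
      exact (hmin (Module.associatedPrimes.minimalPrimes_annihilator_subset_associatedPrimes R M hq'min)
        (hq'le.trans hqp)).trans hq'le
    obtain ⟨k, hk⟩ := Ideal.exists_pow_le_of_le_radical_of_fg hrad (IsNoetherian.noetherian p)
    have hQ := finite_H_one_of_killed_pow p (hgood p hp) k (M ⧸ N)
      (fun a ha => Module.mem_annihilator.mp (hk ha)) hreg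
    let S : ShortComplex (ModuleCat.{u} R) :=
      ShortComplex.mk (ModuleCat.ofHom N.subtype) (ModuleCat.ofHom N.mkQ) (by ext x; simp)
    have hS : S.ShortExact :=
      { exact := (ShortComplex.ShortExact.moduleCat_exact_iff_function_exact _).mpr
          (LinearMap.exact_subtype_mkQ _)
        mono_f := (ModuleCat.mono_iff_injective _).mpr (Submodule.injective_subtype _)
        epi_g := (ModuleCat.epi_iff_surjective _).mpr (Submodule.mkQ_surjective _) }
    have : Module.Finite R ((localCohomology I 1).obj S.X₁) := hN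
    have : Module.Finite R ((localCohomology I 1).obj S.X₃) := hQ
    exact finite_of_exact _ _ (exact₂ (I := I) (i := 1) hS)

theorem finite_H_one_iff (M : Type u) [AddCommGroup M] [Module R M] [Module.Finite R M] :
    Module.Finite R (_root_.LocCoh.H I 1 M) ↔ ∀ p : Ideal R, p ∈ associatedPrimes R M → ¬ I ≤ p →
      Module.Finite R (_root_.LocCoh.H I 1 (R ⧸ p)) := by
  refine ⟨fun h p hp _ => ?_, fun h => finite_H_one_of_forall_associated _ M le_rfl fun p hp => ?_⟩
  · obtain ⟨-, f, hf⟩ := (isAssociatedPrime_iff_exists_injective_linearMap p M).mp hp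
    exact finite_H_one_of_injective f hf h
  · by_cases hI : I ≤ p
    · have := subsingleton_H_succ_of_isPowerTorsion I 0 (ModuleCat.of R (R ⧸ p)) fun m =>
        ⟨1, fun a ha => by
          rw [pow_one] at ha
          obtain ⟨r, rfl⟩ := Ideal.Quotient.mk_surjective m
          exact Ideal.Quotient.eq_zero_iff_mem.mpr (p.mul_mem_right r (hI ha))⟩
      exact inferInstance
    · exact h p hp hI

end Groth.Agent.LocCoh
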