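import Groth.Agent.LocCoh.NonVanishing
import Groth.Agent.LocCoh.BaseChange
import Groth.Agent.LocCoh.FiniteH1

/-!
# Top local cohomology

* `subsingleton_H_congr`, `subsingleton_H_iff_of_radical_eq`: only the radical matters;
* `not_cdLE_of_prime`;
* `smul_top_surjective`;
* `subsingleton_H_top_of_module`.
-/

universe u

open CategoryTheory Limits
open scoped Pointwise DirectSum

namespace Groth.Agent.LocCoh

variable {R : Type u} [CommRing R] [IsNoetherianRing R]

omit [IsNoetherianRing R] in
/-- Vanishing of local cohomology only depends on the torsion functor. -/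
theorem subsingleton_H_congr {I J : Ideal R}
    (h : ∀ (N : ModuleCat.{u} R), DRing.torsionSub I N = DRing.torsionSub J N) :
    ∀ (i : ℕ) (M : ModuleCat.{u} R), Subsingleton ((localCohomology I i).obj M) ↔
      Subsingleton ((localCohomology J i).obj M) := by
  intro i
  induction i with
  | zero =>
    intro M
    rw [(H0Equiv I M).toEquiv.subsingleton_congr, (H0Equiv J M).toEquiv.subsingleton_congr, h M]
  | succ i ih =>
    intro M
    obtain ⟨S, hS, rfl, h2⟩ := exists_injective_shortExact M
    rcases i with - | i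
    · rw [subsingleton_H_one_iff hS (isAcyclic_of_injective I S.X₂ 0),
        subsingleton_H_one_iff hS (isAcyclic_of_injective J S.X₂ 0), h, h]
    · rw [subsingleton_H_succ_iff hS (isAcyclic_of_injective I S.X₂),
        subsingleton_H_succ_iff hS (isAcyclic_of_injective J S.X₂), ih]

theorem subsingleton_H_iff_of_radical_eq {I J : Ideal R} (h : I.radical = J.radical) (i : ℕ)
    (M : ModuleCat.{u} R) : Subsingleton ((localCohomology I i).obj M) ↔
      Subsingleton ((localCohomology J i).obj M) := by
  have key : ∀ {I J : Ideal R}, I.radical = J.radical → ∀ (N : ModuleCat.{u} R),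
      DRing.torsionSub I N ≤ DRing.torsionSub J N := by
    intro I J h N x hx
    obtain ⟨n, hn⟩ := hx
    obtain ⟨k, hk⟩ := Ideal.exists_pow_le_of_le_radical_of_fg (I := J) (J := I)
      (h ▸ Ideal.le_radical) (IsNoetherian.noetherian J)
    exact ⟨k * n, fun a ha => hn a (Ideal.pow_right_mono hk n (by rwa [← pow_mul]))⟩
  exact subsingleton_H_congr (fun N => (key h N).antisymm (key h.symm N)) i M

theorem not_cdLE_of_prime [IsLocalRing R] (I : Ideal R) (p : Ideal R) [p.IsPrime]
    (hpI : (p ⊔ I).radical = IsLocalRing.maximalIdeal R) (d : ℕ) (hd : ringKrullDim (R ⧸ p) = d)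
    (hd1 : 1 ≤ d) : ¬ _root_.LocCoh.CdLE R I (d - 1) := by
  intro hcd
  have : Nontrivial (R ⧸ p) := Ideal.Quotient.nontrivial_iff.mpr (Ideal.IsPrime.ne_top inferInstance)
  have : IsLocalRing (R ⧸ p) := IsLocalRing.of_surjective' _ Ideal.Quotient.mk_surjective
  have h1 := cdLE_map (B := R ⧸ p) hcd (R ⧸ p) d (by omega)
  have hrad : (I.map (algebraMap R (R ⧸ p))).radical =
      (IsLocalRing.maximalIdeal (R ⧸ p)).radical := by
    have hm := (IsLocalRing.maximalIdeal.isMaximal (R ⧸ p)).isPrime.radical
    rw [hm]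
    have hcomap := congrArg (Ideal.map (algebraMap R (R ⧸ p))) hpI
    rw [Ideal.Quotient.algebraMap_eq] at hcomap ⊢
    rw [Ideal.map_radical_of_surjective Ideal.Quotient.mk_surjective
      (by rw [Ideal.mk_ker]; exact le_sup_left), Ideal.map_sup, Ideal.map_quotient_self,
      bot_sup_eq] at hcomap
    rw [hcomap]
    exact (IsLocalRing.map_maximalIdeal_of_surjective _ Ideal.Quotient.mk_surjective)
  have h2 := (subsingleton_H_iff_of_radical_eq hrad d (ModuleCat.of (R ⧸ p) (R ⧸ p))).mp h1
  exact not_nontrivial_iff_subsingleton.mpr h2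
    (nontrivial_H_supportDim (ModuleCat.of (R ⧸ p) (R ⧸ p)) d
      ((Module.supportDim_self_eq_ringKrullDim (R := R ⧸ p)).trans hd))

variable {I : Ideal R}

/-- Top local cohomology is right exact. -/
theorem surjective_map_top {d : ℕ} (hd : ringKrullDim R ≤ d) {S : ShortComplex (ModuleCat.{u} R)}
    (hS : S.ShortExact) : Function.Surjective ((localCohomology I d).map S.g).hom := fun x => by
  have := cdLE_of_ringKrullDim_le I d hd S.X₁ (d + 1) (Nat.lt_succ_self d)
  exact (exact₃ (I := I) (i := d) hS x).mp (this.elim _ _)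

/-- Multiplication by an element missing the top-dimensional primes is surjective on `H^d`. -/
theorem smul_top_surjective (d : ℕ) (hd : ringKrullDim R = d) (f : R)
    (hf : ∀ p ∈ minimalPrimes R, ringKrullDim (R ⧸ p) = d → f ∉ p) (M : ModuleCat.{u} R)
    [Module.Finite R M] : Function.Surjective fun x : (localCohomology I d).obj M => f • x := by
  let φ : M ⟶ M := f • 𝟙 M
  let K := LinearMap.ker φ.hom
  let S₁ : ShortComplex (ModuleCat.{u} R) := ShortComplex.mk (ModuleCat.ofHom K.subtype)
    (ModuleCat.ofHom φ.hom.rangeRestrict) (by ext x; exact x.2)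
  have hS₁ : S₁.ShortExact :=
    { exact := (ShortComplex.ShortExact.moduleCat_exact_iff_function_exact _).mpr fun x =>
        ⟨fun hx => ⟨⟨x, congrArg Subtype.val hx⟩, rfl⟩, fun hx => by
          obtain ⟨y, rfl⟩ := hx
          exact Subtype.ext (LinearMap.mem_ker.mp y.2)⟩
      mono_f := (ModuleCat.mono_iff_injective _).mpr (Submodule.injective_subtype _)
      epi_g := (ModuleCat.epi_iff_surjective _).mpr φ.hom.surjective_rangeRestrict }
  let S₂ : ShortComplex (ModuleCat.{u} R) := ShortComplex.mk
      (ModuleCat.ofHom (LinearMap.range φ.hom).subtype) (ModuleCat.ofHom (LinearMap.range φ.hom).mkQ)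
      (by ext x; simp)
  have hS₂ : S₂.ShortExact :=
    { exact := (ShortComplex.ShortExact.moduleCat_exact_iff_function_exact _).mpr
        (LinearMap.exact_subtype_mkQ _)
      mono_f := (ModuleCat.mono_iff_injective _).mpr (Submodule.injective_subtype _)
      epi_g := (ModuleCat.epi_iff_surjective _).mpr (Submodule.mkQ_surjective _) }
  -- `M ⧸ f M` has dimension less than `d`
  have hdim : Module.supportDim R (M ⧸ LinearMap.range φ.hom) < (d : WithBot ℕ∞) := by
    cases subsingleton_or_nontrivial (M ⧸ LinearMap.range φ.hom)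
    · rw [Module.supportDim_eq_bot_of_subsingleton]; exact WithBot.bot_lt_coe _
    refine lt_of_le_of_ne ((Module.supportDim_le_ringKrullDim R _).trans hd.le) fun he => ?_
    obtain ⟨l, hl⟩ := Order.le_krullDim_iff.mp he.ge
    let l' : LTSeries (PrimeSpectrum R) := l.map Subtype.val fun _ _ h => h
    have hf0 : f ∈ l'.head.asIdeal := by
      by_contra hfn
      refine Module.mem_support_iff.mp l.head.2 |> not_subsingleton_iff_nontrivial.mpr |> fun hns => hns ?_
      exact Module.notMem_support_iff.mp (Module.notMem_support_iff'.mpr fun m => ⟨f, hfn, by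
        obtain ⟨m, rfl⟩ := Submodule.mkQ_surjective _ m
        rw [← map_smul]
        exact (Submodule.Quotient.mk_eq_zero _).mpr ⟨m, rfl⟩⟩)
    have := l'.head.2
    obtain ⟨p, hp, hple⟩ := Ideal.exists_minimalPrimes_le (I := (⊥ : Ideal R)) (J := l'.head.asIdeal)
      bot_le
    have := hp.isPrime
    rcases (show (⟨p, hp.isPrime⟩ : PrimeSpectrum R) ≤ l'.head from hple).eq_or_lt with e | hlt
    · refine hf p hp (le_antisymm ((ringKrullDim_quotient_le p).trans hd.le) ?_) (by rwa [← e] at hf0)
      rw [ringKrullDim_quotient]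
      let l'' : LTSeries (PrimeSpectrum.zeroLocus (p : Set R)) :=
        { length := l.length
          toFun := fun k => ⟨l' k, fun a ha => (show l'.head ≤ l' k from l'.head_le k) (e ▸ ha)⟩
          step := fun k => l'.step k }
      rw [← hl]
      exact Order.LTSeries.length_le_krullDim l''
    · have h' := (Order.LTSeries.length_le_krullDim (l'.cons _ hlt)).trans hd.le
      rw [RelSeries.cons_length] at h'
      have hlen : l'.length = l.length := rfl
      rw [hlen, hl] at h'
      exact absurd (Nat.cast_le.mp h') (Nat.not_succ_le_self d)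
  have hzero : Subsingleton ((localCohomology I d).obj S₂.X₃) :=
    subsingleton_H_of_supportDim_lt I d (M ⧸ LinearMap.range φ.hom) hdim d le_rfl
  intro y
  obtain ⟨z, hz⟩ := (exact₂ (I := I) (i := d) hS₂ y).mp (hzero.elim _ _)
  obtain ⟨w, rfl⟩ := surjective_map_top (I := I) hd.le hS₁ z
  refine ⟨w, ?_⟩
  show f • (w : (localCohomology I d).obj M) = y
  refine ((map_smul_id f M w).symm.trans ?_).trans hz
  rw [← ConcreteCategory.comp_apply, ← Functor.map_comp]
  rfl

theorem subsingleton_H_quotient_prime {d : ℕ} (hd : ringKrullDim R = d) (M : Type u) [AddCommGroup M]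
    [Module R M] [Module.Finite R M] (hvan : Subsingleton (_root_.LocCoh.H I d M)) (p : PrimeSpectrum R)
    (hp : p ∈ Module.support R M) : Subsingleton (_root_.LocCoh.H I d (R ⧸ p.asIdeal)) := by
  classical
  have := p.2
  -- `N`: the torsion-free quotient of `M / p M`
  let N₀ := M ⧸ p.asIdeal • (⊤ : Submodule R M)
  have hN₀supp : p ∈ Module.support R N₀ := by
    rw [Module.support_quotient, Set.mem_inter_iff]
    exact ⟨hp, (PrimeSpectrum.mem_zeroLocus _ _).mpr subset_rfl⟩
  obtain ⟨m, hm⟩ := Module.mem_support_iff'.mp hN₀supp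
  let T : Submodule R N₀ :=
    { carrier := {x | ∃ u ∉ p.asIdeal, u • x = 0}
      zero_mem' := ⟨1, (Ideal.ne_top_iff_one _).mp p.2.ne_top, smul_zero _⟩
      add_mem' := by
        rintro x y ⟨u, hu, hux⟩ ⟨v, hv, hvy⟩
        exact ⟨u * v, fun h => (p.2.mem_or_mem h).elim hu hv,
          by rw [smul_add, mul_comm u v, mul_smul, hux, smul_zero, zero_add, mul_comm, mul_smul,
            hvy, smul_zero]⟩
      smul_mem' := fun c x ⟨u, hu, hux⟩ => ⟨u, hu, by rw [smul_comm, hux, smul_zero]⟩ }
  let N := N₀ ⧸ T
  have hkill : Module.IsTorsionBySet R N (p.asIdeal : Set R) := fun x a => by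
    obtain ⟨x, rfl⟩ := T.mkQ_surjective x
    obtain ⟨x, rfl⟩ := Submodule.mkQ_surjective _ x
    rw [← map_smul, ← map_smul, show Submodule.mkQ _ ((a : R) • x) = (0 : N₀) from
      (Submodule.Quotient.mk_eq_zero _).mpr (Submodule.smul_mem_smul a.2 Submodule.mem_top), map_zero]
  have hreg : ∀ a ∉ p.asIdeal, Function.Injective fun x : N => a • x := fun a ha => by
    refine (injective_iff_map_eq_zero (DistribSMul.toAddMonoidHom N a)).mpr fun y hy => ?_
    obtain ⟨x, rfl⟩ := T.mkQ_surjective y
    obtain ⟨u, hu, hux⟩ := (Submodule.Quotient.mk_eq_zero T).mp ((map_smul T.mkQ a x).trans hy)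
    exact (Submodule.Quotient.mk_eq_zero T).mpr
      ⟨u * a, fun h => (p.2.mem_or_mem h).elim hu ha, by rwa [mul_smul]⟩
  obtain ⟨ι, _, j, hj⟩ := exists_injective_to_pi p.asIdeal hkill hreg
  obtain ⟨k, hk⟩ : ∃ k, j (T.mkQ m) k ≠ 0 := by
    by_contra hcon
    push Not at hcon
    obtain ⟨u, hu, hum⟩ := (Submodule.Quotient.mk_eq_zero T).mp (hj ((funext hcon).trans (map_zero j).symm))
    exact hm u hu hum
  let φ : M →ₗ[R] (R ⧸ p.asIdeal) := LinearMap.proj k ∘ₗ j ∘ₗ T.mkQ ∘ₗ Submodule.mkQ _
  obtain ⟨m, rfl⟩ := Submodule.mkQ_surjective _ m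
  let J := LinearMap.range φ
  let S₁ : ShortComplex (ModuleCat.{u} R) := ShortComplex.mk (ModuleCat.ofHom (LinearMap.ker φ).subtype)
    (ModuleCat.ofHom φ.rangeRestrict) (by ext x; exact x.2)
  have hS₁ : S₁.ShortExact :=
    { exact := (ShortComplex.ShortExact.moduleCat_exact_iff_function_exact _).mpr fun x =>
        ⟨fun hx => ⟨⟨x, congrArg Subtype.val hx⟩, rfl⟩, fun hx => by
          obtain ⟨y, rfl⟩ := hx
          exact Subtype.ext (LinearMap.mem_ker.mp y.2)⟩
      mono_f := (ModuleCat.mono_iff_injective _).mpr (Submodule.injective_subtype _)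
      epi_g := (ModuleCat.epi_iff_surjective _).mpr φ.surjective_rangeRestrict }
  let S₂ : ShortComplex (ModuleCat.{u} R) := ShortComplex.mk (ModuleCat.ofHom J.subtype)
    (ModuleCat.ofHom J.mkQ) (by ext x; simp)
  have hS₂ : S₂.ShortExact :=
    { exact := (ShortComplex.ShortExact.moduleCat_exact_iff_function_exact _).mpr
        (LinearMap.exact_subtype_mkQ _)
      mono_f := (ModuleCat.mono_iff_injective _).mpr (Submodule.injective_subtype _)
      epi_g := (ModuleCat.epi_iff_surjective _).mpr (Submodule.mkQ_surjective _) }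
  refine subsingleton_X₂ hS₂ ?_ ?_
  · have hM : Subsingleton ((localCohomology I d).obj S₁.X₂) := hvan
    exact (surjective_map_top (I := I) hd.le hS₁).subsingleton
  · -- the cokernel has dimension less than `d`
    obtain ⟨x, hx⟩ := Ideal.Quotient.mk_surjective (φ m)
    have hxp : x ∉ p.asIdeal := fun h => hk (hx.symm.trans (Ideal.Quotient.eq_zero_iff_mem.mpr h))
    have hregx : IsSMulRegular (R ⧸ p.asIdeal) x := fun a b hab => by
      obtain ⟨a, rfl⟩ := Ideal.Quotient.mk_surjective a
      obtain ⟨b, rfl⟩ := Ideal.Quotient.mk_surjective b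
      have hab' : x * a - x * b ∈ p.asIdeal := Ideal.Quotient.eq.mp hab
      rw [← mul_sub] at hab'
      exact Ideal.Quotient.eq.mpr ((p.2.mem_or_mem hab').resolve_left hxp)
    refine subsingleton_H_of_supportDim_lt I d ((R ⧸ p.asIdeal) ⧸ J) ?_ d le_rfl
    have hle : x • (⊤ : Submodule R (R ⧸ p.asIdeal)) ≤ J := by
      rintro _ ⟨y, -, rfl⟩
      obtain ⟨a, rfl⟩ := Ideal.Quotient.mk_surjective y
      refine ⟨a • m, ?_⟩
      rw [map_smul, ← hx]
      show Ideal.Quotient.mk _ (a * x) = Ideal.Quotient.mk _ (x * a)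
      rw [mul_comm]
    have h1 := Module.supportDim_le_of_surjective (Submodule.factor hle) (Submodule.factor_surjective hle)
    have h2 := (supportDim_quotSMulTop_succ_le (M := R ⧸ p.asIdeal) hregx).trans
      ((Module.supportDim_le_ringKrullDim R _).trans hd.le)
    refine h1.trans_lt ?_
    show Module.supportDim R (QuotSMulTop x (R ⧸ p.asIdeal)) < (d : WithBot ℕ∞)
    exact ENat.WithBot.add_one_le_natCast_iff.mp h2

theorem subsingleton_H_top_of_module {d : ℕ} (hd : ringKrullDim R = d) (M : Type u) [AddCommGroup M]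
    [Module R M] [Module.Finite R M]
    (hsupp : ∀ p ∈ minimalPrimes R, ringKrullDim (R ⧸ p) = d →
      ∀ hp : p.IsPrime, (⟨p, hp⟩ : PrimeSpectrum R) ∈ Module.support R M)
    (hvan : Subsingleton (_root_.LocCoh.H I d M)) : ∀ (N : Type u) [AddCommGroup N] [Module R N]
      [Module.Finite R N], Subsingleton (_root_.LocCoh.H I d N) := by
  intro N _ _ hfin
  induction hfin using IsNoetherianRing.induction_on_isQuotientEquivQuotientPrime R with
  | subsingleton N => exact subsingleton_H_of_isZero (M := ModuleCat.of R N) ‹_›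
  | quotient N p e =>
    rw [(HLinearEquiv I d e).toEquiv.subsingleton_congr]
    rcases ((ringKrullDim_quotient_le p.1).trans hd.le).eq_or_lt with he | hlt
    · refine subsingleton_H_quotient_prime hd M hvan p (hsupp p.1 ?_ he p.2)
      refine ⟨⟨p.2, bot_le⟩, fun q hq hqp => ?_⟩
      by_contra hne
      have := hq.1
      have := p.2
      have h1 := Depth.ringKrullDim_quotient_succ_le (p := q) (q := p.1)
        (lt_of_le_of_ne hqp fun e => hne (e ▸ le_rfl))
      rw [he] at h1
      have h2 : ((d + 1 : ℕ) : WithBot ℕ∞) ≤ d := by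
        push_cast
        exact h1.trans ((ringKrullDim_quotient_le q).trans hd.le)
      exact absurd (Nat.cast_le.mp h2) (Nat.not_succ_le_self d)
    · exact subsingleton_H_of_supportDim_lt I d _
        (by rw [Module.supportDim_quotient_eq_ringKrullDim]; exact hlt) d le_rfl
  | exact N₁ N₂ N₃ f g hf hg hfg h₁ h₃ =>
    let S : ShortComplex (ModuleCat.{u} R) := ShortComplex.mk (ModuleCat.ofHom f) (ModuleCat.ofHom g)
      (ModuleCat.hom_ext hfg.linearMap_comp_eq_zero)
    have hS : S.ShortExact :=
      { exact := (ShortComplex.ShortExact.moduleCat_exact_iff_function_exact _).mpr hfg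
        mono_f := (ModuleCat.mono_iff_injective _).mpr hf
        epi_g := (ModuleCat.epi_iff_surjective _).mpr hg }
    exact subsingleton_X₂ hS h₁ h₃

/-- `H^i_I` vanishes in degrees `≥ d` once it vanishes on one big finite module in degree `d`. -/
theorem subsingleton_H_ge_dim {d : ℕ} (hd : ringKrullDim R = d) (M : Type u) [AddCommGroup M]
    [Module R M] [Module.Finite R M]
    (hsupp : ∀ p ∈ minimalPrimes R, ringKrullDim (R ⧸ p) = d →
      ∀ hp : p.IsPrime, (⟨p, hp⟩ : PrimeSpectrum R) ∈ Module.support R M)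
    (hvan : Subsingleton (_root_.LocCoh.H I d M)) (N : Type u) [AddCommGroup N] [Module R N] (i : ℕ)
    (hi : d ≤ i) : Subsingleton (_root_.LocCoh.H I i N) := by
  have hR := subsingleton_H_top_of_module hd M hsupp hvan R
  rcases hi.lt_or_eq with hi | rfl
  · exact cdLE_of_ringKrullDim_le I d hd.le N i hi
  · rcases d with - | d
    · -- every module is a quotient of a free module and `H⁰` is then right exact
      classical
      let π : (⨁ _n : N, R) →ₗ[R] N := DirectSum.toModule R N N fun n => LinearMap.toSpanSingleton R N n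
      have hπ : Function.Surjective π := fun n =>
        ⟨DirectSum.lof R N (fun _ => R) n 1, by rw [DirectSum.toModule_lof]; exact one_smul R n⟩
      let S : ShortComplex (ModuleCat.{u} R) := ShortComplex.mk
        (X₁ := ModuleCat.of R (LinearMap.ker π)) (X₂ := ModuleCat.of R (⨁ _n : N, R))
        (X₃ := ModuleCat.of R N) (ModuleCat.ofHom (LinearMap.ker π).subtype) (ModuleCat.ofHom π)
        (ModuleCat.hom_ext (LinearMap.ext fun x => x.2))
      have hS : S.ShortExact :=
        { exact := (ShortComplex.ShortExact.moduleCat_exact_iff_function_exact _).mpr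
            (LinearMap.exact_subtype_ker_map π)
          mono_f := (ModuleCat.mono_iff_injective _).mpr (Submodule.injective_subtype _)
          epi_g := (ModuleCat.epi_iff_surjective _).mpr hπ }
      have hfree : Subsingleton ((localCohomology I 0).obj S.X₂) :=
        subsingleton_H_directSum I 0 (fun _ => ModuleCat.of R R) fun _ => hR
      exact (surjective_map_top (I := I) hd.le hS).subsingleton
    · refine (cdLE_iff_subsingleton_H_self I d).mp (fun j hj => ?_) N (d + 1) (Nat.lt_succ_self d)
      rcases (Nat.succ_le_of_lt hj).lt_or_eq with hj | rfl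
      · exact cdLE_of_ringKrullDim_le I (d + 1) hd.le R j hj
      · exact hR

end Groth.Agent.LocCoh
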