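import Groth.Agent.LocCoh.BaseChange
import Groth.Agent.LocCoh.NonVanishing
import Groth.Agent.LocCoh.TopDegree
import Mathlib.AlgebraicGeometry.Noetherian

/-!
# Complements of affine opens

If the complement of `V(J)` in `Spec A` is affine then `cd(A, J) ≤ 1`.
-/

universe u

open CategoryTheory AlgebraicGeometry Opposite

namespace Groth.Agent.LocCoh

variable {A : Type u} [CommRing A] [IsNoetherianRing A]

theorem isPowerTorsion_of_forall_exists_pow {I : Ideal A} {M : Type u} [AddCommGroup M] [Module A M]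
    (h : ∀ a ∈ I, ∀ m : M, ∃ k : ℕ, a ^ k • m = 0) : _root_.LocCoh.IsPowerTorsion I M := by
  intro m
  have hle : I ≤ ((⊥ : Submodule A M).colon {m}).radical := fun a ha => by
    obtain ⟨k, hk⟩ := h a ha m
    exact ⟨k, Submodule.mem_colon_singleton.mpr ((Submodule.mem_bot A).mpr hk)⟩
  obtain ⟨n, hn⟩ := Ideal.exists_pow_le_of_le_radical_of_fg hle (IsNoetherian.noetherian I)
  exact ⟨n, fun a ha => (Submodule.mem_bot A).mp (Submodule.mem_colon_singleton.mp (hn ha))⟩

theorem subsingleton_H_of_torsion_ker_coker (I : Ideal A) {M N : Type u} [AddCommGroup M] [Module A M]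
    [AddCommGroup N] [Module A N] (f : M →ₗ[A] N)
    (hker : _root_.LocCoh.IsPowerTorsion I (LinearMap.ker f))
    (hcoker : _root_.LocCoh.IsPowerTorsion I (N ⧸ LinearMap.range f)) (i : ℕ) (hi : 2 ≤ i)
    (hN : Subsingleton (_root_.LocCoh.H I i N)) : Subsingleton (_root_.LocCoh.H I i M) := by
  obtain ⟨j, rfl⟩ : ∃ j, i = j + 2 := ⟨i - 2, by omega⟩
  have h1 : Subsingleton (_root_.LocCoh.H I (j + 2) (LinearMap.range f)) := by
    have : Subsingleton (_root_.LocCoh.H I (j + 2) (LinearMap.ker (LinearMap.range f).mkQ)) :=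
      subsingleton_X₁ (LinearMap.shortExact_shortComplexKer (Submodule.mkQ_surjective (LinearMap.range f))) hN
        fun l hl => by
          obtain rfl : l = j + 1 := by omega
          exact subsingleton_H_succ_of_isPowerTorsion I j (ModuleCat.of A (N ⧸ LinearMap.range f)) hcoker
    exact (HLinearEquiv I (j + 2) (LinearEquiv.ofEq _ _ (Submodule.ker_mkQ _))).symm.toEquiv.subsingleton
  have h2 : Subsingleton (_root_.LocCoh.H I (j + 2) (LinearMap.ker f.rangeRestrict)) :=
    (HLinearEquiv I (j + 2) (LinearEquiv.ofEq _ _ f.ker_rangeRestrict)).toEquiv.subsingleton_congr.mpr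
      (subsingleton_H_succ_of_isPowerTorsion I (j + 1) (ModuleCat.of A (LinearMap.ker f)) hker)
  exact subsingleton_X₂ (LinearMap.shortExact_shortComplexKer f.surjective_rangeRestrict) h2 h1

theorem exists_sections_algebra {U : (Spec (CommRingCat.of A)).Opens} (hU : IsAffineOpen U)
    {J : Ideal A} (hJ : ∀ p : PrimeSpectrum A, (p : Spec (CommRingCat.of A)) ∈ U ↔ ¬ J ≤ p.asIdeal) :
    ∃ (C : Type u) (_ : CommRing C) (_ : IsNoetherianRing C) (_ : Algebra A C),
      J.map (algebraMap A C) = ⊤ ∧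
      _root_.LocCoh.IsPowerTorsion J (LinearMap.ker (Algebra.linearMap A C)) ∧
      _root_.LocCoh.IsPowerTorsion J (C ⧸ LinearMap.range (Algebra.linearMap A C)) := by
  classical
  let X := Spec (CommRingCat.of A)
  let γ : A →+* Γ(X, ⊤) := (Scheme.ΓSpecIso (CommRingCat.of A)).inv.hom
  let φ : A →+* Γ(X, U) := (X.presheaf.map (homOfLE (le_top : U ≤ ⊤)).op).hom.comp γ
  have hbasic : ∀ a : A, X.basicOpen (γ a) = PrimeSpectrum.basicOpen a := fun a => by
    rw [basicOpen_eq_of_affine]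
  have hbasicU : ∀ a : A, X.basicOpen (φ a) = U ⊓ X.basicOpen (γ a) := fun a =>
    X.basicOpen_res _ _
  have hle : ∀ a ∈ J, X.basicOpen (γ a) ≤ U := fun a ha p hp => by
    rw [hbasic] at hp
    exact (hJ p).mpr fun h => hp (h ha)
  have hcomp : ∀ (a : A) (ha : a ∈ J) (y : A), X.presheaf.map (homOfLE (hle a ha)).op (φ y) =
      X.presheaf.map (homOfLE (X.basicOpen_le (γ a))).op (γ y) := fun a ha y => by
    show (X.presheaf.map (homOfLE (le_top : U ≤ ⊤)).op ≫ X.presheaf.map (homOfLE (hle a ha)).op).hom (γ y) = _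
    rw [← X.presheaf.map_comp]
    rfl
  let := φ.toAlgebra
  have : IsNoetherianRing Γ(X, U) := IsLocallyNoetherian.component_noetherian ⟨U, hU⟩
  refine ⟨Γ(X, U), inferInstance, inferInstance, φ.toAlgebra, ?_, ?_, ?_⟩
  · show Ideal.span (φ '' J) = ⊤
    rw [← hU.self_le_iSup_basicOpen_iff]
    intro p hp
    obtain ⟨a, ha, hap⟩ := SetLike.not_le_iff_exists.mp ((hJ p).mp hp)
    refine TopologicalSpace.Opens.mem_iSup.mpr ⟨⟨φ a, a, ha, rfl⟩, ?_⟩
    show p ∈ X.basicOpen (φ a)
    rw [hbasicU, hbasic]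
    exact ⟨hp, hap⟩
  · refine isPowerTorsion_of_forall_exists_pow fun a ha x => ?_
    have h0 : X.presheaf.map (homOfLE (X.basicOpen_le (γ a))).op (γ x.1) = 0 := by
      have hx : φ x.1 = 0 := x.2
      have := congrArg (X.presheaf.map (homOfLE (hle a ha)).op) hx
      rw [map_zero] at this
      rw [← this]
      exact (hcomp a ha x.1).symm
    let := (X.presheaf.map (homOfLE (X.basicOpen_le (γ a))).op).hom.toAlgebra
    have hloc : IsLocalization.Away (γ a) Γ(X, X.basicOpen (γ a)) := (isAffineOpen_top X).isLocalization_basicOpen (γ a)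
    obtain ⟨⟨_, n, rfl⟩, hn⟩ := (IsLocalization.map_eq_zero_iff (Submonoid.powers (γ a)) Γ(X, X.basicOpen (γ a)) _).mp h0
    refine ⟨n, Subtype.ext ?_⟩
    apply (Scheme.ΓSpecIso (CommRingCat.of A)).symm.commRingCatIsoToRingEquiv.injective
    show γ (a ^ n * x.1) = γ 0
    simpa using hn
  · refine isPowerTorsion_of_forall_exists_pow fun a ha z => ?_
    obtain ⟨c, rfl⟩ := Submodule.mkQ_surjective _ z
    let D := X.basicOpen (γ a)
    let r₁ := X.presheaf.map (homOfLE (X.basicOpen_le (γ a))).op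
    let r₂ := X.presheaf.map (homOfLE (hle a ha)).op
    let := r₁.hom.toAlgebra
    have hloc : IsLocalization.Away (γ a) Γ(X, D) := (isAffineOpen_top X).isLocalization_basicOpen (γ a)
    obtain ⟨⟨b, _, k, rfl⟩, hb⟩ := IsLocalization.surj (Submonoid.powers (γ a)) (r₂ c)
    obtain ⟨b, rfl⟩ := (Scheme.ΓSpecIso (CommRingCat.of A)).symm.commRingCatIsoToRingEquiv.surjective b
    change r₂ c * r₁ (γ a ^ k) = r₁ (γ b) at hb
    let := r₂.hom.toAlgebra
    have hloc' : IsLocalization.Away (φ a) Γ(X, D) :=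
      hU.isLocalization_of_eq_basicOpen (φ a) (homOfLE (hle a ha))
        (by rw [hbasicU, inf_eq_right.mpr (hle a ha)])
    have heq : r₂ (c * φ a ^ k) = r₂ (φ b) := by
      rw [map_mul, map_pow, hcomp a ha, hcomp a ha, ← map_pow, hb]
    obtain ⟨⟨_, n, rfl⟩, hn⟩ := (IsLocalization.eq_iff_exists (Submonoid.powers (φ a)) Γ(X, D)).mp heq
    refine ⟨n + k, ?_⟩
    rw [← map_smul, Submodule.mkQ_apply, Submodule.Quotient.mk_eq_zero]
    refine ⟨a ^ n * b, ?_⟩
    show φ (a ^ n * b) = (a ^ (n + k)) • c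
    rw [Algebra.smul_def, RingHom.algebraMap_toAlgebra, map_mul, map_pow, map_pow, pow_add, ← hn]
    ring

/-- If `Spec A ∖ V(J)` is affine then `cd(A, J) ≤ 1`. -/
theorem cdLE_one_of_isAffineOpen {U : (Spec (CommRingCat.of A)).Opens} (hU : IsAffineOpen U) {J : Ideal A}
    (hJ : ∀ p : PrimeSpectrum A, (p : Spec (CommRingCat.of A)) ∈ U ↔ ¬ J ≤ p.asIdeal) :
    _root_.LocCoh.CdLE A J 1 := by
  obtain ⟨C, _, _, _, htop, hker, hcoker⟩ := exists_sections_algebra hU hJ
  refine (cdLE_iff_subsingleton_H_self (I := J) 1).mp fun i hi => ?_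
  refine subsingleton_H_of_torsion_ker_coker J (Algebra.linearMap A C) hker hcoker i hi ?_
  let e : C ≃ₗ[A] (resA A (ModuleCat.of C C) : ModuleCat.{u} A) :=
    { AddEquiv.refl C with map_smul' := fun a x => Algebra.smul_def a x }
  refine (HLinearEquiv J i e).toEquiv.subsingleton_congr.mpr ?_
  refine (subsingleton_H_restrict_iff (B := C) J i (ModuleCat.of C C)).mp ?_
  rw [htop]
  refine subsingleton_of_forall_eq 0 fun x => ?_
  obtain ⟨n, hn⟩ := isPowerTorsion_H (ModuleCat.of C C) x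
  simpa using hn 1 (by rw [Ideal.top_pow]; trivial)

theorem height_le_one_of_cdLE_one {J : Ideal A} (h : _root_.LocCoh.CdLE A J 1) (p : PrimeSpectrum A)
    (hp : J ≤ p.asIdeal) (hmin : ∀ q : PrimeSpectrum A, q.asIdeal ≤ p.asIdeal → J ≤ q.asIdeal → q = p) :
    p.asIdeal.height ≤ 1 := by
  by_contra hcon
  let L := Localization.AtPrime p.asIdeal
  have hcd : _root_.LocCoh.CdLE L (J.map (algebraMap A L)) 1 := cdLE_map h
  have hrad : (J.map (algebraMap A L)).radical = (IsLocalRing.maximalIdeal L).radical := by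
    rw [(IsLocalRing.maximalIdeal.isMaximal L).isPrime.radical]
    refine le_antisymm ?_ ?_
    · rw [← (IsLocalRing.maximalIdeal.isMaximal L).isPrime.radical]
      exact Ideal.radical_mono ((Ideal.map_mono hp).trans_eq
        (IsLocalization.AtPrime.map_eq_maximalIdeal p.asIdeal L))
    · rw [Ideal.radical_eq_sInf]
      refine le_sInf fun Q ⟨hJQ, hQ⟩ => ?_
      have hle : Q.comap (algebraMap A L) ≤ p.asIdeal :=
        (Ideal.comap_mono (IsLocalRing.le_maximalIdeal hQ.ne_top)).trans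
          (IsLocalization.AtPrime.under_maximalIdeal L p.asIdeal).le
      have e := congrArg PrimeSpectrum.asIdeal
        (hmin ⟨Q.comap (algebraMap A L), hQ.comap _⟩ hle (Ideal.map_le_iff_le_comap.mp hJQ))
      rw [← IsLocalization.AtPrime.map_eq_maximalIdeal p.asIdeal L]
      exact (Ideal.map_mono e.ge).trans Ideal.map_comap_le
  obtain ⟨d, hd⟩ := ENat.ne_top_iff_exists.mp (Ideal.height_ne_top (I := p.asIdeal) p.2.ne_top)
  rw [← hd, ← Nat.cast_one, Nat.cast_le, not_le] at hcon
  obtain ⟨n, rfl⟩ : ∃ n, d = n + 1 := ⟨d - 1, by omega⟩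
  have hdim : Module.supportDim L (ModuleCat.of L L) = ((n + 1 : ℕ) : WithBot ℕ∞) := by
    show Module.supportDim L L = _
    rw [Module.supportDim_self_eq_ringKrullDim, IsLocalization.AtPrime.ringKrullDim_eq_height p.asIdeal L, ← hd]
    rfl
  refine not_finite_H_supportDim (R := L) n (ModuleCat.of L L) hdim ?_
  have := (subsingleton_H_iff_of_radical_eq hrad (n + 1) (ModuleCat.of L L)).mp (hcd L (n + 1) hcon)
  exact inferInstance

end Groth.Agent.LocCoh
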