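import Groth.Agent.LocCoh.TopDegree
import Groth.Agent.Depth.CM
import Groth.Agent.PtTop.Catenary
import Groth.Prelude.Def_Found

/-!
# Hartshorne's connectedness and its consequences
-/

universe u

open CategoryTheory IsLocalRing RingTheory.Sequence
open scoped Pointwise

namespace Groth.Agent.LocCoh

variable {R : Type u} [CommRing R] [IsNoetherianRing R]

/-- `n ≤ depth_I M` iff `Hⁱ_I(M) = 0` for all `i < n`. -/
theorem le_idealDepth_iff_H (I : Ideal R) (M : Type u) [AddCommGroup M] [Module R M]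
    [Module.Finite R M] (n : ℕ) : (n : ℕ∞) ≤ _root_.LocCoh.idealDepth I M ↔
      ∀ i < n, Subsingleton ((localCohomology I i).obj (ModuleCat.of R M)) := by
  have hsupp : Module.support R (R ⧸ I) = PrimeSpectrum.zeroLocus (I : Set R) := by
    rw [Module.support_eq_zeroLocus, Ideal.annihilator_quotient]
  have hk : I ^ 1 ≤ Module.annihilator R (R ⧸ I) := by rw [Ideal.annihilator_quotient, pow_one]
  rw [Depth.le_idealDepth_iff_ext]
  exact ⟨fun h => subsingleton_H_of_forall_subsingleton_ext (R ⧸ I) hsupp n (ModuleCat.of R M) h,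
    fun h => subsingleton_ext_of_forall_subsingleton_H n (ModuleCat.of R M) h
      (ModuleCat.of R (R ⧸ I)) 1 hk⟩

theorem le_idealDepth_of_radical_eq {I J : Ideal R} (h : I.radical = J.radical) (M : Type u)
    [AddCommGroup M] [Module R M] [Module.Finite R M] (n : ℕ)
    (hn : (n : ℕ∞) ≤ _root_.LocCoh.idealDepth I M) : (n : ℕ∞) ≤ _root_.LocCoh.idealDepth J M :=
  (le_idealDepth_iff_H J M n).mpr fun i hi =>
    (subsingleton_H_iff_of_radical_eq h i (ModuleCat.of R M)).mp ((le_idealDepth_iff_H I M n).mp hn i hi)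

variable [IsLocalRing R]

/-- Hartshorne: in depth `≥ 2` an `m`-primary sum of ideals with zero product has a zero summand. -/
theorem eq_bot_or_eq_bot_of_mul_eq_bot (hdepth : 2 ≤ _root_.LocCoh.depth R R) {a b : Ideal R}
    (hab : a * b = ⊥) (hrad : (a ⊔ b).radical = maximalIdeal R) : a = ⊥ ∨ b = ⊥ := by
  have hd : ((2 : ℕ) : ℕ∞) ≤ _root_.LocCoh.idealDepth (a ⊔ b) R :=
    le_idealDepth_of_radical_eq
      (by rw [hrad, (maximalIdeal.isMaximal R).isPrime.radical]) R 2 hdepth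
  have hne : (a ⊔ b) • (⊤ : Submodule R R) ≠ ⊤ := by
    intro e
    rw [Ideal.smul_eq_mul, Ideal.mul_top] at e
    rw [e, Ideal.radical_top] at hrad
    exact (maximalIdeal.isMaximal R).ne_top hrad.symm
  obtain ⟨rs, hreg, hmem, hlen⟩ := Depth.exists_isWeaklyRegular_of_le_idealDepth hne hd
  match rs, hlen with
  | [x, y], _ =>
    rw [isWeaklyRegular_cons_iff, isWeaklyRegular_cons_iff] at hreg
    obtain ⟨hx, hy, -⟩ := hreg
    obtain ⟨a₁, ha₁, b₁, hb₁, rfl⟩ := Submodule.mem_sup.mp (hmem x (by simp))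
    obtain ⟨a₂, ha₂, b₂, hb₂, rfl⟩ := Submodule.mem_sup.mp (hmem y (by simp))
    have hz : ∀ p ∈ a, ∀ q ∈ b, p * q = 0 := fun p hp q hq =>
      (Submodule.mem_bot R).mp (hab ▸ Ideal.mul_mem_mul hp hq)
    -- `a₁ = (a₁ + b₁) c`
    have e1 : (a₂ + b₂) * a₁ = (a₁ + b₁) * a₂ := by
      linear_combination hz a₁ ha₁ b₂ hb₂ - hz a₂ ha₂ b₁ hb₁
    obtain ⟨c, hc⟩ : ∃ c, a₁ = (a₁ + b₁) * c := by
      have : Submodule.Quotient.mk a₁ = (0 : QuotSMulTop (a₁ + b₁) R) := by
        refine hy ?_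
        show (a₂ + b₂) • (Submodule.Quotient.mk a₁ : QuotSMulTop (a₁ + b₁) R) = (a₂ + b₂) • 0
        rw [smul_zero, ← Submodule.Quotient.mk_smul, Submodule.Quotient.mk_eq_zero, smul_eq_mul, e1,
          ← smul_eq_mul]
        exact Submodule.smul_mem_pointwise_smul _ _ _ Submodule.mem_top
      obtain ⟨c, -, hc⟩ := (Submodule.mem_smul_pointwise_iff_exists _ _ _).mp
        ((Submodule.Quotient.mk_eq_zero _).mp this)
      exact ⟨c, hc.symm⟩
    have hxx : ∀ {r : R}, (a₁ + b₁) * r = 0 → r = 0 := fun {r} h => hx (h.trans (mul_zero _).symm)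
    have hcc : c * (1 - c) = 0 := hxx <| hxx <| by
      linear_combination hz a₁ ha₁ b₁ hb₁ - ((a₁ + b₁) - (a₁ + b₁) * c - a₁) * hc
    rcases IsLocalRing.isUnit_or_isUnit_one_sub_self c with hu | hu
    · have : c = 1 := (sub_eq_zero.mp ((IsUnit.mul_right_eq_zero hu).mp hcc)).symm
      rw [this, mul_one] at hc
      have hb₁0 : b₁ = 0 := by linear_combination -hc
      refine Or.inr (eq_bot_iff.mpr fun q hq => (Submodule.mem_bot R).mpr (hxx ?_))
      rw [hb₁0, add_zero]
      exact hz a₁ ha₁ q hq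
    · have : c = 0 := (IsUnit.mul_left_eq_zero hu).mp hcc
      rw [this, mul_zero] at hc
      refine Or.inl (eq_bot_iff.mpr fun q hq => (Submodule.mem_bot R).mpr (hxx ?_))
      rw [hc, zero_add, mul_comm]
      exact hz q hq b₁ hb₁

/-- In depth `≥ 2`, two complementary sets of minimal primes meet away from the closed point. -/
theorem exists_prime_above_both (hdepth : 2 ≤ _root_.LocCoh.depth R R) (C : Set (PrimeSpectrum R))
    (q₁ q₂ : PrimeSpectrum R) (h₁ : q₁.asIdeal ∈ minimalPrimes R) (h₁C : q₁ ∈ C)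
    (h₂ : q₂.asIdeal ∈ minimalPrimes R) (h₂C : q₂ ∉ C) :
    ∃ r q q' : PrimeSpectrum R, r.asIdeal ≠ maximalIdeal R ∧ q.asIdeal ∈ minimalPrimes R ∧
      q'.asIdeal ∈ minimalPrimes R ∧ q ∈ C ∧ q' ∉ C ∧ q ≤ r ∧ q' ≤ r := by
  classical
  by_contra hcon
  push Not at hcon
  have hfin : {q : PrimeSpectrum R | q.asIdeal ∈ minimalPrimes R}.Finite :=
    (minimalPrimes.finite_of_isNoetherianRing R).preimage fun a _ b _ h => PrimeSpectrum.ext h
  let s := hfin.toFinset.filter (· ∈ C)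
  let t := hfin.toFinset.filter (· ∉ C)
  let a := s.inf fun q => q.asIdeal
  let b := t.inf fun q => q.asIdeal
  have hsup : maximalIdeal R ≤ (a ⊔ b).radical := by
    rw [Ideal.radical_eq_sInf]
    refine le_sInf fun r ⟨hr, hrp⟩ => ?_
    by_contra hne
    obtain ⟨q, hq, hqr⟩ := (Ideal.IsPrime.inf_le' hrp).mp ((le_sup_left : a ≤ a ⊔ b).trans hr)
    obtain ⟨q', hq', hqr'⟩ := (Ideal.IsPrime.inf_le' hrp).mp ((le_sup_right : b ≤ a ⊔ b).trans hr)
    rw [Finset.mem_filter, Set.Finite.mem_toFinset] at hq hq'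
    exact hcon ⟨r, hrp⟩ q q' (fun e => hne e.ge) hq.1 hq'.1 hq.2 hq'.2 hqr hqr'
  have hs : q₁ ∈ s := Finset.mem_filter.mpr ⟨hfin.mem_toFinset.mpr h₁, h₁C⟩
  have ht : q₂ ∈ t := Finset.mem_filter.mpr ⟨hfin.mem_toFinset.mpr h₂, h₂C⟩
  have hrad : (a ⊔ b).radical = maximalIdeal R := by
    refine le_antisymm ?_ hsup
    rw [← (maximalIdeal.isMaximal R).isPrime.radical]
    exact Ideal.radical_mono (sup_le ((Finset.inf_le hs).trans (le_maximalIdeal q₁.2.ne_top))
      ((Finset.inf_le ht).trans (le_maximalIdeal q₂.2.ne_top)))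
  have hnil : a * b ≤ (⊥ : Ideal R).radical := by
    rw [← Ideal.sInf_minimalPrimes]
    refine le_sInf fun q hq => ?_
    by_cases hC : (⟨q, hq.1.1⟩ : PrimeSpectrum R) ∈ C
    · exact Ideal.mul_le_left.trans (Finset.inf_le (f := fun q : PrimeSpectrum R => q.asIdeal)
        (Finset.mem_filter.mpr ⟨hfin.mem_toFinset.mpr (show (⟨q, hq.1.1⟩ : PrimeSpectrum R).asIdeal ∈
          minimalPrimes R from hq), hC⟩ : (⟨q, hq.1.1⟩ : PrimeSpectrum R) ∈ s))
    · exact Ideal.mul_le_right.trans (Finset.inf_le (f := fun q : PrimeSpectrum R => q.asIdeal)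
        (Finset.mem_filter.mpr ⟨hfin.mem_toFinset.mpr (show (⟨q, hq.1.1⟩ : PrimeSpectrum R).asIdeal ∈
          minimalPrimes R from hq), hC⟩ : (⟨q, hq.1.1⟩ : PrimeSpectrum R) ∈ t))
  obtain ⟨n, hn⟩ := Ideal.exists_pow_le_of_le_radical_of_fg hnil (IsNoetherian.noetherian _)
  have hn' : a ^ (n + 1) * b ^ (n + 1) = ⊥ := eq_bot_iff.mpr <| by
    rw [← mul_pow]
    exact (Ideal.pow_le_pow_right n.le_succ).trans hn
  have hrad' : (a ^ (n + 1) ⊔ b ^ (n + 1)).radical = maximalIdeal R := by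
    refine le_antisymm ((Ideal.radical_mono (sup_le_sup (Ideal.pow_le_self n.succ_ne_zero)
      (Ideal.pow_le_self n.succ_ne_zero))).trans hrad.le) (hrad.ge.trans ?_)
    have ha : a ≤ (a ^ (n + 1) ⊔ b ^ (n + 1)).radical := fun x hx =>
      ⟨n + 1, Submodule.mem_sup_left (Ideal.pow_mem_pow hx _)⟩
    have hb : b ≤ (a ^ (n + 1) ⊔ b ^ (n + 1)).radical := fun x hx =>
      ⟨n + 1, Submodule.mem_sup_right (Ideal.pow_mem_pow hx _)⟩
    exact (Ideal.radical_mono (sup_le ha hb)).trans (Ideal.radical_idem _).le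
  rcases eq_bot_or_eq_bot_of_mul_eq_bot hdepth hn' hrad' with h | h
  · obtain ⟨q, hq, hle⟩ := (Ideal.IsPrime.inf_le' q₂.2).mp
      (Ideal.IsPrime.le_of_pow_le (hP := q₂.2) (h.le.trans bot_le) : a ≤ q₂.asIdeal)
    rw [Finset.mem_filter, Set.Finite.mem_toFinset] at hq
    have e : q₂ = q := PrimeSpectrum.ext (le_antisymm (h₂.2 ⟨q.2, bot_le⟩ hle) hle)
    exact h₂C (e ▸ hq.2)
  · obtain ⟨q, hq, hle⟩ := (Ideal.IsPrime.inf_le' q₁.2).mp
      (Ideal.IsPrime.le_of_pow_le (hP := q₁.2) (h.le.trans bot_le) : b ≤ q₁.asIdeal)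
    rw [Finset.mem_filter, Set.Finite.mem_toFinset] at hq
    have e : q₁ = q := PrimeSpectrum.ext (le_antisymm (h₁.2 ⟨q.2, bot_le⟩ hle) hle)
    exact hq.2 (e ▸ h₁C)

theorem isConnected_punctured (hdepth : 2 ≤ _root_.LocCoh.depth R R) :
    _root_.IsConnected {x : PrimeSpectrum R | x.asIdeal ≠ maximalIdeal R} := by
  have hm : maximalIdeal R ∉ minimalPrimes R := fun h => by
    obtain ⟨x, hx, hreg⟩ := Depth.exists_isSMulRegular_of_one_le_idealDepth
      (I := maximalIdeal R) (M := R) (le_trans (by norm_num) hdepth)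
    have hxn : x ∈ (⊥ : Ideal R).radical := by
      rw [← Ideal.sInf_minimalPrimes]
      refine Ideal.mem_sInf.mpr fun {q} hq => ?_
      exact h.2 hq.1 (le_maximalIdeal hq.1.1.ne_top) hx
    obtain ⟨n, hn⟩ := hxn
    exact one_ne_zero (α := R) (hreg.pow n (by simpa using hn))
  refine ⟨?_, isPreconnected_closed_iff.mpr fun t t' ht ht' hcov ⟨x, hx, hxt⟩ ⟨y, hy, hyt⟩ => ?_⟩
  · obtain ⟨q, hq⟩ := Ideal.nonempty_minimalPrimes (bot_ne_top (α := Ideal R))
    exact ⟨⟨q, hq.1.1⟩, fun e => hm (e ▸ hq)⟩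
  obtain ⟨q₁, hq₁, hq₁x⟩ := Ideal.exists_minimalPrimes_le (I := (⊥ : Ideal R)) (J := x.asIdeal) bot_le
  obtain ⟨q₂, hq₂, hq₂y⟩ := Ideal.exists_minimalPrimes_le (I := (⊥ : Ideal R)) (J := y.asIdeal) bot_le
  let Q₁ : PrimeSpectrum R := ⟨q₁, hq₁.1.1⟩
  let Q₂ : PrimeSpectrum R := ⟨q₂, hq₂.1.1⟩
  have hne : ∀ q : PrimeSpectrum R, q.asIdeal ∈ minimalPrimes R → q.asIdeal ≠ maximalIdeal R :=
    fun q hq e => hm (e ▸ hq)
  have up : ∀ {s : Set (PrimeSpectrum R)}, IsClosed s → ∀ {q r : PrimeSpectrum R}, q ≤ r → q ∈ s → r ∈ s :=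
    fun {s} hs {q r} hle hq => ((PrimeSpectrum.le_iff_specializes q r).mp hle).mem_closed hs hq
  by_cases h1 : Q₁ ∈ t
  · by_cases h2 : Q₂ ∈ t
    · exact ⟨y, hy, up ht hq₂y h2, hyt⟩
    · obtain ⟨r, q, q', hr, -, hq'm, hqC, hq'C, hqr, hq'r⟩ :=
        exists_prime_above_both hdepth t Q₁ Q₂ hq₁ h1 hq₂ h2
      exact ⟨r, hr, up ht hqr hqC, up ht' hq'r ((hcov (hne q' hq'm)).resolve_left hq'C)⟩
  · exact ⟨x, hx, hxt, up ht' hq₁x ((hcov (hne Q₁ hq₁)).resolve_left h1)⟩

omit [IsLocalRing R] in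
/-- Connectedness in codimension `d - 1`. -/
theorem exists_chain_minimalPrimes [ConnectedSpace (PrimeSpectrum R)] (d : ℕ) (hd : 1 ≤ d)
    (h : ∀ p : PrimeSpectrum R, (d : ℕ∞) ≤ p.asIdeal.height →
      (2 : ℕ∞) ≤ _root_.LocCoh.depth (Localization.AtPrime p.asIdeal) (Localization.AtPrime p.asIdeal))
    (p' p'' : PrimeSpectrum R) (hp' : p'.asIdeal ∈ minimalPrimes R)
    (hp'' : p''.asIdeal ∈ minimalPrimes R) :
    ∃ l : List (PrimeSpectrum R), l.head? = some p' ∧ l.getLast? = some p'' ∧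
      (∀ p ∈ l, p.asIdeal ∈ minimalPrimes R) ∧
      List.IsChain (fun p q => ∃ r : PrimeSpectrum R, p ≤ r ∧ q ≤ r ∧ r.asIdeal.height ≤ (d - 1 : ℕ)) l := by
  classical
  let E : PrimeSpectrum R → PrimeSpectrum R → Prop := fun p q =>
    q.asIdeal ∈ minimalPrimes R ∧ ∃ r : PrimeSpectrum R, p ≤ r ∧ q ≤ r ∧ r.asIdeal.height ≤ (d - 1 : ℕ)
  suffices hreach : Relation.ReflTransGen E p' p'' by
    obtain ⟨l, hl, hlast⟩ := List.exists_isChain_cons_of_relationReflTransGen hreach
    refine ⟨p' :: l, rfl, ?_, ?_, hl.imp fun a b hab => hab.2⟩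
    · rw [List.getLast?_eq_some_getLast (List.cons_ne_nil _ _), hlast]
    · exact hl.induction (fun p => p.asIdeal ∈ minimalPrimes R) _ (fun {x y} hxy _ => hxy.1)
        (fun _ => hp')
  by_contra hcon
  let C : Set (PrimeSpectrum R) := {q | Relation.ReflTransGen E p' q}
  have hfin : {q : PrimeSpectrum R | q.asIdeal ∈ minimalPrimes R}.Finite :=
    (minimalPrimes.finite_of_isNoetherianRing R).preimage fun a _ b _ h => PrimeSpectrum.ext h
  let s := hfin.toFinset.filter (· ∈ C)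
  let t := hfin.toFinset.filter (· ∉ C)
  let a := s.inf fun q => q.asIdeal
  let b := t.inf fun q => q.asIdeal
  obtain ⟨x, -, hxa, hxb⟩ : (Set.univ ∩ (PrimeSpectrum.zeroLocus (a : Set R) ∩
      PrimeSpectrum.zeroLocus (b : Set R))).Nonempty := by
    refine isPreconnected_closed_iff.mp isPreconnected_univ _ _ (PrimeSpectrum.isClosed_zeroLocus _)
      (PrimeSpectrum.isClosed_zeroLocus _) (fun x _ => ?_) ⟨p', trivial, ?_⟩ ⟨p'', trivial, ?_⟩
    · obtain ⟨q, hq, hqx⟩ := Ideal.exists_minimalPrimes_le (I := (⊥ : Ideal R)) (J := x.asIdeal) bot_le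
      by_cases hC : (⟨q, hq.1.1⟩ : PrimeSpectrum R) ∈ C
      · exact Or.inl ((PrimeSpectrum.mem_zeroLocus _ _).mpr ((Finset.inf_le
          (f := fun q : PrimeSpectrum R => q.asIdeal) (show (⟨q, hq.1.1⟩ : PrimeSpectrum R) ∈ s from
            Finset.mem_filter.mpr ⟨hfin.mem_toFinset.mpr hq, hC⟩)).trans hqx))
      · exact Or.inr ((PrimeSpectrum.mem_zeroLocus _ _).mpr ((Finset.inf_le
          (f := fun q : PrimeSpectrum R => q.asIdeal) (show (⟨q, hq.1.1⟩ : PrimeSpectrum R) ∈ t from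
            Finset.mem_filter.mpr ⟨hfin.mem_toFinset.mpr hq, hC⟩)).trans hqx))
    · exact (PrimeSpectrum.mem_zeroLocus _ _).mpr (Finset.inf_le (f := fun q : PrimeSpectrum R => q.asIdeal)
        (show p' ∈ s from Finset.mem_filter.mpr ⟨hfin.mem_toFinset.mpr hp', Relation.ReflTransGen.refl⟩))
    · exact (PrimeSpectrum.mem_zeroLocus _ _).mpr (Finset.inf_le (f := fun q : PrimeSpectrum R => q.asIdeal)
        (show p'' ∈ t from Finset.mem_filter.mpr ⟨hfin.mem_toFinset.mpr hp'', hcon⟩))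
  obtain ⟨r, hr, -⟩ := Ideal.exists_minimalPrimes_le (I := a ⊔ b) (J := x.asIdeal)
    (sup_le ((PrimeSpectrum.mem_zeroLocus _ _).mp hxa) ((PrimeSpectrum.mem_zeroLocus _ _).mp hxb))
  have := hr.isPrime
  let rp : PrimeSpectrum R := ⟨r, this⟩
  obtain ⟨q, hq, hqr⟩ := (Ideal.IsPrime.inf_le' this).mp ((le_sup_left : a ≤ a ⊔ b).trans hr.1.2)
  obtain ⟨q', hq', hqr'⟩ := (Ideal.IsPrime.inf_le' this).mp ((le_sup_right : b ≤ a ⊔ b).trans hr.1.2)
  rw [Finset.mem_filter, Set.Finite.mem_toFinset] at hq hq'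
  by_cases hht : (d : ℕ∞) ≤ r.height
  · let L := Localization.AtPrime r
    let ι := PrimeSpectrum.comap (algebraMap R L)
    have hmono : Monotone ι := fun u v huv => Ideal.comap_mono huv
    have lift : ∀ w : PrimeSpectrum R, w ≤ rp → ∃ v : PrimeSpectrum L, ι v = w := by
      intro w hw
      have : w ∈ Set.range ι := by
        rw [PrimeSpectrum.localization_comap_range L r.primeCompl]
        exact Set.disjoint_left.mpr fun a ha haw => ha (hw haw)
      exact this
    have minimal_iff : ∀ v : PrimeSpectrum L, v.asIdeal ∈ minimalPrimes L →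
        (ι v).asIdeal ∈ minimalPrimes R := by
      intro v hv
      obtain ⟨w, hw, hwv⟩ := Ideal.exists_minimalPrimes_le (I := (⊥ : Ideal R)) (J := (ι v).asIdeal)
        bot_le
      have hvr : (ι v).asIdeal ≤ r := by
        have := Ideal.comap_mono (f := algebraMap R L) (le_maximalIdeal v.2.ne_top)
        exact this.trans (IsLocalization.AtPrime.under_maximalIdeal L r).le
      obtain ⟨v', hv'⟩ := lift ⟨w, hw.1.1⟩ (hwv.trans hvr)
      have hle : v'.asIdeal ≤ v.asIdeal := by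
        rw [← IsLocalization.map_under r.primeCompl L v'.asIdeal,
          ← IsLocalization.map_under r.primeCompl L v.asIdeal]
        refine Ideal.map_mono ?_
        have : (ι v').asIdeal = w := congrArg PrimeSpectrum.asIdeal hv'
        exact this.le.trans hwv
      have e : v = v' := PrimeSpectrum.ext (le_antisymm (hv.2 ⟨v'.2, bot_le⟩ hle) hle)
      rw [e, hv']
      exact hw
    have minimal_of : ∀ v : PrimeSpectrum L, (ι v).asIdeal ∈ minimalPrimes R →
        v.asIdeal ∈ minimalPrimes L := fun v hv =>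
      ⟨⟨v.2, bot_le⟩, fun w hw hwv => by
        have hcomap : (v.asIdeal.comap (algebraMap R L)) ≤ w.comap (algebraMap R L) :=
          hv.2 ⟨Ideal.IsPrime.comap (hK := hw.1) _, bot_le⟩ (Ideal.comap_mono hwv)
        rw [← IsLocalization.map_under r.primeCompl L v.asIdeal,
          ← IsLocalization.map_under r.primeCompl L w]
        exact Ideal.map_mono hcomap⟩
    obtain ⟨v, hv⟩ := lift q hqr
    obtain ⟨v', hv'⟩ := lift q' hqr'
    obtain ⟨z, u, u', hz, humin, hu'min, huC, hu'C, huz, hu'z⟩ := exists_prime_above_both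
      (R := L) (h rp hht) (ι ⁻¹' C) v v' (minimal_of v (hv ▸ hq.1)) (show ι v ∈ C from hv ▸ hq.2)
      (minimal_of v' (hv' ▸ hq'.1)) (show ι v' ∉ C from hv' ▸ hq'.2)
    have hzle : (ι z).asIdeal ≤ r := by
      have := Ideal.comap_mono (f := algebraMap R L) (le_maximalIdeal z.2.ne_top)
      exact this.trans (IsLocalization.AtPrime.under_maximalIdeal L r).le
    have hge : r ≤ (ι z).asIdeal := hr.2 ⟨(ι z).2, sup_le
      ((Finset.inf_le (f := fun q : PrimeSpectrum R => q.asIdeal) (show ι u ∈ s from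
        Finset.mem_filter.mpr ⟨hfin.mem_toFinset.mpr (minimal_iff u humin), huC⟩)).trans (hmono huz))
      ((Finset.inf_le (f := fun q : PrimeSpectrum R => q.asIdeal) (show ι u' ∈ t from
        Finset.mem_filter.mpr ⟨hfin.mem_toFinset.mpr (minimal_iff u' hu'min), hu'C⟩)).trans
        (hmono hu'z))⟩ hzle
    refine hz ?_
    rw [← IsLocalization.map_under r.primeCompl L z.asIdeal, ← IsLocalization.AtPrime.map_eq_maximalIdeal r L]
    exact congrArg _ (le_antisymm hzle hge)
  · refine hq'.2 (Relation.ReflTransGen.tail hq.2 ⟨hq'.1, rp, hqr, hqr', ?_⟩)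
    show r.height ≤ _
    have hlt := not_le.mp hht
    obtain ⟨e, rfl⟩ : ∃ e, d = e + 1 := ⟨d - 1, by omega⟩
    rw [Nat.add_sub_cancel]
    exact ENat.lt_add_one_iff (ENat.natCast_ne_top e) |>.mp (by exact_mod_cast hlt)

instance connectedSpace_of_isLocalRing : ConnectedSpace (PrimeSpectrum R) where
  toPreconnectedSpace := ⟨isPreconnected_closed_iff.mpr fun _t _t' ht ht' _ ⟨x, _, hx⟩ ⟨y, _, hy⟩ =>
    ⟨closedPoint R, trivial,
      ((PrimeSpectrum.le_iff_specializes x (closedPoint R)).mp (le_maximalIdeal x.2.ne_top)).mem_closed ht hx,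
      ((PrimeSpectrum.le_iff_specializes y (closedPoint R)).mp (le_maximalIdeal y.2.ne_top)).mem_closed ht' hy⟩⟩
  toNonempty := ⟨closedPoint R⟩

omit [IsNoetherianRing R] in
/-- A longest chain from `p` to the closed point in a catenary local ring. -/
theorem exists_longest_chain (hcat : CAlg.IsCatenary R) (p : PrimeSpectrum R) :
    ∃ c : LTSeries (PrimeSpectrum R), c.head = p ∧ c.last = closedPoint R ∧
      PtTop.Catenary.Saturated c ∧ (c.length : WithBot ℕ∞) = ringKrullDim (R ⧸ p.asIdeal) := by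
  obtain ⟨n, hn⟩ := hcat.1 p (closedPoint R) (le_maximalIdeal p.2.ne_top)
  let T : Set ℕ := {m | ∃ r : LTSeries (PrimeSpectrum R), r.head = p ∧ r.last = closedPoint R ∧
    r.length = m}
  have hT : T.Nonempty := by
    rcases eq_or_lt_of_le (show p ≤ closedPoint R from le_maximalIdeal p.2.ne_top) with h | h
    · exact ⟨_, RelSeries.singleton _ p, rfl, h, rfl⟩
    · exact ⟨_, (RelSeries.singleton _ p).snoc (closedPoint R) h, rfl, RelSeries.last_snoc _ _ _, rfl⟩
  have hbdd : BddAbove T := ⟨n, fun m ⟨r, h1, h2, h3⟩ => h3 ▸ hn r h1 h2⟩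
  obtain ⟨c, hc1, hc2, hc3⟩ := Nat.sSup_mem hT hbdd
  refine ⟨c, hc1, hc2, PtTop.Catenary.saturated_of_longest c fun u h1 h2 =>
    hc3 ▸ le_csSup hbdd ⟨u, h1.trans hc1, h2.trans hc2, rfl⟩, ?_⟩
  rw [ringKrullDim_quotient]
  refine le_antisymm ?_ (iSup_le fun t => ?_)
  · let t : LTSeries (PrimeSpectrum.zeroLocus (p.asIdeal : Set R)) :=
      LTSeries.mk c.length (fun i => ⟨c i, (hc1 ▸ c.monotone (Fin.zero_le i) : p ≤ c i)⟩)
        fun i j hij => c.strictMono hij
    exact Order.LTSeries.length_le_krullDim t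
  · let t' : LTSeries (PrimeSpectrum R) := t.map Subtype.val fun _ _ h => h
    suffices h : t'.length ≤ c.length by exact_mod_cast h
    rw [hc3]
    have hge : p ≤ t'.head := t.head.2
    have hle : t'.last ≤ closedPoint R := le_maximalIdeal t'.last.2.ne_top
    rcases eq_or_lt_of_le hge with h1 | h1 <;> rcases eq_or_lt_of_le hle with h2 | h2
    · exact le_csSup hbdd ⟨t', h1.symm, h2, rfl⟩
    · refine le_trans (Nat.le_succ _) (le_csSup hbdd ⟨t'.snoc (closedPoint R) h2, ?_, ?_, rfl⟩)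
      · simpa using h1.symm
      · simp
    · refine le_trans (Nat.le_succ _) (le_csSup hbdd ⟨t'.cons p h1, ?_, ?_, by simp⟩)
      · simp
      · simpa using h2
    · refine le_trans (Nat.le_add_right _ 2) (le_csSup hbdd ⟨(t'.cons p h1).snoc (closedPoint R)
        (show (t'.cons p h1).last < closedPoint R by rw [RelSeries.last_cons]; exact h2), ?_, ?_, by simp⟩)
      · simp
      · simp

omit [IsNoetherianRing R] in
theorem ringKrullDim_quotient_covBy (hcat : CAlg.IsCatenary R) {p q : PrimeSpectrum R} (h : p ⋖ q) :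
    ringKrullDim (R ⧸ p.asIdeal) = ringKrullDim (R ⧸ q.asIdeal) + 1 := by
  obtain ⟨a, ha1, ha2, ha3, ha4⟩ := exists_longest_chain hcat p
  obtain ⟨b, hb1, hb2, hb3, hb4⟩ := exists_longest_chain hcat q
  let b' : LTSeries (PrimeSpectrum R) := ⟨b.length + 1, Fin.cons p b, fun i => by
    induction i using Fin.cases with
    | zero => show p < b.head; exact hb1 ▸ h.lt
    | succ i => simpa using b.step i⟩
  have hb' : PtTop.Catenary.Saturated b' := by
    intro i
    induction i using Fin.cases with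
    | zero => show p ⋖ b.head; exact hb1 ▸ h
    | succ i => exact hb3 i
  have e := hcat.2 a b' ha1 (ha2.trans hb2.symm) ha3 hb'
  rw [← ha4, ← hb4, e]
  simp [b']

/-- Catenary local rings with `depth ≥ 2` in height `≥ 2` are equidimensional. -/
theorem ringKrullDim_quotient_minimalPrime (hcat : CAlg.IsCatenary R)
    (h : ∀ p : PrimeSpectrum R, (2 : ℕ∞) ≤ p.asIdeal.height →
      (2 : ℕ∞) ≤ _root_.LocCoh.depth (Localization.AtPrime p.asIdeal) (Localization.AtPrime p.asIdeal))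
    (p : Ideal R) (hp : p ∈ minimalPrimes R) : ringKrullDim (R ⧸ p) = ringKrullDim R := by
  have hp' := hp.1.1
  have key : ∀ q : PrimeSpectrum R, q.asIdeal ∈ minimalPrimes R →
      ringKrullDim (R ⧸ q.asIdeal) = ringKrullDim (R ⧸ p) := by
    intro q hq
    obtain ⟨l, hhead, hlast, hmem, hchain⟩ :=
      exists_chain_minimalPrimes 2 one_le_two h ⟨p, hp'⟩ q hp hq
    have hall : ∀ x ∈ l, ringKrullDim (R ⧸ x.asIdeal) = ringKrullDim (R ⧸ p) := by
      have hchain' : List.IsChain (fun x y : PrimeSpectrum R =>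
          ringKrullDim (R ⧸ x.asIdeal) = ringKrullDim (R ⧸ y.asIdeal)) l := by
        refine List.IsChain.imp_of_mem_imp (fun x y hx hy hxy => ?_) hchain
        obtain ⟨r, hxr, hyr, hht⟩ := hxy
        rcases eq_or_ne x y with rfl | hne
        · rfl
        have cov : ∀ w : PrimeSpectrum R, w.asIdeal ∈ minimalPrimes R → w ≤ r → w ≠ r → w ⋖ r := by
          intro w hw hwr hne
          refine ⟨lt_of_le_of_ne hwr hne, fun z hwz hzr => ?_⟩
          have := w.2; have := z.2
          have h1 := Ideal.height_strict_mono_of_isPrime (show w.asIdeal < z.asIdeal from hwz)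
          have h2 := Ideal.height_strict_mono_of_isPrime (show z.asIdeal < r.asIdeal from hzr)
          have h3 : r.asIdeal.height ≤ 1 := hht
          have h4 := Order.lt_one_iff.mp (h2.trans_le h3)
          rw [h4] at h1
          exact not_lt.mpr (zero_le) h1
        have hmax : ∀ u v : PrimeSpectrum R, u.asIdeal ∈ minimalPrimes R →
            v.asIdeal ∈ minimalPrimes R → u ≤ r → v ≤ r → u = r → v = u := by
          rintro u v hu hv - hvr rfl
          exact PrimeSpectrum.ext (le_antisymm hvr (hu.2 ⟨v.2, bot_le⟩ hvr))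
        rw [ringKrullDim_quotient_covBy hcat (cov x (hmem x hx) hxr fun e =>
            hne (hmax x y (hmem x hx) (hmem y hy) hxr hyr e).symm),
          ringKrullDim_quotient_covBy hcat (cov y (hmem y hy) hyr fun e =>
            hne (hmax y x (hmem y hy) (hmem x hx) hyr hxr e))]
      match l, hhead, hchain' with
      | x :: l', hhead, hchain' =>
        obtain rfl : x = ⟨p, hp'⟩ := by simpa using hhead
        exact hchain'.induction _ _ (fun {a b} hab ha => hab.symm.trans ha) (fun _ => rfl)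
    exact hall q (List.mem_of_getLast? hlast)
  refine le_antisymm (ringKrullDim_quotient_le p) (iSup_le fun l => ?_)
  obtain ⟨q, hq, hql⟩ := Ideal.exists_minimalPrimes_le (I := (⊥ : Ideal R)) (J := l.head.asIdeal) bot_le
  rw [← key ⟨q, hq.1.1⟩ hq, ringKrullDim_quotient]
  let l' : LTSeries (PrimeSpectrum.zeroLocus (q : Set R)) :=
    LTSeries.mk l.length (fun i => ⟨l i, fun a ha => (show l.head ≤ l i from l.monotone (Fin.zero_le i)) (hql ha)⟩)
      fun i j hij => l.strictMono hij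
  exact Order.LTSeries.length_le_krullDim l'

end Groth.Agent.LocCoh
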