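import Groth.Agent.LocCoh.TorsionInjective
import Groth.Agent.Depth.Local

/-!
# Vanishing of local cohomology below the depth

* `subsingleton_H_of_lt_idealDepth`, `nontrivial_H_idealDepth`, `idealDepth_eq_iff_H`;
* `subsingleton_ext_of_forall_subsingleton_H`, `subsingleton_H_of_forall_subsingleton_ext`:
  vanishing of `Hⁱ_J(G)` for `i < n` against vanishing of `Extⁱ(F, G)`, `G` arbitrary.
-/

universe u

open CategoryTheory Limits

namespace Groth.Agent.LocCoh

variable {R : Type u} [CommRing R]

/-- A power torsion module on which some element of the ideal acts injectively is zero. -/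
theorem eq_zero_of_isPowerTorsion_of_isSMulRegular {I : Ideal R} {N : Type u} [AddCommGroup N]
    [Module R N] (hN : _root_.LocCoh.IsPowerTorsion I N) {x : R} (hx : x ∈ I)
    (hreg : ∀ y : N, x • y = 0 → y = 0) (y : N) : y = 0 := by
  obtain ⟨n, hn⟩ := hN y
  have h : x ^ n • y = 0 := hn _ (Ideal.pow_mem_pow hx n)
  clear hn
  induction n with
  | zero => simpa using h
  | succ n ih =>
    rw [pow_succ', mul_smul] at h
    exact ih (hreg _ h)

/-- `H^{i+1}` of a module with vanishing `Hⁱ` of `M/xM` has injective multiplication by `x`. -/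
theorem subsingleton_H_succ_of_isSMulRegular (I : Ideal R) {M : ModuleCat.{u} R} {x : R} (hx : x ∈ I)
    (hreg : IsSMulRegular M x) (i : ℕ)
    (h : Subsingleton ((localCohomology I i).obj (M.smulShortComplex x).X₃)) :
    Subsingleton ((localCohomology I (i + 1)).obj M) := by
  refine subsingleton_of_forall_eq 0 fun y => ?_
  refine eq_zero_of_isPowerTorsion_of_isSMulRegular (isPowerTorsion_H (i := i + 1) M) hx
    (fun z hz => ?_) y
  have hz' : ((localCohomology I (i + 1)).map (M.smulShortComplex x).f).hom z = 0 :=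
    (map_smul_id x M z).trans hz
  obtain ⟨w, rfl⟩ := (exact₁ (I := I) (i := i) hreg.smulShortComplex_shortExact z).mp hz'
  rw [h.elim w 0]
  exact map_zero _

theorem nontrivial_H_zero_of_idealDepth_eq_zero [IsNoetherianRing R] (I : Ideal R) (M : Type u)
    [AddCommGroup M] [Module R M] [Module.Finite R M] (h : _root_.LocCoh.idealDepth I M = 0) :
    Nontrivial (_root_.LocCoh.H I 0 M) := by
  obtain ⟨p, hp, hle⟩ := Depth.idealDepth_eq_zero_iff.mp h
  obtain ⟨hprime, x, rfl⟩ := isAssociatedPrime_iff.mp hp
  have hx0 : x ≠ 0 := fun e => hprime.ne_top ((Ideal.eq_top_iff_one _).mpr (by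
    rw [Submodule.mem_colon_singleton]; simp [e]))
  have hxt : x ∈ DRing.torsionSub I M := ⟨1, fun a ha => by
    simpa [Submodule.mem_colon_singleton] using hle (by simpa using ha)⟩
  have : Nontrivial (DRing.torsionSub I (ModuleCat.of R M)) :=
    nontrivial_of_ne (⟨x, hxt⟩ : DRing.torsionSub I M) 0 fun e => hx0 (congrArg Subtype.val e)
  exact (H0Equiv I (ModuleCat.of R M)).toEquiv.nontrivial

/-- `Hⁱ_I(M) = 0` for `i < depth_I M`, and `H^d_I(M) ≠ 0` for `d = depth_I M`. -/
theorem H_of_idealDepth_eq [IsNoetherianRing R] (I : Ideal R) : ∀ (d : ℕ) (M : Type u)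
    [AddCommGroup M] [Module R M] [Module.Finite R M], _root_.LocCoh.idealDepth I M = d →
      (∀ i < d, Subsingleton (_root_.LocCoh.H I i M)) ∧ Nontrivial (_root_.LocCoh.H I d M) := by
  intro d
  induction d with
  | zero =>
    intro M _ _ _ h
    exact ⟨fun i hi => absurd hi (Nat.not_lt_zero i),
      nontrivial_H_zero_of_idealDepth_eq_zero I M (by simpa using h)⟩
  | succ d ih =>
    intro M _ _ _ h
    obtain ⟨x, hx, hreg⟩ := Depth.exists_isSMulRegular_of_one_le_idealDepth
      (I := I) (M := M) (by rw [h]; simp)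
    have hq : _root_.LocCoh.idealDepth I (QuotSMulTop x M) = d := by
      have e := Depth.idealDepth_quotSMulTop_add_one (M := M) hx hreg
      rw [h, Nat.cast_succ] at e
      exact (WithTop.add_right_inj ENat.one_ne_top).mp e
    obtain ⟨h1, h2⟩ := ih (QuotSMulTop x M) hq
    have hS := IsSMulRegular.smulShortComplex_shortExact (M := ModuleCat.of R M) hreg
    have hsub : ∀ i < d + 1, Subsingleton ((localCohomology I i).obj (ModuleCat.of R M)) := by
      rintro (- | i) hi
      · refine subsingleton_of_forall_eq 0 fun y => ?_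
        refine eq_zero_of_isPowerTorsion_of_isSMulRegular (isPowerTorsion_H (i := 0) _) hx
          (fun z hz => ?_) y
        exact (injective_iff_map_eq_zero _).mp (injective_map_zero (I := I) hS) z
          ((map_smul_id x (ModuleCat.of R M) z).trans hz)
      · exact subsingleton_H_succ_of_isSMulRegular I hx hreg i (h1 i (by omega))
    refine ⟨hsub, ?_⟩
    have := h2
    have hinj : Function.Injective (δH (I := I) d hS) :=
      (injective_iff_map_eq_zero _).mpr fun y hy => by
        obtain ⟨w, rfl⟩ := (exact₃ (I := I) (i := d) hS y).mp hy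
        rw [show w = 0 from (hsub d (Nat.lt_succ_self d)).elim _ _]
        exact map_zero _
    exact @Function.Injective.nontrivial _ _ h2 _ hinj

theorem idealDepth_eq_iff_H [IsNoetherianRing R] (I : Ideal R) (M : Type u) [AddCommGroup M]
    [Module R M] [Module.Finite R M] (hIM : I • (⊤ : Submodule R M) ≠ ⊤) (n : ℕ) :
    _root_.LocCoh.idealDepth I M = n ↔
      (∀ i : ℕ, i < n → Subsingleton (_root_.LocCoh.H I i M)) ∧
        Nontrivial (_root_.LocCoh.H I n M) := by
  refine ⟨fun h => H_of_idealDepth_eq I n M h, fun ⟨h1, h2⟩ => ?_⟩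
  obtain ⟨d, hd⟩ := ENat.ne_top_iff_exists.mp (Depth.idealDepth_lt_top (I := I) hIM).ne
  obtain ⟨h3, h4⟩ := H_of_idealDepth_eq I d M hd.symm
  rcases lt_trichotomy d n with h | h | h
  · exact absurd (h1 d h) (not_subsingleton_iff_nontrivial.mpr h4)
  · rw [← hd, h]
  · exact absurd (h3 n h) (not_subsingleton_iff_nontrivial.mpr h2)

section Ext

variable [IsNoetherianRing R] {J : Ideal R}

theorem pow_le_annihilator_of_support_subset {F : Type u} [AddCommGroup F] [Module R F]
    [Module.Finite R F] (hF : Module.support R F ⊆ PrimeSpectrum.zeroLocus (J : Set R)) :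
    ∃ k : ℕ, J ^ k ≤ Module.annihilator R F := by
  rw [Module.support_eq_zeroLocus, PrimeSpectrum.zeroLocus_subset_zeroLocus_iff] at hF
  exact Ideal.exists_pow_le_of_le_radical_of_fg hF (IsNoetherian.noetherian J)

omit [IsNoetherianRing R] in
theorem subsingleton_hom_of_torsionSub_eq_bot {F : ModuleCat.{u} R} {N : ModuleCat.{u} R} {k : ℕ}
    (hk : J ^ k ≤ Module.annihilator R F) (hN : DRing.torsionSub J N = ⊥) :
    Subsingleton (Abelian.Ext F N 0) := by
  have : Subsingleton (F ⟶ N) := subsingleton_of_forall_eq 0 fun f => by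
    ext x
    have : f.hom x ∈ DRing.torsionSub J N := ⟨k, fun a ha => by
      rw [← map_smul, Module.mem_annihilator.mp (hk ha) x, map_zero]⟩
    rw [hN] at this
    simpa using this
  exact Abelian.Ext.homEquiv₀.subsingleton

theorem torsionSub_eq_bot_of_subsingleton_hom {F : Type u} [AddCommGroup F] [Module R F]
    [Module.Finite R F] (hF : PrimeSpectrum.zeroLocus (J : Set R) ⊆ Module.support R F)
    (N : ModuleCat.{u} R) (h : Subsingleton (Abelian.Ext (ModuleCat.of R F) N 0)) :
    DRing.torsionSub J N = ⊥ := by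
  refine eq_bot_iff.mpr fun x hx => ?_
  have h0 : Subsingleton (ModuleCat.of R F ⟶ N) := Abelian.Ext.homEquiv₀.symm.subsingleton
  have h1 : Subsingleton (F →ₗ[R] Submodule.span R {x}) := subsingleton_of_forall_eq 0 fun f => by
    ext y
    have e := congrArg (fun g : ModuleCat.of R F ⟶ N => g.hom y)
      (h0.elim (ModuleCat.ofHom ((Submodule.span R {x}).subtype ∘ₗ f)) 0)
    simpa using e
  obtain ⟨a, ha, hreg⟩ := IsSMulRegular.subsingleton_linearMap_iff.mp h1
  have haJ : a ∈ J.radical := by
    rw [Module.support_eq_zeroLocus, PrimeSpectrum.zeroLocus_subset_zeroLocus_iff] at hF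
    exact hF ha
  obtain ⟨N', hN'⟩ := haJ
  obtain ⟨k, hk⟩ := hx
  have : (a ^ N') ^ k • (⟨x, Submodule.mem_span_singleton_self x⟩ : Submodule.span R {x}) = 0 :=
    Subtype.ext (hk _ (Ideal.pow_mem_pow hN' k))
  have hx0 := ((hreg.pow N').pow k) (this.trans (smul_zero _).symm)
  simpa using congrArg Subtype.val hx0

/-- A module without torsion embeds into an injective module without torsion. -/
theorem exists_mono_injective_torsionSub_eq_bot (G : ModuleCat.{u} R)
    (hG : DRing.torsionSub J G = ⊥) :
    ∃ (E : ModuleCat.{u} R) (f : G ⟶ E), Mono f ∧ Injective E ∧ DRing.torsionSub J E = ⊥ := by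
  let E₀ : ModuleCat.{u} R := Injective.under G
  have hT := injective_torsionSub J E₀
  let T : Submodule R E₀ := DRing.torsionSub J E₀
  let inc : ModuleCat.of R T ⟶ E₀ := ModuleCat.ofHom T.subtype
  have : Mono inc := (ModuleCat.mono_iff_injective _).mpr (Submodule.injective_subtype _)
  obtain ⟨r, hr⟩ : ∃ r : E₀ ⟶ ModuleCat.of R T, inc ≫ r = 𝟙 _ :=
    ⟨Injective.factorThru (𝟙 _) inc, Injective.comp_factorThru _ _⟩
  refine ⟨ModuleCat.of R (E₀ ⧸ T), Injective.ι G ≫ ModuleCat.ofHom T.mkQ, ?_, ?_, ?_⟩
  · refine (ModuleCat.mono_iff_injective _).mpr ((injective_iff_map_eq_zero _).mpr fun y hy => ?_)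
    have hy' : (Injective.ι G).hom y ∈ T := (Submodule.Quotient.mk_eq_zero T).mp hy
    obtain ⟨n, hn⟩ := hy'
    have : y ∈ DRing.torsionSub J G := ⟨n, fun a ha =>
      (ModuleCat.mono_iff_injective (Injective.ι G)).mp inferInstance
        (((Injective.ι G).hom.map_smul a y).trans ((hn a ha).trans (map_zero _).symm))⟩
    rw [hG] at this
    simpa using this
  · let s : (E₀ ⧸ T) →ₗ[R] E₀ := T.liftQ (LinearMap.id - T.subtype ∘ₗ r.hom) fun t ht => by
      have : r.hom t = ⟨t, ht⟩ := congrArg (fun g : ModuleCat.of R T ⟶ _ => g.hom ⟨t, ht⟩) hr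
      rw [LinearMap.mem_ker, LinearMap.sub_apply, LinearMap.id_apply, LinearMap.comp_apply, this,
        Submodule.subtype_apply, sub_self]
    have hs : T.mkQ ∘ₗ s = LinearMap.id := by
      ext y
      simp [s]
    exact Retract.injective (Y := E₀)
      { i := ModuleCat.ofHom s
        r := ModuleCat.ofHom T.mkQ
        retract := ModuleCat.hom_ext hs }
  · refine eq_bot_iff.mpr fun y hy => ?_
    obtain ⟨z, rfl⟩ := Submodule.mkQ_surjective T y
    obtain ⟨n, hn⟩ := hy
    obtain ⟨s, hs⟩ := IsNoetherian.noetherian (J ^ n)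
    have hsub : ∀ a ∈ J ^ n, a • z ∈ T := fun a ha =>
      (Submodule.Quotient.mk_eq_zero T).mp (hn a ha)
    obtain ⟨m, hm⟩ := exists_common_pow (I := J) s (fun a => a • z)
      fun a ha => hsub a (hs ▸ Submodule.subset_span ha)
    refine (Submodule.Quotient.mk_eq_zero T).mpr ⟨m + n, fun a ha => ?_⟩
    rw [pow_add] at ha
    induction ha using Submodule.mul_induction_on' with
    | mem_mul_mem b hb c hc =>
      rw [mul_smul]
      rw [← hs] at hc
      induction hc using Submodule.span_induction with
      | mem t ht => exact hm t ht b hb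
      | zero => simp
      | add _ _ _ _ h₁ h₂ => rw [add_smul, smul_add, h₁, h₂, add_zero]
      | smul t _ _ h₁ => rw [smul_eq_mul, mul_smul, smul_comm, h₁, smul_zero]
    | add _ _ _ _ h₁ h₂ => rw [add_smul, h₁, h₂, add_zero]

omit [IsNoetherianRing R] in
/-- `Extⁱ(F, Q) = 0 ↔ Ext^{i+1}(F, G) = 0` when `Hom(F, E) = 0`, `E` injective. -/
theorem subsingleton_ext_shift {S : ShortComplex (ModuleCat.{u} R)} (hS : S.ShortExact)
    [Injective S.X₂] {F : ModuleCat.{u} R} (h0 : Subsingleton (Abelian.Ext F S.X₂ 0)) (i : ℕ) :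
    Subsingleton (Abelian.Ext F S.X₃ i) ↔ Subsingleton (Abelian.Ext F S.X₁ (i + 1)) := by
  have h2 : ∀ j, Subsingleton (Abelian.Ext F S.X₂ j) := by
    rintro (- | j)
    · exact h0
    · exact subsingleton_of_forall_eq 0 fun e => e.eq_zero_of_injective
  constructor <;> intro h
  · refine subsingleton_of_forall_eq 0 fun x => ?_
    obtain ⟨y, rfl⟩ := Abelian.Ext.covariant_sequence_exact₁ _ hS x ((h2 _).elim _ _) rfl
    rw [h.elim y 0]
    simp
  · exact Depth.subsingleton_ext_X₃ hS (h2 i) h

omit [IsNoetherianRing R] in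
theorem subsingleton_H_shift {S : ShortComplex (ModuleCat.{u} R)} (hS : S.ShortExact)
    [Injective S.X₂] (h0 : DRing.torsionSub J S.X₂ = ⊥) (i : ℕ) :
    Subsingleton ((localCohomology J i).obj S.X₃) ↔
      Subsingleton ((localCohomology J (i + 1)).obj S.X₁) := by
  have h2 : ∀ j, Subsingleton ((localCohomology J j).obj S.X₂) := by
    rintro (- | j)
    · have : Subsingleton (DRing.torsionSub J S.X₂) := by rw [h0]; infer_instance
      exact (H0Equiv J S.X₂).toEquiv.subsingleton
    · exact subsingleton_H_succ_of_injective S.X₂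
  refine ⟨fun h => subsingleton_of_forall_eq 0 fun x => ?_,
    fun h => subsingleton_of_forall_eq 0 fun x => ?_⟩
  · obtain ⟨y, rfl⟩ := (exact₁ (I := J) (i := i) hS x).mp ((h2 _).elim _ _)
    rw [h.elim y 0]
    exact map_zero _
  · obtain ⟨y, rfl⟩ := (exact₃ (I := J) (i := i) hS x).mp (h.elim _ _)
    rw [(h2 i).elim y 0]
    exact map_zero _

omit [IsNoetherianRing R] in
theorem torsionSub_eq_bot_of_subsingleton_H_zero {G : ModuleCat.{u} R}
    (h : Subsingleton ((localCohomology J 0).obj G)) : DRing.torsionSub J G = ⊥ := by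
  have : Subsingleton (DRing.torsionSub J G) := (H0Equiv J G).symm.toEquiv.subsingleton
  exact Submodule.eq_bot_of_subsingleton

/-- The cosyzygy used for dimension shifting. -/
theorem exists_shift (G : ModuleCat.{u} R) (hG : DRing.torsionSub J G = ⊥) :
    ∃ Q : ModuleCat.{u} R,
      (∀ i, Subsingleton ((localCohomology J i).obj Q) ↔
        Subsingleton ((localCohomology J (i + 1)).obj G)) ∧
      ∀ (F : ModuleCat.{u} R) (k : ℕ), J ^ k ≤ Module.annihilator R F → ∀ i,
        (Subsingleton (Abelian.Ext F Q i) ↔ Subsingleton (Abelian.Ext F G (i + 1))) := by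
  obtain ⟨E, f, hf, hE, hEt⟩ := exists_mono_injective_torsionSub_eq_bot G hG
  let S := ShortComplex.mk f (cokernel.π f) (cokernel.condition f)
  have hS : S.ShortExact := { exact := ShortComplex.exact_cokernel f }
  have : Injective S.X₂ := hE
  exact ⟨cokernel f, fun i => subsingleton_H_shift hS hEt i, fun F k hk i =>
    subsingleton_ext_shift hS (subsingleton_hom_of_torsionSub_eq_bot hk hEt) i⟩

theorem subsingleton_ext_of_forall_subsingleton_H : ∀ (n : ℕ) (G : ModuleCat.{u} R),
    (∀ i < n, Subsingleton ((localCohomology J i).obj G)) →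
    ∀ (F : ModuleCat.{u} R) (k : ℕ), J ^ k ≤ Module.annihilator R F →
      ∀ i < n, Subsingleton (Abelian.Ext F G i) := by
  intro n
  induction n with
  | zero => exact fun G _ F k _ i hi => absurd hi (Nat.not_lt_zero i)
  | succ n ih =>
    intro G h F k hk i hi
    have hG := torsionSub_eq_bot_of_subsingleton_H_zero (h 0 n.succ_pos)
    cases i with
    | zero => exact subsingleton_hom_of_torsionSub_eq_bot hk hG
    | succ i =>
      obtain ⟨Q, hQH, hQE⟩ := exists_shift G hG
      exact (hQE F k hk i).mp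
        (ih Q (fun j hj => (hQH j).mpr (h (j + 1) (by omega))) F k hk i (by omega))

theorem subsingleton_H_of_forall_subsingleton_ext (F : Type u) [AddCommGroup F] [Module R F]
    [Module.Finite R F] (hF : Module.support R F = PrimeSpectrum.zeroLocus (J : Set R)) :
    ∀ (n : ℕ) (G : ModuleCat.{u} R),
      (∀ i < n, Subsingleton (Abelian.Ext (ModuleCat.of R F) G i)) →
      ∀ i < n, Subsingleton ((localCohomology J i).obj G) := by
  intro n
  induction n with
  | zero => exact fun G _ i hi => absurd hi (Nat.not_lt_zero i)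
  | succ n ih =>
    intro G h i hi
    have hG := torsionSub_eq_bot_of_subsingleton_hom hF.ge G (h 0 n.succ_pos)
    cases i with
    | zero =>
      have : Subsingleton (DRing.torsionSub J G) := by rw [hG]; infer_instance
      exact (H0Equiv J G).toEquiv.subsingleton
    | succ i =>
      obtain ⟨Q, hQH, hQE⟩ := exists_shift G hG
      obtain ⟨k, hk⟩ := pow_le_annihilator_of_support_subset hF.le
      exact (hQH i).mp (ih Q (fun j hj => (hQE (ModuleCat.of R F) k hk j).mpr (h (j + 1) (by omega)))
        i (by omega))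

end Ext

end Groth.Agent.LocCoh
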