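import Groth.Agent.LocCoh.DepthVanishing
import Groth.Agent.KoszulCech.Main

/-!
# Local cohomology and the direct limit of Koszul cohomology
-/

universe u

open CategoryTheory CategoryTheory.Limits

namespace Groth.Agent.LocCoh

open KoszulCech (limH tors Env toEnv)

variable {A : Type u} [CommRing A] [IsNoetherianRing A] (fs : List A)


theorem tors_eq_torsionSub (M : Type u) [AddCommGroup M] [Module A M] :
    tors fs M = DRing.torsionSub (Ideal.span {a : A | a ∈ fs}) M := by
  ext x
  refine ⟨fun h => ?_, fun ⟨n, hn⟩ f hf => ⟨n, hn _ (Ideal.pow_mem_pow (Ideal.subset_span (s := {a : A | a ∈ fs}) hf) n)⟩⟩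
  have hle : (Ideal.span {a : A | a ∈ fs}) ≤ ((⊥ : Submodule A M).colon {x}).radical := Ideal.span_le.mpr fun f hf => by
    obtain ⟨k, hk⟩ := h f hf
    exact ⟨k, Submodule.mem_colon_singleton.mpr ((Submodule.mem_bot A).mpr hk)⟩
  obtain ⟨n, hn⟩ := Ideal.exists_pow_le_of_le_radical_of_fg hle (IsNoetherian.noetherian (Ideal.span {a : A | a ∈ fs}))
  exact ⟨n, fun a ha => (Submodule.mem_bot A).mp (Submodule.mem_colon_singleton.mp (hn ha))⟩

omit [IsNoetherianRing A] in
theorem subsingleton_koszul_of_injective_torsionfree (E : Type u) [AddCommGroup E] [Module A E]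
    (hE : Injective (ModuleCat.of A E)) (h0 : tors fs E = ⊥) (n : ℕ) (k : ℤ) :
    Subsingleton ((CohIII.koszulCx (ModuleCat.of A E) (fs.map (· ^ n))).homology k) := by
  classical
  let f : {a // a ∈ fs} → A := Subtype.val
  have hf : ∀ a, a ∈ fs ↔ ∃ i, f i = a := fun a => ⟨fun h => ⟨⟨a, h⟩, rfl⟩, fun ⟨i, hi⟩ => hi ▸ i.2⟩
  let t : ModuleCat.of A E ⟶ ModuleCat.of A (Env f E) := ModuleCat.ofHom (toEnv f E)
  have : Mono t := (ModuleCat.mono_iff_injective _).mpr (KoszulCech.toEnv_injective (f := f) (fs := fs) (M := E) hf h0)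
  let r := Injective.factorThru (𝟙 (ModuleCat.of A E)) t
  have htr : t ≫ r = 𝟙 _ := Injective.comp_factorThru _ t
  have hsub := KoszulCech.env_acyclic f fs E hf n k
  refine subsingleton_of_forall_eq 0 fun x => ?_
  have h := congrArg (fun g => HomologicalComplex.homologyMap (KoszulCech.kosMap g (fs.map (· ^ n))) k) htr
  simp only [KoszulCech.kosMap_comp, KoszulCech.kosMap_id, HomologicalComplex.homologyMap_comp,
    HomologicalComplex.homologyMap_id] at h
  refine (congrArg (fun g => g.hom x) h).symm.trans ?_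
  show (HomologicalComplex.homologyMap (KoszulCech.kosMap r (fs.map (· ^ n))) k).hom _ = 0
  exact (congrArg _ (hsub.elim _ 0)).trans (map_zero _)

theorem subsingleton_limH_of_injective (M : Type u) [AddCommGroup M] [Module A M] (hM : Injective (ModuleCat.of A M))
    (i : ℤ) (hi : -(fs.length : ℤ) < i) : Subsingleton (limH fs (ModuleCat.of A M) i) := by
  obtain ⟨e⟩ := KoszulCech.nonempty_limH_quot fs M i (by omega) (by omega)
  have hq : tors fs (M ⧸ tors fs M) = ⊥ := KoszulCech.tors_quot_eq_bot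
  have hinj : Injective (ModuleCat.of A (M ⧸ tors fs M)) := by
    let inc : ModuleCat.of A (tors fs M) ⟶ ModuleCat.of A M := ModuleCat.ofHom (tors fs M).subtype
    have hT : Injective (ModuleCat.of A (tors fs M)) := by
      rw [tors_eq_torsionSub]; exact injective_torsionSub (Ideal.span {a : A | a ∈ fs}) (ModuleCat.of A M)
    have : Mono inc := (ModuleCat.mono_iff_injective _).mpr Subtype.val_injective
    let r := Injective.factorThru (𝟙 (ModuleCat.of A (tors fs M))) inc
    have hr : ∀ z : tors fs M, r.hom z.1 = z := fun z =>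
      congrArg (fun g => g.hom z) (Injective.comp_factorThru (𝟙 _) inc)
    let σ : M →ₗ[A] M := LinearMap.id - (tors fs M).subtype ∘ₗ r.hom
    have hσ : tors fs M ≤ LinearMap.ker σ := fun z hz => by
      show z - (r.hom z : tors fs M).1 = 0
      rw [hr ⟨z, hz⟩, sub_self]
    refine Retract.injective (Y := ModuleCat.of A M)
      ⟨ModuleCat.ofHom (Submodule.liftQ _ σ hσ), ModuleCat.ofHom (tors fs M).mkQ, ?_⟩
    refine ModuleCat.hom_ext (Submodule.linearMap_qext _ (LinearMap.ext fun z => ?_))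
    show (tors fs M).mkQ (z - (r.hom z : tors fs M).1) = (tors fs M).mkQ z
    rw [map_sub, Submodule.mkQ_apply, Submodule.mkQ_apply, (Submodule.Quotient.mk_eq_zero _).mpr (r.hom z).2, sub_zero]
  refine e.toEquiv.subsingleton_congr.mpr ⟨fun a b => ?_⟩
  obtain ⟨n, x, rfl⟩ := Module.DirectLimit.exists_of a
  obtain ⟨m, y, rfl⟩ := Module.DirectLimit.exists_of b
  rw [(subsingleton_koszul_of_injective_torsionfree fs _ hinj hq n i).elim x 0,
    (subsingleton_koszul_of_injective_torsionfree fs _ hinj hq m i).elim y 0, map_zero, map_zero]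

theorem nonempty_H_equiv_limH : ∀ (i : ℕ) (M : Type u) [AddCommGroup M] [Module A M],
    Nonempty (_root_.LocCoh.H (Ideal.span {a : A | a ∈ fs}) i M ≃ₗ[A] limH fs (ModuleCat.of A M) ((i : ℤ) - fs.length)) := by
  intro i
  induction i with
  | zero =>
    intro M _ _
    obtain ⟨e⟩ := KoszulCech.limH_bot fs (ModuleCat.of A M) (((0 : ℕ) : ℤ) - fs.length) (by simp)
    exact ⟨((H0Equiv (Ideal.span {a : A | a ∈ fs}) (ModuleCat.of A M)).trans (LinearEquiv.ofEq _ _ (tors_eq_torsionSub fs M).symm)).trans e.symm⟩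
  | succ i ih =>
    intro M _ _
    obtain ⟨e⟩ := KoszulCech.nonempty_limH_quot fs M (((i + 1 : ℕ) : ℤ) - fs.length) (by omega) (by omega)
    have hq : tors fs (M ⧸ tors fs M) = ⊥ := KoszulCech.tors_quot_eq_bot
    have e1 : _root_.LocCoh.H (Ideal.span {a : A | a ∈ fs}) (i + 1) M ≃ₗ[A] _root_.LocCoh.H (Ideal.span {a : A | a ∈ fs}) (i + 1) (M ⧸ tors fs M) :=
      (LinearEquiv.ofBijective _ (bijective_map_mkQ (Ideal.span {a : A | a ∈ fs}) M i)).trans
        (HLinearEquiv (Ideal.span {a : A | a ∈ fs}) (i + 1) (Submodule.quotEquivOfEq _ _ (tors_eq_torsionSub fs M).symm))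
    obtain ⟨E, g, hg, hE, hEt⟩ := exists_mono_injective_torsionSub_eq_bot (J := (Ideal.span {a : A | a ∈ fs}))
      (ModuleCat.of A (M ⧸ tors fs M)) (by
        show DRing.torsionSub (Ideal.span {a : A | a ∈ fs}) (M ⧸ tors fs M) = ⊥
        rw [← tors_eq_torsionSub, hq])
    let S := ShortComplex.mk g (cokernel.π g) (cokernel.condition g)
    have hS : S.ShortExact := { exact := ShortComplex.exact_cokernel g }
    have hH : ∀ j, Subsingleton ((localCohomology (Ideal.span {a : A | a ∈ fs}) j).obj S.X₂) := by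
      rintro (- | j)
      · have : Subsingleton (DRing.torsionSub (Ideal.span {a : A | a ∈ fs}) S.X₂) := by rw [hEt]; infer_instance
        exact (H0Equiv (Ideal.span {a : A | a ∈ fs}) S.X₂).toEquiv.subsingleton
      · exact @subsingleton_H_succ_of_injective A _ (Ideal.span {a : A | a ∈ fs}) j S.X₂ hE
    have e2 : _root_.LocCoh.H (Ideal.span {a : A | a ∈ fs}) i (cokernel g : ModuleCat.{u} A) ≃ₗ[A] _root_.LocCoh.H (Ideal.span {a : A | a ∈ fs}) (i + 1) (M ⧸ tors fs M) :=
      LinearEquiv.ofBijective (δH i hS) ⟨(injective_iff_map_eq_zero _).mpr fun x hx => by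
        obtain ⟨y, rfl⟩ := (exact₃ hS x).mp hx
        rw [(hH i).elim y 0, map_zero], fun y => (exact₁ hS y).mp ((hH (i + 1)).elim _ _)⟩
    obtain ⟨e3⟩ := ih (cokernel g : ModuleCat.{u} A)
    have hP : ∀ (n : ℕ) (k : ℤ), Subsingleton ((CohIII.koszulCx S.X₂ (fs.map (· ^ n))).homology k) :=
      subsingleton_koszul_of_injective_torsionfree fs (E : Type u) hE ((tors_eq_torsionSub fs E).trans hEt)
    obtain ⟨e4⟩ := KoszulCech.limH_δ_equiv fs hS ((i : ℤ) - fs.length) (((i + 1 : ℕ) : ℤ) - fs.length)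
      (by omega) hP
    exact ⟨((e1.trans e2.symm).trans (e3.trans e4)).trans e.symm⟩

end Groth.Agent.LocCoh
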