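import Groth.Agent.KoszulCech.Scheme
import Groth.Agent.LocCoh.KoszulLim
import Groth.Agent.CohTop.Restrict
import Groth.Agent.QCoh.Basic
import Groth.Prelude.Def_Wider

/-!
# Cohomology of quasi-coherent modules on unions of basic opens of an affine scheme
-/

universe u

open CategoryTheory Opposite AlgebraicGeometry
open Groth.Agent.CohAff (inter mlCech)

attribute [local instance] HasDerivedCategory.standard

namespace Groth.Agent.LocCoh.Punctured

open Groth.Agent.KoszulCech

noncomputable section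

variable {R : CommRingCat.{u}} (M : ModuleCat.{u} R) {ι : Type u} (f : ι → R)

/-- the basic opens of a family -/
abbrev dcov : ι → (Spec R).Opens := fun i => PrimeSpectrum.basicOpen (f i)

theorem inter_dcov {n : ℕ} (x : Fin (n + 1) → ι) :
    inter (X := (Spec R).toPresheafedSpace.carrier) (dcov f) x = PrimeSpectrum.basicOpen (tp f x) := by
  apply TopologicalSpace.Opens.ext
  ext p
  simp only [SetLike.mem_coe, CohAff.mem_inter]
  refine Iff.trans ?_ (PrimeSpectrum.mem_basicOpen (tp f x) p).symm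
  change (∀ a, f (x a) ∉ p.asIdeal) ↔ _
  rw [tp, p.2.prod_mem_iff]
  simp

/-- sections of `M^~` over an open, as an `R`-module -/
abbrev Sct (W : (Spec R).Opens) : ModuleCat.{u} R :=
  (modulesSpecToSheaf.obj (tilde M)).presheaf.obj (op W)

/-- restriction of sections -/
abbrev resT {W W' : (Spec R).Opens} (h : W' ≤ W) : Sct M W →ₗ[R] Sct M W' :=
  ((modulesSpecToSheaf.obj (tilde M)).presheaf.map (homOfLE h).op).hom

theorem resT_toOpen {W W' : (Spec R).Opens} (h : W' ≤ W) (m : M) :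
    resT M h ((tilde.toOpen M W).hom m) = (tilde.toOpen M W').hom m :=
  congr($(tilde.toOpen_res M W W' (homOfLE h)).hom m)

theorem isLocalizedModule_toOpen {W : (Spec R).Opens} {g : R} (hW : W = PrimeSpectrum.basicOpen g) :
    IsLocalizedModule (Submonoid.powers g) (tilde.toOpen M W).hom := by
  subst hW
  infer_instance

theorem isUnit_sct {W : (Spec R).Opens} {g : R} (hW : W ≤ PrimeSpectrum.basicOpen g)
    (s : Submonoid.powers g) : IsUnit (algebraMap R (Module.End R (Sct M W)) s) := by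
  obtain ⟨_, n, rfl⟩ := s
  simp only [map_pow]
  exact (Scheme.Modules.isUnit_algebraMap_end_of_le_basicOpen (M := tilde M) g hW).pow n

/-- comparison with sections -/
def cmpT {n : ℕ} (x : Fin (n + 1) → ι) : L (tp f x) M ≃ₗ[R] Sct M (inter (dcov f) x) :=
  haveI := isLocalizedModule_toOpen M (inter_dcov f x)
  IsLocalizedModule.linearEquiv (Submonoid.powers (tp f x)) (loc (tp f x) M)
    (tilde.toOpen M (inter (dcov f) x)).hom

theorem cmpT_loc {n : ℕ} (x : Fin (n + 1) → ι) (m : M) :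
    cmpT M f x (loc (tp f x) M m) = (tilde.toOpen M (inter (dcov f) x)).hom m :=
  haveI := isLocalizedModule_toOpen M (inter_dcov f x)
  IsLocalizedModule.linearEquiv_apply (Submonoid.powers (tp f x)) (loc (tp f x) M)
    (tilde.toOpen M (inter (dcov f) x)).hom m

theorem cmpT_res {n : ℕ} (x : Fin (n + 2) → ι) (j : Fin (n + 2))
    (h : inter (dcov f) x ≤ inter (dcov f) (x ∘ j.succAbove)) (z : L (tp f (x ∘ j.succAbove)) M) :
    cmpT M f x (KoszulCech.res (tp_dvd f x j) _ z) = resT M h (cmpT M f (x ∘ j.succAbove) z) := by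
  have := IsLocalizedModule.ext (Submonoid.powers (tp f (x ∘ j.succAbove)))
    (loc (tp f (x ∘ j.succAbove)) M)
    (isUnit_sct M (W := inter (dcov f) x) (h.trans (inter_dcov f _).le))
    (j := (cmpT M f x).toLinearMap ∘ₗ KoszulCech.res (tp_dvd f x j) _)
    (k := (resT M h) ∘ₗ (cmpT M f (x ∘ j.succAbove)).toLinearMap)
    (LinearMap.ext fun m => by
      simp only [LinearMap.comp_apply, LinearEquiv.coe_coe, res_loc, cmpT_loc, resT_toOpen])
  exact congr($this z)

/-- cochains as cochains of sections -/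
def ΦT (q : ℕ) : C f q M ≃+ CohAff.Cochain (Coh.toAb (tilde M)).obj (dcov f) q :=
  AddEquiv.piCongrRight fun x => (cmpT M f x).toAddEquiv

theorem ΦT_cd (q : ℕ) (s : C f q M) :
    ΦT M f (q + 1) (cdM f _ q s) = CohAff.cd (Coh.toAb (tilde M)).obj (dcov f) q (ΦT M f q s) := by
  funext x
  refine ((congrArg (cmpT M f x) (cdM_apply f M q s x)).trans (map_sum (cmpT M f x) _ _)).trans ?_
  rw [CohAff.cd_apply]
  refine Finset.sum_congr rfl fun j _ => ?_
  exact (map_zsmul (cmpT M f x) _ _).trans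
    (congrArg _ (cmpT_res M f x j (CohAff.inter_comp_le _ x j.succAbove) _))

theorem subsingleton_HU_of_isAffineOpen {X : Scheme.{u}} (F : X.Modules) [F.IsQuasicoherent] {W : X.Opens}
    (hW : IsAffineOpen W) (n : ℕ) : Subsingleton (CohTop.HU (Coh.toAb F) (n + 1) W) := by
  have : IsAffine (W : Scheme.{u}) := hW
  refine (CohTop.Restrict.HUEquivRestr (Coh.toAb F) W (n + 1)).toEquiv.subsingleton_congr.mpr ?_
  exact (CohAff.good_affCov (F.restrict W.ι)).subsingleton_H (isAffineOpen_top (W : Scheme.{u})) n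

variable [Fintype ι] [DecidableEq ι]

/-- `H^{q+1}(U, M^~) ≅ lim H^{q+2}(f^n; M)` for `U` the union of the `D(f_i)` -/
theorem nonempty_HH_equiv_limH (fs : List R) (hf : ∀ a, a ∈ fs ↔ ∃ i, f i = a) (U : (Spec R).Opens)
    (hU : U = ⨆ i, dcov f i) (q : ℕ) :
    Nonempty (Coh.HH (U : Scheme.{u}) ((tilde M).restrict U.ι) (q + 1) ≃+
      limH fs (ModuleCat.of R M) ((q : ℤ) + 2 - fs.length)) := by
  obtain ⟨e⟩ := nonempty_homology_equiv (Coh.toAb (tilde M)).obj (dcov f) q (cdM f M q) (cdM f M (q + 1))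
    (ΦT M f q) (ΦT M f (q + 1)) (ΦT M f (q + 2)) (ΦT_cd M f q) (ΦT_cd M f (q + 1))
  obtain ⟨e'⟩ := nonempty_H1_equiv f fs hf q M
  obtain ⟨c⟩ := CohTop.CechBasic.cech_eq_HU (dcov f) (q + 1) (Coh.toAb (tilde M)) fun p a n => by
    refine subsingleton_HU_of_isAffineOpen (tilde M) ?_ n
    show IsAffineOpen (inter (dcov f) a)
    rw [inter_dcov, ← basicOpen_eq_of_affine]
    exact (isAffineOpen_top (Spec R)).basicOpen _
  subst hU
  exact ⟨((CohTop.Restrict.HUEquivRestr (Coh.toAb (tilde M)) (⨆ i, dcov f i) (q + 1)).symm.trans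
    c.symm).trans (e.trans e'.toAddEquiv)⟩

end

theorem puncturedOpen_eq_iSup {A : Type u} [CommRing A] {κ : Type u} (g : κ → A) (I : Ideal A)
    (hI : I = Ideal.span (Set.range g)) :
    _root_.LocCoh.puncturedOpen A I = ⨆ i, (PrimeSpectrum.basicOpen (g i) : (Spec (CommRingCat.of A)).Opens) := by
  subst hI
  apply TopologicalSpace.Opens.ext
  refine (congrArg (·ᶜ) (PrimeSpectrum.zeroLocus_span (Set.range g))).trans ?_
  ext p
  simp only [Set.mem_compl_iff, PrimeSpectrum.mem_zeroLocus, Set.range_subset_iff, not_forall]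
  exact (TopologicalSpace.Opens.mem_iSup.trans
    (exists_congr fun i => PrimeSpectrum.mem_basicOpen (g i) p)).symm

/-- `H^p(U, M^~) ≅ H^{p+1}_I(M)` on the punctured spectrum -/
theorem nonempty_HH_equiv_H {A : Type u} [CommRing A] [IsNoetherianRing A] (I : Ideal A) (M : Type u)
    [AddCommGroup M] [Module A M] (p : ℕ) (hp : 1 ≤ p) :
    Nonempty (Coh.HH (↑(_root_.LocCoh.puncturedOpen A I)) ((tilde (R := CommRingCat.of A)
      (ModuleCat.of A M)).restrict (_root_.LocCoh.puncturedOpen A I).ι) p ≃+ _root_.LocCoh.H I (p + 1) M) := by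
  classical
  obtain ⟨q, rfl⟩ := Nat.exists_eq_add_of_le' hp
  obtain ⟨s, hs⟩ := IsNoetherian.noetherian I
  let f : ULift.{u} {a // a ∈ s} → A := fun i => i.down.1
  have hf : ∀ a, a ∈ s.toList ↔ ∃ i, f i = a := fun a =>
    ⟨fun h => ⟨⟨⟨a, Finset.mem_toList.mp h⟩⟩, rfl⟩, fun ⟨i, hi⟩ => hi ▸ Finset.mem_toList.mpr i.down.2⟩
  have hI : Ideal.span {a : A | a ∈ s.toList} = I := by
    simp only [Finset.mem_toList]; exact hs
  have hI' : I = Ideal.span (Set.range f) := by
    rw [← hI]; congr 1; ext a; exact hf a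
  obtain ⟨e⟩ := nonempty_HH_equiv_limH (R := CommRingCat.of A) (ModuleCat.of A M) f s.toList hf _
    (puncturedOpen_eq_iSup f I hI') q
  obtain ⟨e'⟩ := nonempty_H_equiv_limH s.toList (q + 1 + 1) M
  have hd : ((q + 1 + 1 : ℕ) : ℤ) - s.toList.length = (q : ℤ) + 2 - s.toList.length := by push_cast; ring
  rw [hd, hI] at e'
  exact ⟨e.trans e'.symm.toAddEquiv⟩

end Groth.Agent.LocCoh.Punctured
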