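import Groth.Agent.LocCoh.Colim
import Groth.Prelude.Def_DRing3
import Mathlib.Algebra.Homology.DerivedCategory.Ext.ExactSequences
import Mathlib.Algebra.Homology.DerivedCategory.Ext.EnoughInjectives
import Mathlib.Algebra.Category.ModuleCat.EnoughInjectives

/-!
# `localCohomology I i` in terms of elements

* `ιH I i n M : Extⁱ(R/Iⁿ, M) →ₗ Hⁱ_I(M)`, `exists_ιH`, `ιH_eq_zero_iff`, `ιH_naturality`, `descH`;
* `isPowerTorsion_H`, `map_smul_id`, `HLinearEquiv`;
* `δH` and the long exact sequence `exact₁`, `exact₂`, `exact₃`;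
* `H0Equiv : H⁰_I(M) ≃ₗ Γ_I(M)`; `subsingleton_H_succ_of_injective`.
-/

universe u w

open CategoryTheory Limits Opposite

namespace Groth.Agent.LocCoh

variable {R : Type u} [CommRing R] (I : Ideal R) (i : ℕ)

/-- The module `R ⧸ Iⁿ`. -/
abbrev quotPow (n : ℕ) : ModuleCat.{u} R := quotMod.{u, 0} (I ^ n)

/-- The projection `R ⧸ Iᵐ → R ⧸ Iⁿ` for `n ≤ m`. -/
noncomputable abbrev qpow {n m : ℕ} (h : n ≤ m) : quotPow I m ⟶ quotPow I n :=
  qmap.{u, 0} (Ideal.pow_le_pow_right h)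

/-- `Extⁱ(R ⧸ Iⁿ, M) → Hⁱ_I(M)`. -/
noncomputable def ιH (n : ℕ) (M : ModuleCat.{u} R) :
    Abelian.Ext (quotPow I n) M i →ₗ[R] (localCohomology I i).obj M :=
  ι.{u, 0} (localCohomology.idealPowersDiagram I) i (op n) M

variable {I i}

theorem ιH_qpow {n m : ℕ} (h : n ≤ m) {M : ModuleCat.{u} R} (e : Abelian.Ext (quotPow I n) M i) :
    ιH I i m M ((Abelian.Ext.mk₀ (qpow I h)).comp e (zero_add i)) = ιH I i n M e :=
  ι_qmap.{u, 0} (localCohomology.idealPowersDiagram I) i (s := op m) (t := op n) (homOfLE h).op M e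

theorem ιH_naturality (n : ℕ) {M N : ModuleCat.{u} R} (g : M ⟶ N)
    (e : Abelian.Ext (quotPow I n) M i) :
    ((localCohomology I i).map g).hom (ιH I i n M e) =
      ιH I i n N (e.comp (Abelian.Ext.mk₀ g) (add_zero i)) :=
  ι_naturality.{u, 0} (localCohomology.idealPowersDiagram I) i (op n) g e

theorem exists_ιH {M : ModuleCat.{u} R} (x : (localCohomology I i).obj M) :
    ∃ (n : ℕ) (e : Abelian.Ext (quotPow I n) M i), ιH I i n M e = x :=
  (exists_rep.{u, 0} (localCohomology.idealPowersDiagram I) i x).elim fun t h => ⟨unop t, h⟩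

theorem exists_ιH_common {M : ModuleCat.{u} R} (x y : (localCohomology I i).obj M) :
    ∃ (n : ℕ) (e f : Abelian.Ext (quotPow I n) M i), ιH I i n M e = x ∧ ιH I i n M f = y :=
  (exists_common.{u, 0} (localCohomology.idealPowersDiagram I) i x y).elim fun t h => ⟨unop t, h⟩

theorem ιH_eq_zero_iff {n : ℕ} {M : ModuleCat.{u} R} (e : Abelian.Ext (quotPow I n) M i) :
    ιH I i n M e = 0 ↔ ∃ (m : ℕ) (h : n ≤ m),
      (Abelian.Ext.mk₀ (qpow I h)).comp e (zero_add i) = 0 := by
  refine (ι_eq_zero_iff.{u, 0} (localCohomology.idealPowersDiagram I) i (t := op n) e).trans ?_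
  exact ⟨fun ⟨s, w, h⟩ => ⟨unop s, leOfHom w.unop, h⟩,
    fun ⟨m, h, he⟩ => ⟨op m, (homOfLE h).op, he⟩⟩

attribute [irreducible] ιH

theorem subsingleton_H_iff {M : ModuleCat.{u} R} :
    Subsingleton ((localCohomology I i).obj M) ↔ ∀ (n : ℕ) (e : Abelian.Ext (quotPow I n) M i),
      ∃ (m : ℕ) (h : n ≤ m), (Abelian.Ext.mk₀ (qpow I h)).comp e (zero_add i) = 0 := by
  refine ⟨fun h n e => (ιH_eq_zero_iff e).mp (Subsingleton.elim _ _), fun h => ?_⟩
  refine subsingleton_of_forall_eq 0 fun x => ?_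
  obtain ⟨n, e, rfl⟩ := exists_ιH x
  exact (ιH_eq_zero_iff e).mpr (h n e)

theorem subsingleton_H_of_forall_ext {M : ModuleCat.{u} R}
    (h : ∀ n : ℕ, Subsingleton (Abelian.Ext (quotPow I n) M i)) :
    Subsingleton ((localCohomology I i).obj M) :=
  subsingleton_H_iff.mpr fun n e => ⟨n, le_rfl, by rw [(h n).elim e 0]; simp⟩

section Desc

variable {M : ModuleCat.{u} R} {N : Type w} [AddCommGroup N] [Module R N]
  (g : ∀ n : ℕ, Abelian.Ext (quotPow I n) M i →ₗ[R] N)
  (hg : ∀ ⦃n m : ℕ⦄ (h : n ≤ m) (e : Abelian.Ext (quotPow I n) M i),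
    g m ((Abelian.Ext.mk₀ (qpow I h)).comp e (zero_add i)) = g n e)

/-- Linear maps out of local cohomology. -/
noncomputable def descH : (localCohomology I i).obj M →ₗ[R] N :=
  desc.{u, 0, w} (localCohomology.idealPowersDiagram I) i (fun t => g (unop t))
    fun _ _ v e => hg (leOfHom v.unop) e

theorem descH_ι (n : ℕ) (e : Abelian.Ext (quotPow I n) M i) :
    descH g hg (ιH I i n M e) = g n e := by
  unfold ιH
  exact desc_ι.{u, 0, w} (localCohomology.idealPowersDiagram I) i (fun t => g (unop t))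
    (fun _ _ v e => hg (leOfHom v.unop) e) (op n) e

attribute [irreducible] descH

end Desc

/-- Linear maps out of local cohomology agree if they agree on all `ιH`. -/
theorem H_hom_ext {M : ModuleCat.{u} R} {N : Type w} [AddCommGroup N] [Module R N]
    {f f' : (localCohomology I i).obj M →ₗ[R] N}
    (h : ∀ (n : ℕ) (e : Abelian.Ext (quotPow I n) M i), f (ιH I i n M e) = f' (ιH I i n M e)) :
    f = f' :=
  LinearMap.ext fun x => by obtain ⟨n, e, rfl⟩ := exists_ιH x; exact h n e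

section Smul

theorem pow_smul_quotPow {n : ℕ} {r : R} (hr : r ∈ I ^ n) : r • 𝟙 (quotPow I n) = 0 := by
  refine ModuleCat.hom_ext (LinearMap.ext fun x => ?_)
  obtain ⟨y, rfl⟩ := Ideal.Quotient.mk_surjective x
  exact Ideal.Quotient.eq_zero_iff_mem.mpr ((I ^ n).mul_mem_right y hr)

theorem smul_ιH_eq_zero {n : ℕ} {r : R} (hr : r ∈ I ^ n) {M : ModuleCat.{u} R}
    (e : Abelian.Ext (quotPow I n) M i) : r • ιH I i n M e = 0 := by
  have : r • e = (Abelian.Ext.mk₀ (r • 𝟙 (quotPow I n))).comp e (zero_add i) := by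
    simp [Abelian.Ext.mk₀_smul]
  rw [← map_smul, this, pow_smul_quotPow hr]
  simp

theorem isPowerTorsion_H (M : ModuleCat.{u} R) :
    _root_.LocCoh.IsPowerTorsion I ((localCohomology I i).obj M) := fun x => by
  obtain ⟨n, e, rfl⟩ := exists_ιH x
  exact ⟨n, fun a ha => smul_ιH_eq_zero ha e⟩

theorem map_smul_id (r : R) (M : ModuleCat.{u} R) (x : (localCohomology I i).obj M) :
    ((localCohomology I i).map (r • 𝟙 M)).hom x = r • x := by
  obtain ⟨n, e, rfl⟩ := exists_ιH x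
  rw [ιH_naturality, ← Abelian.Ext.smul_eq_comp_mk₀, map_smul]

theorem smul_H_eq_zero {r : R} {M : ModuleCat.{u} R} (hr : ∀ m : M, r • m = 0)
    (x : (localCohomology I i).obj M) : r • x = 0 := by
  have h0 : r • 𝟙 M = 0 := by ext m; exact hr m
  obtain ⟨n, e, rfl⟩ := exists_ιH x
  rw [← map_smul, Abelian.Ext.smul_eq_comp_mk₀, h0]
  simp

variable (I i) in
/-- Isomorphic modules have isomorphic local cohomology. -/
noncomputable def HLinearEquiv {M N : Type u} [AddCommGroup M] [Module R M] [AddCommGroup N]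
    [Module R N] (e : M ≃ₗ[R] N) : _root_.LocCoh.H I i M ≃ₗ[R] _root_.LocCoh.H I i N :=
  ((localCohomology I i).mapIso e.toModuleIso).toLinearEquiv

end Smul

section LES

variable {S : ShortComplex (ModuleCat.{u} R)} (hS : S.ShortExact)

variable (i) in
/-- The connecting map of local cohomology. -/
noncomputable def δH : (localCohomology I i).obj S.X₃ →ₗ[R] (localCohomology I (i + 1)).obj S.X₁ :=
  descH (fun n => ιH I (i + 1) n S.X₁ ∘ₗ
      hS.extClass.postcompOfLinear R (quotPow I n) (rfl : i + 1 = i + 1))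
    fun n m h e => by
      show ιH I (i + 1) m S.X₁ (((Abelian.Ext.mk₀ (qpow I h)).comp e (zero_add i)).comp
        hS.extClass rfl) = ιH I (i + 1) n S.X₁ (e.comp hS.extClass rfl)
      rw [← ιH_qpow h (e.comp hS.extClass (rfl : i + 1 = i + 1)),
        Abelian.Ext.comp_assoc _ _ _ (zero_add i) rfl (by lia)]

theorem δH_ι (n : ℕ) (e : Abelian.Ext (quotPow I n) S.X₃ i) :
    δH i hS (ιH I i n S.X₃ e) = ιH I (i + 1) n S.X₁ (e.comp hS.extClass rfl) :=
  descH_ι _ _ n e

include hS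

theorem exact₂ : Function.Exact ((localCohomology I i).map S.f).hom ((localCohomology I i).map S.g).hom := by
  intro x
  constructor
  · intro hx
    obtain ⟨n, e, rfl⟩ := exists_ιH x
    rw [ιH_naturality, ιH_eq_zero_iff] at hx
    obtain ⟨m, h, hm⟩ := hx
    obtain ⟨a, ha⟩ := Abelian.Ext.covariant_sequence_exact₂ _ hS
      ((Abelian.Ext.mk₀ (qpow I h)).comp e (zero_add i))
      ((Abelian.Ext.comp_assoc_of_third_deg_zero _ _ _ _).trans hm)
    exact ⟨ιH I i m S.X₁ a, by rw [ιH_naturality, ha, ιH_qpow]⟩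
  · rintro ⟨y, rfl⟩
    obtain ⟨n, e, rfl⟩ := exists_ιH y
    rw [ιH_naturality, ιH_naturality, Abelian.Ext.comp_assoc_of_second_deg_zero,
      Abelian.Ext.mk₀_comp_mk₀, S.zero]
    simp

theorem exact₃ : Function.Exact ((localCohomology I i).map S.g).hom (δH (I := I) i hS) := by
  intro x
  constructor
  · intro hx
    obtain ⟨n, e, rfl⟩ := exists_ιH x
    rw [δH_ι, ιH_eq_zero_iff] at hx
    obtain ⟨m, h, hm⟩ := hx
    obtain ⟨a, ha⟩ := Abelian.Ext.covariant_sequence_exact₃ _ hS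
      ((Abelian.Ext.mk₀ (qpow I h)).comp e (zero_add i)) rfl
      ((Abelian.Ext.comp_assoc _ _ _ _ _ (by lia)).trans hm)
    exact ⟨ιH I i m S.X₂ a, by rw [ιH_naturality, ha, ιH_qpow]⟩
  · rintro ⟨y, rfl⟩
    obtain ⟨n, e, rfl⟩ := exists_ιH y
    rw [ιH_naturality, δH_ι, Abelian.Ext.comp_assoc_of_second_deg_zero, hS.comp_extClass]
    simp

theorem exact₁ : Function.Exact (δH (I := I) i hS) ((localCohomology I (i + 1)).map S.f).hom := by
  intro x
  constructor
  · intro hx
    obtain ⟨n, e, rfl⟩ := exists_ιH x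
    rw [ιH_naturality, ιH_eq_zero_iff] at hx
    obtain ⟨m, h, hm⟩ := hx
    obtain ⟨a, ha⟩ := Abelian.Ext.covariant_sequence_exact₁ _ hS
      ((Abelian.Ext.mk₀ (qpow I h)).comp e (zero_add (i + 1)))
      ((Abelian.Ext.comp_assoc_of_third_deg_zero _ _ _ _).trans hm) rfl
    exact ⟨ιH I i m S.X₃ a, by rw [δH_ι, ha, ιH_qpow]⟩
  · rintro ⟨y, rfl⟩
    obtain ⟨n, e, rfl⟩ := exists_ιH y
    rw [δH_ι, ιH_naturality, Abelian.Ext.comp_assoc_of_third_deg_zero, hS.extClass_comp]
    simp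

theorem injective_map_zero : Function.Injective ((localCohomology I 0).map S.f).hom := by
  have := hS.mono_f
  refine (injective_iff_map_eq_zero _).mpr fun x hx => ?_
  obtain ⟨n, e, rfl⟩ := exists_ιH x
  rw [ιH_naturality, ιH_eq_zero_iff] at hx
  obtain ⟨m, h, hm⟩ := hx
  rw [← Abelian.Ext.comp_assoc_of_third_deg_zero] at hm
  have := Abelian.Ext.postcomp_mk₀_injective_of_mono (quotPow I m) S.f
    (a₁ := (Abelian.Ext.mk₀ (qpow I h)).comp e (zero_add 0)) (a₂ := 0) (by simpa using hm)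
  rw [← ιH_qpow h e, this, map_zero]

theorem subsingleton_X₂ (h₁ : Subsingleton ((localCohomology I i).obj S.X₁))
    (h₃ : Subsingleton ((localCohomology I i).obj S.X₃)) :
    Subsingleton ((localCohomology I i).obj S.X₂) :=
  subsingleton_of_forall_eq 0 fun x => by
    obtain ⟨y, rfl⟩ := (exact₂ hS x).mp (h₃.elim _ _)
    rw [h₁.elim y 0, map_zero]

theorem subsingleton_X₃ (h₂ : Subsingleton ((localCohomology I i).obj S.X₂))
    (h₁ : Subsingleton ((localCohomology I (i + 1)).obj S.X₁)) :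
    Subsingleton ((localCohomology I i).obj S.X₃) :=
  subsingleton_of_forall_eq 0 fun x => by
    obtain ⟨y, rfl⟩ := (exact₃ hS x).mp (h₁.elim _ _)
    rw [h₂.elim y 0, map_zero]

theorem subsingleton_X₁ (h₂ : Subsingleton ((localCohomology I i).obj S.X₂))
    (h₃ : ∀ j, j + 1 = i → Subsingleton ((localCohomology I j).obj S.X₃)) :
    Subsingleton ((localCohomology I i).obj S.X₁) := by
  cases i with
  | zero => exact (injective_map_zero hS).subsingleton
  | succ j =>
    exact subsingleton_of_forall_eq 0 fun x => by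
      obtain ⟨y, rfl⟩ := (exact₁ hS x).mp (h₂.elim _ _)
      rw [(h₃ j rfl).elim y 0, map_zero]

end LES

theorem subsingleton_H_succ_of_injective (M : ModuleCat.{u} R) [Injective M] :
    Subsingleton ((localCohomology I (i + 1)).obj M) :=
  subsingleton_H_of_forall_ext fun _ => subsingleton_of_forall_eq 0 Abelian.Ext.eq_zero_of_injective

theorem subsingleton_H_of_isZero {M : ModuleCat.{u} R} (h : Subsingleton M) :
    Subsingleton ((localCohomology I i).obj M) :=
  subsingleton_of_forall_eq 0 fun x => by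
    rw [← one_smul R x]
    exact smul_H_eq_zero (fun m => h.elim _ _) x

section DegreeZero

/-- Evaluation at `1`, with values in `Γ_I(M)`. -/
noncomputable def evalOne (n : ℕ) (M : ModuleCat.{u} R) :
    (quotPow I n ⟶ M) →ₗ[R] DRing.torsionSub I M where
  toFun φ := ⟨φ.hom (Ideal.Quotient.mk (I ^ n) 1), n, fun a ha => by
    rw [← map_smul]
    convert map_zero φ.hom
    exact Ideal.Quotient.eq_zero_iff_mem.mpr (by simpa using ha)⟩
  map_add' _ _ := rfl
  map_smul' _ _ := rfl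

theorem evalOne_injective (n : ℕ) (M : ModuleCat.{u} R) :
    Function.Injective (evalOne (I := I) n M) := fun φ ψ h => by
  refine ModuleCat.hom_ext (LinearMap.ext fun x => ?_)
  obtain ⟨y, rfl⟩ := Ideal.Quotient.mk_surjective x
  have h1 : φ.hom (Ideal.Quotient.mk (I ^ n) 1) = ψ.hom (Ideal.Quotient.mk (I ^ n) 1) :=
    congrArg Subtype.val h
  have h2 : Ideal.Quotient.mk (I ^ n) y = y • Ideal.Quotient.mk (I ^ n) 1 := by
    rw [Algebra.smul_def, Ideal.Quotient.algebraMap_eq, ← map_mul, mul_one]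
  show φ.hom (Ideal.Quotient.mk (I ^ n) y) = ψ.hom (Ideal.Quotient.mk (I ^ n) y)
  rw [h2, map_smul, map_smul, h1]

theorem linearEquiv₀_mk₀ {X Y : ModuleCat.{u} R} (f : X ⟶ Y) :
    Abelian.Ext.linearEquiv₀ (R := R) (Abelian.Ext.mk₀ f) = f :=
  (Abelian.Ext.linearEquiv₀ (R := R)).apply_symm_apply f

variable (I) in
/-- The map `H⁰_I(M) → Γ_I(M)`. -/
noncomputable def H0Map (M : ModuleCat.{u} R) :
    (localCohomology I 0).obj M →ₗ[R] DRing.torsionSub I M :=
  descH (fun n => evalOne n M ∘ₗ (Abelian.Ext.linearEquiv₀ (R := R)).toLinearMap)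
    fun n m h e => by
      obtain ⟨f, rfl⟩ := (Abelian.Ext.linearEquiv₀ (R := R)).symm.surjective e
      simp only [LinearMap.comp_apply, LinearEquiv.coe_toLinearMap,
        Abelian.Ext.linearEquiv₀_symm_apply, Abelian.Ext.mk₀_comp_mk₀]
      rw [linearEquiv₀_mk₀, linearEquiv₀_mk₀]
      rfl

theorem H0Map_ι (n : ℕ) {M : ModuleCat.{u} R} (φ : quotPow I n ⟶ M) :
    H0Map I M (ιH I 0 n M (Abelian.Ext.mk₀ φ)) = evalOne n M φ := by
  rw [H0Map, descH_ι]
  exact congrArg (evalOne n M) (linearEquiv₀_mk₀ φ)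

theorem H0Map_bijective (M : ModuleCat.{u} R) : Function.Bijective (H0Map I M) := by
  refine ⟨(injective_iff_map_eq_zero _).mpr fun x hx => ?_, fun ⟨m, n, hm⟩ => ?_⟩
  · obtain ⟨n, e, rfl⟩ := exists_ιH x
    obtain ⟨φ, rfl⟩ := (Abelian.Ext.linearEquiv₀ (R := R)).symm.surjective e
    rw [Abelian.Ext.linearEquiv₀_symm_apply] at hx ⊢
    rw [H0Map_ι] at hx
    rw [evalOne_injective n M (hx.trans (map_zero _).symm)]
    simp
  · let φ : quotPow I n ⟶ M := ModuleCat.ofHom (Submodule.liftQ (I ^ n)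
      (LinearMap.toSpanSingleton R M m) fun a ha => by simpa using hm a ha)
    refine ⟨ιH I 0 n M (Abelian.Ext.mk₀ φ), ?_⟩
    rw [H0Map_ι]
    exact Subtype.ext (one_smul R m)

variable (I) in
/-- `H⁰_I(M) ≃ Γ_I(M)`. -/
noncomputable def H0Equiv (M : ModuleCat.{u} R) :
    (localCohomology I 0).obj M ≃ₗ[R] DRing.torsionSub I M :=
  LinearEquiv.ofBijective (H0Map I M) (H0Map_bijective M)

theorem H0Equiv_naturality {M N : ModuleCat.{u} R} (g : M ⟶ N) (x : (localCohomology I 0).obj M) :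
    (H0Equiv I N (((localCohomology I 0).map g).hom x) : N) = g.hom (H0Equiv I M x : M) := by
  obtain ⟨n, e, rfl⟩ := exists_ιH x
  obtain ⟨φ, rfl⟩ := (Abelian.Ext.linearEquiv₀ (R := R)).symm.surjective e
  simp only [H0Equiv, LinearEquiv.ofBijective_apply, Abelian.Ext.linearEquiv₀_symm_apply]
  rw [ιH_naturality, Abelian.Ext.mk₀_comp_mk₀, H0Map_ι, H0Map_ι]
  rfl

end DegreeZero

end Groth.Agent.LocCoh
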