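import Groth.Prelude.Def_Wider
import Mathlib.RingTheory.Artinian.Module
import Mathlib.RingTheory.Support

/-!
# Power torsion modules

* `isPowerTorsion_iff_support_subset`, closure properties, `exists_pow_smul_eq_zero`;
* `isArtinian_of_isArtinian_torsionBy` (Melkersson).
-/

universe u v w

namespace Groth.Agent.LocCoh

open scoped Pointwise

variable {R : Type u} [CommRing R] {I : Ideal R}
variable {M : Type v} [AddCommGroup M] [Module R M]

theorem smul_mem_support_zeroLocus (h : _root_.LocCoh.IsPowerTorsion I M) :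
    Module.support R M ⊆ PrimeSpectrum.zeroLocus (I : Set R) := by
  intro p hp a ha
  obtain ⟨m, hm⟩ := Module.mem_support_iff'.mp hp
  obtain ⟨n, hn⟩ := h m
  by_contra hap
  exact hm (a ^ n) (fun h' => hap (p.isPrime.mem_of_pow_mem n h')) (hn _ (Ideal.pow_mem_pow ha n))

theorem isPowerTorsion_of_support_subset (hI : I.FG)
    (h : Module.support R M ⊆ PrimeSpectrum.zeroLocus (I : Set R)) :
    _root_.LocCoh.IsPowerTorsion I M := by
  intro m
  have hle : I ≤ Ideal.radical (LinearMap.ker (LinearMap.toSpanSingleton R M m)) := by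
    intro a ha
    rw [Ideal.radical_eq_sInf, Submodule.mem_sInf]
    rintro P ⟨hle, hP⟩
    refine h (a := (⟨P, hP⟩ : PrimeSpectrum R)) ?_ ha
    exact Module.mem_support_iff'.mpr ⟨m, fun r hr h0 => hr (hle h0)⟩
  obtain ⟨n, hn⟩ := Ideal.exists_pow_le_of_le_radical_of_fg hle hI
  exact ⟨n, fun a ha => hn ha⟩

theorem isPowerTorsion_of_injective {N : Type w} [AddCommGroup N] [Module R N] (f : M →ₗ[R] N)
    (hf : Function.Injective f) (h : _root_.LocCoh.IsPowerTorsion I N) :
    _root_.LocCoh.IsPowerTorsion I M := fun m => by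
  obtain ⟨n, hn⟩ := h (f m)
  exact ⟨n, fun a ha => hf (by rw [map_smul, hn a ha, map_zero])⟩

theorem isPowerTorsion_of_surjective {N : Type w} [AddCommGroup N] [Module R N] (f : M →ₗ[R] N)
    (hf : Function.Surjective f) (h : _root_.LocCoh.IsPowerTorsion I M) :
    _root_.LocCoh.IsPowerTorsion I N := fun x => by
  obtain ⟨m, rfl⟩ := hf x
  obtain ⟨n, hn⟩ := h m
  exact ⟨n, fun a ha => by rw [← map_smul, hn a ha, map_zero]⟩

/-- A common exponent for finitely many elements. -/
theorem exists_common_pow {ι : Type*} (s : Finset ι) (x : ι → M)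
    (h : ∀ i ∈ s, ∃ n : ℕ, ∀ a ∈ I ^ n, a • x i = 0) :
    ∃ n : ℕ, ∀ i ∈ s, ∀ a ∈ I ^ n, a • x i = 0 := by
  choose! n hn using h
  exact ⟨s.sup n, fun i hi a ha => hn i hi a (Ideal.pow_le_pow_right (Finset.le_sup hi) ha)⟩

/-- If `I m` is killed by a power of `I` (finitely generated), so is `m`. -/
theorem exists_pow_smul_eq_zero (hI : I.FG) (m : M)
    (h : ∀ a ∈ I, ∃ n : ℕ, ∀ b ∈ I ^ n, b • a • m = 0) :
    ∃ n : ℕ, ∀ b ∈ I ^ n, b • m = 0 := by
  obtain ⟨s, rfl⟩ := hI
  obtain ⟨n, hn⟩ := exists_common_pow (I := Submodule.span R (s : Set R)) s (fun a => a • m)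
    fun a ha => h a (Submodule.subset_span ha)
  refine ⟨n + 1, fun b hb => ?_⟩
  rw [pow_succ] at hb
  refine Submodule.mul_induction_on hb (fun x hx y hy => ?_) fun x y hx hy => by
    rw [add_smul, hx, hy, add_zero]
  induction hy using Submodule.span_induction with
  | mem y hy => rw [mul_smul]; exact hn y hy x hx
  | zero => simp
  | add a b _ _ ha hb => rw [mul_add, add_smul, ha, hb, add_zero]
  | smul c a _ ha => rw [smul_eq_mul, mul_left_comm, mul_smul, ha, smul_zero]

theorem isPowerTorsion_of_exact (hI : I.FG) {M' : Type*} [AddCommGroup M'] [Module R M']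
    {M'' : Type*} [AddCommGroup M''] [Module R M''] (f : M' →ₗ[R] M) (g : M →ₗ[R] M'')
    (hfg : Function.Exact f g) (h' : _root_.LocCoh.IsPowerTorsion I M')
    (h'' : _root_.LocCoh.IsPowerTorsion I M'') : _root_.LocCoh.IsPowerTorsion I M := fun m => by
  obtain ⟨k, hk⟩ := h'' (g m)
  have key : ∀ (j : ℕ) (x : M), (∀ a ∈ I ^ j, g (a • x) = 0) →
      ∃ n : ℕ, ∀ b ∈ I ^ n, b • x = 0 := by
    intro j
    induction j with
    | zero =>
      intro x hx
      obtain ⟨y, rfl⟩ := (hfg x).mp (by simpa using hx 1 (by simp))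
      obtain ⟨n, hn⟩ := h' y
      exact ⟨n, fun b hb => by rw [← map_smul, hn b hb, map_zero]⟩
    | succ j ih =>
      intro x hx
      exact exists_pow_smul_eq_zero hI x fun a ha => ih (a • x) fun b hb => by
        rw [← mul_smul]; exact hx _ (pow_succ I j ▸ Submodule.mul_mem_mul hb ha)
  exact key k m fun a ha => by rw [map_smul]; exact hk a ha

theorem eq_zero_of_pow_smul_eq_zero (h : _root_.LocCoh.torsionBy I M = ⊥) :
    ∀ (n : ℕ) (m : M), (∀ a ∈ I ^ n, a • m = 0) → m = 0 := by
  intro n
  induction n with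
  | zero => intro m hm; simpa using hm 1 (by simp)
  | succ n ih =>
    intro m hm
    refine (Submodule.eq_bot_iff _).mp h m ((Submodule.mem_torsionBySet_iff _ _).mpr fun a => ?_)
    exact ih _ fun b hb => by
      rw [← mul_smul]; exact hm _ (pow_succ I n ▸ Submodule.mul_mem_mul hb a.2)

/-- Melkersson's criterion for one element. -/
theorem isArtinian_of_isArtinian_torsionBy_singleton (x : R)
    (hx : ∀ m : M, ∃ n : ℕ, x ^ n • m = 0) (h : IsArtinian R (Submodule.torsionBy R M x)) :
    IsArtinian R M := by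
  rw [← monotone_stabilizes_iff_artinian] at h ⊢
  intro f
  let K : Submodule R M := Submodule.torsionBy R M x
  let N : ℕ → Submodule R M := fun k => OrderDual.ofDual (f k)
  have hN : ∀ {k l : ℕ}, k ≤ l → N l ≤ N k := fun h => f.monotone h
  let L : ℕ → ℕ → Submodule R K := fun k j =>
    Submodule.comap K.subtype ((N k ⊓ Submodule.torsionBy R M (x ^ (j + 1))).map
      (LinearMap.lsmul R M (x ^ j)))
  have memL : ∀ {k j : ℕ} {y : K}, y ∈ L k j ↔
      ∃ m, (m ∈ N k ∧ x ^ (j + 1) • m = 0) ∧ x ^ j • m = (y : M) := by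
    intro k j y
    simp [L, Submodule.mem_map, Submodule.mem_torsionBy_iff]
  have hL : ∀ {k l i j : ℕ}, k ≤ l → i ≤ j → L l j ≤ L k i := by
    intro k l i j hkl hij y hy
    obtain ⟨m, ⟨hm, hm0⟩, hmy⟩ := memL.mp hy
    obtain ⟨d, rfl⟩ := Nat.exists_eq_add_of_le hij
    refine memL.mpr ⟨x ^ d • m, ⟨(N k).smul_mem _ (hN hkl hm), ?_⟩, ?_⟩
    · rw [← mul_smul, ← pow_add, show i + 1 + d = i + d + 1 by omega, hm0]
    · rw [← mul_smul, ← pow_add, hmy]
  obtain ⟨n₀, hn₀⟩ := h ⟨fun k => OrderDual.toDual (L k k), fun k l hkl => hL hkl hkl⟩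
  have stab : ∀ j, ∃ k₀, ∀ k, k₀ ≤ k → L k₀ j = L k j := fun j => by
    obtain ⟨k₀, hk₀⟩ := h ⟨fun k => OrderDual.toDual (L k j), fun k l hkl => hL hkl le_rfl⟩
    exact ⟨k₀, fun k hk => OrderDual.toDual.injective (hk₀ k hk)⟩
  choose g hg using stab
  let T := max n₀ ((Finset.range n₀).sup g)
  have key : ∀ j k, T ≤ k → L T j ≤ L k j := by
    intro j k hk
    rcases lt_or_ge j n₀ with hj | hj
    · have hgT : g j ≤ T := le_trans (Finset.le_sup (Finset.mem_range.mpr hj)) (le_max_right _ _)
      rw [← hg j T hgT, hg j k (hgT.trans hk)]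
    · have e : L n₀ n₀ = L (max k j) (max k j) :=
        OrderDual.toDual.injective (hn₀ (max k j) (le_trans hj (le_max_right _ _)))
      exact le_trans (le_trans (hL (le_max_left n₀ _) hj) e.le) (hL (le_max_left k j) (le_max_right k j))
  refine ⟨T, fun k hk => le_antisymm (f.monotone hk) ?_⟩
  intro m hm
  obtain ⟨j, hj⟩ := hx m
  induction j generalizing m with
  | zero =>
    rw [show m = 0 by simpa using hj]
    exact (N k).zero_mem
  | succ j ih =>
    have hK : x ^ j • m ∈ K := by
      rw [Submodule.mem_torsionBy_iff, ← mul_smul, ← pow_succ', hj]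
    have hmem : (⟨_, hK⟩ : K) ∈ L k j :=
      key j k hk (memL.mpr ⟨m, ⟨hm, hj⟩, rfl⟩)
    obtain ⟨m', ⟨hm', -⟩, hm''⟩ := memL.mp hmem
    have : m - m' ∈ N k := ih (m := m - m') ((N T).sub_mem hm (hN hk hm'))
      (by rw [smul_sub, hm'', sub_self])
    have h2 := (N k).add_mem this hm'
    rw [sub_add_cancel] at h2
    exact h2

/-- Melkersson: an `I`-power torsion module with Artinian `I`-socle is Artinian. -/
theorem isArtinian_of_isArtinian_torsionBy (hI : I.FG) (hM : _root_.LocCoh.IsPowerTorsion I M)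
    (hA : IsArtinian R (_root_.LocCoh.torsionBy I M)) : IsArtinian R M := by
  classical
  obtain ⟨s, rfl⟩ := hI
  induction s using Finset.induction_on generalizing M with
  | empty =>
    have : _root_.LocCoh.torsionBy (Submodule.span R ((∅ : Finset R) : Set R)) M = ⊤ :=
      Submodule.eq_top_iff'.mpr fun m => (Submodule.mem_torsionBySet_iff _ _).mpr fun ⟨a, ha⟩ => by
        obtain rfl : a = 0 := by simpa using ha
        exact zero_smul R m
    rw [this] at hA
    exact (LinearEquiv.isArtinian_iff Submodule.topEquiv).mp hA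
  | insert x s hxs ih =>
    refine isArtinian_of_isArtinian_torsionBy_singleton x (fun m => ?_) ?_
    · obtain ⟨n, hn⟩ := hM m
      exact ⟨n, hn _ (Ideal.pow_mem_pow (Submodule.subset_span (by simp)) n)⟩
    · refine ih (M := Submodule.torsionBy R M x) (fun m => ?_) ?_
      · obtain ⟨n, hn⟩ := hM (m : M)
        exact ⟨n, fun a ha => Subtype.ext (hn a (Ideal.pow_right_mono
          (Submodule.span_mono (Finset.coe_subset.mpr (Finset.subset_insert x s))) n ha))⟩
      · let g : _root_.LocCoh.torsionBy (Submodule.span R (s : Set R)) (Submodule.torsionBy R M x) →ₗ[R]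
            _root_.LocCoh.torsionBy (Submodule.span R ((insert x s : Finset R) : Set R)) M :=
          LinearMap.codRestrict _ (Submodule.subtype _ ∘ₗ Submodule.subtype _) fun y => by
            refine (Submodule.mem_torsionBySet_iff _ _).mpr fun ⟨a, ha⟩ => ?_
            simp only [Finset.coe_insert, SetLike.mem_coe, Submodule.mem_span_insert] at ha
            obtain ⟨c, z, hz, rfl⟩ := ha
            have h1 : x • ((y : Submodule.torsionBy R M x) : M) = 0 :=
              (Submodule.mem_torsionBy_iff _ _).mp (y : Submodule.torsionBy R M x).2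
            have h2 : z • ((y : Submodule.torsionBy R M x) : M) = 0 :=
              congrArg Subtype.val ((Submodule.mem_torsionBySet_iff _ _).mp y.2 ⟨z, hz⟩)
            simp [add_smul, mul_smul, h1, h2]
        refine isArtinian_of_injective g fun a b hab => ?_
        apply Subtype.ext
        apply Subtype.ext
        have := congrArg Subtype.val hab
        simpa [g] using this

end Groth.Agent.LocCoh
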