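import Groth.Agent.LocCoh.Basic
import Groth.Agent.LocCoh.Torsion
import Mathlib.RingTheory.Filtration
import Mathlib.CategoryTheory.Abelian.Injective.Resolution

/-!
# `Γ_I` of an injective module is injective (Noetherian rings), consequences

* `injective_torsionSub`, `exists_mono_torsion_injective`;
* `subsingleton_H_succ_of_isPowerTorsion`, `H0EquivOfTorsion`, `bijective_map_mkQ`;
* `torsionResolution`: torsion modules have injective resolutions by torsion modules.
-/

universe u

open CategoryTheory Limits Opposite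

namespace Groth.Agent.LocCoh

variable {R : Type u} [CommRing R] [IsNoetherianRing R] (I : Ideal R)

/-- Over a Noetherian ring, the `I`-power torsion submodule of an injective module is injective. -/
theorem injective_torsionSub (E : ModuleCat.{u} R) [Injective E] :
    Injective (ModuleCat.of R (DRing.torsionSub I E)) := by
  have hE : Module.Injective R E := (Module.injective_iff_injective_object R E).mpr
    (inferInstanceAs (Injective E))
  rw [← Module.injective_iff_injective_object]
  refine Module.Baer.injective fun J f => ?_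
  obtain ⟨s, hs⟩ := IsNoetherian.noetherian J
  obtain ⟨n, hn⟩ : ∃ n : ℕ, ∀ (x : R) (hx : x ∈ J), ∀ a ∈ I ^ n, a • ((f ⟨x, hx⟩ : DRing.torsionSub I E) : E) = 0 := by
    classical
    obtain ⟨n, hn⟩ := exists_common_pow (I := I) s.attach
      (fun x => ((f ⟨x.1, hs ▸ Submodule.subset_span x.2⟩ : DRing.torsionSub I E) : E))
      fun x _ => (f _).2
    refine ⟨n, fun x hx a ha => ?_⟩
    have hx' : x ∈ Submodule.span R (s : Set R) := hs.symm ▸ hx
    induction hx' using Submodule.span_induction with
    | mem y hy => exact hn ⟨y, hy⟩ (Finset.mem_attach _ _) a ha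
    | zero => rw [show (⟨0, hx⟩ : J) = 0 from rfl]; simp
    | add y z hy hz iy iz =>
      rw [show (⟨y + z, hx⟩ : J) = ⟨y, hs ▸ hy⟩ + ⟨z, hs ▸ hz⟩ from rfl, map_add,
        Submodule.coe_add, smul_add, iy (hs ▸ hy), iz (hs ▸ hz), add_zero]
    | smul c y hy iy =>
      rw [show (⟨c • y, hx⟩ : J) = c • ⟨y, hs ▸ hy⟩ from rfl, map_smul, Submodule.coe_smul,
        smul_comm, iy (hs ▸ hy), smul_zero]
  obtain ⟨k, hk⟩ := Ideal.exists_pow_inf_eq_pow_smul I J
  let m := n + k
  -- `f` kills `J ∩ I ^ m`
  have hkill : ∀ (x : R) (hx : x ∈ J), x ∈ I ^ m → ((f ⟨x, hx⟩ : DRing.torsionSub I E) : E) = 0 := by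
    intro x hx hxm
    have h1 : x ∈ I ^ n • J := by
      have h2 := hk m (Nat.le_add_left k n)
      rw [show m - k = n by omega] at h2
      have h3 : x ∈ I ^ m • (⊤ : Submodule R R) ⊓ J := ⟨by simpa using hxm, hx⟩
      rw [h2] at h3
      exact (Submodule.smul_mono le_rfl inf_le_right) h3
    clear hxm
    induction h1 using Submodule.smul_induction_on' with
    | smul a ha y hy =>
      rw [show (⟨a • y, hx⟩ : J) = a • ⟨y, hy⟩ from rfl, map_smul, Submodule.coe_smul, hn y hy a ha]
    | add y hy z hz iy iz =>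
      have hy' : y ∈ J := Submodule.smul_le_right hy
      have hz' : z ∈ J := Submodule.smul_le_right hz
      rw [show (⟨y + z, hx⟩ : J) = ⟨y, hy'⟩ + ⟨z, hz'⟩ from rfl, map_add, Submodule.coe_add,
        iy hy', iz hz', add_zero]
  let K : Submodule R J := Submodule.comap J.subtype (I ^ m)
  let g : (J ⧸ K) →ₗ[R] E := K.liftQ ((DRing.torsionSub I E).subtype ∘ₗ f)
    fun x hx => hkill x.1 x.2 hx
  let e : (J ⧸ K) →ₗ[R] (R ⧸ I ^ m) := Submodule.mapQ K (I ^ m) J.subtype le_rfl
  have he : Function.Injective e := by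
    refine (injective_iff_map_eq_zero _).mpr fun x hx => ?_
    obtain ⟨y, rfl⟩ := Submodule.mkQ_surjective K x
    exact (Submodule.Quotient.mk_eq_zero K).mpr ((Submodule.Quotient.mk_eq_zero (I ^ m)).mp hx)
  obtain ⟨h, hh⟩ := hE.out e he g
  refine ⟨LinearMap.codRestrict _ (h ∘ₗ (I ^ m).mkQ) fun x => ⟨m, fun a ha => ?_⟩, fun x hx => ?_⟩
  · rw [← map_smul, LinearMap.comp_apply, Submodule.mkQ_apply,
      (Submodule.Quotient.mk_eq_zero _).mpr (show a • x ∈ I ^ m from (I ^ m).mul_mem_right x ha),
      map_zero]
  · apply Subtype.ext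
    exact hh (K.mkQ ⟨x, hx⟩)

/-- A torsion module embeds into a torsion injective module. -/
theorem exists_mono_torsion_injective (M : ModuleCat.{u} R) (hM : _root_.LocCoh.IsPowerTorsion I M) :
    ∃ (J : ModuleCat.{u} R) (f : M ⟶ J), Mono f ∧ Injective J ∧ _root_.LocCoh.IsPowerTorsion I J := by
  refine ⟨ModuleCat.of R (DRing.torsionSub I ((Injective.under M : ModuleCat.{u} R))),
    ModuleCat.ofHom (LinearMap.codRestrict _ (Injective.ι M).hom
      fun x => DRing.map_mem_torsionSub I (Injective.ι M).hom (hM x)), ?_,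
    injective_torsionSub I _, fun x => ?_⟩
  · refine (ModuleCat.mono_iff_injective _).mpr fun a b hab => ?_
    exact (ModuleCat.mono_iff_injective (Injective.ι M)).mp inferInstance (congrArg Subtype.val hab)
  · obtain ⟨n, hn⟩ := x.2
    exact ⟨n, fun a ha => Subtype.ext (hn a ha)⟩

theorem subsingleton_H_succ_of_isPowerTorsion : ∀ (i : ℕ) (M : ModuleCat.{u} R),
    _root_.LocCoh.IsPowerTorsion I M → Subsingleton ((localCohomology I (i + 1)).obj M) := by
  intro i
  induction i using Nat.strong_induction_on with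
  | _ i ih =>
    intro M hM
    obtain ⟨J, f, hf, hJ, hJt⟩ := exists_mono_torsion_injective I M hM
    let S := ShortComplex.mk f (cokernel.π f) (cokernel.condition f)
    have hS : S.ShortExact := { exact := ShortComplex.exact_cokernel f }
    have hsurj : Function.Surjective (cokernel.π f).hom := (ModuleCat.epi_iff_surjective _).mp inferInstance
    have hQ : _root_.LocCoh.IsPowerTorsion I (cokernel f : ModuleCat.{u} R) :=
      isPowerTorsion_of_surjective (cokernel.π f).hom hsurj hJt
    refine subsingleton_of_forall_eq 0 fun x => ?_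
    obtain ⟨y, rfl⟩ := (exact₁ (I := I) hS x).mp ((subsingleton_H_succ_of_injective J).elim _ _)
    rcases i with - | i
    · obtain ⟨z, rfl⟩ : ∃ z, ((localCohomology I 0).map (cokernel.π f)).hom z = y := by
        obtain ⟨w, hw⟩ := hsurj ((H0Equiv I (cokernel f) y : (cokernel f : ModuleCat.{u} R)))
        refine ⟨(H0Equiv I J).symm ⟨w, hJt w⟩, ?_⟩
        apply (H0Equiv I (cokernel f)).injective
        apply Subtype.ext
        rw [H0Equiv_naturality, LinearEquiv.apply_symm_apply]
        exact hw
      exact (exact₃ hS).apply_apply_eq_zero z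
    · rw [(ih i (Nat.lt_succ_self i) (cokernel f) hQ).elim y 0, map_zero]

/-- `H⁰_I(N) ≃ N` for torsion `N`. -/
noncomputable def H0EquivOfTorsion (N : ModuleCat.{u} R) (h : _root_.LocCoh.IsPowerTorsion I N) :
    (localCohomology I 0).obj N ≃ₗ[R] N :=
  (H0Equiv I N).trans (LinearEquiv.ofTop _ (Submodule.eq_top_iff'.mpr fun x => h x))

omit [IsNoetherianRing R] in
theorem isPowerTorsion_torsionSub (N : Type u) [AddCommGroup N] [Module R N] :
    _root_.LocCoh.IsPowerTorsion I (DRing.torsionSub I N) := fun x => by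
  obtain ⟨n, hn⟩ := x.2
  exact ⟨n, fun a ha => Subtype.ext (hn a ha)⟩

theorem bijective_map_mkQ (N : Type u) [AddCommGroup N] [Module R N] (i : ℕ) :
    Function.Bijective
      ((localCohomology I (i + 1)).map (ModuleCat.ofHom (DRing.torsionSub I N).mkQ)).hom := by
  let S : ShortComplex (ModuleCat.{u} R) := ShortComplex.mk
    (ModuleCat.ofHom (DRing.torsionSub I N).subtype) (ModuleCat.ofHom (DRing.torsionSub I N).mkQ)
    (by ext x; simp)
  have hS : S.ShortExact :=
    { exact := (ShortComplex.ShortExact.moduleCat_exact_iff_function_exact _).mpr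
        (LinearMap.exact_subtype_mkQ _)
      mono_f := (ModuleCat.mono_iff_injective _).mpr (Submodule.injective_subtype _)
      epi_g := (ModuleCat.epi_iff_surjective _).mpr (Submodule.mkQ_surjective _) }
  have h1 := subsingleton_H_succ_of_isPowerTorsion I i S.X₁ (isPowerTorsion_torsionSub I N)
  have h2 := subsingleton_H_succ_of_isPowerTorsion I (i + 1) S.X₁ (isPowerTorsion_torsionSub I N)
  refine ⟨(injective_iff_map_eq_zero _).mpr fun x hx => ?_, fun x => ?_⟩
  · obtain ⟨y, rfl⟩ := (exact₂ hS x).mp hx
    rw [h1.elim y 0, map_zero]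
  · exact (exact₃ hS x).mp (h2.elim _ _)

section Resolution

variable {I}

open scoped Classical in
/-- The torsion injective module into which `Z` maps. -/
noncomputable abbrev tUnder (I : Ideal R) (Z : ModuleCat.{u} R) : ModuleCat.{u} R :=
  ModuleCat.of R (DRing.torsionSub I ((Injective.under Z : ModuleCat.{u} R)))

open scoped Classical in
/-- The map `Z → tUnder I Z` (zero unless `Z` is torsion). -/
noncomputable def tι (I : Ideal R) (Z : ModuleCat.{u} R) : Z ⟶ tUnder I Z :=
  if h : _root_.LocCoh.IsPowerTorsion I Z then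
    ModuleCat.ofHom (LinearMap.codRestrict _ (Injective.ι Z).hom
      fun x => DRing.map_mem_torsionSub I (Injective.ι Z).hom (h x))
  else 0

omit [IsNoetherianRing R] in
theorem mono_tι {Z : ModuleCat.{u} R} (h : _root_.LocCoh.IsPowerTorsion I Z) : Mono (tι I Z) := by
  rw [tι, dif_pos h]
  refine (ModuleCat.mono_iff_injective _).mpr fun a b hab => ?_
  exact (ModuleCat.mono_iff_injective (Injective.ι Z)).mp inferInstance (congrArg Subtype.val hab)

/-- The differential out of `Y` following `f`. -/
noncomputable def tD (I : Ideal R) {X Y : ModuleCat.{u} R} (f : X ⟶ Y) : Y ⟶ tUnder I (cokernel f) :=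
  cokernel.π f ≫ tι I (cokernel f)

omit [IsNoetherianRing R] in
theorem comp_tD {X Y : ModuleCat.{u} R} (f : X ⟶ Y) : f ≫ tD I f = 0 := by simp [tD]

theorem exact_tD {X Y : ModuleCat.{u} R} (f : X ⟶ Y) (hY : _root_.LocCoh.IsPowerTorsion I Y) :
    (ShortComplex.mk f (tD I f) (comp_tD f)).Exact := by
  have hm : Mono (tι I (cokernel f)) := mono_tι
    (isPowerTorsion_of_surjective (cokernel.π f).hom ((ModuleCat.epi_iff_surjective _).mp inferInstance) hY)
  let α : ShortComplex.mk f (cokernel.π f) (cokernel.condition f) ⟶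
      ShortComplex.mk f (tD I f) (comp_tD f) :=
    { τ₁ := 𝟙 _
      τ₂ := 𝟙 _
      τ₃ := tι I (cokernel f)
      comm₁₂ := by simp
      comm₂₃ := by simp [tD] }
  rw [← ShortComplex.exact_iff_of_epi_of_isIso_of_mono α]
  exact ShortComplex.exact_cokernel f

/-- The complex underlying `torsionResolution`. -/
noncomputable def tComplex (I : Ideal R) (Z : ModuleCat.{u} R) : CochainComplex (ModuleCat.{u} R) ℕ :=
  CochainComplex.mk' (tUnder I Z) (tUnder I (cokernel (tι I Z))) (tD I (tι I Z))
    fun f => ⟨_, tD I f, comp_tD f⟩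

omit [IsNoetherianRing R] in
theorem isPowerTorsion_tComplex (Z : ModuleCat.{u} R) (n : ℕ) :
    _root_.LocCoh.IsPowerTorsion I ((tComplex I Z).X n) := by
  obtain (_ | _ | _ | n) := n <;>
    exact isPowerTorsion_torsionSub I ((Injective.under _ : ModuleCat.{u} R))

theorem injective_tComplex (Z : ModuleCat.{u} R) (n : ℕ) : Injective ((tComplex I Z).X n) := by
  obtain (_ | _ | _ | n) := n <;>
    exact injective_torsionSub I (Injective.under _ : ModuleCat.{u} R)

set_option backward.isDefEq.respectTransparency.types false in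
theorem tComplex_exactAt_succ (Z : ModuleCat.{u} R) (n : ℕ) : (tComplex I Z).ExactAt (n + 1) := by
  rw [HomologicalComplex.exactAt_iff' _ n (n + 1) (n + 1 + 1) (by simp) (by simp)]
  have ht := isPowerTorsion_tComplex (I := I) Z (n + 1)
  revert ht
  simp only [HomologicalComplex.sc', HomologicalComplex.shortComplexFunctor', tComplex,
    CochainComplex.mk', CochainComplex.mk, CochainComplex.of_d]
  match n with
  | 0 =>
    intro ht
    apply exact_tD (I := I) ((CochainComplex.mkAux _ _ _
      (tD I (tι I Z)) (tD I (tD I (tι I Z))) _ _ 0).f) ht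
  | n + 1 =>
    intro ht
    apply exact_tD (I := I) ((CochainComplex.mkAux _ _ _
      (tD I (tι I Z)) (tD I (tD I (tι I Z))) _ _ (n + 1)).f) ht

omit [IsNoetherianRing R] in
set_option backward.isDefEq.respectTransparency.types false in
theorem tComplex_d_0_1 (Z : ModuleCat.{u} R) : (tComplex I Z).d 0 1 = tD I (tι I Z) := by
  simp [tComplex]

set_option backward.isDefEq.respectTransparency false in
/-- An injective resolution by torsion modules of a torsion module. -/
noncomputable def torsionResolution (Z : ModuleCat.{u} R) (h : _root_.LocCoh.IsPowerTorsion I Z) :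
    InjectiveResolution Z where
  cocomplex := tComplex I Z
  injective := injective_tComplex Z
  ι := (CochainComplex.fromSingle₀Equiv _ _).symm ⟨tι I Z, by rw [tComplex_d_0_1, comp_tD]⟩
  quasiIso := ⟨fun n => by
    cases n
    · rw [CochainComplex.quasiIsoAt₀_iff, ShortComplex.quasiIso_iff_of_zeros]
      · refine (ShortComplex.exact_and_mono_f_iff_of_iso ?_).2
          ⟨exact_tD (tι I Z) (isPowerTorsion_torsionSub I _), mono_tι h⟩
        exact ShortComplex.isoMk (Iso.refl _) (Iso.refl _) (Iso.refl _) (by simp)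
          (by simp [tComplex])
      all_goals rfl
    · rw [quasiIsoAt_iff_exactAt]
      · apply tComplex_exactAt_succ
      · apply CochainComplex.exactAt_succ_single_obj⟩

theorem exists_torsionResolution (Z : ModuleCat.{u} R) (h : _root_.LocCoh.IsPowerTorsion I Z) :
    ∃ J : InjectiveResolution Z, ∀ n : ℕ, _root_.LocCoh.IsPowerTorsion I (J.cocomplex.X n) :=
  ⟨torsionResolution Z h, isPowerTorsion_tComplex Z⟩

end Resolution

end Groth.Agent.LocCoh
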