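import Groth.Agent.LocCoh.Acyclic
import Groth.Agent.InjHull.Noetherian
import Groth.Agent.Depth.CM

/-!
# Cohomological dimension

* `subsingleton_H_directSum`: vanishing of `Hⁱ_I` passes to direct sums;
* `cdLE_iff_subsingleton_H_self`: it suffices to test `cd` on the ring;
* `subsingleton_H_of_supportDim_lt`, `cdLE_of_ringKrullDim_le`: Grothendieck vanishing.
-/

universe u

open CategoryTheory Limits DirectSum

namespace Groth.Agent.LocCoh

variable {R : Type u} [CommRing R] [IsNoetherianRing R] (I : Ideal R)

theorem subsingleton_H_directSum {ι : Type u} : ∀ (i : ℕ) (M : ι → ModuleCat.{u} R),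
    (∀ j, Subsingleton ((localCohomology I i).obj (M j))) →
      Subsingleton ((localCohomology I i).obj (ModuleCat.of R (⨁ j, (M j : Type u)))) := by
  classical
  intro i
  induction i with
  | zero =>
    intro M hM
    have : Subsingleton (DRing.torsionSub I (⨁ j, (M j : Type u))) :=
      subsingleton_of_forall_eq 0 fun z => Subtype.ext <| DFinsupp.ext fun j => by
        have := torsionSub_eq_bot_of_subsingleton_H_zero (hM j)
        have hz := DRing.map_mem_torsionSub I (component R ι (fun j => (M j : Type u)) j) z.2
        rw [this] at hz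
        exact (Submodule.mem_bot R).mp hz
    exact (H0Equiv I (ModuleCat.of R (⨁ j, (M j : Type u)))).toEquiv.subsingleton
  | succ i ih =>
    intro M hM
    choose S hS h1 h2 using fun j => exists_injective_shortExact (M j)
    obtain rfl : (fun j => (S j).X₁) = M := funext h1
    let f := DirectSum.lmap fun j => (S j).f.hom
    let g := DirectSum.lmap fun j => (S j).g.hom
    have hfg : Function.Exact f g := fun x => by
      rw [← LinearMap.mem_ker]
      show x ∈ LinearMap.ker g ↔ x ∈ LinearMap.range f
      rw [show LinearMap.ker g = _ from DirectSum.ker_lmap _,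
        show LinearMap.range f = _ from DirectSum.range_lmap _]
      simp only [Submodule.mem_comap, Submodule.mem_pi, Set.mem_univ, forall_const]
      exact forall_congr' fun j => (ShortComplex.ShortExact.moduleCat_exact_iff_function_exact (S j)).mp
        (hS j).exact _
    let T : ShortComplex (ModuleCat.{u} R) := ShortComplex.mk (ModuleCat.ofHom f) (ModuleCat.ofHom g)
      (ModuleCat.hom_ext hfg.linearMap_comp_eq_zero)
    have hT : T.ShortExact :=
      { exact := (ShortComplex.ShortExact.moduleCat_exact_iff_function_exact _).mpr hfg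
        mono_f := (ModuleCat.mono_iff_injective _).mpr ((DirectSum.lmap_injective _).mpr fun j =>
          (ModuleCat.mono_iff_injective _).mp (hS j).mono_f)
        epi_g := (ModuleCat.epi_iff_surjective _).mpr ((DirectSum.lmap_surjective _).mpr fun j =>
          (ModuleCat.epi_iff_surjective _).mp (hS j).epi_g) }
    have : Injective T.X₂ := (Module.injective_iff_injective_object R (⨁ j, ((S j).X₂ : Type u))).mp
      (InjHull.Noetherian.injective_directSum _ fun j =>
        (Module.injective_iff_injective_object R (S j).X₂).mpr (h2 j))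
    rcases i with - | i
    · refine (subsingleton_H_one_iff hT (isAcyclic_of_injective I T.X₂ 0)).mpr ?_
      have key : ∀ q : ⨁ j, ((S j).X₃ : Type u), (∀ j, q j ∈ DRing.torsionSub I (S j).X₃) →
          q ∈ (DRing.torsionSub I (⨁ j, ((S j).X₂ : Type u))).map g := by
        intro q hq
        rw [← DirectSum.sum_support_of q]
        refine Submodule.sum_mem _ fun j _ => ?_
        have := h2 j
        obtain ⟨e, he, hge⟩ := (subsingleton_H_one_iff (I := I) (hS j)
          (isAcyclic_of_injective I (S j).X₂ 0)).mp (hM j) _ (hq j)
        refine ⟨lof R ι _ j e, DRing.map_mem_torsionSub I _ he, ?_⟩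
        show g _ = _
        rw [DirectSum.lmap_lof, hge, lof_eq_of]
      exact fun q hq => key q fun j => DRing.map_mem_torsionSub I (component R ι _ j) hq
    · refine (subsingleton_H_succ_iff hT (isAcyclic_of_injective I _) i).mpr (ih _ fun j => ?_)
      have := h2 j
      exact (subsingleton_H_succ_iff (hS j) (isAcyclic_of_injective I _) i).mp (hM j)

/-- `cd(R, I) ≤ d` as soon as `Hⁱ_I(R) = 0` for all `i > d`. -/
theorem cdLE_iff_subsingleton_H_self (d : ℕ) :
    (∀ i : ℕ, d < i → Subsingleton (_root_.LocCoh.H I i R)) ↔ _root_.LocCoh.CdLE R I d := by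
  refine ⟨fun h => ?_, fun h i hi => h R i hi⟩
  obtain ⟨s, hs⟩ := IsNoetherian.noetherian I
  have hcd : _root_.LocCoh.CdLE R I s.card := hs ▸ cdLE_span_finset s
  intro M _ _ i hi
  obtain ⟨k, hk⟩ : ∃ k, s.card < i + k := ⟨s.card + 1, by omega⟩
  induction k generalizing i M with
  | zero => exact hcd M i (by omega)
  | succ k ih =>
    classical
    let F : M → Type u := fun _ => R
    let π : (⨁ m, F m) →ₗ[R] M := DirectSum.toModule R M M fun m => LinearMap.toSpanSingleton R M m
    have hπ : Function.Surjective π := fun m =>
      ⟨lof R M F m (1 : R), by rw [DirectSum.toModule_lof]; exact one_smul R m⟩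
    let T : ShortComplex (ModuleCat.{u} R) := ShortComplex.mk
      (X₁ := ModuleCat.of R (LinearMap.ker π)) (X₂ := ModuleCat.of R (⨁ m, F m)) (X₃ := ModuleCat.of R M)
      (ModuleCat.ofHom (LinearMap.ker π).subtype) (ModuleCat.ofHom π)
      (ModuleCat.hom_ext (LinearMap.ext fun x => x.2))
    have hT : T.ShortExact :=
      { exact := (ShortComplex.ShortExact.moduleCat_exact_iff_function_exact _).mpr
          (LinearMap.exact_subtype_ker_map π)
        mono_f := (ModuleCat.mono_iff_injective _).mpr (Submodule.injective_subtype _)
        epi_g := (ModuleCat.epi_iff_surjective _).mpr hπ }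
    exact subsingleton_X₃ hT (subsingleton_H_directSum I i (fun _ => ModuleCat.of R R) fun _ => h i hi)
      (ih (LinearMap.ker π) (i + 1) (by omega) (by omega))

/-- Grothendieck vanishing: `Hⁱ_I(M) = 0` above the dimension of the support. -/
theorem subsingleton_H_of_supportDim_lt : ∀ (d : ℕ) (M : Type u) [AddCommGroup M] [Module R M]
    [Module.Finite R M], Module.supportDim R M < (d : WithBot ℕ∞) →
      ∀ i, d ≤ i → Subsingleton (_root_.LocCoh.H I i M) := by
  intro d
  induction d with
  | zero =>
    intro M _ _ _ h i _
    have : Subsingleton M := by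
      by_contra hM
      have := not_subsingleton_iff_nontrivial.mp hM
      refine Module.supportDim_ne_bot_of_nontrivial R M ?_
      cases hd : Module.supportDim R M with
      | bot => rfl
      | coe a => rw [hd] at h; simp at h
    exact subsingleton_H_of_isZero (M := ModuleCat.of R M) this
  | succ d ih =>
    intro M _ _ hfin h i hi
    induction hfin using IsNoetherianRing.induction_on_isQuotientEquivQuotientPrime R with
    | subsingleton N => exact subsingleton_H_of_isZero (M := ModuleCat.of R N) ‹_›
    | quotient N p e =>
      have := (HLinearEquiv I i e).toEquiv.subsingleton_congr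
      rw [this]
      have hdim : Module.supportDim R (R ⧸ p.1) < ((d + 1 : ℕ) : WithBot ℕ∞) :=
        (Module.supportDim_eq_of_equiv e) ▸ h
      obtain ⟨j, rfl⟩ : ∃ j, i = j + 1 := ⟨i - 1, by omega⟩
      by_cases hI : I ≤ p.1
      · exact subsingleton_H_succ_of_isPowerTorsion I j (ModuleCat.of R (R ⧸ p.1)) fun m =>
          ⟨1, fun a ha => by
            rw [pow_one] at ha
            obtain ⟨r, rfl⟩ := Ideal.Quotient.mk_surjective m
            exact Ideal.Quotient.eq_zero_iff_mem.mpr (p.1.mul_mem_right r (hI ha))⟩
      · obtain ⟨x, hx, hxp⟩ := SetLike.not_le_iff_exists.mp hI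
        have hreg : IsSMulRegular (R ⧸ p.1) x := fun a b hab => by
          obtain ⟨a, rfl⟩ := Ideal.Quotient.mk_surjective a
          obtain ⟨b, rfl⟩ := Ideal.Quotient.mk_surjective b
          have hab' : x * a - x * b ∈ p.1 := Ideal.Quotient.eq.mp hab
          rw [← mul_sub] at hab'
          exact Ideal.Quotient.eq.mpr ((p.2.mem_or_mem hab').resolve_left hxp)
        refine subsingleton_H_succ_of_isSMulRegular I hx (M := ModuleCat.of R (R ⧸ p.1)) hreg j
          (ih (QuotSMulTop x (R ⧸ p.1)) ?_ j (by omega))
        have := Module.supportDim_quotSMulTop_succ_le_of_notMem_minimalPrimes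
          (R := R) (M := R ⧸ p.1) (x := x) fun q hq => by
            rw [Ideal.annihilator_quotient, Ideal.minimalPrimes_eq_subsingleton_self] at hq
            rw [hq]; exact hxp
        exact lt_of_add_lt_add_right ((lt_of_le_of_lt this hdim).trans_eq (by push_cast; rfl))
    | exact N₁ N₂ N₃ f g hf hg hfg h₁ h₃ =>
      let T : ShortComplex (ModuleCat.{u} R) := ShortComplex.mk (ModuleCat.ofHom f) (ModuleCat.ofHom g)
        (ModuleCat.hom_ext hfg.linearMap_comp_eq_zero)
      have hT : T.ShortExact :=
        { exact := (ShortComplex.ShortExact.moduleCat_exact_iff_function_exact _).mpr hfg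
          mono_f := (ModuleCat.mono_iff_injective _).mpr hf
          epi_g := (ModuleCat.epi_iff_surjective _).mpr hg }
      exact subsingleton_X₂ hT
        (h₁ ((Module.supportDim_le_of_injective f hf).trans_lt h))
        (h₃ ((Module.supportDim_le_of_surjective g hg).trans_lt h))

theorem cdLE_of_ringKrullDim_le (d : ℕ) (hd : ringKrullDim R ≤ d) : _root_.LocCoh.CdLE R I d := by
  refine (cdLE_iff_subsingleton_H_self I d).mp fun i hi =>
    subsingleton_H_of_supportDim_lt I (d + 1) R ?_ i hi
  rw [Module.supportDim_self_eq_ringKrullDim]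
  exact hd.trans_lt (by exact_mod_cast Nat.lt_succ_self d)

end Groth.Agent.LocCoh
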