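import Groth.Agent.LocCoh.AffineCompl
import Groth.Agent.LocCoh.Punctured
import Mathlib.AlgebraicGeometry.Morphisms.Affine

/-!
# `cd(A, I) ≤ 1` implies that the punctured spectrum is affine
-/

universe u

open CategoryTheory AlgebraicGeometry Opposite

namespace Groth.Agent.LocCoh

variable {A : Type u} [CommRing A]

/-- the inclusion `I^m → I^n` -/
def powIncl (I : Ideal A) {n m : ℕ} (h : n ≤ m) : (I ^ m : Ideal A) →ₗ[A] (I ^ n : Ideal A) :=
  Submodule.inclusion (Ideal.pow_le_pow_right h)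

/-- the sequence `0 → I^n → A → A/I^n → 0` -/
noncomputable def powSeq (I : Ideal A) (n : ℕ) : ShortComplex (ModuleCat.{u} A) :=
  ShortComplex.mk (ModuleCat.ofHom (Submodule.subtype (I ^ n : Ideal A)) : ModuleCat.of A (I ^ n : Ideal A) ⟶ ModuleCat.of A A)
    (ModuleCat.ofHom (Submodule.mkQ (I ^ n : Ideal A)) : ModuleCat.of A A ⟶ quotPow I n)
    (ModuleCat.hom_ext (LinearMap.ext fun x => (Submodule.Quotient.mk_eq_zero _).mpr x.2))

theorem powSeq_shortExact (I : Ideal A) (n : ℕ) : (powSeq I n).ShortExact where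
  exact := (ShortComplex.ShortExact.moduleCat_exact_iff_function_exact _).mpr (LinearMap.exact_subtype_mkQ _)
  mono_f := (ModuleCat.mono_iff_injective _).mpr Subtype.val_injective
  epi_g := (ModuleCat.epi_iff_surjective _).mpr (Submodule.mkQ_surjective _)

/-- Lifting a map along an epimorphism when the obstruction class is killed. -/
theorem exists_lift_of_class_eq_zero {S T T' : ShortComplex (ModuleCat.{u} A)} (hS : S.ShortExact)
    (hT : T.ShortExact) (hT' : T'.ShortExact) (φ : T' ⟶ T) [Projective T'.X₂] (w : T.X₁ ⟶ S.X₃)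
    (h0 : (Abelian.Ext.mk₀ φ.τ₃).comp
      (hT.extClass.comp ((Abelian.Ext.mk₀ w).comp hS.extClass (zero_add 1)) (show 1 + 1 = 2 by rfl))
      (zero_add 2) = 0) :
    ∃ v : T'.X₁ ⟶ S.X₂, v ≫ S.g = φ.τ₁ ≫ w := by
  let e : Abelian.Ext T.X₁ S.X₁ 1 := (Abelian.Ext.mk₀ w).comp hS.extClass (zero_add 1)
  let e' : Abelian.Ext T'.X₁ S.X₁ 1 := (Abelian.Ext.mk₀ φ.τ₁).comp e (zero_add 1)
  have he' : hT'.extClass.comp e' (show 1 + 1 = 2 by rfl) = 0 := by
    refine Eq.trans ?_ h0
    rw [← Abelian.Ext.comp_assoc_of_second_deg_zero, hT'.extClass_naturality hT φ,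
      Abelian.Ext.comp_assoc _ _ _ (zero_add 1) (show 1 + 1 = 2 by rfl) (by omega)]
  obtain ⟨x, hx⟩ := Abelian.Ext.contravariant_sequence_exact₁ hT' _ e' _ he'
  rw [Abelian.Ext.eq_zero_of_projective x, Abelian.Ext.comp_zero] at hx
  have hz : (Abelian.Ext.mk₀ (φ.τ₁ ≫ w)).comp hS.extClass (zero_add 1) = 0 := by
    rw [← Abelian.Ext.mk₀_comp_mk₀_assoc]
    exact hx.symm
  obtain ⟨y, hy⟩ := Abelian.Ext.covariant_sequence_exact₃ _ hS _ (zero_add 1) hz
  refine ⟨Abelian.Ext.homEquiv₀ y, ?_⟩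
  apply Abelian.Ext.homEquiv₀.symm.injective
  refine Eq.trans ?_ hy
  show Abelian.Ext.mk₀ _ = _
  rw [← Abelian.Ext.mk₀_comp_mk₀, Abelian.Ext.mk₀_homEquiv₀_apply]

/-- If `H^2_I` of the kernel vanishes, maps out of `I^n` lift after shrinking. -/
theorem exists_lift_of_subsingleton_H_two {I : Ideal A} {S : ShortComplex (ModuleCat.{u} A)}
    (hS : S.ShortExact) (h2 : Subsingleton ((localCohomology I 2).obj S.X₁)) (n : ℕ)
    (w : ModuleCat.of A (I ^ n : Ideal A) ⟶ S.X₃) :
    ∃ (m : ℕ) (hm : n ≤ m) (v : ModuleCat.of A (I ^ m : Ideal A) ⟶ S.X₂),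
      v ≫ S.g = ModuleCat.ofHom (powIncl I hm) ≫ w := by
  obtain ⟨m, hm, h0⟩ := (subsingleton_H_iff (i := 2) (M := S.X₁)).mp h2 n
    ((powSeq_shortExact I n).extClass.comp ((Abelian.Ext.mk₀ w).comp hS.extClass (zero_add 1))
      (show 1 + 1 = 2 by rfl))
  have : Projective (powSeq I m).X₂ := inferInstanceAs (Projective (ModuleCat.of A A))
  let φ : powSeq I m ⟶ powSeq I n :=
    { τ₁ := ModuleCat.ofHom (powIncl I hm)
      τ₂ := 𝟙 _
      τ₃ := qpow I hm
      comm₁₂ := rfl
      comm₂₃ := rfl }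
  obtain ⟨v, hv⟩ := exists_lift_of_class_eq_zero hS (powSeq_shortExact I n) (powSeq_shortExact I m) φ w h0
  exact ⟨m, hm, v, hv⟩

variable [IsNoetherianRing A]

/-- `cd(A, I) ≤ 1` gives affineness of the complement. -/
theorem isAffineOpen_puncturedOpen {I : Ideal A} (h : _root_.LocCoh.CdLE A I 1) :
    IsAffineOpen (_root_.LocCoh.puncturedOpen A I) := by
  classical
  obtain ⟨s, hs⟩ := IsNoetherian.noetherian I
  let a : {x // x ∈ s} → A := fun i => i.1
  have ha : ∀ i, a i ∈ I := fun i => hs ▸ Submodule.subset_span i.2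
  have hI : I = Ideal.span (Set.range a) := by
    rw [show Set.range a = (s : Set A) from Subtype.range_coe]
    exact hs.symm
  let π : ({x // x ∈ s} → A) →ₗ[A] I :=
    (Fintype.linearCombination A a).codRestrict I fun c => by
      rw [Fintype.linearCombination_apply]
      exact Submodule.sum_mem _ fun i _ => Submodule.smul_mem _ _ (ha i)
  have hπ : Function.Surjective π := by
    rintro ⟨x, hx⟩
    obtain ⟨c, hc⟩ := (Submodule.mem_span_range_iff_exists_fun A).mp (hI ▸ hx)
    exact ⟨c, Subtype.ext ((Fintype.linearCombination_apply A a c).trans hc)⟩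
  let w : ModuleCat.of A (I ^ 1 : Ideal A) ⟶ ModuleCat.of A I :=
    ModuleCat.ofHom (Submodule.inclusion (le_of_eq (pow_one I)))
  obtain ⟨n, hn, v, hv⟩ := exists_lift_of_subsingleton_H_two (I := I)
    (LinearMap.shortExact_shortComplexKer hπ) (h _ 2 one_lt_two) 1 w
  let t : {x // x ∈ s} → (I ^ n : Ideal A) →ₗ[A] A := fun i => (LinearMap.proj i).comp v.hom
  have ht : ∀ x : (I ^ n : Ideal A), ∑ i, t i x * a i = x.1 := fun x => by
    have hx := congrArg Subtype.val (ConcreteCategory.congr_hom hv x)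
    exact (Fintype.linearCombination_apply A a (v.hom x)).symm.trans hx
  let X := Spec (CommRingCat.of A)
  let U : X.Opens := _root_.LocCoh.puncturedOpen A I
  let γ : A →+* Γ(X, ⊤) := (Scheme.ΓSpecIso (CommRingCat.of A)).inv.hom
  let ρ : ∀ W : X.Opens, A →+* Γ(X, W) := fun W =>
    (X.presheaf.map (homOfLE (le_top : W ≤ ⊤)).op).hom.comp γ
  have hρ : ∀ {W W' : X.Opens} (hle : W' ≤ W) (x : A),
      (X.presheaf.map (homOfLE hle).op).hom (ρ W x) = ρ W' x := fun {W W'} hle x => by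
    show (X.presheaf.map (homOfLE (le_top : W ≤ ⊤)).op ≫ X.presheaf.map (homOfLE hle).op).hom (γ x) = _
    rw [← X.presheaf.map_comp]
    rfl
  have hbasic : ∀ x : A, X.basicOpen (γ x) = PrimeSpectrum.basicOpen x := fun x => by
    rw [basicOpen_eq_of_affine]
  have hD : ∀ (x : A), IsUnit (ρ (X.basicOpen (γ x)) x) := fun x =>
    RingedSpace.isUnit_res_basicOpen _ (γ x)
  let D : {x // x ∈ s} → X.Opens := fun k => X.basicOpen (γ (a k))
  have hUD : U = ⨆ k, D k := by
    simp only [D, hbasic]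
    exact Punctured.puncturedOpen_eq_iSup a I hI
  let p : ∀ k, (I ^ n : Ideal A) := fun k => ⟨a k ^ n, Ideal.pow_mem_pow (ha k) n⟩
  let u : ∀ k, Γ(X, D k)ˣ := fun k => ((hD (a k)).pow n).unit
  have hu : ∀ k, (u k : Γ(X, D k)) = ρ (D k) (a k ^ n) := fun k =>
    (IsUnit.unit_spec _).trans (map_pow _ _ _).symm
  have key : ∀ i, ∃ g : Γ(X, U), ∀ k (hle : D k ≤ U),
      (X.presheaf.map (homOfLE hle).op).hom g * ρ (D k) (a k ^ n) = ρ (D k) (t i (p k)) := by
    intro i
    let z : ∀ k, Γ(X, D k) := fun k => ρ (D k) (t i (p k)) * ↑(u k)⁻¹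
    have hz : ∀ k, z k * ρ (D k) (a k ^ n) = ρ (D k) (t i (p k)) := fun k => by
      rw [← hu, mul_assoc, Units.inv_mul, mul_one]
    have hle : ∀ k, D k ≤ U := fun k => hUD ▸ le_iSup D k
    obtain ⟨g, hg, -⟩ := X.sheaf.existsUnique_gluing' D U (fun k => homOfLE (hle k)) hUD.le z
      (fun k l => by
        have huk := (u k).isUnit.map (X.presheaf.map (homOfLE (inf_le_left : D k ⊓ D l ≤ D k)).op).hom
        have hul := (u l).isUnit.map (X.presheaf.map (homOfLE (inf_le_right : D k ⊓ D l ≤ D l)).op).hom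
        rw [hu, hρ] at huk hul
        have hk := congrArg (X.presheaf.map (homOfLE (inf_le_left : D k ⊓ D l ≤ D k)).op).hom (hz k)
        have hl := congrArg (X.presheaf.map (homOfLE (inf_le_right : D k ⊓ D l ≤ D l)).op).hom (hz l)
        rw [map_mul, hρ, hρ] at hk hl
        apply (huk.mul hul).mul_right_cancel
        calc _ = ρ (D k ⊓ D l) (t i (p k)) * ρ (D k ⊓ D l) (a l ^ n) := by
              exact (mul_assoc _ _ _).symm.trans (congrArg (· * _) hk)
          _ = ρ (D k ⊓ D l) (t i (p l)) * ρ (D k ⊓ D l) (a k ^ n) := by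
              rw [← map_mul, ← map_mul]
              refine congrArg _ ?_
              rw [mul_comm, ← smul_eq_mul, ← map_smul, mul_comm (t i (p l)), ← smul_eq_mul (a := a k ^ n),
                ← map_smul]
              exact congrArg _ (Subtype.ext (mul_comm _ _))
          _ = _ := by
              exact ((congrArg (· * _) hl.symm).trans (mul_assoc _ _ _)).trans
                (congrArg _ (mul_comm _ _)))
    refine ⟨g, fun k hk => ?_⟩
    have : (X.presheaf.map (homOfLE hk).op).hom g = z k := hg k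
    exact (congrArg (fun y : Γ(X, D k) => y * ρ (D k) (a k ^ n)) this).trans (hz k)
  choose g hg using key
  have hone : ∑ i, g i * ρ U (a i) = 1 := by
    refine X.sheaf.eq_of_locally_eq' D U (fun k => homOfLE (hUD ▸ le_iSup D k)) hUD.le _ _ fun k => ?_
    show (X.presheaf.map _).hom _ = (X.presheaf.map _).hom _
    rw [map_one, map_sum]
    apply (u k).isUnit.mul_right_cancel
    rw [one_mul, Finset.sum_mul, hu]
    refine (Finset.sum_congr rfl fun i _ => ?_).trans ((map_sum (ρ (D k)) _ _).symm.trans (congrArg _ (ht (p k))))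
    rw [map_mul, map_mul, hρ, mul_right_comm, hg]
  refine isAffineOpen_of_isAffineOpen_basicOpen U (Set.range fun i => ρ U (a i)) ?_ ?_
  · rw [Ideal.eq_top_iff_one, ← hone]
    exact Ideal.sum_mem _ fun i _ => Ideal.mul_mem_left _ _ (Ideal.subset_span ⟨i, rfl⟩)
  · rintro _ ⟨i, rfl⟩
    show IsAffineOpen (X.basicOpen (ρ U (a i)))
    rw [show X.basicOpen (ρ U (a i)) = U ⊓ D i from X.basicOpen_res _ _,
      inf_eq_right.mpr (hUD ▸ le_iSup D i)]
    exact (isAffineOpen_top X).basicOpen _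

end Groth.Agent.LocCoh
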