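import Groth.Agent.LocCoh.DepthVanishing

/-!
# Acyclic modules for `Γ_I`, cohomological dimension of sums of ideals

* `subsingleton_H_one_iff`, `subsingleton_H_succ_iff`: dimension shifting with an acyclic middle term;
* `IsDivModTorsion x N`: `x` acts surjectively on `N ⧸ Γ_(x) N`; such modules are `Γ_(x)`-acyclic;
* `subsingleton_H_sup_iff_of_isPowerTorsion`, `isAcyclic_sup`;
* `cdLE_singleton`, `cdLE_bot`, `cdLE_sup`, `cdLE_span_finset`.
-/

universe u

open CategoryTheory Limits

namespace Groth.Agent.LocCoh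

variable {R : Type u} [CommRing R]

/-- All higher local cohomology with support in `I` vanishes. -/
def IsAcyclic (I : Ideal R) (N : ModuleCat.{u} R) : Prop :=
  ∀ i : ℕ, Subsingleton ((localCohomology I (i + 1)).obj N)

theorem isAcyclic_of_injective (I : Ideal R) (N : ModuleCat.{u} R) [Injective N] : IsAcyclic I N :=
  fun _ => subsingleton_H_succ_of_injective N

theorem isAcyclic_congr {I : Ideal R} {N N' : ModuleCat.{u} R} (e : N ≅ N') (h : IsAcyclic I N) :
    IsAcyclic I N' := fun i => by
  have := h i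
  exact ((localCohomology I (i + 1)).mapIso e).toLinearEquiv.symm.toEquiv.subsingleton

section Shift

variable {I : Ideal R} {S : ShortComplex (ModuleCat.{u} R)} (hS : S.ShortExact)

include hS

theorem subsingleton_H_one_iff (h2 : Subsingleton ((localCohomology I 1).obj S.X₂)) :
    Subsingleton ((localCohomology I 1).obj S.X₁) ↔
      ∀ q ∈ DRing.torsionSub I S.X₃, ∃ e ∈ DRing.torsionSub I S.X₂, S.g.hom e = q := by
  constructor
  · intro h q hq
    obtain ⟨z, hz⟩ := (exact₃ (I := I) (i := 0) hS ((H0Equiv I S.X₃).symm ⟨q, hq⟩)).mp (h.elim _ _)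
    refine ⟨(H0Equiv I S.X₂ z : S.X₂), (H0Equiv I S.X₂ z).2, ?_⟩
    rw [← H0Equiv_naturality, hz, LinearEquiv.apply_symm_apply]
  · intro h
    refine subsingleton_of_forall_eq 0 fun x => ?_
    obtain ⟨y, rfl⟩ := (exact₁ (I := I) (i := 0) hS x).mp (h2.elim _ _)
    obtain ⟨e, he, hge⟩ := h _ (H0Equiv I S.X₃ y).2
    have : ((localCohomology I 0).map S.g).hom ((H0Equiv I S.X₂).symm ⟨e, he⟩) = y := by
      apply (H0Equiv I S.X₃).injective
      apply Subtype.ext
      rw [H0Equiv_naturality, LinearEquiv.apply_symm_apply]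
      exact hge
    rw [← this]
    exact (exact₃ (I := I) (i := 0) hS).apply_apply_eq_zero _

theorem subsingleton_H_succ_iff (h2 : IsAcyclic I S.X₂) (i : ℕ) :
    Subsingleton ((localCohomology I (i + 2)).obj S.X₁) ↔
      Subsingleton ((localCohomology I (i + 1)).obj S.X₃) := by
  constructor
  · exact fun h => subsingleton_X₃ hS (h2 i) h
  · intro h
    refine subsingleton_of_forall_eq 0 fun x => ?_
    obtain ⟨y, rfl⟩ := (exact₁ (I := I) (i := i + 1) hS x).mp ((h2 (i + 1)).elim _ _)
    rw [h.elim y 0]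
    exact map_zero _

end Shift

/-- A short exact sequence with injective middle term. -/
theorem exists_injective_shortExact (M : ModuleCat.{u} R) :
    ∃ (S : ShortComplex (ModuleCat.{u} R)), S.ShortExact ∧ S.X₁ = M ∧ Injective S.X₂ :=
  ⟨ShortComplex.mk (Injective.ι M) (cokernel.π _) (cokernel.condition _),
    { exact := ShortComplex.exact_cokernel _ }, rfl, inferInstanceAs (Injective (Injective.under M))⟩

theorem isAcyclic_of_smul_bijective {I : Ideal R} {x : R} (hx : x ∈ I) (N : ModuleCat.{u} R)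
    (h : Function.Bijective fun m : N => x • m) (i : ℕ) :
    Subsingleton ((localCohomology I i).obj N) := by
  refine subsingleton_of_forall_eq 0 fun y => ?_
  refine eq_zero_of_isPowerTorsion_of_isSMulRegular (isPowerTorsion_H (i := i) N) hx
    (fun z hz => ?_) y
  let e : N ≅ N := (LinearEquiv.ofBijective (LinearMap.lsmul R N x) h).toModuleIso
  have he : e.hom = x • 𝟙 N := rfl
  have hz' : ((localCohomology I i).mapIso e).hom.hom z = 0 := by
    rw [Functor.mapIso_hom, he, map_smul_id, hz]
  exact ((localCohomology I i).mapIso e).toLinearEquiv.map_eq_zero_iff.mp hz'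

theorem mem_torsionSub_span_singleton {x : R} {M : Type u} [AddCommGroup M] [Module R M] {m : M} :
    m ∈ DRing.torsionSub (Ideal.span {x}) M ↔ ∃ n : ℕ, x ^ n • m = 0 := by
  refine exists_congr fun n => ?_
  rw [Ideal.span_singleton_pow]
  refine ⟨fun h => h _ (Ideal.mem_span_singleton_self _), fun h a ha => ?_⟩
  obtain ⟨b, rfl⟩ := Ideal.mem_span_singleton'.mp ha
  rw [mul_smul, h, smul_zero]

/-- Multiplication by `x` is surjective modulo the `x`-power torsion. -/
def IsDivModTorsion (x : R) (N : Type u) [AddCommGroup N] [Module R N] : Prop :=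
  ∀ e : N, ∃ (e' : N) (n : ℕ), x ^ n • (e - x • e') = 0

theorem IsDivModTorsion.of_surjective {x : R} {N N' : Type u} [AddCommGroup N] [Module R N]
    [AddCommGroup N'] [Module R N'] (h : IsDivModTorsion x N) (f : N →ₗ[R] N')
    (hf : Function.Surjective f) : IsDivModTorsion x N' := fun e => by
  obtain ⟨e, rfl⟩ := hf e
  obtain ⟨e', n, hn⟩ := h e
  exact ⟨f e', n, by rw [← map_smul, ← map_sub, ← map_smul, hn, map_zero]⟩

theorem isDivModTorsion_of_injective [IsNoetherianRing R] (x : R) (E : Type u) [AddCommGroup E]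
    [Module R E] [hE : Module.Injective R E] : IsDivModTorsion x E := by
  intro e
  -- the annihilators of the powers of `x` stabilise
  obtain ⟨N, hN⟩ : ∃ N : ℕ, ∀ r : R, r * x ^ (N + 1) = 0 → r * x ^ N = 0 := by
    let f : ℕ →o Submodule R R :=
      ⟨fun n => LinearMap.ker (LinearMap.toSpanSingleton R R (x ^ n)),
        monotone_nat_of_le_succ fun n r hr => by
          simp only [LinearMap.mem_ker, LinearMap.toSpanSingleton_apply, smul_eq_mul] at hr ⊢
          rw [pow_succ, ← mul_assoc, hr, zero_mul]⟩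
    obtain ⟨N, hN⟩ := monotone_stabilizes_iff_noetherian.mpr ‹_› f
    refine ⟨N, fun r hr => ?_⟩
    have : r ∈ f (N + 1) := by simpa [f] using hr
    rw [← hN (N + 1) N.le_succ] at this
    simpa [f] using this
  let K := LinearMap.ker (LinearMap.toSpanSingleton R R (x ^ (N + 1)))
  let g : (R ⧸ K) →ₗ[R] E := K.liftQ (LinearMap.toSpanSingleton R E (x ^ N • e)) fun r hr => by
    simp only [K, LinearMap.mem_ker, LinearMap.toSpanSingleton_apply, smul_eq_mul] at hr ⊢
    rw [smul_smul, hN r hr, zero_smul]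
  let j : (R ⧸ K) →ₗ[R] R := K.liftQ (LinearMap.toSpanSingleton R R (x ^ (N + 1))) le_rfl
  obtain ⟨h, hh⟩ := hE.out j (LinearMap.ker_eq_bot.mp (Submodule.ker_liftQ_eq_bot' _ _ rfl)) g
  refine ⟨h 1, N, ?_⟩
  have h1 := hh (K.mkQ 1)
  simp only [j, g, Submodule.mkQ_apply, Submodule.liftQ_apply, LinearMap.toSpanSingleton_apply,
    one_smul] at h1
  rw [smul_sub, smul_smul, ← pow_succ, ← map_smul, smul_eq_mul, mul_one, h1, sub_self]

variable [IsNoetherianRing R]

theorem isAcyclic_span_singleton {x : R} {N : ModuleCat.{u} R} (h : IsDivModTorsion x N) :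
    IsAcyclic (Ideal.span {x}) N := by
  intro i
  let T := DRing.torsionSub (Ideal.span {x}) N
  have hbij : Function.Bijective fun m : N ⧸ T => x • m := by
    refine ⟨fun a b hab => ?_, fun b => ?_⟩
    · obtain ⟨a, rfl⟩ := Submodule.Quotient.mk_surjective _ a
      obtain ⟨b, rfl⟩ := Submodule.Quotient.mk_surjective _ b
      simp only [← Submodule.Quotient.mk_smul, Submodule.Quotient.eq, ← smul_sub] at hab ⊢
      obtain ⟨n, hn⟩ := mem_torsionSub_span_singleton.mp hab
      exact mem_torsionSub_span_singleton.mpr ⟨n + 1, by rw [pow_succ, mul_smul, hn]⟩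
    · obtain ⟨b, rfl⟩ := Submodule.Quotient.mk_surjective _ b
      obtain ⟨e', n, hn⟩ := h b
      refine ⟨Submodule.Quotient.mk e', ?_⟩
      show x • Submodule.Quotient.mk e' = Submodule.Quotient.mk b
      rw [← Submodule.Quotient.mk_smul, eq_comm, Submodule.Quotient.eq]
      exact mem_torsionSub_span_singleton.mpr ⟨n, hn⟩
  have := isAcyclic_of_smul_bijective (I := Ideal.span {x}) (Ideal.mem_span_singleton_self x)
    (ModuleCat.of R (N ⧸ T)) hbij (i + 1)
  exact (Equiv.ofBijective _ (bijective_map_mkQ (Ideal.span {x}) N i)).subsingleton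

theorem cdLE_singleton (x : R) : _root_.LocCoh.CdLE R (Ideal.span {x}) 1 := by
  intro M _ _ i hi
  obtain ⟨j, rfl⟩ : ∃ j, i = j + 2 := ⟨i - 2, by omega⟩
  obtain ⟨S, hS, h1, h2⟩ := exists_injective_shortExact (ModuleCat.of R M)
  show Subsingleton ((localCohomology (Ideal.span {x}) (j + 2)).obj (ModuleCat.of R M))
  rw [← h1, subsingleton_H_succ_iff hS (isAcyclic_of_injective _ _)]
  have hE : Module.Injective R S.X₂ := (Module.injective_iff_injective_object R S.X₂).mpr h2
  exact isAcyclic_span_singleton ((isDivModTorsion_of_injective x S.X₂).of_surjective S.g.hom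
    ((ModuleCat.epi_iff_surjective _).mp hS.epi_g)) j

theorem cdLE_bot : _root_.LocCoh.CdLE R (⊥ : Ideal R) 0 := by
  intro M _ _ i hi
  obtain ⟨j, rfl⟩ : ∃ j, i = j + 1 := ⟨i - 1, by omega⟩
  exact subsingleton_H_succ_of_isPowerTorsion ⊥ j (ModuleCat.of R M) fun m =>
    ⟨1, fun a ha => by rw [pow_one, Ideal.mem_bot] at ha; rw [ha, zero_smul]⟩

omit [IsNoetherianRing R] in
theorem torsionSub_le_of_le {I J : Ideal R} (h : I ≤ J) (M : Type u) [AddCommGroup M] [Module R M] :
    DRing.torsionSub J M ≤ DRing.torsionSub I M :=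
  fun _ ⟨n, hn⟩ => ⟨n, fun a ha => hn a (Ideal.pow_right_mono h n ha)⟩

omit [IsNoetherianRing R] in
theorem torsionSub_sup (I J : Ideal R) (M : Type u) [AddCommGroup M] [Module R M] :
    DRing.torsionSub (I ⊔ J) M = DRing.torsionSub I M ⊓ DRing.torsionSub J M := by
  refine le_antisymm (le_inf (torsionSub_le_of_le le_sup_left M) (torsionSub_le_of_le le_sup_right M))
    fun m ⟨⟨n, hn⟩, k, hk⟩ => ⟨n + k, fun a ha => ?_⟩
  obtain ⟨b, hb, c, hc, rfl⟩ := Submodule.mem_sup.mp (Ideal.sup_pow_add_le_pow_sup_pow ha)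
  rw [add_smul, hn b hb, hk c hc, add_zero]

/-- On `I`-torsion modules `H_{I ⊔ J}` and `H_J` vanish together. -/
theorem subsingleton_H_sup_iff_of_isPowerTorsion (I J : Ideal R) : ∀ (i : ℕ) (T : ModuleCat.{u} R),
    _root_.LocCoh.IsPowerTorsion I T →
      (Subsingleton ((localCohomology (I ⊔ J) (i + 1)).obj T) ↔
        Subsingleton ((localCohomology J (i + 1)).obj T)) := by
  intro i
  induction i with
  | zero =>
    intro T hT
    obtain ⟨E, f, hf, hE, hEt⟩ := exists_mono_torsion_injective I T hT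
    let S := ShortComplex.mk f (cokernel.π f) (cokernel.condition f)
    have hS : S.ShortExact := { exact := ShortComplex.exact_cokernel f }
    have hQ : _root_.LocCoh.IsPowerTorsion I S.X₃ :=
      isPowerTorsion_of_surjective S.g.hom ((ModuleCat.epi_iff_surjective _).mp hS.epi_g) hEt
    have he : ∀ {N : ModuleCat.{u} R}, _root_.LocCoh.IsPowerTorsion I N →
        DRing.torsionSub (I ⊔ J) N = DRing.torsionSub J N := fun {N} hN => by
      rw [torsionSub_sup, inf_eq_right]
      exact fun m _ => hN m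
    have : Injective S.X₂ := hE
    rw [subsingleton_H_one_iff (S := S) hS (isAcyclic_of_injective (I ⊔ J) S.X₂ 0),
      subsingleton_H_one_iff (S := S) hS (isAcyclic_of_injective J S.X₂ 0), he hQ, he hEt]
  | succ i ih =>
    intro T hT
    obtain ⟨E, f, hf, hE, hEt⟩ := exists_mono_torsion_injective I T hT
    let S := ShortComplex.mk f (cokernel.π f) (cokernel.condition f)
    have hS : S.ShortExact := { exact := ShortComplex.exact_cokernel f }
    have hQ : _root_.LocCoh.IsPowerTorsion I S.X₃ :=
      isPowerTorsion_of_surjective S.g.hom ((ModuleCat.epi_iff_surjective _).mp hS.epi_g) hEt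
    have : Injective S.X₂ := hE
    rw [subsingleton_H_succ_iff (S := S) hS (isAcyclic_of_injective _ _),
      subsingleton_H_succ_iff (S := S) hS (isAcyclic_of_injective _ _), ih S.X₃ hQ]

/-- For `I`-acyclic `N`, `H_{I ⊔ J}` of `N` vanishes when `H_J` of `Γ_I N` does. -/
theorem subsingleton_H_sup_of_isAcyclic {I J : Ideal R} {N : ModuleCat.{u} R} (hN : IsAcyclic I N)
    (i : ℕ) (h : Subsingleton ((localCohomology J (i + 1)).obj
      (ModuleCat.of R (DRing.torsionSub I N)))) :
    Subsingleton ((localCohomology (I ⊔ J) (i + 1)).obj N) := by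
  let T := DRing.torsionSub I N
  let S : ShortComplex (ModuleCat.{u} R) :=
    ShortComplex.mk (ModuleCat.ofHom T.subtype) (ModuleCat.ofHom T.mkQ) (by ext x; simp)
  have hS : S.ShortExact :=
    { exact := (ShortComplex.ShortExact.moduleCat_exact_iff_function_exact _).mpr
        (LinearMap.exact_subtype_mkQ _)
      mono_f := (ModuleCat.mono_iff_injective _).mpr (Submodule.injective_subtype _)
      epi_g := (ModuleCat.epi_iff_surjective _).mpr (Submodule.mkQ_surjective _) }
  have hT : _root_.LocCoh.IsPowerTorsion I S.X₁ := isPowerTorsion_torsionSub I N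
  have hall : ∀ j, Subsingleton ((localCohomology I j).obj S.X₃) := by
    rintro (- | j)
    · have h0 : Subsingleton (DRing.torsionSub I S.X₃) := subsingleton_of_forall_eq 0 fun q => by
        obtain ⟨e, he, heq⟩ := (subsingleton_H_one_iff (I := I) hS (hN 0)).mp
          (subsingleton_H_succ_of_isPowerTorsion I 0 S.X₁ hT) _ q.2
        exact Subtype.ext (heq.symm.trans ((Submodule.Quotient.mk_eq_zero T).mpr he))
      exact (H0Equiv I S.X₃).toEquiv.subsingleton
    · exact subsingleton_X₃ hS (hN j) (subsingleton_H_succ_of_isPowerTorsion I (j + 1) S.X₁ hT)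
  refine subsingleton_X₂ hS ((subsingleton_H_sup_iff_of_isPowerTorsion I J i S.X₁ hT).mpr h) ?_
  refine subsingleton_H_of_forall_ext fun n => ?_
  refine subsingleton_ext_of_forall_subsingleton_H (J := I) (i + 2) S.X₃ (fun j _ => hall j)
    (quotPow (I ⊔ J) n) n ?_ (i + 1) (by omega)
  intro a ha
  refine Module.mem_annihilator.mpr fun y => ?_
  obtain ⟨r, rfl⟩ := Ideal.Quotient.mk_surjective y
  exact Ideal.Quotient.eq_zero_iff_mem.mpr
    ((_ : Ideal R).mul_mem_right r (Ideal.pow_right_mono le_sup_left n ha))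

theorem isAcyclic_sup {I J : Ideal R} {N : ModuleCat.{u} R} (hI : IsAcyclic I N)
    (hJ : IsAcyclic J (ModuleCat.of R (DRing.torsionSub I N))) : IsAcyclic (I ⊔ J) N :=
  fun i => subsingleton_H_sup_of_isAcyclic hI i (hJ i)

theorem cdLE_sup (I J : Ideal R) : ∀ (a b : ℕ), _root_.LocCoh.CdLE R I a →
    _root_.LocCoh.CdLE R J b → _root_.LocCoh.CdLE R (I ⊔ J) (a + b) := by
  intro a b hI hJ
  suffices ∀ (d : ℕ) (N : ModuleCat.{u} R),
      (∀ i, d < i → Subsingleton ((localCohomology I i).obj N)) →
        ∀ i, d + b < i → Subsingleton ((localCohomology (I ⊔ J) i).obj N) from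
    fun M _ _ i hi => this a (ModuleCat.of R M) (fun j hj => hI M j hj) i hi
  intro d
  induction d with
  | zero =>
    intro N h i hi
    obtain ⟨j, rfl⟩ : ∃ j, i = j + 1 := ⟨i - 1, by omega⟩
    exact subsingleton_H_sup_of_isAcyclic (fun k => h (k + 1) k.succ_pos) j
      (hJ (DRing.torsionSub I N) (j + 1) (by omega))
  | succ d ih =>
    intro N h i hi
    obtain ⟨j, rfl⟩ : ∃ j, i = j + 2 := ⟨i - 2, by omega⟩
    obtain ⟨S, hS, rfl, h2⟩ := exists_injective_shortExact N
    rw [subsingleton_H_succ_iff hS (isAcyclic_of_injective _ _)]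
    refine ih S.X₃ (fun k hk => ?_) (j + 1) (by omega)
    obtain ⟨k, rfl⟩ : ∃ k', k = k' + 1 := ⟨k - 1, by omega⟩
    exact (subsingleton_H_succ_iff hS (isAcyclic_of_injective _ _) k).mp (h (k + 2) (by omega))

theorem cdLE_span_finset (s : Finset R) : _root_.LocCoh.CdLE R (Ideal.span (s : Set R)) s.card := by
  classical
  induction s using Finset.induction with
  | empty =>
    rw [Finset.coe_empty, Ideal.span_empty, Finset.card_empty]
    exact cdLE_bot
  | insert a s ha ih =>
    rw [Finset.coe_insert, Ideal.span_insert, Finset.card_insert_of_notMem ha, add_comm s.card 1]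
    exact cdLE_sup _ _ 1 s.card (cdLE_singleton a) ih

end Groth.Agent.LocCoh
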