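import Groth.Agent.LocCoh.BaseChange
import Groth.Agent.LocCoh.Acyclic
import Mathlib.RingTheory.Localization.BaseChange

/-!
# Independence and flat base change of local cohomology, as isomorphisms

* `nonempty_H_restrict`: `Hⁱ_{IB}(N) ≅ Hⁱ_I(N)` over `A`;
* `nonempty_H_tensor`: `B ⊗ Hⁱ_I(M) ≅ Hⁱ_{IB}(B ⊗ M)` for flat `B`;
* `surjective_lsmul_tensor`: the Baer property of `B ⊗ E` at extended ideals.
-/

universe u

open CategoryTheory Limits TensorProduct

namespace Groth.Agent.LocCoh.BaseChangeIso

variable {A : Type u} [CommRing A] [IsNoetherianRing A] {B : Type u} [CommRing B] [IsNoetherianRing B]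
  [Algebra A B]

section Aux

variable {R : Type u} [CommRing R] {I : Ideal R}

/-- The composite `Γ_I(X₃) → H¹_I(X₁)`. -/
noncomputable abbrev δ₀ {S : ShortComplex (ModuleCat.{u} R)} (hS : S.ShortExact) :
    DRing.torsionSub I S.X₃ →ₗ[R] (localCohomology I 1).obj S.X₁ :=
  δH (I := I) 0 hS ∘ₗ (H0Equiv I S.X₃).symm.toLinearMap

theorem surjective_δ₀ {S : ShortComplex (ModuleCat.{u} R)} (hS : S.ShortExact)
    (h2 : Subsingleton ((localCohomology I 1).obj S.X₂)) : Function.Surjective (δ₀ (I := I) hS) := fun x => by
  obtain ⟨y, rfl⟩ := (exact₁ (I := I) (i := 0) hS x).1 (h2.elim _ _)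
  exact ⟨H0Equiv I S.X₃ y, congrArg (δH (I := I) 0 hS) ((H0Equiv I S.X₃).symm_apply_apply y)⟩

theorem δ₀_eq_zero_iff {S : ShortComplex (ModuleCat.{u} R)} (hS : S.ShortExact)
    (y : DRing.torsionSub I S.X₃) :
    δ₀ (I := I) hS y = 0 ↔ ∃ e : DRing.torsionSub I S.X₂, S.g.hom e = (y : S.X₃) := by
  refine (exact₃ (I := I) (i := 0) hS _).trans ⟨?_, ?_⟩
  · rintro ⟨z, hz⟩
    refine ⟨H0Equiv I S.X₂ z, ?_⟩
    refine (H0Equiv_naturality S.g z).symm.trans ?_
    rw [hz]
    exact congrArg Subtype.val ((H0Equiv I S.X₃).apply_symm_apply y)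
  · rintro ⟨e, he⟩
    refine ⟨(H0Equiv I S.X₂).symm e, (H0Equiv I S.X₃).injective (Subtype.ext ?_)⟩
    refine (H0Equiv_naturality S.g _).trans ?_
    rw [LinearEquiv.apply_symm_apply]
    exact he.trans (congrArg Subtype.val ((H0Equiv I S.X₃).apply_symm_apply y)).symm

theorem bijective_δH_succ {S : ShortComplex (ModuleCat.{u} R)} (hS : S.ShortExact) (h2 : IsAcyclic I S.X₂)
    (i : ℕ) : Function.Bijective (δH (I := I) (i + 1) hS) := by
  refine ⟨(injective_iff_map_eq_zero _).2 fun x hx => ?_, fun x => ?_⟩
  · obtain ⟨z, rfl⟩ := (exact₃ (I := I) (i := i + 1) hS x).1 hx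
    rw [(h2 i).elim z 0, map_zero]
  · exact (exact₁ (I := I) (i := i + 1) hS x).1 ((h2 (i + 1)).elim _ _)

end Aux

/-- Independence of the base. -/
theorem nonempty_H_restrict (I : Ideal A) : ∀ (i : ℕ) (N : ModuleCat.{u} B),
    ∃ φ : (localCohomology (I.map (algebraMap A B)) i).obj N ≃+ (localCohomology I i).obj (resA A N),
      ∀ (r : A) x, φ (algebraMap A B r • x) = r • φ x := by
  intro i
  induction i with
  | zero =>
    intro N
    let e : DRing.torsionSub (I.map (algebraMap A B)) N ≃+ DRing.torsionSub I (resA A N) :=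
      { toFun := fun x => ⟨x.1, (mem_torsionSub_map_iff (B := B) (N := resA A N) I).mp x.2⟩
        invFun := fun x => ⟨x.1, (mem_torsionSub_map_iff (B := B) (N := resA A N) I).mpr x.2⟩
        left_inv := fun _ => rfl
        right_inv := fun _ => rfl
        map_add' := fun _ _ => rfl }
    refine ⟨((H0Equiv _ N).toAddEquiv.trans e).trans (H0Equiv I (resA A N)).symm.toAddEquiv, fun r x => ?_⟩
    refine (congrArg (fun t => (H0Equiv I (resA A N)).symm (e t))
      (map_smul (H0Equiv (I.map (algebraMap A B)) N) (algebraMap A B r) x)).trans ?_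
    exact map_smul (H0Equiv I (resA A N)).symm r (e (H0Equiv _ N x))
  | succ i ih =>
    intro N
    obtain ⟨S, hS, rfl, h2⟩ := exists_injective_shortExact N
    have hres := shortExact_resA (A := A) hS
    have hacy := isAcyclic_resA I S.X₂
    have hacB := isAcyclic_of_injective (I.map (algebraMap A B)) S.X₂
    rcases i with - | i
    · letI : Module A ((localCohomology (I.map (algebraMap A B)) 1).obj S.X₁) :=
        Module.compHom _ (algebraMap A B)
      let f : DRing.torsionSub I (resA A S.X₃) →ₗ[A] (localCohomology (I.map (algebraMap A B)) 1).obj S.X₁ :=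
        { toFun := fun y => δ₀ hS ⟨y.1, (mem_torsionSub_map_iff (B := B) (N := resA A S.X₃) I).mpr y.2⟩
          map_add' := fun y y' => map_add (δ₀ hS)
            ⟨y.1, (mem_torsionSub_map_iff (B := B) (N := resA A S.X₃) I).mpr y.2⟩
            ⟨y'.1, (mem_torsionSub_map_iff (B := B) (N := resA A S.X₃) I).mpr y'.2⟩
          map_smul' := fun r y => map_smul (δ₀ hS) (algebraMap A B r)
            ⟨y.1, (mem_torsionSub_map_iff (B := B) (N := resA A S.X₃) I).mpr y.2⟩ }
      let g := δ₀ (I := I) hres
      have hf : Function.Surjective f := fun x => by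
        obtain ⟨y, rfl⟩ := surjective_δ₀ hS (hacB 0) x
        exact ⟨⟨y.1, (mem_torsionSub_map_iff (B := B) (N := resA A S.X₃) I).mp y.2⟩, rfl⟩
      have hg : Function.Surjective g := surjective_δ₀ hres (hacy 0)
      have hker : LinearMap.ker f = LinearMap.ker g := by
        ext y
        show f y = 0 ↔ g y = 0
        refine (δ₀_eq_zero_iff hS _).trans (Iff.trans ?_ (δ₀_eq_zero_iff hres y).symm)
        exact ⟨fun ⟨e, he⟩ => ⟨⟨e.1, (mem_torsionSub_map_iff (B := B) (N := resA A S.X₂) I).mp e.2⟩, he⟩,
          fun ⟨e, he⟩ => ⟨⟨e.1, (mem_torsionSub_map_iff (B := B) (N := resA A S.X₂) I).mpr e.2⟩, he⟩⟩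
      let φ := ((f.quotKerEquivOfSurjective hf).symm.trans (Submodule.quotEquivOfEq _ _ hker)).trans
        (g.quotKerEquivOfSurjective hg)
      exact ⟨φ.toAddEquiv, fun r x => map_smul φ r x⟩
    · obtain ⟨φ, hφ⟩ := ih S.X₃
      let eB := LinearEquiv.ofBijective _ (bijective_δH_succ hS hacB i)
      let eA := LinearEquiv.ofBijective _ (bijective_δH_succ hres hacy i)
      refine ⟨(eB.symm.toAddEquiv.trans φ).trans eA.toAddEquiv, fun r x => ?_⟩
      show eA (φ (eB.symm (algebraMap A B r • x))) = r • eA (φ (eB.symm x))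
      rw [map_smul, hφ]
      exact map_smul eA r _

section Flat

variable [Module.Flat A B]

/-- Flat base change. -/
theorem nonempty_H_tensor (I : Ideal A) : ∀ (i : ℕ) (M : ModuleCat.{u} A),
    Nonempty ((B ⊗[A] (localCohomology I i).obj M) ≃ₗ[B]
      (localCohomology (I.map (algebraMap A B)) i).obj (tens B M)) := by
  intro i
  induction i with
  | zero =>
    intro M
    let j := (DRing.torsionSub I M).subtype.baseChange B
    have hj : Function.Injective j :=
      Module.Flat.lTensor_preserves_injective_linearMap _ (Submodule.injective_subtype _)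
    have hr : LinearMap.range j = DRing.torsionSub (I.map (algebraMap A B)) (tens B M) :=
      SetLike.ext fun z => (torsionSub_tensor I M z).symm
    exact ⟨((LinearEquiv.baseChange A B _ _ (H0Equiv I M)).trans ((LinearEquiv.ofInjective j hj).trans
      (LinearEquiv.ofEq _ _ hr))).trans (H0Equiv _ (tens B M)).symm⟩
  | succ i ih =>
    intro M
    obtain ⟨S, hS, rfl, h2⟩ := exists_injective_shortExact M
    have hT := shortExact_tensS (B := B) hS
    have hacT := isAcyclic_tens (B := B) I S.X₂
    have hac := isAcyclic_of_injective I S.X₂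
    rcases i with - | i
    · let j := (DRing.torsionSub I S.X₃).subtype.baseChange B
      have hj : Function.Injective j :=
        Module.Flat.lTensor_preserves_injective_linearMap _ (Submodule.injective_subtype _)
      have hr : LinearMap.range j = DRing.torsionSub (I.map (algebraMap A B)) (tens B S.X₃) :=
        SetLike.ext fun z => (torsionSub_tensor I S.X₃ z).symm
      let k : B ⊗[A] DRing.torsionSub I S.X₃ ≃ₗ[B]
          DRing.torsionSub (I.map (algebraMap A B)) (tens B S.X₃) :=
        (LinearEquiv.ofInjective j hj).trans (LinearEquiv.ofEq _ _ hr)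
      let p := (δ₀ (I := I) hS).baseChange B
      have hp : Function.Surjective p := LinearMap.lTensor_surjective B (surjective_δ₀ hS (hac 0))
      let q := δ₀ (I := I.map (algebraMap A B)) hT ∘ₗ k.toLinearMap
      have hq : Function.Surjective q := (surjective_δ₀ hT (hacT 0)).comp k.surjective
      have hex : Function.Exact (gammaMap I S.g) (δ₀ (I := I) hS) := fun y =>
        (δ₀_eq_zero_iff hS y).trans ⟨fun ⟨e, he⟩ => ⟨e, Subtype.ext he⟩,
          fun ⟨e, he⟩ => ⟨e, congrArg Subtype.val he⟩⟩
      have hexT := Module.Flat.lTensor_exact B hex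
      have hg : ∀ e : B ⊗[A] DRing.torsionSub I S.X₂, ((gammaMap I S.g).lTensor B e |> j) =
          (tensS B S).g.hom ((DRing.torsionSub I S.X₂).subtype.baseChange B e) := fun e => by
        induction e using TensorProduct.induction_on with
        | zero => simp
        | tmul b x => rfl
        | add x y hx hy => simp only [map_add, hx, hy]
      have hker : LinearMap.ker p = LinearMap.ker q := by
        ext y
        rw [LinearMap.mem_ker, LinearMap.mem_ker]
        refine (hexT y).trans (Iff.trans ?_ (δ₀_eq_zero_iff hT (k y)).symm)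
        constructor
        · rintro ⟨e, rfl⟩
          refine ⟨⟨(DRing.torsionSub I S.X₂).subtype.baseChange B e,
            (torsionSub_tensor I S.X₂ _).mpr ⟨e, rfl⟩⟩, (hg e).symm⟩
        · rintro ⟨⟨z, hz⟩, he⟩
          obtain ⟨e, rfl⟩ := (torsionSub_tensor I S.X₂ z).mp hz
          exact ⟨e, hj ((hg e).trans he)⟩
      exact ⟨((p.quotKerEquivOfSurjective hp).symm.trans (Submodule.quotEquivOfEq _ _ hker)).trans
        (q.quotKerEquivOfSurjective hq)⟩
    · obtain ⟨φ⟩ := ih S.X₃
      exact ⟨((LinearEquiv.baseChange A B _ _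
        (LinearEquiv.ofBijective _ (bijective_δH_succ hS hac i))).symm.trans φ).trans
          (LinearEquiv.ofBijective _ (bijective_δH_succ hT hacT i))⟩

/-- Localisation of local cohomology. -/
theorem nonempty_H_localized (I : Ideal A) (S : Submonoid A) (M : Type u) [AddCommGroup M] [Module A M]
    (i : ℕ) : Nonempty (LocalizedModule S (_root_.LocCoh.H I i M) ≃ₗ[Localization S]
      _root_.LocCoh.H (I.map (algebraMap A (Localization S))) i (LocalizedModule S M)) := by
  haveI : Module.Flat A (Localization S) := IsLocalization.flat _ S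
  obtain ⟨φ⟩ := nonempty_H_tensor (B := Localization S) I i (ModuleCat.of A M)
  exact ⟨((LocalizedModule.equivTensorProduct S _).trans φ).trans
    (HLinearEquiv _ i (LocalizedModule.equivTensorProduct S M).symm)⟩

/-- `Hom(J, B ⊗ E)` is given by multiplication for extended ideals `J`. -/
theorem surjective_lsmul_tensor (I : Ideal A) (E : Type u) [AddCommGroup E] [Module A E]
    (hE : Module.Injective A E) :
    Function.Surjective (((LinearMap.lsmul B (B ⊗[A] E)).domRestrict (I.map (algebraMap A B))).flip) := by
  classical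
  intro φ
  obtain ⟨s, hs⟩ := IsNoetherian.noetherian I
  let w : (s → A) →ₗ[A] I := Fintype.linearCombination A fun a : s => (⟨a.1, hs ▸ Submodule.subset_span a.2⟩ : I)
  haveI : Module.Finite A (LinearMap.ker w) := Module.Finite.iff_fg.2 (IsNoetherian.noetherian _)
  obtain ⟨t, ht⟩ := Module.Finite.fg_top (R := A) (M := LinearMap.ker w)
  let μ : E →ₗ[A] (s → E) := LinearMap.pi fun a => LinearMap.lsmul A E a.1
  let ν : (s → E) →ₗ[A] (t → E) := LinearMap.pi fun z => ∑ a : s, z.1.1 a • LinearMap.proj a
  have hw : ∀ v : s → A, (w v : A) = ∑ a, v a * a.1 := fun v => by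
    simp [w, Fintype.linearCombination_apply]
  have hex : Function.Exact μ ν := fun v => by
    constructor
    · intro hv
      have hle : LinearMap.ker w ≤ LinearMap.ker (Fintype.linearCombination A v) := fun z hz => by
        have : (⟨z, hz⟩ : LinearMap.ker w) ∈ Submodule.span A (t : Set (LinearMap.ker w)) := ht ▸ trivial
        suffices H : Submodule.span A (t : Set (LinearMap.ker w)) ≤
            LinearMap.ker (Fintype.linearCombination A v ∘ₗ (LinearMap.ker w).subtype) from H this
        refine Submodule.span_le.2 fun q hq => ?_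
        have := congrFun hv ⟨q, hq⟩
        simpa [ν, Fintype.linearCombination_apply] using this
      have hsurj : Function.Surjective w := by
        rw [← LinearMap.range_eq_top, Fintype.range_linearCombination, eq_top_iff]
        rintro ⟨x, hx⟩ -
        rw [← hs] at hx
        have : Submodule.span A (Set.range fun a : s => (⟨a.1, hs ▸ Submodule.subset_span a.2⟩ : I)) =
            Submodule.comap I.subtype (Submodule.span A (s : Set A)) := by
          refine Submodule.map_injective_of_injective (f := I.subtype) Subtype.val_injective ?_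
          rw [Submodule.map_span, ← Set.range_comp, Submodule.map_comap_subtype]
          refine (congrArg (Submodule.span A) (show Set.range (I.subtype ∘ fun a : s =>
            (⟨a.1, hs ▸ Submodule.subset_span a.2⟩ : I)) = (s : Set A) from Subtype.range_coe)).trans ?_
          rw [hs]
          exact (inf_idem _).symm
        rw [this]
        exact hx
      let g : I →ₗ[A] E := (LinearMap.ker w).liftQ (Fintype.linearCombination A v) hle ∘ₗ
        (w.quotKerEquivOfSurjective hsurj).symm.toLinearMap
      have hgw : ∀ u, g (w u) = Fintype.linearCombination A v u := fun u => by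
        have : (w.quotKerEquivOfSurjective hsurj).symm (w u) = Submodule.Quotient.mk u :=
          (LinearEquiv.symm_apply_eq _).2 rfl
        simp only [g, LinearMap.comp_apply, LinearEquiv.coe_coe, this, Submodule.liftQ_apply]
      obtain ⟨h, hh⟩ := Module.Baer.of_injective hE I g
      refine ⟨h 1, funext fun a => ?_⟩
      show a.1 • h 1 = v a
      have h1 := hh (w (Pi.single a 1) : A) (w (Pi.single a 1)).2
      rw [hgw] at h1
      rw [← map_smul, smul_eq_mul, mul_one]
      simpa [w, Fintype.linearCombination_apply_single] using h1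
    · rintro ⟨e, rfl⟩
      refine funext fun z => ?_
      have hz := congrArg Subtype.val (LinearMap.mem_ker.1 z.1.2)
      rw [hw] at hz
      simp only [ν, μ, LinearMap.pi_apply, LinearMap.sum_apply, LinearMap.smul_apply, LinearMap.proj_apply,
        LinearMap.lsmul_apply, smul_smul, ← Finset.sum_smul, Pi.zero_apply]
      rw [hz]
      exact zero_smul A e
  have hexB := Module.Flat.lTensor_exact B hex
  have hmem : ∀ a : s, algebraMap A B a.1 ∈ I.map (algebraMap A B) := fun a =>
    Ideal.mem_map_of_mem _ (hs ▸ Submodule.subset_span a.2)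
  let es := TensorProduct.piRight A A B (fun _ : s => E)
  let et := TensorProduct.piRight A A B (fun _ : t => E)
  let y : B ⊗[A] (s → E) := es.symm fun a => φ ⟨_, hmem a⟩
  have hν : ∀ (u : B ⊗[A] (s → E)) (z : t), et (ν.lTensor B u) z = ∑ a, z.1.1 a • es u a := fun u z => by
    induction u using TensorProduct.induction_on with
    | zero => simp
    | tmul b m => simp [es, et, ν, TensorProduct.piRight_apply, TensorProduct.tmul_sum, TensorProduct.tmul_smul]
    | add x y hx hy => simp only [map_add, Pi.add_apply, hx, hy, smul_add, Finset.sum_add_distrib]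
  have hy : ν.lTensor B y = 0 := et.injective <| by
    rw [map_zero]
    refine funext fun z => ?_
    rw [hν]
    simp only [y, LinearEquiv.apply_symm_apply, Pi.zero_apply]
    simp_rw [← IsScalarTower.algebraMap_smul B (z.1.1 _) (φ _), ← map_smul, ← map_sum]
    refine (congrArg φ (Subtype.ext ?_)).trans (map_zero φ)
    rw [Submodule.coe_sum, Submodule.coe_zero]
    have hz := congrArg Subtype.val (LinearMap.mem_ker.1 z.1.2)
    rw [hw] at hz
    simp_rw [Submodule.coe_smul, smul_eq_mul, ← map_mul, ← map_sum, hz]
    exact map_zero _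
  obtain ⟨z, hz⟩ := (hexB y).1 hy
  refine ⟨z, LinearMap.ext fun x => ?_⟩
  have hμ : ∀ (u : B ⊗[A] E) (a : s), es (μ.lTensor B u) a = (a.1 : A) • u := fun u a => by
    induction u using TensorProduct.induction_on with
    | zero => simp
    | tmul b m => simp [es, μ, TensorProduct.piRight_apply, TensorProduct.tmul_smul]
    | add x y hx hy => simp only [map_add, Pi.add_apply, hx, hy, smul_add]
  have hgen : ∀ a : s, (algebraMap A B a.1) • z = φ ⟨_, hmem a⟩ := fun a => by
    rw [IsScalarTower.algebraMap_smul, ← hμ, hz]
    simp [y]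
  obtain ⟨x, hx⟩ := x
  show x • z = φ ⟨x, hx⟩
  have hx' : x ∈ Submodule.span B (algebraMap A B '' (s : Set A)) := by
    have : I.map (algebraMap A B) = Ideal.span (algebraMap A B '' (s : Set A)) := by
      rw [← hs]; exact Ideal.map_span _ _
    rw [this] at hx
    exact hx
  suffices H : ∀ v ∈ Submodule.span B (algebraMap A B '' (s : Set A)),
      ∀ h : v ∈ I.map (algebraMap A B), v • z = φ ⟨v, h⟩ from H x hx' hx
  intro v hv
  induction hv using Submodule.span_induction with
  | mem v hv =>
    obtain ⟨a, ha, rfl⟩ := hv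
    exact fun _ => hgen ⟨a, ha⟩
  | zero => exact fun _ => (zero_smul B z).trans (map_zero φ).symm
  | add v v' hv hv' h1 h2 =>
    intro h
    have m1 : v ∈ I.map (algebraMap A B) := by rw [← hs, Ideal.submodule_span_eq, Ideal.map_span]; exact hv
    have m2 : v' ∈ I.map (algebraMap A B) := by rw [← hs, Ideal.submodule_span_eq, Ideal.map_span]; exact hv'
    rw [add_smul, h1 m1, h2 m2, ← map_add]
    rfl
  | smul c v hv h1 =>
    intro h
    have m1 : v ∈ I.map (algebraMap A B) := by rw [← hs, Ideal.submodule_span_eq, Ideal.map_span]; exact hv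
    refine (smul_assoc c v z).trans ?_
    rw [h1 m1, ← map_smul]
    rfl

end Flat

end Groth.Agent.LocCoh.BaseChangeIso
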