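import Groth.Agent.LocCoh.TopDegree
import Groth.Prelude.Def_DualLC
import Mathlib.RingTheory.Ideal.MinimalPrime.Localization

/-!
# Comparison of local cohomology for two supports

* `hm`: the comparison map `Hⁱ_K(M) → Hⁱ_J(M)` for `J ≤ K`, its compatibilities;
* `mem_range_hm_of_pow_smul`: classes killed by a power of `a` come from `J + (a)`;
* `exists_hm_eq_zero`: kernel of `Hⁱ_{J+(a)} → Hⁱ_J` when local vanishing holds at a prime;
* `exists_smul_eq_zero_of_subsingleton_localization`: local vanishing gives annihilators.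
-/

universe u

open CategoryTheory CategoryTheory.Limits Opposite TensorProduct

namespace Groth.Agent.LocCoh

variable {A : Type u} [CommRing A] {J K L : Ideal A}

/-- comparison map -/
noncomputable abbrev hm (h : J ≤ K) (i : ℕ) (M : ModuleCat.{u} A) :
    (localCohomology K i).obj M →ₗ[A] (localCohomology J i).obj M :=
  ((Dual2.HmapOfLE h i).app M).hom

/-- `A/Jⁿ → A/Kⁿ` -/
noncomputable abbrev qle (h : J ≤ K) (n : ℕ) : quotPow J n ⟶ quotPow K n :=
  qmap.{u, 0} (Ideal.pow_right_mono h n)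

unseal ιH ι in
theorem hm_ι (h : J ≤ K) (i : ℕ) {M : ModuleCat.{u} A} (n : ℕ) (e : Abelian.Ext (quotPow K n) M i) :
    hm h i M (ιH K i n M e) = ιH J i n M ((Abelian.Ext.mk₀ (qle h n)).comp e (zero_add i)) := by
  have := localCohomology.hasColimitDiagram.{u, 0} (localCohomology.idealPowersDiagram K) i
  have := localCohomology.hasColimitDiagram.{u, 0} (localCohomology.idealPowersDiagram J) i
  obtain ⟨x, rfl⟩ := (OldExt.oldExtEquiv A (quotPow K n) M i).surjective e
  rw [← OldExt.oldExtEquiv_map]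
  refine ((congrArg (hm h i M) (ι_oldExtEquiv.{u, 0} (localCohomology.idealPowersDiagram K) i (t := op n) x)).trans ?_).trans
    (ι_oldExtEquiv.{u, 0} (localCohomology.idealPowersDiagram J) i (t := op n) _).symm
  exact congr($(Limits.ι_colimMap (Functor.whiskerRight (NatTrans.op (Dual2.quotMapOfLE h)) (Ext A (ModuleCat.{u} A) i))
    (op (op n))).app M x)

theorem qle_qle (h : J ≤ K) (h' : K ≤ L) (n : ℕ) : qle h n ≫ qle h' n = qle (h.trans h') n := by
  refine ModuleCat.hom_ext (LinearMap.ext fun x => ?_)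
  obtain ⟨y, rfl⟩ := Ideal.Quotient.mk_surjective x
  rfl

theorem hm_hm (h : J ≤ K) (h' : K ≤ L) (i : ℕ) {M : ModuleCat.{u} A} (x : (localCohomology L i).obj M) :
    hm h i M (hm h' i M x) = hm (h.trans h') i M x := by
  obtain ⟨n, e, rfl⟩ := exists_ιH x
  rw [hm_ι, hm_ι, hm_ι, Abelian.Ext.mk₀_comp_mk₀_assoc, qle_qle]

theorem hm_δH (h : J ≤ K) (i : ℕ) {S : ShortComplex (ModuleCat.{u} A)} (hS : S.ShortExact)
    (x : (localCohomology K i).obj S.X₃) :
    hm h (i + 1) S.X₁ (δH i hS x) = δH i hS (hm h i S.X₃ x) := by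
  obtain ⟨n, e, rfl⟩ := exists_ιH x
  rw [δH_ι, hm_ι, hm_ι, δH_ι, Abelian.Ext.comp_assoc _ _ _ (zero_add i) rfl (by lia)]

theorem hm_H0Equiv (h : J ≤ K) {M : ModuleCat.{u} A} (x : (localCohomology K 0).obj M) :
    (H0Equiv J M (hm h 0 M x) : M) = (H0Equiv K M x : M) := by
  obtain ⟨n, e, rfl⟩ := exists_ιH x
  obtain ⟨φ, rfl⟩ := (Abelian.Ext.linearEquiv₀ (R := A)).symm.surjective e
  simp only [H0Equiv, LinearEquiv.ofBijective_apply, Abelian.Ext.linearEquiv₀_symm_apply]
  rw [hm_ι, Abelian.Ext.mk₀_comp_mk₀, H0Map_ι, H0Map_ι]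
  rfl

theorem hm_zero_injective (h : J ≤ K) (M : ModuleCat.{u} A) : Function.Injective (hm h 0 M) :=
  (injective_iff_map_eq_zero _).mpr fun x hx => (H0Equiv K M).injective <| Subtype.ext <| by
    rw [← hm_H0Equiv h x, hx, map_zero, map_zero]
    rfl

theorem hm_bijective_of_pow_le (h : J ≤ K) {k : ℕ} (hk : K ^ k ≤ J) (i : ℕ) (M : ModuleCat.{u} A) :
    Function.Bijective (hm h i M) := by
  have hle : ∀ n, K ^ (k * n) ≤ J ^ n := fun n => by rw [pow_mul]; exact Ideal.pow_right_mono hk n
  constructor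
  · rw [injective_iff_map_eq_zero]
    intro x hx
    obtain ⟨n, e, rfl⟩ := exists_ιH x
    rw [hm_ι, ιH_eq_zero_iff] at hx
    obtain ⟨m, hnm, hm0⟩ := hx
    refine (ιH_eq_zero_iff e).mpr ⟨max n (k * m), le_max_left _ _, ?_⟩
    let q : quotPow K (max n (k * m)) ⟶ quotPow J m :=
      qmap.{u, 0} ((Ideal.pow_le_pow_right (le_max_right _ _)).trans (hle m))
    have hq : qpow K (le_max_left n (k * m)) = q ≫ qpow J hnm ≫ qle h n := by
      refine ModuleCat.hom_ext (LinearMap.ext fun z => ?_)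
      obtain ⟨y, rfl⟩ := Ideal.Quotient.mk_surjective z
      rfl
    rw [hq, ← Abelian.Ext.mk₀_comp_mk₀_assoc, ← Abelian.Ext.mk₀_comp_mk₀_assoc, hm0, Abelian.Ext.comp_zero]
  · intro x
    obtain ⟨n, e, rfl⟩ := exists_ιH x
    refine ⟨ιH K i (max n (k * n)) M ((Abelian.Ext.mk₀ (qmap.{u, 0}
      ((Ideal.pow_le_pow_right (le_max_right n (k * n))).trans (hle n)))).comp e (zero_add i)), ?_⟩
    rw [hm_ι, Abelian.Ext.mk₀_comp_mk₀_assoc, ← ιH_qpow (le_max_left n (k * n)) e]
    congr 4
    refine ModuleCat.hom_ext (LinearMap.ext fun z => ?_)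
    obtain ⟨y, rfl⟩ := Ideal.Quotient.mk_surjective z
    rfl

section Torsion

variable {N : Type u} [AddCommGroup N] [Module A N]

theorem mem_torsionSub_sup_span {a : A} {x : N} (hx : x ∈ DRing.torsionSub J N) {k : ℕ}
    (hk : a ^ k • x = 0) : x ∈ DRing.torsionSub (J ⊔ Ideal.span {a}) N := by
  obtain ⟨n, hn⟩ := hx
  refine ⟨n + k, fun c hc => ?_⟩
  have hle : (J ⊔ Ideal.span {a}) ^ (n + k) ≤ J ^ n ⊔ Ideal.span {a} ^ k := Ideal.sup_pow_add_le_pow_sup_pow
  obtain ⟨c₁, hc₁, c₂, hc₂, rfl⟩ := Submodule.mem_sup.mp (hle hc)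
  rw [Ideal.span_singleton_pow, Ideal.mem_span_singleton] at hc₂
  obtain ⟨r, rfl⟩ := hc₂
  rw [add_smul, hn _ hc₁, zero_add, mul_comm, mul_smul, hk, smul_zero]

theorem exists_pow_smul_of_mem_sup_span {a : A} {x : N}
    (hx : x ∈ DRing.torsionSub (J ⊔ Ideal.span {a}) N) : ∃ k : ℕ, a ^ k • x = 0 := by
  obtain ⟨k, hk⟩ := hx
  exact ⟨k, hk _ (Ideal.pow_mem_pow (Ideal.mem_sup_right (Ideal.mem_span_singleton_self a)) k)⟩

end Torsion

variable [IsNoetherianRing A]

/-- classes killed by a power of `a` come from `J + (a)` -/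
theorem mem_range_hm_of_pow_smul (a : A) : ∀ (i : ℕ) (M : ModuleCat.{u} A)
    (x : (localCohomology J i).obj M) (k : ℕ), a ^ k • x = 0 →
      x ∈ LinearMap.range (hm (le_sup_left : J ≤ J ⊔ Ideal.span {a}) i M) := by
  intro i
  induction i with
  | zero =>
    intro M x k hk
    have hk' : a ^ k • (H0Equiv J M x : M) = 0 := by
      rw [← Submodule.coe_smul, ← map_smul, hk, map_zero]
      rfl
    refine ⟨(H0Equiv _ M).symm ⟨_, mem_torsionSub_sup_span (H0Equiv J M x).2 hk'⟩, ?_⟩
    refine (H0Equiv J M).injective (Subtype.ext ?_)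
    rw [hm_H0Equiv, LinearEquiv.apply_symm_apply]
  | succ i ih =>
    intro M x k hk
    obtain ⟨S, hS, rfl, hI⟩ := exists_injective_shortExact M
    have : Subsingleton ((localCohomology J (i + 1)).obj S.X₂) := subsingleton_H_succ_of_injective S.X₂
    obtain ⟨z, rfl⟩ := (exact₁ (I := J) (i := i) hS x).mp (Subsingleton.elim _ _)
    rw [← map_smul] at hk
    obtain ⟨w, hw⟩ := (exact₃ (I := J) (i := i) hS (a ^ k • z)).mp hk
    suffices ∃ z' v, z' ∈ LinearMap.range (hm (le_sup_left : J ≤ J ⊔ Ideal.span {a}) i S.X₃) ∧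
        z = z' + ((localCohomology J i).map S.g).hom v by
      obtain ⟨_, v, ⟨y, rfl⟩, rfl⟩ := this
      exact ⟨δH i hS y, by rw [hm_δH, map_add, (exact₃ (I := J) (i := i) hS).apply_apply_eq_zero, add_zero]⟩
    rcases i with - | i
    · have : Module.Injective A (DRing.torsionSub J S.X₂) :=
        (Module.injective_iff_injective_object A _).mpr (injective_torsionSub J S.X₂)
      obtain ⟨e', n, hn⟩ := isDivModTorsion_of_injective (a ^ k) (DRing.torsionSub J S.X₂) (H0Equiv J S.X₂ w)
      have hn' : a ^ (k * n) • (H0Equiv J S.X₂ w - a ^ k • e') = 0 := by rw [pow_mul]; exact hn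
      let v := (H0Equiv J S.X₂).symm e'
      refine ⟨z - ((localCohomology J 0).map S.g).hom v, v, ih S.X₃ _ (k * n + k) ?_, by rw [sub_add_cancel]⟩
      rw [pow_add, mul_smul, smul_sub, ← hw, ← map_smul, ← map_sub, ← map_smul]
      have : a ^ (k * n) • (w - a ^ k • v) = 0 := by
        apply (H0Equiv J S.X₂).injective
        rw [map_smul, map_sub, map_smul, LinearEquiv.apply_symm_apply, hn', map_zero]
      rw [this, map_zero]
    · have : Subsingleton ((localCohomology J (i + 1)).obj S.X₂) := subsingleton_H_succ_of_injective S.X₂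
      refine ⟨z, 0, ih S.X₃ z k ?_, by rw [map_zero, add_zero]⟩
      rw [← hw, Subsingleton.elim w 0, map_zero]

section Local

variable (p : Ideal A) [p.IsPrime]

/-- `Γ_J(N)` is divisible after localizing at `p` -/
def LocDiv (J p : Ideal A) (N : ModuleCat.{u} A) : Prop :=
  ∀ c ∈ DRing.torsionSub J N, ∀ a ∉ p, ∃ (b : A) (_ : b ∉ p) (c' : N) (_ : c' ∈ DRing.torsionSub J N) (k : ℕ),
    (a * b) ^ k • (c - a • c') = 0

/-- the local hypothesis for `exists_hm_eq_zero` -/
def LocHyp (J : Ideal A) : ℕ → ModuleCat.{u} A → Prop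
  | 0, _ => True
  | 1, M => LocDiv J p M
  | j + 2, M => Subsingleton ((localCohomology (J.map (algebraMap A (Localization.AtPrime p))) (j + 1)).obj
      (tens (Localization.AtPrime p) M))

omit [IsNoetherianRing A] in
theorem exists_smul_eq_zero_of_subsingleton_tensor {N : Type u} [AddCommGroup N] [Module A N]
    (h : Subsingleton (Localization.AtPrime p ⊗[A] N)) (x : N) : ∃ b ∉ p, b • x = 0 := by
  obtain ⟨b, hb⟩ := (IsLocalizedModule.eq_zero_iff p.primeCompl
    (TensorProduct.mk A (Localization.AtPrime p) N 1)).mp (h.elim _ 0 : (TensorProduct.mk A (Localization.AtPrime p) N 1) x = 0)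
  exact ⟨b, b.2, hb⟩

variable {p}

omit [IsNoetherianRing A] in
theorem exists_smul_mem_range {X Y : ModuleCat.{u} A} (g : X ⟶ Y)
    (h : Function.Surjective ((gammaMap J g).lTensor (Localization.AtPrime p)))
    {c : Y} (hc : c ∈ DRing.torsionSub J Y) :
    ∃ b ∉ p, ∃ e ∈ DRing.torsionSub J X, g.hom e = b • c := by
  have hsub : Subsingleton (Localization.AtPrime p ⊗[A] (DRing.torsionSub J Y ⧸ LinearMap.range (gammaMap J g))) := by
    refine subsingleton_of_forall_eq 0 fun z => ?_
    obtain ⟨y, rfl⟩ := LinearMap.lTensor_surjective _ (Submodule.mkQ_surjective (LinearMap.range (gammaMap J g))) z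
    obtain ⟨w, rfl⟩ := h y
    rw [← LinearMap.comp_apply, ← LinearMap.lTensor_comp, LinearMap.range_mkQ_comp,
      LinearMap.lTensor_zero, LinearMap.zero_apply]
  obtain ⟨b, hb, hbc⟩ := exists_smul_eq_zero_of_subsingleton_tensor p hsub (Submodule.Quotient.mk ⟨c, hc⟩)
  rw [← Submodule.Quotient.mk_smul, Submodule.Quotient.mk_eq_zero] at hbc
  obtain ⟨e, he⟩ := hbc
  exact ⟨b, hb, e.1, e.2, congrArg Subtype.val he⟩

/-- local vanishing gives annihilators -/
theorem exists_smul_eq_zero_of_subsingleton_localization : ∀ (i : ℕ) (M : ModuleCat.{u} A),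
    Subsingleton ((localCohomology (J.map (algebraMap A (Localization.AtPrime p))) i).obj
      (tens (Localization.AtPrime p) M)) →
      ∀ x : (localCohomology J i).obj M, ∃ b ∉ p, b • x = 0 := by
  have : Module.Flat A (Localization.AtPrime p) := IsLocalization.flat _ p.primeCompl
  intro i
  induction i with
  | zero =>
    intro M h x
    obtain ⟨b, hb, hb'⟩ := exists_smul_eq_zero_of_subsingleton_tensor p
      ((subsingleton_H0_tens_iff J M).mp h) (H0Equiv J M x)
    exact ⟨b, hb, (H0Equiv J M).injective (by rw [map_smul, hb', map_zero])⟩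
  | succ i ih =>
    intro M h x
    obtain ⟨S, hS, rfl, hI⟩ := exists_injective_shortExact M
    have : Subsingleton ((localCohomology J (i + 1)).obj S.X₂) := subsingleton_H_succ_of_injective S.X₂
    obtain ⟨z, rfl⟩ := (exact₁ (I := J) (i := i) hS x).mp (Subsingleton.elim _ _)
    rcases i with - | i
    · obtain ⟨b, hb, e, he, hge⟩ := exists_smul_mem_range S.g ((subsingleton_H1_tens_iff J hS).mp h)
        (H0Equiv J S.X₃ z).2
      refine ⟨b, hb, ?_⟩
      rw [← map_smul]
      refine (exact₃ (I := J) (i := 0) hS _).mpr ⟨(H0Equiv J S.X₂).symm ⟨e, he⟩, ?_⟩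
      refine (H0Equiv J S.X₃).injective (Subtype.ext ?_)
      rw [H0Equiv_naturality, LinearEquiv.apply_symm_apply, map_smul]
      exact hge
    · obtain ⟨b, hb, hbz⟩ := ih S.X₃
        ((subsingleton_H_succ_iff (shortExact_tensS hS) (isAcyclic_tens J S.X₂) i).mp h) z
      exact ⟨b, hb, by rw [← map_smul, hbz, map_zero]⟩

/-- kernel of `Hⁱ_{J+(a)} → Hⁱ_J` under local vanishing -/
theorem exists_hm_eq_zero : ∀ (i : ℕ) (M : ModuleCat.{u} A), LocHyp p J i M → ∀ (a : A), a ∉ p →
    ∀ y : (localCohomology (J ⊔ Ideal.span {a}) i).obj M, hm le_sup_left i M y = 0 →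
      ∃ (b : A) (_ : b ∉ p) (h : J ⊔ Ideal.span {a * b} ≤ J ⊔ Ideal.span {a}), hm h i M y = 0 := by
  have : Module.Flat A (Localization.AtPrime p) := IsLocalization.flat _ p.primeCompl
  intro i
  induction i with
  | zero =>
    intro M _ a _ y hy
    refine ⟨1, ‹p.IsPrime›.one_notMem, (by rw [mul_one]), ?_⟩
    rw [hm_zero_injective (le_sup_left : J ≤ J ⊔ Ideal.span {a}) M (hy.trans (map_zero _).symm), map_zero]
  | succ i ih =>
    intro M hM a ha y hy
    obtain ⟨S, hS, rfl, hI⟩ := exists_injective_shortExact M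
    have hsup : ∀ b, J ⊔ Ideal.span {a * b} ≤ J ⊔ Ideal.span {a} := fun b =>
      sup_le_sup_left (Ideal.span_singleton_le_span_singleton.mpr ⟨b, rfl⟩) J
    have : Subsingleton ((localCohomology (J ⊔ Ideal.span {a}) (i + 1)).obj S.X₂) :=
      subsingleton_H_succ_of_injective S.X₂
    obtain ⟨z, rfl⟩ := (exact₁ (I := J ⊔ Ideal.span {a}) (i := i) hS y).mp (Subsingleton.elim _ _)
    rw [hm_δH] at hy
    obtain ⟨w, hw⟩ := (exact₃ (I := J) (i := i) hS _).mp hy
    rcases i with - | i
    · let e : DRing.torsionSub J S.X₂ := H0Equiv J S.X₂ w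
      have hge : S.g.hom e.1 = (H0Equiv (J ⊔ Ideal.span {a}) S.X₃ z : S.X₃) := by
        rw [← H0Equiv_naturality, hw, hm_H0Equiv]
      obtain ⟨n, hn⟩ := exists_pow_smul_of_mem_sup_span (H0Equiv (J ⊔ Ideal.span {a}) S.X₃ z).2
      obtain ⟨m, hmem⟩ := ((ShortComplex.ShortExact.moduleCat_exact_iff_function_exact S).mp hS.exact
        (a ^ n • e.1)).mp (by rw [map_smul, hge, hn])
      have hinj := (ModuleCat.mono_iff_injective S.f).mp hS.mono_f
      have hmJ : m ∈ DRing.torsionSub J S.X₁ := by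
        obtain ⟨l, hl⟩ := e.2
        refine ⟨l, fun c hc => hinj ?_⟩
        rw [map_smul, hmem, smul_comm, hl c hc, smul_zero, map_zero]
      obtain ⟨b, hb, c', ⟨l, hl⟩, k, hk⟩ := hM m hmJ (a ^ n) (fun h => ha (‹p.IsPrime›.mem_of_pow_mem n h))
      let e' : S.X₂ := e.1 - S.f.hom c'
      have he'J : e' ∈ DRing.torsionSub J S.X₂ :=
        (DRing.torsionSub J S.X₂).sub_mem e.2 ⟨l, fun c hc => by rw [← map_smul, hl c hc, map_zero]⟩
      have h0 : (a ^ n * b) ^ k • a ^ n • e' = 0 := by
        have := congrArg S.f.hom hk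
        rwa [map_zero, map_smul, map_sub, hmem, map_smul, ← smul_sub] at this
      have hkill : (a * b) ^ (n * k + n + k) • e' = 0 := by
        rw [show (a * b) ^ (n * k + n + k) = (b ^ (n * k + n) * a ^ k) * ((a ^ n * b) ^ k * a ^ n) by
          simp only [mul_pow, ← pow_mul, pow_add]; ring, mul_smul, mul_smul _ (a ^ n), h0, smul_zero]
      refine ⟨b, hb, hsup b, ?_⟩
      rw [hm_δH]
      refine (exact₃ (I := J ⊔ Ideal.span {a * b}) (i := 0) hS _).mpr
        ⟨(H0Equiv _ S.X₂).symm ⟨e', mem_torsionSub_sup_span he'J hkill⟩, ?_⟩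
      refine (H0Equiv _ S.X₃).injective (Subtype.ext ?_)
      rw [H0Equiv_naturality, LinearEquiv.apply_symm_apply, hm_H0Equiv]
      show S.g.hom (e.1 - S.f.hom c') = _
      rw [map_sub, hge, ← LinearMap.comp_apply, ← ModuleCat.hom_comp, S.zero]
      simp
    · have : Subsingleton ((localCohomology J (i + 1)).obj S.X₂) := subsingleton_H_succ_of_injective S.X₂
      rw [Subsingleton.elim w 0, map_zero] at hw
      have hC : LocHyp p J (i + 1) S.X₃ := by
        rcases i with - | i
        · intro c hc a' ha'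
          obtain ⟨b, hb, e₁, he₁, hge⟩ := exists_smul_mem_range S.g
            ((subsingleton_H1_tens_iff J hS).mp hM) hc
          have : Module.Injective A (DRing.torsionSub J S.X₂) :=
            (Module.injective_iff_injective_object A _).mpr (injective_torsionSub J S.X₂)
          obtain ⟨e', k, hk⟩ := isDivModTorsion_of_injective (a' * b) (DRing.torsionSub J S.X₂) ⟨e₁, he₁⟩
          refine ⟨b, hb, S.g.hom e'.1, DRing.map_mem_torsionSub J S.g.hom e'.2, k + 1, ?_⟩
          have h1 := congrArg (fun t : DRing.torsionSub J S.X₂ => a' • S.g.hom t.1) hk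
          simp only [Submodule.coe_smul, Submodule.coe_sub, Submodule.coe_zero, map_smul, map_sub,
            map_zero, smul_zero, hge] at h1
          rw [← h1]
          simp only [smul_sub, smul_smul]
          congr 1 <;> congr 1 <;> ring
        · exact (subsingleton_H_succ_iff (shortExact_tensS hS) (isAcyclic_tens J S.X₂) i).mp hM
      obtain ⟨b, hb, hle, hb0⟩ := ih S.X₃ hC a ha z hw.symm
      exact ⟨b, hb, hle, by rw [hm_δH, hb0, map_zero]⟩

end Local

section Global

/-- the vanishing at primes between the supports -/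
def VanishAt (J I' : Ideal A) (i : ℕ) (M : ModuleCat.{u} A) : Prop :=
  ∀ p : PrimeSpectrum A, J ≤ p.asIdeal → ¬ I' ≤ p.asIdeal →
    Subsingleton (_root_.LocCoh.H (IsLocalRing.maximalIdeal (Localization.AtPrime p.asIdeal)) i
      (LocalizedModule p.asIdeal.primeCompl M))

variable {I' : Ideal A} {M : ModuleCat.{u} A}

omit [IsNoetherianRing A] in
theorem VanishAt.mono {i : ℕ} {J' : Ideal A} (h : VanishAt J I' i M) (hle : J ≤ J') : VanishAt J' I' i M :=
  fun p hp => h p (hle.trans hp)

theorem VanishAt.tens {i : ℕ} (h : VanishAt J I' i M) {p : Ideal A} (hp : p ∈ J.minimalPrimes) (hp' : ¬ I' ≤ p) :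
    haveI : p.IsPrime := hp.1.1
    Subsingleton ((localCohomology (J.map (algebraMap A (Localization.AtPrime p))) i).obj
      (tens (Localization.AtPrime p) M)) := by
  have : p.IsPrime := hp.1.1
  have e := (LocalizedModule.equivTensorProduct p.primeCompl M).toModuleIso
  refine (subsingleton_H_iff_of_radical_eq ((IsLocalization.AtPrime.radical_map_of_mem_minimalPrimes (Localization.AtPrime p) p J hp).trans
    ((IsLocalization.AtPrime.map_eq_maximalIdeal p _).trans
      (IsLocalRing.maximalIdeal.isMaximal _).isPrime.radical.symm)) i _).mpr ?_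
  exact ((localCohomology _ i).mapIso e).toLinearEquiv.toEquiv.subsingleton_congr.mp (h ⟨p, this⟩ hp.1.2 hp')

omit [IsNoetherianRing A] in
theorem exists_minimalPrime_not_le (h : ¬ I' ≤ J.radical) : ∃ p ∈ J.minimalPrimes, ¬ I' ≤ p := by
  by_contra hc
  push Not at hc
  exact h (J.sInf_minimalPrimes ▸ le_sInf hc)

theorem bijective_hm_of_le_radical (h : I' ≤ J.radical) (i : ℕ) :
    Function.Bijective (hm (le_sup_left : J ≤ J ⊔ I') i M) := by
  obtain ⟨k, hk⟩ := Ideal.exists_pow_le_of_le_radical_of_fg (sup_le Ideal.le_radical h) (IsNoetherian.noetherian (J ⊔ I'))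
  exact hm_bijective_of_pow_le _ hk i M

theorem surjective_hm_of_vanishAt (i : ℕ) : ∀ J : Ideal A, VanishAt J I' i M →
    Function.Surjective (hm (le_sup_left : J ≤ J ⊔ I') i M) := by
  intro J
  induction J using IsNoetherian.induction with
  | hgt J ih =>
    intro hv x
    by_cases h : I' ≤ Ideal.radical J
    · exact (bijective_hm_of_le_radical h i).2 x
    obtain ⟨p, hp, hp'⟩ := exists_minimalPrime_not_le h
    have : p.IsPrime := hp.1.1
    obtain ⟨b, hb, hbx⟩ := exists_smul_eq_zero_of_subsingleton_localization (p := p) i M (hv.tens hp hp') x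
    obtain ⟨y, rfl⟩ := mem_range_hm_of_pow_smul b i M x 1 (by rw [pow_one, hbx])
    have hlt : J < J ⊔ Ideal.span {b} :=
      left_lt_sup.mpr fun hle => hb (hp.1.2 (hle (Ideal.mem_span_singleton_self b)))
    obtain ⟨z, rfl⟩ := ih _ hlt (hv.mono le_sup_left) y
    refine ⟨hm (sup_le (le_sup_left.trans le_sup_left) le_sup_right) i M z, ?_⟩
    rw [hm_hm, hm_hm]

theorem injective_hm_of_vanishAt (i : ℕ) : ∀ J : Ideal A, (∀ j, j + 1 = i → VanishAt J I' j M) →
    Function.Injective (hm (le_sup_left : J ≤ J ⊔ I') i M) := by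
  intro J
  induction J using IsNoetherian.induction with
  | hgt J ih =>
    intro hv
    by_cases h : I' ≤ Ideal.radical J
    · exact (bijective_hm_of_le_radical h i).1
    obtain ⟨p, hp, hp'⟩ := exists_minimalPrime_not_le h
    have hprime : p.IsPrime := hp.1.1
    obtain ⟨a, ha, hap⟩ := SetLike.not_le_iff_exists.mp hp'
    have hloc : LocHyp p J i M := by
      rcases i with - | i
      · trivial
      rcases i with - | j
      · intro c hc a' _
        obtain ⟨b, hb, hbc⟩ := exists_smul_eq_zero_of_subsingleton_localization (p := p) 0 M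
          ((hv 0 rfl).tens hp hp') ((H0Equiv J M).symm ⟨c, hc⟩)
        have hbc' : b • c = 0 := by
          have h2 := congrArg Subtype.val (congrArg (H0Equiv J M) hbc)
          rw [map_smul, LinearEquiv.apply_symm_apply, map_zero] at h2
          exact h2
        refine ⟨b, hb, 0, Submodule.zero_mem _, 1, ?_⟩
        rw [smul_zero, sub_zero, pow_one, mul_smul, hbc', smul_zero]
      · exact (hv (j + 1) rfl).tens hp hp'
    rw [injective_iff_map_eq_zero]
    intro x hx
    have hle : J ⊔ Ideal.span {a} ≤ J ⊔ I' := sup_le_sup_left ((Ideal.span_singleton_le_iff_mem I').mpr ha) J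
    obtain ⟨b, hb, hab, hzero⟩ := exists_hm_eq_zero i M hloc a hap (hm hle i M x) (by rw [hm_hm]; exact hx)
    have hlt : J < J ⊔ Ideal.span {a * b} := left_lt_sup.mpr fun hle' =>
      (hprime.mem_or_mem (hp.1.2 (hle' (Ideal.mem_span_singleton_self (a * b))))).elim hap hb
    have hKle : J ⊔ Ideal.span {a * b} ⊔ I' ≤ J ⊔ I' := sup_le (hab.trans hle) le_sup_right
    have hKge : J ⊔ I' ≤ J ⊔ Ideal.span {a * b} ⊔ I' := sup_le_sup_right le_sup_left I'
    have h1 : hm hKle i M x = 0 := (injective_iff_map_eq_zero _).mp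
      (ih _ hlt fun j hj => (hv j hj).mono le_sup_left) _ (by rw [hm_hm, ← hzero, hm_hm])
    refine (injective_iff_map_eq_zero _).mp (hm_bijective_of_pow_le hKle (k := 1) ?_ i M).1 _ h1
    rw [pow_one]
    exact hKge

end Global

end Groth.Agent.LocCoh
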