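import Groth.Agent.LocCoh.CohDim

/-!
# Grothendieck vanishing for arbitrary modules
-/

universe u

open CategoryTheory Limits DirectSum

namespace Groth.Agent.LocCoh.SupportDimVanish

variable {R : Type u} [CommRing R] [IsNoetherianRing R] (I : Ideal R)

theorem subsingleton_H_of_supportDim_lt' (i : ℕ) (M : Type u) [AddCommGroup M] [Module R M]
    (hi : Module.supportDim R M < (i : WithBot ℕ∞)) : Subsingleton (_root_.LocCoh.H I i M) := by
  obtain ⟨s, hs⟩ := IsNoetherian.noetherian I
  have hcd : _root_.LocCoh.CdLE R I s.card := hs ▸ cdLE_span_finset s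
  suffices key : ∀ k j (N : Type u) [AddCommGroup N] [Module R N], s.card < j + k → i ≤ j →
      Module.support R N ⊆ Module.support R M → Subsingleton (_root_.LocCoh.H I j N) from
    key (s.card + 1) i M (by omega) le_rfl subset_rfl
  intro k
  induction k with
  | zero => exact fun j N _ _ hj _ _ => hcd N j (by omega)
  | succ k ih =>
    intro j N _ _ hj hij hsub
    classical
    let F : N → ModuleCat.{u} R := fun n => ModuleCat.of R (R ∙ n : Submodule R N)
    let π : (⨁ n, (F n : Type u)) →ₗ[R] N := DirectSum.toModule R N N fun n => (R ∙ n).subtype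
    have hπ : Function.Surjective π := fun n =>
      ⟨lof R N (fun n => (F n : Type u)) n ⟨n, Submodule.mem_span_singleton_self n⟩, by
        rw [DirectSum.toModule_lof]; rfl⟩
    let S : ShortComplex (ModuleCat.{u} R) :=
      ShortComplex.mk (X₁ := ModuleCat.of R (LinearMap.ker π))
        (X₂ := ModuleCat.of R (⨁ n, (F n : Type u))) (X₃ := ModuleCat.of R N)
        (ModuleCat.ofHom (LinearMap.ker π).subtype) (ModuleCat.ofHom π)
        (ModuleCat.hom_ext (LinearMap.ext fun x => x.2))
    have hS : S.ShortExact :=
      { exact := (ShortComplex.ShortExact.moduleCat_exact_iff_function_exact _).mpr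
          (LinearMap.exact_subtype_ker_map π)
        mono_f := (ModuleCat.mono_iff_injective _).mpr Subtype.val_injective
        epi_g := (ModuleCat.epi_iff_surjective _).mpr hπ }
    refine subsingleton_X₃ (I := I) hS ?_ (ih (j + 1) _ (by omega) (by omega) ?_)
    · refine subsingleton_H_directSum (I := I) j F fun n => ?_
      refine subsingleton_H_of_supportDim_lt I i _ (lt_of_le_of_lt ?_ hi) j hij
      exact Module.supportDim_le_of_injective (R ∙ n).subtype Subtype.val_injective |>.trans
        (Order.krullDim_le_of_strictMono (Set.inclusion hsub) fun _ _ h => h)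
    · intro p hp
      refine hsub ?_
      rw [Module.mem_support_iff'] at hp ⊢
      obtain ⟨z, hz⟩ := hp
      have hex : ∃ n, ∀ r ∉ p.asIdeal, r • ((z : ⨁ n, (F n : Type u)) n) ≠ 0 := by
        by_contra hcon
        push Not at hcon
        choose r hr hr' using hcon
        refine hz (∏ n ∈ DFinsupp.support (z : ⨁ n, (F n : Type u)), r n) ?_ (Subtype.ext ?_)
        · intro h
          obtain ⟨n, -, hn⟩ := (Ideal.IsPrime.prod_mem_iff).1 h
          exact hr n hn
        · refine DFinsupp.ext fun n => ?_
          show (∏ m ∈ DFinsupp.support (z : ⨁ n, (F n : Type u)), r m) • (z : ⨁ n, (F n : Type u)) n = 0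
          by_cases hn : n ∈ DFinsupp.support (z : ⨁ n, (F n : Type u))
          · rw [← Finset.mul_prod_erase _ _ hn, mul_comm, mul_smul, hr' n, smul_zero]
          · rw [DFinsupp.notMem_support_iff.1 hn, smul_zero]
      obtain ⟨n, hn⟩ := hex
      exact ⟨((z : ⨁ n, (F n : Type u)) n : R ∙ n).1, fun r hr h => hn r hr (Subtype.ext h)⟩

end Groth.Agent.LocCoh.SupportDimVanish
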