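import Groth.Agent.DTrunc.RightDerived
import Groth.Agent.DRing.Homology
import Groth.Agent.DRing.DBasic
import Groth.Agent.LocCoh.TorsionInjective
import Groth.Agent.LocCoh.Acyclic
import Groth.Agent.LocCoh.Support
import Groth.Agent.KInjExt.Basic
import Groth.Prelude.Def_DRing3
import Mathlib.Algebra.Category.ModuleCat.AB
import Mathlib.Algebra.Category.ModuleCat.Biproducts

/-!
# `RΓ_I` on complexes of injective modules
-/

universe u

open CategoryTheory CategoryTheory.Limits DerivedCategory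

attribute [local instance] HasDerivedCategory.standard

namespace Groth.Agent.LocCoh.RGamma

open Groth.Agent.DRing.Homology

variable {A : Type u} [CommRing A]

/-- `Γ_I` on complexes -/
noncomputable abbrev GC (I : Ideal A) : DRing.Cx A ⥤ DRing.Cx A :=
  (DRing.gammaI I).mapHomologicalComplex (ComplexShape.up ℤ)

/-- the inclusion `Γ_I E ⟶ E` -/
noncomputable def inc (I : Ideal A) (E : DRing.Cx A) : (GC I).obj E ⟶ E where
  f i := (DRing.gammaIι I).app (E.X i)
  comm' i j _ := rfl

theorem inc_naturality (I : Ideal A) {E E' : DRing.Cx A} (φ : E ⟶ E') :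
    (GC I).map φ ≫ inc I E' = inc I E ≫ φ := by
  ext i : 1
  exact ((DRing.gammaIι I).naturality (φ.f i))

/-- elementwise form of `Γ_J E → E` being a quasi-isomorphism -/
structure TQ (J : Ideal A) (E : DRing.Cx A) : Prop where
  surj : ∀ (i j : ℤ) (_ : j + 1 = i) (z : E.X i), IsCyc E i z →
    ∃ w : E.X j, z - (E.d j i).hom w ∈ DRing.torsionSub J (E.X i)
  inj : ∀ (i j : ℤ) (_ : j + 1 = i) (z : E.X i), z ∈ DRing.torsionSub J (E.X i) →
    (∃ w : E.X j, (E.d j i).hom w = z) →
      ∃ w ∈ DRing.torsionSub J (E.X j), (E.d j i).hom w = z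

/-- the cohomology of `E` is `J`-power torsion, elementwise -/
def TorsionHom (J : Ideal A) (E : DRing.Cx A) : Prop :=
  ∀ (i j : ℤ) (_ : j + 1 = i) (z : E.X i), IsCyc E i z →
    ∃ n : ℕ, ∀ c ∈ J ^ n, ∃ w : E.X j, (E.d j i).hom w = c • z

theorem TorsionHom.mono {J J' : Ideal A} {E : DRing.Cx A} (h : TorsionHom J E) (hle : J' ≤ J) :
    TorsionHom J' E := fun i j hj z hz =>
  (h i j hj z hz).imp fun n hn c hc => hn c (Ideal.pow_right_mono hle n hc)

variable [IsNoetherianRing A]

omit [IsNoetherianRing A] in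
theorem mem_torsionSub_d {J : Ideal A} {E : DRing.Cx A} (i j : ℤ) {x : E.X i}
    (hx : x ∈ DRing.torsionSub J (E.X i)) : (E.d i j).hom x ∈ DRing.torsionSub J (E.X j) :=
  DRing.map_mem_torsionSub J (E.d i j).hom hx

/-- every power of `a` acts surjectively on `Γ_J N` modulo torsion -/
def Div (J : Ideal A) (a : A) (N : Type u) [AddCommGroup N] [Module A N] : Prop :=
  ∀ n : ℕ, IsDivModTorsion (a ^ n) (DRing.torsionSub J N)

theorem div_of_injective (J : Ideal A) (a : A) (N : ModuleCat.{u} A) [Injective N] : Div J a N := fun n =>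
  have : Module.Injective A (DRing.torsionSub J N) :=
    (Module.injective_iff_injective_object A _).mpr (injective_torsionSub J N)
  isDivModTorsion_of_injective (a ^ n) _

omit [IsNoetherianRing A] in
theorem Div.exists_divide {J : Ideal A} {a : A} {N : Type u} [AddCommGroup N] [Module A N] (hd : Div J a N)
    (n : ℕ) {h : N} (hh : h ∈ DRing.torsionSub J N) :
    ∃ h' ∈ DRing.torsionSub J N, ∃ m : ℕ, (a ^ n) ^ m • (h - a ^ n • h') = 0 := by
  obtain ⟨e, m, hm⟩ := hd n ⟨h, hh⟩
  exact ⟨e.1, e.2, m, congrArg Subtype.val hm⟩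

omit [IsNoetherianRing A] in
theorem Div.of_linearEquiv {J : Ideal A} {a : A} {N N' : Type u} [AddCommGroup N] [Module A N]
    [AddCommGroup N'] [Module A N'] (hd : Div J a N) (e : N ≃ₗ[A] N') : Div J a N' := fun n =>
  (hd n).of_surjective (e.toLinearMap.restrict fun _ hx => DRing.map_mem_torsionSub J e.toLinearMap hx)
    fun y => ⟨⟨e.symm y, DRing.map_mem_torsionSub J e.symm.toLinearMap y.2⟩, Subtype.ext (e.apply_symm_apply y)⟩

omit [IsNoetherianRing A] in
theorem Div.prod {J : Ideal A} {a : A} {N N' : Type u} [AddCommGroup N] [Module A N] [AddCommGroup N']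
    [Module A N'] (h : Div J a N) (h' : Div J a N') : Div J a (N × N') := fun n x => by
  obtain ⟨y, hy, m, hm⟩ := h.exists_divide n
    (DRing.map_mem_torsionSub J (LinearMap.fst A N N') x.2)
  obtain ⟨y', hy', m', hm'⟩ := h'.exists_divide n
    (DRing.map_mem_torsionSub J (LinearMap.snd A N N') x.2)
  refine ⟨⟨(y, y'), ?_⟩, m + m', Subtype.ext (Prod.ext ?_ ?_)⟩
  · simpa using add_mem (DRing.map_mem_torsionSub J (LinearMap.inl A N N') hy)
      (DRing.map_mem_torsionSub J (LinearMap.inr A N N') hy')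
  · show (a ^ n) ^ (m + m') • ((x : N × N').1 - a ^ n • y) = 0
    rw [pow_add, mul_comm, mul_smul]
    exact (congrArg _ hm).trans (smul_zero _)
  · show (a ^ n) ^ (m + m') • ((x : N × N').2 - a ^ n • y') = 0
    rw [pow_add, mul_smul]
    exact (congrArg _ hm').trans (smul_zero _)

omit [IsNoetherianRing A] in
theorem TQ.sup_span {J : Ideal A} {E : DRing.Cx A} (h : TQ J E) (a : A) (hd : ∀ i, Div J a (E.X i))
    (ht : TorsionHom (Ideal.span {a}) E) : TQ (J ⊔ Ideal.span {a}) E := by
  have hstep : ∀ (i j : ℤ) (hj : j + 1 = i) (x : E.X i), IsCyc E i x → x ∈ DRing.torsionSub J (E.X i) →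
      ∃ w ∈ DRing.torsionSub J (E.X j), ∃ k : ℕ, a ^ k • (x - (E.d j i).hom w) = 0 := by
    intro i j hj x hx hxJ
    obtain ⟨n, hn⟩ := ht i j hj x hx
    obtain ⟨v, hv⟩ := hn (a ^ n) (Ideal.pow_mem_pow (Ideal.mem_span_singleton_self a) n)
    obtain ⟨v', hv'J, hv'⟩ := h.inj i j hj _ (Submodule.smul_mem _ (a ^ n) hxJ) ⟨v, hv⟩
    obtain ⟨w, hwJ, m, hw⟩ := (hd j).exists_divide n hv'J
    refine ⟨w, hwJ, n * m + n, ?_⟩
    have := congrArg (E.d j i).hom hw
    rw [map_zero, map_smul, map_sub, map_smul, hv', ← smul_sub] at this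
    rw [pow_add, mul_smul, pow_mul]
    exact this
  refine ⟨fun i j hj z hz => ?_, fun i j hj z hz hw => ?_⟩
  · obtain ⟨w₀, hw₀⟩ := h.surj i j hj z hz
    obtain ⟨w₁, hw₁J, k, hk⟩ := hstep i j hj _ (hz.sub (isCyc_d j i w₀)) hw₀
    refine ⟨w₀ + w₁, mem_torsionSub_sup_span (k := k) ?_ ?_⟩
    · rw [map_add, ← sub_sub]
      exact Submodule.sub_mem _ hw₀ (mem_torsionSub_d _ _ hw₁J)
    · rw [map_add, ← sub_sub]
      exact hk
  · have hzJ : z ∈ DRing.torsionSub J (E.X i) :=
      DRing.map_mem_torsionSub J LinearMap.id ((hz.imp fun n hn c hc => hn c (Ideal.pow_right_mono le_sup_left n hc)))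
    obtain ⟨w, hwJ, rfl⟩ := h.inj i j hj z hzJ hw
    obtain ⟨n, hn⟩ := exists_pow_smul_of_mem_sup_span hz
    have hcyc : IsCyc E j (a ^ n • w) := (isCyc_iff hj _).2 (by rw [map_smul, hn])
    obtain ⟨v, hvJ, k, hk⟩ := hstep j (j - 1) (by omega) _ hcyc (Submodule.smul_mem _ _ hwJ)
    obtain ⟨v', hv'J, m, hv'⟩ := (hd _).exists_divide n hvJ
    refine ⟨w - (E.d (j - 1) j).hom v', mem_torsionSub_sup_span (k := n * m + k + n) ?_ ?_, ?_⟩
    · exact Submodule.sub_mem _ hwJ (mem_torsionSub_d _ _ hv'J)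
    · have e := congrArg (E.d (j - 1) j).hom hv'
      rw [map_zero, map_smul, map_sub, map_smul, smul_sub, sub_eq_zero] at e
      rw [pow_add, pow_add, mul_smul, smul_sub, mul_smul, pow_mul, smul_sub, smul_sub,
        smul_comm ((a ^ n) ^ m) (a ^ k) ((a ^ n) • (E.d (j - 1) j).hom v'), ← e,
        smul_comm (a ^ k) ((a ^ n) ^ m), ← smul_sub, ← smul_sub, hk, smul_zero]
    · rw [map_sub, d_d, sub_zero]

omit [IsNoetherianRing A] in
theorem mem_torsionSub_bot {N : Type u} [AddCommGroup N] [Module A N] (x : N) :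
    x ∈ DRing.torsionSub (⊥ : Ideal A) N :=
  ⟨1, fun c hc => by rw [pow_one, Ideal.mem_bot] at hc; rw [hc, zero_smul]⟩

omit [IsNoetherianRing A] in
theorem tq_of_div : ∀ (s : Finset A) (E : DRing.Cx A),
    (∀ (t : Finset A), t ⊆ s → ∀ a ∈ s, ∀ i, Div (Ideal.span (t : Set A)) a (E.X i)) →
    TorsionHom (Ideal.span (s : Set A)) E → TQ (Ideal.span (s : Set A)) E := by
  classical
  intro s
  induction s using Finset.induction with
  | empty =>
    intro E _ _
    rw [Finset.coe_empty, Ideal.span_empty]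
    exact ⟨fun i j _ z _ => ⟨0, mem_torsionSub_bot _⟩,
      fun i j _ z _ ⟨w, hw⟩ => ⟨w, mem_torsionSub_bot _, hw⟩⟩
  | insert a s _ ih =>
    intro E hd h
    rw [Finset.coe_insert, Ideal.span_insert, sup_comm] at h ⊢
    exact (ih E (fun t ht b hb => hd t (ht.trans (Finset.subset_insert a s)) b (Finset.mem_insert_of_mem hb))
      (h.mono le_sup_left)).sup_span a (hd s (Finset.subset_insert a s) a (Finset.mem_insert_self a s))
      (h.mono le_sup_right)

theorem tq_of_torsionHom (J : Ideal A) (E : DRing.Cx A) [∀ i, Injective (E.X i)] (h : TorsionHom J E) :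
    TQ J E := by
  obtain ⟨s, rfl⟩ := IsNoetherian.noetherian J
  exact tq_of_div s E (fun t _ a _ i => div_of_injective _ a (E.X i)) h

omit [IsNoetherianRing A] in
theorem inc_quasiIso_iff (J : Ideal A) (E : DRing.Cx A) : TQ J E → QuasiIso (inc J E) := by
  intro h
  refine quasiIso_of_bijective _ fun i => ⟨?_, ?_⟩
  · rw [homologyMap_injective_iff _ i (i - 1) (by omega)]
    intro e w _ hew
    obtain ⟨w', hw'J, hw'⟩ := h.inj i (i - 1) (by omega) _ e.2 ⟨w, hew.symm⟩
    exact ⟨⟨w', hw'J⟩, Subtype.ext hw'⟩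
  · rw [homologyMap_surjective_iff _ i (i - 1) (by omega)]
    intro z hz
    obtain ⟨w, hw⟩ := h.surj i (i - 1) (by omega) z hz
    refine ⟨⟨_, hw⟩, w, Subtype.ext ?_, sub_add_cancel z _⟩
    show (E.d i (i + 1)).hom (z - (E.d (i - 1) i).hom w) = 0
    rw [map_sub, d_d, hz, sub_zero]

theorem quasiIso_inc {J : Ideal A} {E : DRing.Cx A} [∀ i, Injective (E.X i)] (h : TorsionHom J E) :
    QuasiIso (inc J E) := inc_quasiIso_iff J E (tq_of_torsionHom J E h)

omit [IsNoetherianRing A] in
theorem torsionHom_iff (J : Ideal A) (E : DRing.Cx A) :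
    TorsionHom J E ↔ ∀ i, _root_.LocCoh.IsPowerTorsion J (E.homology i) := by
  refine ⟨fun h i x => ?_, fun h i j hj z hz => ?_⟩
  · obtain ⟨z, hz, rfl⟩ := cls_surjective x
    obtain ⟨n, hn⟩ := h i (i - 1) (by omega) z hz
    refine ⟨n, fun c hc => ?_⟩
    rw [← cls_smul, cls_eq_zero_iff (i - 1) (by omega)]
    exact hn c hc
  · obtain ⟨n, hn⟩ := h i (cls z hz)
    refine ⟨n, fun c hc => ?_⟩
    have := hn c hc
    rwa [← cls_smul, cls_eq_zero_iff j hj] at this

omit [IsNoetherianRing A] in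
theorem torsionHom_gamma (J : Ideal A) (E : DRing.Cx A) : TorsionHom J ((GC J).obj E) := by
  intro i j hj z hz
  obtain ⟨n, hn⟩ := z.2
  exact ⟨n, fun c hc => ⟨0, by rw [map_zero]; exact (Subtype.ext (hn c hc)).symm⟩⟩

omit [IsNoetherianRing A] in
theorem torsionHom_of_quasiIso {J : Ideal A} {E E' : DRing.Cx A} (φ : E ⟶ E') [QuasiIso φ]
    (h : TorsionHom J E) : TorsionHom J E' := by
  rw [torsionHom_iff] at h ⊢
  intro i x
  obtain ⟨y, rfl⟩ := ((isIso_homologyMap_iff φ i).1 inferInstance).2 x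
  obtain ⟨n, hn⟩ := h i y
  exact ⟨n, fun c hc => by rw [← map_smul, hn c hc, map_zero]⟩

variable (I : Ideal A) [DRing.HasRgammaI I]

/-- the unit of `RΓ_I` -/
noncomputable abbrev unit : DRing.gammaIKh I ⟶ Qh ⋙ DRing.RgammaI I :=
  (DRing.gammaIKh I).totalRightDerivedUnit DerivedCategory.Qh
    (HomotopyCategory.quasiIso (ModuleCat.{u} A) (ComplexShape.up ℤ))

/-- the unit on a complex -/
noncomputable def unitQ (E : DRing.Cx A) :
    DRing.toD ((GC I).obj E) ⟶ (DRing.RgammaI I).obj (DRing.toD E) :=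
  (unit I).app ((HomotopyCategory.quotient _ _).obj E)

omit [IsNoetherianRing A] in
theorem isIso_unitQ (E : DRing.Cx A) [E.IsKInjective] : IsIso (unitQ I E) :=
  (DTrunc.RightDerived.hasEnough (A := ModuleCat.{u} A) (DRing.gammaIKh I)).isIso_app
    (W := HomotopyCategory.quasiIso (ModuleCat.{u} A) (ComplexShape.up ℤ)) (DRing.RgammaI I) (unit I)
    (DTrunc.RightDerived.isGood_quotient (DRing.gammaIKh I) E)

omit [IsNoetherianRing A] in
theorem unitQ_naturality {E E' : DRing.Cx A} (φ : E ⟶ E') :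
    Q.map ((GC I).map φ) ≫ unitQ I E' = unitQ I E ≫ (DRing.RgammaI I).map (Q.map φ) :=
  (unit I).naturality ((HomotopyCategory.quotient _ _).map φ)

omit [IsNoetherianRing A] [DRing.HasRgammaI I] in
theorem gammaIτ_app (E : DRing.Cx A) :
    (DRing.gammaIτ I).app ((HomotopyCategory.quotient _ _).obj E) = Q.map (inc I E) := by
  show (DRing.gammaIτ0 I).app E = _
  have he : inc I E = (NatTrans.mapHomologicalComplex (DRing.gammaIι I) (ComplexShape.up ℤ)).app E ≫
      (Functor.mapHomologicalComplexIdIso (ModuleCat.{u} A) (ComplexShape.up ℤ)).hom.app E := by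
    ext i : 1
    exact (Category.comp_id _).symm
  unfold DRing.gammaIτ0
  rw [he, Functor.map_comp]
  simp only [NatTrans.comp_app, Functor.whiskerRight_app, Functor.associator_inv_app,
    Functor.associator_hom_app, Functor.leftUnitor_hom_app, Category.id_comp]
  refine (congrArg (· ≫ _) (Qh.map_id _)).trans ?_
  exact (Category.id_comp _).trans (congrArg _ (Category.comp_id _))

omit [IsNoetherianRing A] in
theorem unitQ_ε (E : DRing.Cx A) :
    unitQ I E ≫ (DRing.RgammaIε I).app (DRing.toD E) = Q.map (inc I E) := by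
  refine Eq.trans ?_ (gammaIτ_app I E)
  exact ((DRing.RgammaI I).rightDerived_fac_app (unit I)
    (HomotopyCategory.quasiIso (ModuleCat.{u} A) (ComplexShape.up ℤ)) (𝟭 (Dual.D A))
    (DRing.gammaIτ I ≫ (Functor.rightUnitor _).inv) ((HomotopyCategory.quotient _ _).obj E)).trans
    (Category.comp_id _)

omit [IsNoetherianRing A] in
theorem torsionHom_of_HD {J : Ideal A} {E : DRing.Cx A} {K : Dual.D A} (e : DRing.toD E ≅ K)
    (h : ∀ i, _root_.LocCoh.IsPowerTorsion J (Dual.HD A K i)) : TorsionHom J E :=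
  (torsionHom_iff J E).2 fun i x => by
    let φ := (((DRing.DBasic.HF i).mapIso e).symm ≪≫ DRing.DBasic.hIso E i).toLinearEquiv
    obtain ⟨n, hn⟩ := h i (φ.symm x)
    exact ⟨n, fun c hc => φ.symm.injective (by rw [map_smul, hn c hc, map_zero])⟩

omit [IsNoetherianRing A] in
theorem HD_torsion_of_torsionHom {J : Ideal A} {E : DRing.Cx A} {K : Dual.D A} (e : DRing.toD E ≅ K)
    (h : TorsionHom J E) (i : ℤ) : _root_.LocCoh.IsPowerTorsion J (Dual.HD A K i) := fun x => by
  let φ := (((DRing.DBasic.HF i).mapIso e).symm ≪≫ DRing.DBasic.hIso E i).toLinearEquiv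
  obtain ⟨n, hn⟩ := (torsionHom_iff J E).1 h i (φ x)
  exact ⟨n, fun c hc => φ.injective (by rw [map_smul, hn c hc, map_zero])⟩

omit [IsNoetherianRing A] [DRing.HasRgammaI I] in
theorem exists_resolution (K : Dual.D A) :
    ∃ E : DRing.Cx A, E.IsKInjective ∧ (∀ i, Injective (E.X i)) ∧ Nonempty (DRing.toD E ≅ K) := by
  obtain ⟨E, p, hE, hp, -, hinj⟩ := DHA.KInj.exists_resolution (ModuleCat.{u} A) (Q.objPreimage K)
  exact ⟨E, hE, hinj, ⟨(asIso (Q.map p)).symm ≪≫ Q.objObjPreimageIso K⟩⟩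

omit [IsNoetherianRing A] in
/-- `RΓ_I` has torsion cohomology -/
theorem HD_RgammaI_torsion (K : Dual.D A) (i : ℤ) :
    _root_.LocCoh.IsPowerTorsion I (Dual.HD A ((DRing.RgammaI I).obj K) i) := by
  obtain ⟨E, hE, -, ⟨e⟩⟩ := exists_resolution K
  have := isIso_unitQ I E
  exact HD_torsion_of_torsionHom (asIso (unitQ I E) ≪≫ (DRing.RgammaI I).mapIso e) (torsionHom_gamma I E) i

/-- the counit is an isomorphism on objects with torsion cohomology -/
theorem isIso_ε (K : Dual.D A) (hK : ∀ i, _root_.LocCoh.IsPowerTorsion I (Dual.HD A K i)) :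
    IsIso ((DRing.RgammaIε I).app K) := by
  obtain ⟨E, hE, hinj, ⟨e⟩⟩ := exists_resolution K
  have := quasiIso_inc (torsionHom_of_HD e hK)
  have := isIso_unitQ I E
  have h1 : (DRing.RgammaIε I).app (DRing.toD E) = inv (unitQ I E) ≫ Q.map (inc I E) := by
    rw [← unitQ_ε, IsIso.inv_hom_id_assoc]
  have h2 : (DRing.RgammaIε I).app K =
      (DRing.RgammaI I).map e.inv ≫ (DRing.RgammaIε I).app (DRing.toD E) ≫ e.hom := by
    rw [← Category.assoc, (DRing.RgammaIε I).naturality, Category.assoc, Functor.id_map, e.inv_hom_id]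
    exact (Category.comp_id _).symm
  rw [h2, h1]
  infer_instance

omit [IsNoetherianRing A] [DRing.HasRgammaI I] in
theorem inc_gamma (E : DRing.Cx A) : inc I ((GC I).obj E) = (GC I).map (inc I E) := by
  ext i : 1
  exact ModuleCat.hom_ext (LinearMap.ext fun x => Subtype.ext rfl)

omit [DRing.HasRgammaI I] [IsNoetherianRing A] in
theorem isIso_inc_gamma (E : DRing.Cx A) : IsIso (inc I ((GC I).obj E)) := by
  have : ∀ i, IsIso ((inc I ((GC I).obj E)).f i) := fun i => by
    rw [ConcreteCategory.isIso_iff_bijective]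
    exact ⟨Subtype.val_injective, fun x => ⟨⟨x, x.2.imp fun n hn c hc => Subtype.ext (hn c hc)⟩, rfl⟩⟩
  exact HomologicalComplex.Hom.isIso_of_components _

theorem isIso_unitQ_gamma (E : DRing.Cx A) : IsIso (unitQ I ((GC I).obj E)) := by
  obtain ⟨P, s, hP, hs, -, hinj⟩ := DHA.KInj.exists_resolution (ModuleCat.{u} A) ((GC I).obj E)
  have := quasiIso_inc (torsionHom_of_quasiIso s (torsionHom_gamma I E))
  have := isIso_inc_gamma I E
  have := isIso_unitQ I P
  have hGs : IsIso (Q.map ((GC I).map s)) := by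
    have h := congrArg Q.map (inc_naturality I s)
    rw [Q.map_comp, Q.map_comp] at h
    have : IsIso (Q.map ((GC I).map s) ≫ Q.map (inc I P)) := h ▸ inferInstance
    exact IsIso.of_isIso_comp_right _ (Q.map (inc I P))
  have : IsIso (unitQ I ((GC I).obj E) ≫ (DRing.RgammaI I).map (Q.map s)) :=
    unitQ_naturality I s ▸ inferInstance
  exact IsIso.of_isIso_comp_right _ ((DRing.RgammaI I).map (Q.map s))

/-- idempotence -/
theorem map_ε_eq (K : Dual.D A) :
    (DRing.RgammaI I).map ((DRing.RgammaIε I).app K) = (DRing.RgammaIε I).app ((DRing.RgammaI I).obj K) := by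
  obtain ⟨E, hE, -, ⟨e⟩⟩ := exists_resolution K
  have := isIso_unitQ I E
  have := isIso_unitQ_gamma I E
  have key : (DRing.RgammaI I).map ((DRing.RgammaIε I).app (DRing.toD E)) =
      (DRing.RgammaIε I).app ((DRing.RgammaI I).obj (DRing.toD E)) := by
    rw [← cancel_epi ((DRing.RgammaI I).map (unitQ I E)), ← Functor.map_comp, unitQ_ε,
      (DRing.RgammaIε I).naturality, Functor.id_map, ← cancel_epi (unitQ I ((GC I).obj E)),
      ← unitQ_naturality, ← inc_gamma]
    exact ((congrArg (· ≫ _) (unitQ_ε I ((GC I).obj E)).symm).trans (Category.assoc _ _ _))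
  have n1 := (DRing.RgammaIε I).naturality e.hom
  have n2 := (DRing.RgammaIε I).naturality ((DRing.RgammaI I).map e.hom)
  rw [← cancel_epi ((DRing.RgammaI I).map ((DRing.RgammaI I).map e.hom)), n2, ← Functor.map_comp, n1,
    Functor.map_comp, key]
  rfl

section Preserve

omit [IsNoetherianRing A] [DRing.HasRgammaI I] in
theorem quasiIso_iff_cone_acyclic {E E' : DRing.Cx A} (φ : E ⟶ E') :
    QuasiIso φ ↔ (CochainComplex.mappingCone φ).Acyclic := by
  rw [← HomotopyCategory.quotient_obj_mem_subcategoryAcyclic_iff_acyclic, ← HomologicalComplex.mem_quasiIso_iff,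
    ← HomotopyCategory.quotient_map_mem_quasiIso_iff, HomotopyCategory.quasiIso_eq_trW_subcategoryAcyclic]
  exact (HomotopyCategory.subcategoryAcyclic (ModuleCat.{u} A)).trW_iff_of_distinguished _
    (HomotopyCategory.mappingCone_triangleh_distinguished φ)

omit [IsNoetherianRing A] [DRing.HasRgammaI I] in
/-- `Γ_J` preserves quasi-isomorphisms between complexes of divisible modules -/
theorem quasiIso_map_of_div (s : Finset A) {E E' : DRing.Cx A}
    (hE : ∀ (t : Finset A), t ⊆ s → ∀ a ∈ s, ∀ i, Div (Ideal.span (t : Set A)) a (E.X i))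
    (hE' : ∀ (t : Finset A), t ⊆ s → ∀ a ∈ s, ∀ i, Div (Ideal.span (t : Set A)) a (E'.X i))
    (φ : E ⟶ E') [QuasiIso φ] : QuasiIso ((GC (Ideal.span (s : Set A))).map φ) := by
  have hac := (quasiIso_iff_cone_acyclic φ).1 inferInstance
  let C := CochainComplex.mappingCone φ
  have ht : TorsionHom (Ideal.span (s : Set A)) C := fun i j hj z hz => ⟨0, fun c _ =>
    (exactAt_iff_forall i j hj).1 (hac i) _ (hz.smul c)⟩
  have h := tq_of_div s C (fun t hts a ha i => ((hE t hts a ha (i + 1)).prod (hE' t hts a ha i)).of_linearEquiv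
    (HomologicalComplex.homotopyCofiber.XIsoBiprod φ i (i + 1) rfl ≪≫
      ModuleCat.biprodIsoProd _ _).symm.toLinearEquiv) ht
  refine (quasiIso_iff_cone_acyclic _).2 fun i => ?_
  refine (HomologicalComplex.exactAt_iff' _ (i - 1) i (i + 1) (by simp) (by simp)).2 ?_
  have hG : ((GC (Ideal.span (s : Set A))).obj C).ExactAt i := by
    rw [exactAt_iff_forall i (i - 1) (by omega)]
    intro z hz
    have hz' : IsCyc C i z.1 := congrArg Subtype.val hz
    obtain ⟨w, hw, hw'⟩ := h.inj i (i - 1) (by omega) z.1 z.2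
      ((exactAt_iff_forall i (i - 1) (by omega)).1 (hac i) _ hz')
    exact ⟨⟨w, hw⟩, Subtype.ext hw'⟩
  exact (HomologicalComplex.exactAt_iff' _ (i - 1) i (i + 1) (by simp) (by simp)).1
    (hG.of_iso (CochainComplex.mappingCone.mapHomologicalComplexIso φ (DRing.gammaI (Ideal.span (s : Set A)))))

omit [DRing.HasRgammaI I] in
/-- `Γ_J` preserves quasi-isomorphisms between complexes of injectives -/
theorem quasiIso_map_of_injective (J : Ideal A) {E E' : DRing.Cx A} [∀ i, Injective (E.X i)]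
    [∀ i, Injective (E'.X i)] (φ : E ⟶ E') [QuasiIso φ] : QuasiIso ((GC J).map φ) := by
  obtain ⟨s, rfl⟩ := IsNoetherian.noetherian J
  exact quasiIso_map_of_div s (fun t _ a _ i => div_of_injective _ a (E.X i))
    (fun t _ a _ i => div_of_injective _ a (E'.X i)) φ

end Preserve

section Comp

omit [IsNoetherianRing A] [DRing.HasRgammaI I] in
theorem mem_torsionSub_sup {I J : Ideal A} {N : Type u} [AddCommGroup N] [Module A N] {x : N}
    (hI : x ∈ DRing.torsionSub I N) (hJ : x ∈ DRing.torsionSub J N) : x ∈ DRing.torsionSub (I ⊔ J) N := by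
  obtain ⟨n, hn⟩ := hI
  obtain ⟨k, hk⟩ := hJ
  refine ⟨n + k, fun c hc => ?_⟩
  obtain ⟨c₁, h₁, c₂, h₂, rfl⟩ := Submodule.mem_sup.mp (Ideal.sup_pow_add_le_pow_sup_pow hc)
  rw [add_smul, hn _ h₁, hk _ h₂, add_zero]

/-- `Γ_J Γ_I = Γ_{I+J}` -/
noncomputable def gammaCompIso (I J : Ideal A) :
    DRing.gammaI I ⋙ DRing.gammaI J ≅ DRing.gammaI (I ⊔ J) :=
  NatIso.ofComponents (fun M =>
    (show DRing.torsionSub J (DRing.torsionSub I M) ≃ₗ[A] DRing.torsionSub (I ⊔ J) M from
    { toFun := fun x => ⟨x.1.1, mem_torsionSub_sup x.1.2 (DRing.map_mem_torsionSub J (DRing.torsionSub I M).subtype x.2)⟩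
      invFun := fun x => ⟨⟨x.1, x.2.imp fun n hn c hc => hn c (Ideal.pow_right_mono le_sup_left n hc)⟩,
        x.2.imp fun n hn c hc => Subtype.ext (hn c (Ideal.pow_right_mono le_sup_right n hc))⟩
      left_inv := fun _ => rfl
      right_inv := fun _ => rfl
      map_add' := fun _ _ => rfl
      map_smul' := fun _ _ => rfl }).toModuleIso)
    fun {_ _} _ => rfl

omit [DRing.HasRgammaI I] in
theorem nonempty_gamma_comp (I J : Ideal A) [DRing.HasRgammaI I] [DRing.HasRgammaI J]
    [DRing.HasRgammaI (I ⊔ J)] (K : Dual.D A) :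
    Nonempty ((DRing.RgammaI J).obj ((DRing.RgammaI I).obj K) ≅ (DRing.RgammaI (I ⊔ J)).obj K) := by
  obtain ⟨E, hE, hinj, ⟨e⟩⟩ := exists_resolution K
  obtain ⟨P, s, hP, hs, -, hPinj⟩ := DHA.KInj.exists_resolution (ModuleCat.{u} A) ((GC I).obj E)
  have hG : ∀ i, Injective (((GC I).obj E).X i) := fun i => injective_torsionSub I (E.X i)
  have := quasiIso_map_of_injective J s
  have := isIso_unitQ I E
  have := isIso_unitQ (I ⊔ J) E
  have := isIso_unitQ J P
  have : IsIso (unitQ J ((GC I).obj E) ≫ (DRing.RgammaI J).map (Q.map s)) :=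
    unitQ_naturality J s ▸ inferInstance
  have := IsIso.of_isIso_comp_right (unitQ J ((GC I).obj E)) ((DRing.RgammaI J).map (Q.map s))
  let c : (GC J).obj ((GC I).obj E) ≅ (GC (I ⊔ J)).obj E :=
    HomologicalComplex.Hom.isoOfComponents (fun i => (gammaCompIso I J).app (E.X i))
      fun i j _ => ((gammaCompIso I J).hom.naturality (E.d i j)).symm
  exact ⟨(DRing.RgammaI J).mapIso ((DRing.RgammaI I).mapIso e.symm) ≪≫
    (DRing.RgammaI J).mapIso (asIso (unitQ I E)).symm ≪≫ (asIso (unitQ J ((GC I).obj E))).symm ≪≫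
    Q.mapIso c ≪≫ asIso (unitQ (I ⊔ J) E) ≪≫ (DRing.RgammaI (I ⊔ J)).mapIso e⟩

end Comp

section Adj

variable (P : ObjectProperty (Dual.D A))

/-- `RΓ_I` is right adjoint to the inclusion of the objects with torsion cohomology -/
noncomputable def adjunction (h : ∀ K, P ((DRing.RgammaI I).obj K))
    (hP : ∀ L, P L → IsIso ((DRing.RgammaIε I).app L)) :
    P.ι ⊣ P.lift (DRing.RgammaI I) h :=
  haveI := fun L : P.FullSubcategory => hP L.obj L.property
  Adjunction.mkOfHomEquiv
    { homEquiv := fun L K =>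
        { toFun := fun f => P.homMk (inv ((DRing.RgammaIε I).app L.obj) ≫ (DRing.RgammaI I).map f)
          invFun := fun g => g.hom ≫ (DRing.RgammaIε I).app K
          left_inv := fun f => by
            show (inv ((DRing.RgammaIε I).app L.obj) ≫ (DRing.RgammaI I).map f) ≫ (DRing.RgammaIε I).app K = f
            rw [Category.assoc, (DRing.RgammaIε I).naturality, IsIso.inv_hom_id_assoc]
            rfl
          right_inv := fun g => by
            apply ObjectProperty.hom_ext
            show inv ((DRing.RgammaIε I).app L.obj) ≫ (DRing.RgammaI I).map (g.hom ≫ (DRing.RgammaIε I).app K) = g.hom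
            rw [Functor.map_comp, map_ε_eq]
            exact (congrArg (_ ≫ ·) ((DRing.RgammaIε I).naturality g.hom)).trans
              (IsIso.inv_hom_id_assoc _ _) }
      homEquiv_naturality_left_symm := fun f g => by exact Category.assoc f.hom g.hom ((DRing.RgammaIε I).app _)
      homEquiv_naturality_right := fun f g => by
        apply ObjectProperty.hom_ext
        exact (congrArg (_ ≫ ·) ((DRing.RgammaI I).map_comp _ _)).trans (Category.assoc _ _ _).symm }

end Adj

end Groth.Agent.LocCoh.RGamma
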