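import Groth.Agent.LocCoh.TorLES
import Mathlib.RingTheory.Filtration
import Mathlib.LinearAlgebra.TensorProduct.Quotient
import Mathlib.Algebra.Homology.Additive

/-!
# Uniform vanishing of `Tor_i(M, R/Iⁿ) → Tor_i(M, R/I^{n-c})`
-/

universe u

open CategoryTheory CategoryTheory.Limits MonoidalCategory TensorProduct

set_option linter.unusedVariables false

namespace Groth.Agent.LocCoh.Tor

variable {A : Type u} [CommRing A]

theorem inj_hom {X Y : ModuleCat.{u} A} (e : X ≅ Y) {x y : X} (h : e.hom.hom x = e.hom.hom y) : x = y :=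
  e.toLinearEquiv.injective h

theorem eq_zero_of_hom {X Y : ModuleCat.{u} A} (e : X ≅ Y) {x : X} (h : e.hom.hom x = 0) : x = 0 :=
  inj_hom e (h.trans (map_zero _).symm)

section FreeSum

variable {N : ModuleCat.{u} A} (R : ProjectiveResolution N)

instance : (tC R).Additive where
  map_add {X Y f g} := HomologicalComplex.hom_ext _ _ fun n =>
    show (f + g) ▷ R.complex.X n = f ▷ R.complex.X n + g ▷ R.complex.X n from MonoidalPreadditive.add_whiskerRight f g

theorem exists_finset_eq {ι : Type u} (B : ModuleCat.{u} A) (P : ModuleCat.{u} A)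
    (z : (ι →₀ (B : Type u)) ⊗[A] (P : Type u)) :
    ∃ s : Finset ι, ∀ t : Finset ι, s ⊆ t →
      (∑ i ∈ t, (Finsupp.lsingle i ∘ₗ Finsupp.lapply i : (ι →₀ (B : Type u)) →ₗ[A] (ι →₀ (B : Type u)))).rTensor P z = z := by
  classical
  induction z using TensorProduct.induction_on with
  | zero => exact ⟨∅, fun t _ => map_zero _⟩
  | tmul f p =>
    refine ⟨f.support, fun t ht => ?_⟩
    rw [LinearMap.rTensor_tmul, LinearMap.sum_apply]
    congr 1
    simp only [LinearMap.comp_apply, Finsupp.lapply_apply, Finsupp.lsingle_apply]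
    refine Finsupp.ext fun j => ?_
    rw [Finsupp.finsetSum_apply]
    by_cases hj : j ∈ t
    · rw [Finset.sum_eq_single j (fun i _ hij => Finsupp.single_eq_of_ne hij.symm) (fun h => absurd hj h),
        Finsupp.single_eq_same]
    · rw [Finset.sum_eq_zero fun i hi => Finsupp.single_eq_of_ne (fun e => hj (by rw [e]; exact hi)),
        Finsupp.notMem_support_iff.mp fun h => hj (ht h)]
  | add a b ha hb =>
    obtain ⟨s, hs⟩ := ha
    obtain ⟨s', hs'⟩ := hb
    exact ⟨s ∪ s', fun t ht => by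
      rw [map_add, hs t (Finset.union_subset_left ht), hs' t (Finset.union_subset_right ht)]⟩

/-- A class of `Tor_n(⊕ B, N)` with vanishing projections vanishes. -/
theorem eq_zero_of_forall_proj {ι : Type u} (B : ModuleCat.{u} A) (n : ℕ)
    (x : T n (ModuleCat.of A (ι →₀ (B : Type u))) N)
    (hx : ∀ i, (tf (ModuleCat.ofHom (Finsupp.lapply i) : ModuleCat.of A (ι →₀ (B : Type u)) ⟶ B) n N).hom x = 0) :
    x = 0 := by
  let R := projectiveResolution N
  let F := ModuleCat.of A (ι →₀ (B : Type u))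
  let H := tC R ⋙ HomologicalComplex.homologyFunctor (ModuleCat.{u} A) (ComplexShape.down ℕ) n
  let p : ι → (F ⟶ B) := fun i => ModuleCat.ofHom (Finsupp.lapply i)
  let e : ι → (B ⟶ F) := fun i => ModuleCat.ofHom (Finsupp.lsingle i)
  obtain ⟨y, hy⟩ : ∃ y : (H.obj F : ModuleCat.{u} A), (tIso R n F).hom.hom x = y := ⟨_, rfl⟩
  suffices hy0 : y = 0 from eq_zero_of_hom (tIso R n F) (hy.trans hy0)
  have hy' : ∀ i, (H.map (p i)).hom y = 0 := fun i => by
    subst hy
    have h := congrArg (fun k => k.hom x) (tIso_naturality R (p i) n)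
    change (tIso R n B).hom.hom ((tf (p i) n N).hom x) = (H.map (p i)).hom _ at h
    exact h.symm.trans ((congrArg _ (hx i)).trans (map_zero _))
  obtain ⟨z, hz⟩ := (ModuleCat.epi_iff_surjective (((tC R).obj F).homologyπ n)).mp inferInstance y
  obtain ⟨s, hs⟩ := exists_finset_eq B (R.complex.X n) ((((tC R).obj F).iCycles n).hom z)
  let φ : F ⟶ F := ∑ i ∈ s, p i ≫ e i
  have hφ : φ = ModuleCat.ofHom
      (∑ i ∈ s, (Finsupp.lsingle i ∘ₗ Finsupp.lapply i : (ι →₀ (B : Type u)) →ₗ[A] (ι →₀ (B : Type u)))) := by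
    refine ModuleCat.hom_ext ?_
    rw [ModuleCat.hom_sum]
    rfl
  have hcyc : (HomologicalComplex.cyclesMap ((tC R).map φ) n).hom z = z := by
    apply (ModuleCat.mono_iff_injective (((tC R).obj F).iCycles n)).mp inferInstance
    refine (congrArg (fun k => k.hom z) (HomologicalComplex.cyclesMap_i ((tC R).map φ) n)).trans ?_
    rw [hφ]
    exact hs s subset_rfl
  have hfix : (H.map φ).hom y = y := by
    rw [← hz]
    exact (congrArg (fun k => k.hom z) (HomologicalComplex.homologyπ_naturality ((tC R).map φ) n)).trans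
      (congrArg (fun w => (((tC R).obj F).homologyπ n).hom w) hcyc)
  rw [← hfix, Functor.map_sum, ModuleCat.hom_sum]
  refine (LinearMap.sum_apply _ _ _).trans ?_
  refine Finset.sum_eq_zero fun i _ => ?_
  rw [H.map_comp, ModuleCat.hom_comp, LinearMap.comp_apply, hy' i, map_zero]

end FreeSum

variable (I : Ideal A)

/-- `A ⧸ Iⁿ` -/
noncomputable abbrev qm (n : ℕ) : ModuleCat.{u} A := ModuleCat.of A (A ⧸ I ^ n)

/-- the projection -/
noncomputable abbrev q {a b : ℕ} (h : a ≤ b) : qm I b ⟶ qm I a :=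
  ModuleCat.ofHom (Submodule.mapQ (I ^ b) (I ^ a) LinearMap.id (Ideal.pow_le_pow_right h))

theorem q_comp {a b c : ℕ} (h : a ≤ b) (h' : b ≤ c) : q I h' ≫ q I h = q I (h.trans h') := by
  refine ModuleCat.hom_ext (LinearMap.ext fun x => ?_)
  obtain ⟨y, rfl⟩ := Submodule.Quotient.mk_surjective _ x
  rfl

/-- the transition maps of `Tor_i(M, A/Iⁿ)` vanish from distance `c` on -/
def Z (c i : ℕ) (M : ModuleCat.{u} A) : Prop :=
  ∀ (a b : ℕ) (h : a ≤ b), a + c ≤ b → ∀ x : T i M (qm I b), (ts M i (q I h)).hom x = 0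

variable {I}

theorem ts_comp {M : ModuleCat.{u} A} {i a b c : ℕ} (h : a ≤ b) (h' : b ≤ c) (x : T i M (qm I c)) :
    (ts M i (q I (h.trans h'))).hom x = (ts M i (q I h)).hom ((ts M i (q I h')).hom x) := by
  rw [← q_comp I h h', ts, ts, ts, Functor.map_comp]
  rfl

theorem Z.mono {c c' i : ℕ} {M : ModuleCat.{u} A} (hc : Z I c i M) (h : c ≤ c') : Z I c' i M :=
  fun a b hab hle => hc a b hab (by omega)

/-- `M ⊗ (A/Iⁿ) ≃ M/IⁿM` on `m ⊗ 1` -/
theorem tmul_one_eq_zero_iff {M : Type u} [AddCommGroup M] [Module A M] (n : ℕ) (m : M) :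
    m ⊗ₜ[A] (Submodule.Quotient.mk 1 : A ⧸ I ^ n) = 0 ↔ m ∈ I ^ n • (⊤ : Submodule A M) := by
  rw [← map_eq_zero_iff _ (tensorQuotEquivQuotSMul M (I ^ n)).injective, ← Submodule.Quotient.mk_eq_zero]
  refine Eq.congr_left ?_
  show quotTensorEquivQuotSMul M (I ^ n) ((1 : A ⧸ I ^ n) ⊗ₜ[A] m) = _
  rw [quotTensorEquivQuotSMul_mk_one_tmul]

theorem exists_tmul_one {M : Type u} [AddCommGroup M] [Module A M] (n : ℕ) (z : M ⊗[A] (A ⧸ I ^ n)) :
    ∃ m : M, m ⊗ₜ[A] (Submodule.Quotient.mk 1 : A ⧸ I ^ n) = z := by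
  induction z using TensorProduct.induction_on with
  | zero => exact ⟨0, zero_tmul _ _⟩
  | tmul m r =>
    obtain ⟨r, rfl⟩ := Submodule.Quotient.mk_surjective _ r
    refine ⟨r • m, ?_⟩
    rw [smul_tmul, ← Submodule.Quotient.mk_smul, smul_eq_mul, mul_one]
  | add a b ha hb =>
    obtain ⟨x, rfl⟩ := ha
    obtain ⟨y, rfl⟩ := hb
    exact ⟨x + y, add_tmul _ _ _⟩

/-- the short complex of a surjection -/
noncomputable abbrev kerS {F M : Type u} [AddCommGroup F] [Module A F] [AddCommGroup M] [Module A M]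
    (f : F →ₗ[A] M) : ShortComplex (ModuleCat.{u} A) := f.shortComplexKer

theorem δ_injective_of_flat {S : ShortComplex (ModuleCat.{u} A)} (hS : S.ShortExact) [Module.Flat A S.X₂]
    (n : ℕ) (N : ModuleCat.{u} A) {x : T (n + 1) S.X₃ N} (hx : (torδ hS n N).hom x = 0) : x = 0 := by
  obtain ⟨y, rfl⟩ := (tor_exact₃ hS n N x).mp hx
  rw [tor_succ_eq_zero_of_flat S.X₂ n N y, map_zero]

theorem δ_ts {S : ShortComplex (ModuleCat.{u} A)} (hS : S.ShortExact) (n : ℕ) {N N' : ModuleCat.{u} A}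
    (h : N ⟶ N') (x : T (n + 1) S.X₃ N) :
    (torδ hS n N').hom ((ts S.X₃ (n + 1) h).hom x) = (ts S.X₁ n h).hom ((torδ hS n N).hom x) :=
  (congrArg (fun k => k.hom x) (torδ_naturality hS n h)).symm

/-- The kernel of `S.f ⊗ A/Iᵇ`, read off from `Tor₀`. -/
theorem exists_rep_of_f_eq_zero (S : ShortComplex (ModuleCat.{u} A)) {b : ℕ} (y : T 0 S.X₁ (qm I b))
    (hy : (tf S.f 0 (qm I b)).hom y = 0) : ∃ k : S.X₁, (t0 S.X₁ (qm I b)).hom.hom y = k ⊗ₜ Submodule.Quotient.mk 1 ∧
      S.f.hom k ∈ I ^ b • (⊤ : Submodule A S.X₂) := by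
  obtain ⟨k, hk⟩ := exists_tmul_one (M := S.X₁) b ((t0 S.X₁ (qm I b)).hom.hom y)
  refine ⟨k, hk.symm, (tmul_one_eq_zero_iff b _).mp ?_⟩
  have h := congrArg (fun k => k.hom y) (t0_naturality_left S.f (qm I b))
  change (t0 S.X₂ (qm I b)).hom.hom ((tf S.f 0 (qm I b)).hom y) = (S.f ▷ qm I b).hom _ at h
  rw [hy, map_zero] at h
  exact (congrArg (fun w => (S.f ▷ qm I b).hom w) hk).trans h.symm

theorem exists_Z_finite [IsNoetherianRing A] : ∀ (i : ℕ) (M : ModuleCat.{u} A), Module.Finite A M →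
    ∃ c, Z I c (i + 1) M := by
  intro i
  induction i with
  | zero =>
    intro M hM
    obtain ⟨r, f, hf⟩ := Module.Finite.exists_fin' A M
    have hS := LinearMap.shortExact_shortComplexKer hf
    obtain ⟨k, hk⟩ := Ideal.exists_pow_inf_eq_pow_smul I (LinearMap.ker f)
    refine ⟨k, fun a b hab hle x => δ_injective_of_flat (S := f.shortComplexKer) hS 0 _ ?_⟩
    rw [δ_ts hS 0]
    obtain ⟨y, hy1, hy2⟩ := exists_rep_of_f_eq_zero f.shortComplexKer ((torδ hS 0 (qm I b)).hom x)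
      ((tor_exact₁ hS 0 (qm I b)).apply_apply_eq_zero x)
    have hmem : (y : Fin r → A) ∈ I ^ a • LinearMap.ker f :=
      (le_trans (hk b (by omega)).le ((Submodule.smul_mono le_rfl inf_le_right).trans
        (Submodule.smul_mono_left (Ideal.pow_le_pow_right (by omega))))) ⟨hy2, y.2⟩
    have hy3 : y ∈ I ^ a • (⊤ : Submodule A (LinearMap.ker f)) :=
      (Submodule.mem_smul_top_iff (I ^ a) (LinearMap.ker f) y).mpr hmem
    refine eq_zero_of_hom (t0 _ _) ?_
    refine (congrArg (fun k => k.hom ((torδ hS 0 (qm I b)).hom x)) (t0_naturality (f.shortComplexKer).X₁ (q I hab))).trans ?_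
    show ((f.shortComplexKer).X₁ ◁ q I hab).hom _ = 0
    refine (congrArg (fun w => ((f.shortComplexKer).X₁ ◁ q I hab).hom w) hy1).trans ?_
    exact (tmul_one_eq_zero_iff a y).mpr hy3
  | succ i ih =>
    intro M hM
    obtain ⟨r, f, hf⟩ := Module.Finite.exists_fin' A M
    have hS := LinearMap.shortExact_shortComplexKer hf
    obtain ⟨c, hc⟩ := ih (f.shortComplexKer).X₁ (inferInstanceAs (Module.Finite A (LinearMap.ker f)))
    exact ⟨c, fun a b hab hle x => δ_injective_of_flat (S := f.shortComplexKer) hS (i + 1) _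
      (by rw [δ_ts hS (i + 1)]; exact hc a b hab hle _)⟩

theorem exists_Z_killed [IsNoetherianRing A] (m : ℕ) : ∀ i : ℕ, ∃ c, ∀ (M : ModuleCat.{u} A),
    (∀ a ∈ I ^ m, ∀ x : M, a • x = 0) → Z I c (i + 1) M := by
  have hfree : ∀ i, ∃ c, ∀ ι : Type u, Z I c (i + 1) (ModuleCat.of A (ι →₀ ((qm I m : ModuleCat.{u} A) : Type u))) := by
    intro i
    obtain ⟨c, hc⟩ := exists_Z_finite (I := I) i (qm I m) (inferInstanceAs (Module.Finite A (A ⧸ I ^ m)))
    refine ⟨c, fun ι a b hab hle x => eq_zero_of_forall_proj (qm I m) (i + 1) _ fun j => ?_⟩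
    have h := congrArg (fun k => k.hom x)
      (tf_ts (ModuleCat.ofHom (Finsupp.lapply j) : ModuleCat.of A (ι →₀ ((qm I m : ModuleCat.{u} A) : Type u)) ⟶ qm I m)
        (i + 1) (q I hab))
    exact h.symm.trans (hc a b hab hle _)
  have hcover : ∀ M : ModuleCat.{u} A, (∀ a ∈ I ^ m, ∀ x : M, a • x = 0) →
      ∃ f : ((M : Type u) →₀ ((qm I m : ModuleCat.{u} A) : Type u)) →ₗ[A] M, Function.Surjective f := by
    intro M hM
    let g : ∀ _x : (M : Type u), ((qm I m : ModuleCat.{u} A) : Type u) →ₗ[A] M := fun x =>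
      Submodule.liftQ (I ^ m) (LinearMap.toSpanSingleton A M x) fun a ha => LinearMap.mem_ker.mpr (hM a ha x)
    exact ⟨Finsupp.lsum A g, fun x => ⟨Finsupp.single x (Submodule.Quotient.mk 1), by
      rw [Finsupp.lsum_single]; exact one_smul A x⟩⟩
  have hkill : ∀ (ι : Type u), ∀ a ∈ I ^ m, ∀ x : ι →₀ ((qm I m : ModuleCat.{u} A) : Type u), a • x = 0 := by
    intro ι a ha x
    refine Finsupp.ext fun j => ?_
    obtain ⟨y, hy⟩ := Submodule.Quotient.mk_surjective _ (x j)
    rw [Finsupp.smul_apply, ← hy, ← Submodule.Quotient.mk_smul, Finsupp.zero_apply, Submodule.Quotient.mk_eq_zero]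
    exact (I ^ m).mul_mem_right y ha
  intro i
  induction i with
  | zero =>
    obtain ⟨cF, hF⟩ := hfree 0
    refine ⟨max m cF, fun M hM a b hab hle x => ?_⟩
    obtain ⟨f, hf⟩ := hcover M hM
    have hS := LinearMap.shortExact_shortComplexKer hf
    have h0 : (torδ hS 0 (qm I b)).hom x = 0 := by
      obtain ⟨y, hy1, hy2⟩ := exists_rep_of_f_eq_zero f.shortComplexKer ((torδ hS 0 (qm I b)).hom x)
        ((tor_exact₁ hS 0 (qm I b)).apply_apply_eq_zero x)
      have hbot : I ^ b • (⊤ : Submodule A ((M : Type u) →₀ ((qm I m : ModuleCat.{u} A) : Type u))) = ⊥ :=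
        eq_bot_iff.mpr (Submodule.smul_le.mpr fun r hr z _ =>
          (Submodule.mem_bot A).mpr (hkill _ r (Ideal.pow_le_pow_right (by omega) hr) z))
      have hy0 : y = 0 := Subtype.ext ((Submodule.mem_bot A).mp (hbot ▸ hy2))
      refine eq_zero_of_hom (t0 _ _) (hy1.trans ?_)
      rw [hy0, zero_tmul]
    obtain ⟨y, rfl⟩ := (tor_exact₃ hS 0 (qm I b) x).mp h0
    have h := congrArg (fun k => k.hom y) (tf_ts f.shortComplexKer.g 1 (q I hab))
    exact h.trans (by
      show (tf f.shortComplexKer.g 1 (qm I a)).hom ((ts _ 1 (q I hab)).hom y) = 0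
      erw [hF _ a b hab (by omega) y]
      exact map_zero _)
  | succ i ih =>
    obtain ⟨cF, hF⟩ := hfree (i + 1)
    obtain ⟨cK, hK⟩ := ih
    refine ⟨cK + cF, fun M hM a b hab hle x => ?_⟩
    obtain ⟨f, hf⟩ := hcover M hM
    have hS := LinearMap.shortExact_shortComplexKer hf
    have hKkill : ∀ r ∈ I ^ m, ∀ z : f.shortComplexKer.X₁, r • z = 0 := fun r hr z =>
      Subtype.ext (hkill _ r hr z.1)
    have h1 : a ≤ a + cF := Nat.le_add_right _ _
    have h2 : a + cF ≤ b := by omega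
    rw [ts_comp h1 h2]
    have h0 : (torδ hS (i + 1) (qm I (a + cF))).hom ((ts M (i + 2) (q I h2)).hom x) = 0 :=
      (δ_ts hS (i + 1) (q I h2) x).trans (hK _ hKkill (a + cF) b h2 (by omega) _)
    obtain ⟨y, hy⟩ := (tor_exact₃ hS (i + 1) (qm I (a + cF)) _).mp h0
    rw [← hy]
    have h := congrArg (fun k => k.hom y) (tf_ts f.shortComplexKer.g (i + 2) (q I h1))
    exact h.trans (by
      show (tf f.shortComplexKer.g (i + 2) (qm I a)).hom ((ts _ (i + 2) (q I h1)).hom y) = 0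
      erw [hF _ a (a + cF) h1 le_rfl y]
      exact map_zero _)

end Groth.Agent.LocCoh.Tor
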