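import Groth.Agent.LocCoh.RGamma
import Groth.Agent.DRing.InjAmp
import Groth.Agent.DualCx.TorsColim

/-!
# `colim_n Hom(A/I^n, X)` is `H⁰(Γ_I L)` for a K-injective representative `L` of `X`
-/

universe u

open CategoryTheory CategoryTheory.Limits DerivedCategory HomologicalComplex

attribute [local instance] HasDerivedCategory.standard

namespace Groth.Agent.LocCoh.HDIGamma

open Groth.Agent.DRing Groth.Agent.DRing.Homology Groth.Agent.DRing.PC
open RGamma (GC)
open Groth.Agent.DualCx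

variable {A : Type u} [CommRing A] (I : Ideal A) (L : DRing.Cx A)

/-- `A/I^n` -/
noncomputable abbrev qm (n : ℕ) : ModuleCat.{u} A := ModuleCat.of A (A ⧸ I ^ n)

/-- the degree zero component -/
noncomputable abbrev ev {M : ModuleCat.{u} A} (f : sgl 0 M ⟶ L) : M ⟶ L.X 0 :=
  (singleObjXSelf (ComplexShape.up ℤ) 0 M).inv ≫ f.f 0

/-- the image of `1` -/
noncomputable def elem {n : ℕ} (f : sgl 0 (qm I n) ⟶ L) : L.X 0 :=
  (ev L f).hom (Submodule.Quotient.mk 1)

theorem smul_elem {n : ℕ} (f : sgl 0 (qm I n) ⟶ L) {c : A} (hc : c ∈ I ^ n) : c • elem I L f = 0 := by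
  rw [elem, ← map_smul, ← Submodule.Quotient.mk_smul]
  have : (Submodule.Quotient.mk (c • 1 : A) : A ⧸ I ^ n) = 0 :=
    (Submodule.Quotient.mk_eq_zero _).2 (by simpa using hc)
  exact (congrArg (ev L f).hom this).trans (map_zero _)

/-- the element of `Γ_I L` -/
noncomputable def telem {n : ℕ} (f : sgl 0 (qm I n) ⟶ L) : ((GC I).obj L).X 0 :=
  ⟨elem I L f, n, fun _ hc => smul_elem I L f hc⟩

theorem isCyc_telem {n : ℕ} (f : sgl 0 (qm I n) ⟶ L) : IsCyc ((GC I).obj L) 0 (telem I L f) := by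
  refine Subtype.ext ?_
  have h : ev L f ≫ L.d 0 (0 + 1) = 0 := by
    rw [Category.assoc, f.comm, single_obj_d, zero_comp, comp_zero]
  exact ConcreteCategory.congr_hom h _

/-- the class -/
noncomputable def kls {n : ℕ} (f : sgl 0 (qm I n) ⟶ L) : ((GC I).obj L).homology 0 :=
  cls (telem I L f) (isCyc_telem I L f)

theorem kls_eq_of_homotopy {n : ℕ} {f g : sgl 0 (qm I n) ⟶ L} (h : Homotopy f g) :
    kls I L f = kls I L g := by
  let w : L.X (-1) := ((singleObjXSelf (ComplexShape.up ℤ) 0 (qm I n)).inv ≫ h.hom 0 (-1)).hom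
    (Submodule.Quotient.mk 1)
  have hw : w ∈ DRing.torsionSub I (L.X (-1)) := ⟨n, fun c hc => by
    rw [← map_smul, ← Submodule.Quotient.mk_smul]
    exact (congrArg _ ((Submodule.Quotient.mk_eq_zero _).2 (by simpa using hc))).trans (map_zero _)⟩
  refine (cls_eq_iff (-1) (by norm_num) _ _).2 ⟨⟨w, hw⟩, Subtype.ext ?_⟩
  have hc := h.comm 0
  rw [dNext_eq _ (show (ComplexShape.up ℤ).Rel 0 1 from rfl),
    prevD_eq _ (show (ComplexShape.up ℤ).Rel (-1) 0 from rfl), single_obj_d, zero_comp, zero_add] at hc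
  have := ConcreteCategory.congr_hom (congrArg ((singleObjXSelf (ComplexShape.up ℤ) 0 (qm I n)).inv ≫ ·) hc)
    (Submodule.Quotient.mk 1)
  exact eq_sub_of_add_eq this.symm

theorem kls_add {n : ℕ} (f g : sgl 0 (qm I n) ⟶ L) : kls I L (f + g) = kls I L f + kls I L g := by
  rw [kls, kls, kls, ← cls_add]
  congr 1

theorem kls_smul {n : ℕ} (c : A) (f : sgl 0 (qm I n) ⟶ L) : kls I L (c • f) = c • kls I L f := by
  rw [kls, kls, ← cls_smul]
  congr 1

theorem kls_map {n m : ℕ} (hnm : n ≤ m) (f : sgl 0 (qm I n) ⟶ L) :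
    kls I L ((single (ModuleCat.{u} A) (ComplexShape.up ℤ) 0).map
      (ModuleCat.ofHom (Submodule.mapQ _ _ LinearMap.id (Ideal.pow_le_pow_right hnm))) ≫ f) = kls I L f := by
  rw [kls, kls]
  congr 1

/-- the chain map with given value at `1` -/
theorem exists_map {n : ℕ} (z : L.X 0) (hz : IsCyc L 0 z) (hn : ∀ c ∈ I ^ n, c • z = 0) :
    ∃ f : sgl 0 (qm I n) ⟶ L, elem I L f = z := by
  let φ : qm I n ⟶ L.X 0 :=
    ModuleCat.ofHom (Submodule.liftQ (I ^ n) (LinearMap.toSpanSingleton A (L.X 0) z) fun c hc => hn c hc)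
  have hφ : ∀ k, (ComplexShape.up ℤ).Rel 0 k → φ ≫ L.d 0 k = 0 := fun k hk =>
    ModuleCat.hom_ext (Submodule.linearMap_qext _ (LinearMap.ext_ring (by
      change (L.d 0 k).hom ((1 : A) • z) = 0
      rw [one_smul]
      exact (isCyc_iff hk z).1 hz)))
  refine ⟨mkHomFromSingle φ hφ, ?_⟩
  have h : ev L (mkHomFromSingle φ hφ) = φ := by rw [ev, mkHomFromSingle_f, Iso.inv_hom_id_assoc]
  exact (ConcreteCategory.congr_hom h _).trans (one_smul A z)

theorem nullhomotopic {n : ℕ} (f : sgl 0 (qm I n) ⟶ L) (w : L.X (-1)) (hw : ∀ c ∈ I ^ n, c • w = 0)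
    (hd : (L.d (-1) 0).hom w = elem I L f) : Nonempty (Homotopy f 0) := by
  let φ : qm I n ⟶ L.X (-1) :=
    ModuleCat.ofHom (Submodule.liftQ (I ^ n) (LinearMap.toSpanSingleton A (L.X (-1)) w) fun c hc => hw c hc)
  let h : ∀ i j, (ComplexShape.up ℤ).Rel j i → ((sgl 0 (qm I n)).X i ⟶ L.X j) := fun i j (hij : j + 1 = i) =>
    if hi : i = 0 then (singleObjXIsoOfEq (ComplexShape.up ℤ) 0 (qm I n) i hi).hom ≫ φ ≫
      (L.XIsoOfEq (show -1 = j by omega)).hom else 0
  suffices f = Homotopy.nullHomotopicMap' h from ⟨this ▸ Homotopy.nullHomotopy' h⟩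
  refine from_single_hom_ext ?_
  rw [Homotopy.nullHomotopicMap'_f (show (ComplexShape.up ℤ).Rel (-1) 0 from rfl)
    (show (ComplexShape.up ℤ).Rel 0 1 from rfl), single_obj_d, zero_comp, zero_add]
  rw [← cancel_epi (singleObjXSelf (ComplexShape.up ℤ) 0 (qm I n)).inv]
  refine ModuleCat.hom_ext (Submodule.linearMap_qext _ (LinearMap.ext_ring ?_))
  change elem I L f = _
  simp only [h, dif_pos]
  change elem I L f = (L.d (-1) 0).hom ((1 : A) • w) 
  rw [one_smul, hd]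

variable {L} {X : Dual.D A} [L.IsKInjective] (θ : DRing.toD L ≅ X)

theorem exists_lift {n : ℕ} (φ : Dual.inD A (A ⧸ I ^ n) ⟶ X) :
    ∃ f : sgl 0 (qm I n) ⟶ L, Q.map f ≫ θ.hom = φ := by
  obtain ⟨f, hf⟩ := InjAmp.exists_Q_map_eq_inj (K := sgl 0 (qm I n)) (L := L) (φ ≫ θ.inv)
  refine ⟨f, ?_⟩
  rw [hf]
  exact (Category.assoc _ _ _).trans (by simp)

/-- lift -/
noncomputable def lift {n : ℕ} (φ : Dual.inD A (A ⧸ I ^ n) ⟶ X) : sgl 0 (qm I n) ⟶ L :=
  (exists_lift I θ φ).choose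

theorem kls_lift {n : ℕ} (φ : Dual.inD A (A ⧸ I ^ n) ⟶ X) (f : sgl 0 (qm I n) ⟶ L)
    (hf : Q.map f ≫ θ.hom = φ) : kls I L (lift I θ φ) = kls I L f :=
  kls_eq_of_homotopy I L ((InjAmp.Q_map_eq_iff_inj _ _).1
    ((cancel_mono θ.hom).1 ((exists_lift I θ φ).choose_spec.trans hf.symm))).some

/-- the map on stage `n` -/
noncomputable def ψ (n : ℕ) :
    (Dual.inD A (A ⧸ I ^ n) ⟶ X) →ₗ[A] ULift.{u + 1} (((GC I).obj L).homology 0) where
  toFun φ := ⟨kls I L (lift I θ φ)⟩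
  map_add' φ φ' := congrArg ULift.up <| by
    refine (kls_lift I θ (φ + φ') (lift I θ φ + lift I θ φ') ?_).trans (kls_add I L _ _)
    rw [Q.map_add, Preadditive.add_comp]
    exact congrArg₂ (· + ·) (exists_lift I θ φ).choose_spec (exists_lift I θ φ').choose_spec
  map_smul' c φ := congrArg ULift.up <| by
    refine (kls_lift I θ (c • φ) (c • lift I θ φ) ?_).trans (kls_smul I L c _)
    rw [Q.map_smul, CategoryTheory.Linear.smul_comp]
    exact congrArg (c • ·) (exists_lift I θ φ).choose_spec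

theorem ψ_qD {n m : ℕ} (h : n ≤ m) (φ : Dual.inD A (A ⧸ I ^ n) ⟶ X) :
    ψ I θ m (TorsColim.qD I h ≫ φ) = ψ I θ n φ := congrArg ULift.up <| by
  refine (kls_lift I θ _ _ ?_).trans (kls_map I L h (lift I θ φ))
  rw [Q.map_comp, Category.assoc]
  exact congrArg (_ ≫ ·) (exists_lift I θ φ).choose_spec

/-- the cocone -/
noncomputable def cocone : Cocone (TorsColim.sys I X) where
  pt := ModuleCat.of A (ULift.{u + 1} (((GC I).obj L).homology 0))
  ι :=
    { app := fun n => ModuleCat.ofHom (ψ I θ n.unop.unop)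
      naturality := fun _ _ g => ModuleCat.hom_ext (LinearMap.ext fun φ =>
        ψ_qD I θ (leOfHom g.unop.unop) φ) }

/-- the comparison map -/
noncomputable def Φ : TorsColim.L I X →ₗ[A] ULift.{u + 1} (((GC I).obj L).homology 0) :=
  (colimit.desc (TorsColim.sys I X) (cocone I θ)).hom

theorem Φ_ι (n : ℕ) (φ : Dual.inD A (A ⧸ I ^ n) ⟶ X) : Φ I θ (TorsColim.ι I n X φ) = ψ I θ n φ :=
  ConcreteCategory.congr_hom (colimit.ι_desc (cocone I θ) (Opposite.op (Opposite.op n))) φ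

theorem bijective_Φ : Function.Bijective (Φ I θ) := by
  constructor
  · rw [injective_iff_map_eq_zero]
    intro x hx
    obtain ⟨n, φ, rfl⟩ := DualCx.TorsColim.exists_rep I x
    rw [Φ_ι] at hx
    obtain ⟨⟨w, k, hk⟩, hw⟩ := (cls_eq_zero_iff (-1) (by norm_num) _).1 (congrArg ULift.down hx)
    refine (DualCx.TorsColim.ι_eq_zero_iff I φ).2 ⟨max n k, le_max_left n k, ?_⟩
    let π := (single (ModuleCat.{u} A) (ComplexShape.up ℤ) 0).map
      (ModuleCat.ofHom (Submodule.mapQ (I ^ max n k) (I ^ n) LinearMap.id (Ideal.pow_le_pow_right (le_max_left n k))))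
    have hd : (L.d (-1) 0).hom w = elem I L (π ≫ lift I θ φ) :=
      (congrArg Subtype.val hw).trans (congrArg (fun t => t) (by
        change elem I L (lift I θ φ) = _
        rw [elem, elem, ev, ev, comp_f, single_map_f_self, Category.assoc, Category.assoc, Iso.inv_hom_id_assoc]
        rfl))
    obtain ⟨hh⟩ := nullhomotopic I L _ w (fun c hc => hk c (Ideal.pow_le_pow_right (le_max_right n k) hc)) hd
    have h0 := (InjAmp.Q_map_eq_iff_inj _ _).2 ⟨hh⟩
    rw [Q.map_comp, Q.map_zero] at h0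
    rw [← (exists_lift I θ φ).choose_spec]
    exact (Category.assoc _ _ _).symm.trans ((congrArg (· ≫ θ.hom) h0).trans zero_comp)
  · rintro ⟨x⟩
    obtain ⟨⟨z, n, hn⟩, hz, rfl⟩ := cls_surjective x
    obtain ⟨f, hf⟩ := exists_map I L (n := n) z (congrArg Subtype.val hz) hn
    refine ⟨TorsColim.ι I n X (Q.map f ≫ θ.hom), ?_⟩
    rw [Φ_ι]
    refine congrArg ULift.up ((kls_lift I θ _ f rfl).trans ?_)
    simp only [kls, telem, hf]

/-- `colim_n Hom(A/I^n, X) ≅ H⁰(Γ_I L)` -/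
noncomputable def equiv : TorsColim.L I X ≃ₗ[A] ((GC I).obj L).homology 0 :=
  (LinearEquiv.ofBijective _ (bijective_Φ I θ)).trans ULift.moduleEquiv

end Groth.Agent.LocCoh.HDIGamma
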