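import Groth.Agent.LocCoh.RGamma
import Groth.Agent.DRing.DerivedCompletion

/-!
# Greenlees–May
-/

universe u

open CategoryTheory CategoryTheory.Limits CategoryTheory.Pretriangulated DerivedCategory

attribute [local instance] HasDerivedCategory.standard

namespace Groth.Agent.LocCoh.GM

open Groth.Agent.DRing Groth.Agent.DRing.Homology Groth.Agent.DRing.Completion
open RGamma (GC inc)

variable {A : Type u} [CommRing A]

section Complete

theorem isDerivedComplete_of_gens (s : Finset A) (K : Dual.D A)
    (h : ∀ f ∈ s, ∀ n : ℤ, Subsingleton (Dual.inD A (Localization.Away f) ⟶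
      (shiftFunctor (Dual.D A) n).obj K)) : DRing.IsDerivedComplete (Ideal.span (s : Set A)) K := by
  rw [TelComplex.isDerivedComplete_iff]
  intro f hf i
  exact (Ideal.span_le (I := Tel.telIdeal A (Dual.HD A K i))).2
    (fun g hg => (DerComplete.subsingleton_hom_away_iff K g).1 (h g hg) i) hf

theorem mem_torsionSub_cxBij {I : Ideal A} {f : A} (hf : f ∈ I) {M : ModuleCat.{u} A}
    (h : IsBij f M) {x : M} (hx : x ∈ DRing.torsionSub I M) : x = 0 := by
  obtain ⟨n, hn⟩ := hx
  have h1 : f ^ n • x = 0 := hn _ (Ideal.pow_mem_pow hf n)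
  clear hn
  induction n with
  | zero => simpa using h1
  | succ n ih =>
    rw [pow_succ', mul_smul] at h1
    exact ih (h.1 (h1.trans (smul_zero f).symm))

theorem bijective_map_inr {I : Ideal A} {f : A} (hf : f ∈ I) (C : DRing.Cx A) (i : ℤ) :
    Function.Bijective ((((GC I).map (CochainComplex.mappingCone.inr (evC f C))).f i).hom) := by
  have hcomp : ∀ y : C.X i, ((CochainComplex.mappingCone.snd (evC f C)).v i i (add_zero i)).hom
      (((CochainComplex.mappingCone.inr (evC f C)).f i).hom y) = y :=
    ConcreteCategory.congr_hom (CochainComplex.mappingCone.inr_f_snd_v (evC f C) i)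
  refine ⟨fun x y h => Subtype.ext ?_, fun x => ?_⟩
  · have h1 := congrArg Subtype.val h
    exact (hcomp x.1).symm.trans ((congrArg _ h1).trans (hcomp y.1))
  · let p := (CochainComplex.mappingCone.fst (evC f C)).1.v i (i + 1) rfl
    let r := (CochainComplex.mappingCone.snd (evC f C)).v i i (add_zero i)
    have h0 : p.hom x.1 = 0 :=
      mem_torsionSub_cxBij hf (isBij_Hm f (C.X (i + 1))) (DRing.map_mem_torsionSub I p.hom x.2)
    refine ⟨⟨r.hom x.1, DRing.map_mem_torsionSub I r.hom x.2⟩, Subtype.ext ?_⟩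
    have h1 := ConcreteCategory.congr_hom (CochainComplex.mappingCone.id_X (evC f C) i (i + 1) rfl) x.1
    change ((CochainComplex.mappingCone.inl (evC f C)).v (i + 1) i (by omega)).hom (p.hom x.1) +
      ((CochainComplex.mappingCone.inr (evC f C)).f i).hom (r.hom x.1) = x.1 at h1
    rw [h0, map_zero, zero_add] at h1
    exact h1

/-- completion at finitely many elements of `I` does not change `Γ_I` -/
theorem exists_completion_gamma (I : Ideal A) (s : Finset A) (hs : ∀ f ∈ s, f ∈ I) (E : DRing.Cx A)
    [E.IsKInjective] :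
    ∃ C : DRing.Cx A, C.IsKInjective ∧ (∀ f ∈ s, Contr ((HC f).obj C)) ∧
      ∃ ι : E ⟶ C, IsIso ((GC I).map ι) ∧
        ∀ L : DRing.Cx A, L.IsKInjective → (∀ f ∈ s, Contr ((HC f).obj L)) →
          Function.Bijective fun v : Q.obj C ⟶ Q.obj L => Q.map ι ≫ v := by
  classical
  induction s using Finset.induction with
  | empty =>
    exact ⟨E, inferInstance, fun f hf => absurd hf (Finset.notMem_empty f), 𝟙 E, inferInstance,
      fun L _ _ => ⟨fun v w h => by simpa using h, fun w => ⟨w, by simp⟩⟩⟩
  | insert f s hf ih =>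
    obtain ⟨C, hC, h1, ι, h2, h3⟩ := ih fun g hg => hs g (Finset.mem_insert_of_mem hg)
    refine ⟨cpl f C, isKInjective_mappingCone _, fun g hg => ?_,
      ι ≫ CochainComplex.mappingCone.inr (evC f C), ?_, fun L hL hLs => ?_⟩
    · rcases Finset.mem_insert.1 hg with rfl | hg
      · exact contr_cpl g C
      · exact contr_cpl_of_contr f g C (h1 g hg)
    · have : ∀ i, IsIso (((GC I).map (CochainComplex.mappingCone.inr (evC f C))).f i) := fun i =>
        (ConcreteCategory.isIso_iff_bijective _).2
          (bijective_map_inr (hs f (Finset.mem_insert_self f s)) C i)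
      have := HomologicalComplex.Hom.isIso_of_components ((GC I).map (CochainComplex.mappingCone.inr (evC f C)))
      rw [Functor.map_comp]
      infer_instance
    · have := (h3 L hL fun g hg => hLs g (Finset.mem_insert_of_mem hg)).comp
        (bijective_cpl f C L (hLs f (Finset.mem_insert_self f s)))
      convert this using 1
      funext v
      simp

variable (I : Ideal A) [DRing.HasRgammaI I] [DRing.HasDerivedCompletion I]

/-- `RΓ_I K ≅ RΓ_I (K^∧)` -/
theorem isIso_map_toDerivedCompletion (hI : I.FG) (K : Dual.D A) :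
    IsIso ((DRing.RgammaI I).map (DRing.toDerivedCompletion I K)) := by
  obtain ⟨s, rfl⟩ := hI
  set I : Ideal A := Ideal.span (s : Set A) with hIdef
  obtain ⟨E, hE, ⟨e⟩⟩ := exists_kinj K
  obtain ⟨C, hC, h1, ι, hι, h3⟩ := exists_completion_gamma I s (fun f hf => Ideal.subset_span hf) E
  let C' : DRing.DComp I := ⟨DRing.toD C, isDerivedComplete_of_gens s _ fun f hf =>
    (complete_iff_contr f C).2 (h1 f hf)⟩
  let adj := DRing.derivedCompletionAdj I
  -- the universal property of `C`
  have huniv : ∀ L : DRing.DComp I,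
      Function.Bijective fun v : DRing.toD C ⟶ L.obj => (e.inv ≫ Q.map ι) ≫ v := by
    intro L
    obtain ⟨E', hE', ⟨e'⟩⟩ := exists_kinj L.obj
    have hb := h3 E' hE' fun f hf => (complete_iff_contr f E').1 fun n =>
      (complete_congr f e' n).2 (L.property f (Ideal.subset_span hf) n)
    have h4 : (fun v : DRing.toD C ⟶ L.obj => (e.inv ≫ Q.map ι) ≫ v) =
        (Iso.homCongr e e') ∘ (fun v : Q.obj C ⟶ Q.obj E' => Q.map ι ≫ v) ∘
          (Iso.homCongr (Iso.refl _) e').symm := funext fun v => by simp
    exact h4 ▸ (Iso.homCongr e e').bijective.comp (hb.comp (Iso.homCongr (Iso.refl _) e').symm.bijective)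
  let v : (DRing.derivedCompletion I).obj K ⟶ C' := (adj.homEquiv K C').symm (e.inv ≫ Q.map ι)
  have hv : DRing.toDerivedCompletion I K ≫ v.hom = e.inv ≫ Q.map ι :=
    (adj.homEquiv_unit ..).symm.trans ((adj.homEquiv K C').apply_symm_apply _)
  obtain ⟨w, hw⟩ := (huniv ((DRing.derivedCompletion I).obj K)).2 (DRing.toDerivedCompletion I K)
  have hwv : w ≫ v.hom = 𝟙 _ := (huniv C').1 (by
    change (e.inv ≫ Q.map ι) ≫ w ≫ v.hom = (e.inv ≫ Q.map ι) ≫ 𝟙 _
    rw [Category.comp_id, ← Category.assoc]
    exact (congrArg (· ≫ v.hom) hw).trans hv)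
  have hvw : v.hom ≫ w = 𝟙 _ := by
    refine congrArg InducedCategory.Hom.hom (show v ≫ InducedCategory.homMk w = 𝟙 _ from
      (adj.homEquiv K _).injective ?_)
    rw [adj.homEquiv_unit, adj.homEquiv_unit]
    change DRing.toDerivedCompletion I K ≫ v.hom ≫ w = DRing.toDerivedCompletion I K ≫ 𝟙 _
    rw [Category.comp_id, ← Category.assoc, hv]
    exact hw
  have : IsIso w := ⟨v.hom, hwv, hvw⟩
  have h5 : DRing.toDerivedCompletion I K = (e.inv ≫ Q.map ι) ≫ w := hw.symm
  have := RGamma.isIso_unitQ I E
  have := RGamma.isIso_unitQ I C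
  have : IsIso (RGamma.unitQ I E ≫ (DRing.RgammaI I).map (Q.map ι)) :=
    RGamma.unitQ_naturality I ι ▸ inferInstance
  have := IsIso.of_isIso_comp_left (RGamma.unitQ I E) ((DRing.RgammaI I).map (Q.map ι))
  rw [h5, Functor.map_comp, Functor.map_comp]
  infer_instance

end Complete

section Torsion

variable [IsNoetherianRing A]

/-- `M ↦ M / Γ_I M` -/
noncomputable def quotF (I : Ideal A) : ModuleCat.{u} A ⥤ ModuleCat.{u} A where
  obj M := ModuleCat.of A (M ⧸ DRing.torsionSub I M)
  map {M N} g := ModuleCat.ofHom (Submodule.mapQ _ _ g.hom fun _ hx => DRing.map_mem_torsionSub I g.hom hx)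
  map_id _ := by
    ext : 1
    exact Submodule.linearMap_qext _ (LinearMap.ext fun _ => rfl)
  map_comp _ _ := by
    ext : 1
    exact Submodule.linearMap_qext _ (LinearMap.ext fun _ => rfl)

instance (I : Ideal A) : (quotF I).Additive where
  map_add {M N g h} := by
    ext : 1
    exact Submodule.linearMap_qext _ (LinearMap.ext fun _ => rfl)

omit [IsNoetherianRing A] in
theorem bijective_of_div (f : A) (M : ModuleCat.{u} A) (h : IsDivModTorsion f M) :
    IsBij f ((quotF (Ideal.span {f})).obj M) := by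
  constructor
  · intro x y hxy
    obtain ⟨x, rfl⟩ := Submodule.Quotient.mk_surjective _ x
    obtain ⟨y, rfl⟩ := Submodule.Quotient.mk_surjective _ y
    replace hxy : (Submodule.Quotient.mk (f • x) : M ⧸ DRing.torsionSub (Ideal.span {f}) M) =
      Submodule.Quotient.mk (f • y) := hxy
    rw [Submodule.Quotient.eq, ← smul_sub] at hxy
    refine (Submodule.Quotient.eq (DRing.torsionSub (Ideal.span {f}) M)).2 ?_
    obtain ⟨n, hn⟩ := hxy
    refine ⟨n + 1, fun c hc => ?_⟩
    rw [Ideal.span_singleton_pow, Ideal.mem_span_singleton] at hc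
    obtain ⟨d, rfl⟩ := hc
    rw [pow_succ, mul_comm, mul_smul, mul_smul, hn _ (Ideal.pow_mem_pow (Ideal.mem_span_singleton_self f) n),
      smul_zero]
  · intro x
    obtain ⟨x, rfl⟩ := Submodule.Quotient.mk_surjective _ x
    obtain ⟨y, n, hn⟩ := h x
    refine ⟨Submodule.Quotient.mk y, ?_⟩
    change (Submodule.Quotient.mk (f • y) : M ⧸ DRing.torsionSub (Ideal.span {f}) M) = Submodule.Quotient.mk x
    rw [Submodule.Quotient.eq, ← neg_sub, neg_mem_iff]
    refine ⟨n, fun c hc => ?_⟩
    rw [Ideal.span_singleton_pow, Ideal.mem_span_singleton] at hc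
    obtain ⟨d, rfl⟩ := hc
    rw [mul_comm, mul_smul, hn, smul_zero]

omit [IsNoetherianRing A] in
/-- killing a `f`-bijective quotient does not change maps into complete objects -/
theorem bijective_precomp_inc (f : A) (P : DRing.Cx A) (h : ∀ i, IsDivModTorsion f (P.X i))
    (L : Dual.D A)
    (hL : ∀ n : ℤ, Subsingleton (Dual.inD A (Localization.Away f) ⟶ (shiftFunctor (Dual.D A) n).obj L)) :
    Function.Bijective fun v : DRing.toD P ⟶ L => Q.map (inc (Ideal.span {f}) P) ≫ v := by
  let F := (quotF (Ideal.span {f})).mapHomologicalComplex (ComplexShape.up ℤ)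
  let π : P ⟶ F.obj P :=
    { f := fun i => ModuleCat.ofHom (DRing.torsionSub (Ideal.span {f}) (P.X i)).mkQ
      comm' := fun i j _ => rfl }
  let S : ShortComplex (DRing.Cx A) := ShortComplex.mk (inc (Ideal.span {f}) P) π (by
    ext i x
    exact (Submodule.Quotient.mk_eq_zero _).2 x.2)
  have hS : S.ShortExact := HomologicalComplex.shortExact_of_degreewise_shortExact S fun i =>
    { exact := (ShortComplex.ShortExact.moduleCat_exact_iff_function_exact _).mpr (LinearMap.exact_subtype_mkQ _)
      mono_f := (ModuleCat.mono_iff_injective _).mpr (Submodule.injective_subtype _)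
      epi_g := (ModuleCat.epi_iff_surjective _).mpr (Submodule.mkQ_surjective _) }
  have hT := triangleOfSES_distinguished hS
  have hb : ∀ (k : ℤ) (g : (shiftFunctor (Dual.D A) k).obj (DRing.toD (F.obj P)) ⟶ L), g = 0 := by
    intro k g
    have hX : CxBij f ((shiftFunctor (DRing.Cx A) k).obj (F.obj P)) := fun i =>
      bijective_of_div f _ (h (i + k))
    refine (cancel_epi ((((Q (C := ModuleCat.{u} A)).commShiftIso k).app (F.obj P))).hom).1 ?_
    exact (subsingleton_hom_of_cxBij hX L hL).elim _ _
  have h0 : ∀ g : DRing.toD (F.obj P) ⟶ L, g = 0 :=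
    fun g => (subsingleton_hom_of_cxBij (fun i => bijective_of_div f _ (h i)) L hL).elim _ _
  constructor
  · intro v w hvw
    rw [← sub_eq_zero]
    obtain ⟨k, hk⟩ := Triangle.yoneda_exact₂ _ hT (v - w) (by
      change Q.map (inc (Ideal.span {f}) P) ≫ (v - w) = 0
      rw [Preadditive.comp_sub, sub_eq_zero]
      exact hvw)
    rw [hk]
    exact (congrArg (_ ≫ ·) (h0 k)).trans comp_zero
  · intro w
    have hT' := inv_rot_of_distTriang _ hT
    obtain ⟨k, hk⟩ := Triangle.yoneda_exact₂ _ hT' w (hb (-1) _)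
    exact ⟨k, hk.symm⟩

theorem bijective_precomp_gamma : ∀ (s : Finset A) (I : Ideal A), I = Ideal.span (s : Set A) →
    ∀ (E : DRing.Cx A), (∀ i, Injective (E.X i)) → ∀ (L : Dual.D A), (∀ f ∈ s, ∀ n : ℤ,
      Subsingleton (Dual.inD A (Localization.Away f) ⟶ (shiftFunctor (Dual.D A) n).obj L)) →
    Function.Bijective fun v : DRing.toD E ⟶ L => Q.map (inc I E) ≫ v := by
  classical
  intro s
  induction s using Finset.induction with
  | empty =>
    intro I hI E _ L _
    rw [Finset.coe_empty, Ideal.span_empty] at hI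
    subst hI
    have : ∀ i, IsIso ((inc (⊥ : Ideal A) E).f i) := fun i =>
      (ConcreteCategory.isIso_iff_bijective _).2 ⟨Subtype.val_injective, fun x =>
        ⟨⟨x, RGamma.mem_torsionSub_bot x⟩, rfl⟩⟩
    have := HomologicalComplex.Hom.isIso_of_components (inc (⊥ : Ideal A) E)
    exact ((asIso (Q.map (inc (⊥ : Ideal A) E))).symm.homFromEquiv (Z := L)).bijective
  | insert a s _ ih =>
    intro I hI E hE L hL
    rw [Finset.coe_insert, Ideal.span_insert, sup_comm] at hI
    subst hI
    let J := Ideal.span (s : Set A)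
    let c : (GC (Ideal.span {a})).obj ((GC J).obj E) ≅ (GC (J ⊔ Ideal.span {a})).obj E :=
      HomologicalComplex.Hom.isoOfComponents (fun i => (RGamma.gammaCompIso J (Ideal.span {a})).app (E.X i))
        fun i j _ => ((RGamma.gammaCompIso J (Ideal.span {a})).hom.naturality (E.d i j)).symm
    have hc : inc (Ideal.span {a}) ((GC J).obj E) ≫ inc J E = c.hom ≫ inc (J ⊔ Ideal.span {a}) E := by
      ext i x
      rfl
    have h1 := ih J rfl E hE L fun f hf => hL f (Finset.mem_insert_of_mem hf)
    have h2 := bijective_precomp_inc a ((GC J).obj E) (fun i => by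
      have := RGamma.div_of_injective J a (E.X i) 1
      rw [pow_one] at this
      exact this) L (hL a (Finset.mem_insert_self a s))
    have h3 := ((Q.mapIso c).homFromEquiv (Z := L)).bijective.comp (h2.comp h1)
    convert h3 using 1
    funext v
    change Q.map (inc (J ⊔ Ideal.span {a}) E) ≫ v =
      Q.map c.inv ≫ Q.map (inc (Ideal.span {a}) ((GC J).obj E)) ≫ Q.map (inc J E) ≫ v
    simp only [← Category.assoc, ← Functor.map_comp]
    rw [Category.assoc c.inv, hc, Iso.inv_hom_id_assoc]

variable (I : Ideal A) [DRing.HasRgammaI I] [DRing.HasDerivedCompletion I]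

/-- `(RΓ_I K)^∧ ≅ K^∧` -/
theorem isIso_completion_map_ε (K : Dual.D A) :
    IsIso ((DRing.derivedCompletion I).map ((DRing.RgammaIε I).app K)) := by
  obtain ⟨s, hs⟩ := IsNoetherian.noetherian I
  obtain ⟨E, hE, hinj, ⟨e⟩⟩ := RGamma.exists_resolution K
  have := RGamma.isIso_unitQ I E
  let adj := DRing.derivedCompletionAdj I
  refine (isIso_iff_coyoneda_map_bijective _).2 fun L => ?_
  have h0 := bijective_precomp_gamma s I hs.symm E hinj L.obj fun f hf =>
    L.property f (hs ▸ Submodule.subset_span hf)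
  have hε : (DRing.RgammaIε I).app K =
      ((DRing.RgammaI I).map e.inv ≫ inv (RGamma.unitQ I E)) ≫ Q.map (inc I E) ≫ e.hom := by
    rw [← RGamma.unitQ_ε, Category.assoc, Category.assoc, IsIso.inv_hom_id_assoc, ← Category.assoc,
      (DRing.RgammaIε I).naturality, Category.assoc, Functor.id_map, e.inv_hom_id]
    exact (Category.comp_id _).symm
  have h1 : Function.Bijective fun v : K ⟶ L.obj => (DRing.RgammaIε I).app K ≫ v := by
    have := ((asIso ((DRing.RgammaI I).map e.inv ≫ inv (RGamma.unitQ I E))).symm.homFromEquiv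
      (Z := L.obj)).bijective.comp (h0.comp (e.symm.homFromEquiv (Z := L.obj)).bijective)
    convert this using 1
    funext v
    simp [hε]
  have h2 := ((adj.homEquiv _ L).symm.bijective.comp (h1.comp (adj.homEquiv K L).bijective))
  convert h2 using 1
  funext v
  exact (adj.homEquiv _ L).injective ((adj.homEquiv_naturality_left _ v).trans
    (Equiv.apply_symm_apply _ _).symm)

end Torsion

end Groth.Agent.LocCoh.GM
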