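import Mathlib.CategoryTheory.Triangulated.Yoneda
import Mathlib.Algebra.BigOperators.Intervals
import Groth.Prelude.Def_DCoh2

/-!
# Maps into derived limits of pro-constant systems
-/

open CategoryTheory CategoryTheory.Limits CategoryTheory.Pretriangulated

namespace Groth.Agent.LocCoh.Milnor

section Shifted

universe v u

variable {C : Type u} [Category.{v} C] [HasShift C ℤ]

/-- `Hom(Z⟦j⟧, X) ≅ Hom(Z, X⟦p⟧)` for `j + p = 0` -/
noncomputable def homEq (j p : ℤ) (h : j + p = 0) (Z X : C) :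
    ((shiftFunctor C j).obj Z ⟶ X) ≃ (Z ⟶ (shiftFunctor C p).obj X) :=
  (shiftEquiv' C j p h).toAdjunction.homEquiv Z X

theorem homEq_comp (j p : ℤ) (h : j + p = 0) (Z : C) {X Y : C} (f : (shiftFunctor C j).obj Z ⟶ X)
    (g : X ⟶ Y) : homEq j p h Z Y (f ≫ g) = homEq j p h Z X f ≫ (shiftFunctor C p).map g :=
  (shiftEquiv' C j p h).toAdjunction.homEquiv_naturality_right f g

theorem homEq_zero [Preadditive C] [∀ n : ℤ, (shiftFunctor C n).Additive] (j p : ℤ) (h : j + p = 0) (Z X : C) :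
    homEq j p h Z X 0 = 0 := by
  have h0 := homEq_comp j p h Z (0 : (shiftFunctor C j).obj Z ⟶ X) (0 : X ⟶ X)
  rwa [comp_zero, Functor.map_zero, comp_zero] at h0

theorem homEq_symm_comp (j p : ℤ) (h : j + p = 0) (Z : C) {X Y : C} (f : Z ⟶ (shiftFunctor C p).obj X)
    (g : X ⟶ Y) : (homEq j p h Z Y).symm (f ≫ (shiftFunctor C p).map g) = (homEq j p h Z X).symm f ≫ g := by
  rw [Equiv.symm_apply_eq, homEq_comp, Equiv.apply_symm_apply]

end Shifted

universe v u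

variable {C : Type u} [Category.{v} C] [Preadditive C] (X : ℕ → C) (T : ∀ n m : ℕ, n ≤ m → (X m ⟶ X n))
  {K : C} (π : ∀ n, K ⟶ X n)

/-- `Hom(S, K) ⟶ (Hom(S, X n))_n` is an isomorphism of pro-groups -/
structure Good (S : C) : Prop where
  inj : ∃ m₀, ∀ x : S ⟶ K, x ≫ π m₀ = 0 → x = 0
  surj : ∀ n, ∃ (m : ℕ) (h : n ≤ m), ∀ y : S ⟶ X m, ∃ x : S ⟶ K, x ≫ π n = y ≫ T n m h

variable {X T π}

theorem Good.of_iso {S S' : C} (e : S ≅ S') (h : Good X T π S) : Good X T π S' := by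
  obtain ⟨m₀, h0⟩ := h.inj
  refine ⟨⟨m₀, fun x hx => ?_⟩, fun n => ?_⟩
  · rw [← cancel_epi e.hom, comp_zero]
    exact h0 _ (by rw [Category.assoc, hx, comp_zero])
  · obtain ⟨m, hm, hy⟩ := h.surj n
    refine ⟨m, hm, fun y => ?_⟩
    obtain ⟨x, hx⟩ := hy (e.hom ≫ y)
    exact ⟨e.inv ≫ x, by rw [Category.assoc, hx, Category.assoc, Iso.inv_hom_id_assoc]⟩

theorem good_of_shifted [HasShift C ℤ] [∀ n : ℤ, (shiftFunctor C n).Additive] (j p : ℤ) (h : j + p = 0) (Z : C)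
    (hinj : ∃ m₀, ∀ x : Z ⟶ (shiftFunctor C p).obj K, x ≫ (shiftFunctor C p).map (π m₀) = 0 → x = 0)
    (hsurj : ∀ n, ∃ (m : ℕ) (hm : n ≤ m), ∀ y : Z ⟶ (shiftFunctor C p).obj (X m),
      ∃ x : Z ⟶ (shiftFunctor C p).obj K,
        x ≫ (shiftFunctor C p).map (π n) = y ≫ (shiftFunctor C p).map (T n m hm)) :
    Good X T π ((shiftFunctor C j).obj Z) := by
  obtain ⟨m₀, h0⟩ := hinj
  refine ⟨⟨m₀, fun x hx => (homEq j p h Z K).injective ?_⟩, fun n => ?_⟩
  · rw [homEq_zero]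
    exact h0 _ (by rw [← homEq_comp, hx, homEq_zero])
  · obtain ⟨m, hm, hy⟩ := hsurj n
    refine ⟨m, hm, fun y => ?_⟩
    obtain ⟨x, hx⟩ := hy (homEq j p h Z (X m) y)
    refine ⟨(homEq j p h Z K).symm x, ?_⟩
    rw [← homEq_symm_comp, hx, homEq_symm_comp, Equiv.symm_apply_apply]

section Limit

variable (Tid : ∀ n, T n n le_rfl = 𝟙 (X n))
  (Tcomp : ∀ a b c (h : a ≤ b) (h' : b ≤ c), T b c h' ≫ T a b h = T a c (h.trans h'))
  (hπ : ∀ n m (h : n ≤ m), π m ≫ T n m h = π n)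

omit [Preadditive C] in
include Tid Tcomp in
theorem compatible {S : C} (y : ∀ n, S ⟶ X n) (hy : ∀ n, y (n + 1) ≫ T n (n + 1) (Nat.le_succ n) = y n)
    (n m : ℕ) (h : n ≤ m) : y m ≫ T n m h = y n := by
  induction m, h using Nat.le_induction with
  | base => rw [Tid, Category.comp_id]
  | succ m hm ih => rw [← Tcomp n m (m + 1) hm (Nat.le_succ m), ← Category.assoc, hy, ih]

include Tid Tcomp hπ in
theorem Good.existsUnique_lift {S : C} (h : Good X T π S) (y : ∀ n, S ⟶ X n)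
    (hy : ∀ n, y (n + 1) ≫ T n (n + 1) (Nat.le_succ n) = y n) : ∃! x : S ⟶ K, ∀ n, x ≫ π n = y n := by
  obtain ⟨m₀, h0⟩ := h.inj
  have hex : ∀ n, ∃ x : S ⟶ K, x ≫ π n = y n := fun n => by
    obtain ⟨m, hm, hs⟩ := h.surj n
    obtain ⟨x, hx⟩ := hs (y m)
    exact ⟨x, hx.trans (compatible Tid Tcomp y hy n m hm)⟩
  choose x hx using hex
  have hge : ∀ M, m₀ ≤ M → x M = x m₀ := fun M hM => sub_eq_zero.1 <| h0 _ <| by
    rw [Preadditive.sub_comp, hx, ← hπ m₀ M hM, ← Category.assoc, hx, compatible Tid Tcomp y hy m₀ M hM,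
      sub_self]
  refine ⟨x m₀, fun n => ?_, fun x' hx' => sub_eq_zero.1 <| h0 _ <| by
    rw [Preadditive.sub_comp, hx', hx, sub_self]⟩
  rw [← hge (max n m₀) (le_max_right _ _), ← hπ n _ (le_max_left n m₀), ← Category.assoc, hx,
    compatible Tid Tcomp y hy _ _ (le_max_left n m₀)]

include Tid Tcomp hπ in
/-- `lim¹ = 0` -/
theorem Good.exists_sub_eq {S : C} (h : Good X T π S) (y : ∀ n, S ⟶ X n) :
    ∃ z : ∀ n, S ⟶ X n, ∀ n, z n - z (n + 1) ≫ T n (n + 1) (Nat.le_succ n) = y n := by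
  classical
  choose m₁ hm₁ hs using h.surj
  let m : ℕ → ℕ := fun n => n + 1 + ∑ i ∈ Finset.range (n + 1), m₁ i
  have hle : ∀ n, m₁ n ≤ m n := fun n => by
    have := Finset.single_le_sum (f := m₁) (fun i _ => Nat.zero_le _) (Finset.self_mem_range_succ n)
    simp only [m]
    omega
  have hlt : ∀ n, n + 1 ≤ m n := fun n => Nat.le_add_right _ _
  have hmono : ∀ n, m n ≤ m (n + 1) := fun n => by
    simp only [m]
    rw [Finset.sum_range_succ _ (n + 1)]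
    omega
  let T' : ∀ n k : ℕ, X k ⟶ X n := fun n k => if hnk : n ≤ k then T n k hnk else 0
  have hT' : ∀ n k (hnk : n ≤ k), T' n k = T n k hnk := fun n k hnk => dif_pos hnk
  let f : ∀ n, ℕ → (S ⟶ X n) := fun n j => y j ≫ T' n j
  let s : ∀ n, S ⟶ X n := fun n => ∑ j ∈ Finset.Ico n (m n), f n j
  have hres : ∀ n, ∃ x : S ⟶ K, x ≫ π n = ∑ j ∈ Finset.Ico (m n) (m (n + 1)), f n j := fun n => by
    obtain ⟨x, hx⟩ := hs n ((∑ j ∈ Finset.Ico (m n) (m (n + 1)), f (m n) j) ≫ T (m₁ n) (m n) (hle n))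
    refine ⟨x, hx.trans ?_⟩
    rw [Category.assoc, Tcomp, Preadditive.sum_comp]
    refine Finset.sum_congr rfl fun j hj => ?_
    have hj' := (Finset.mem_Ico.1 hj).1
    simp only [f]
    rw [Category.assoc, hT' (m n) j hj', Tcomp, ← hT']
  choose x hx using hres
  let c : ℕ → (S ⟶ K) := fun n => - ∑ j ∈ Finset.range n, x j
  refine ⟨fun n => s n + c n ≫ π n, fun n => ?_⟩
  have hn := hlt n
  have hm := hmono n
  have h1 : s (n + 1) ≫ T n (n + 1) (Nat.le_succ n) = ∑ j ∈ Finset.Ico (n + 1) (m (n + 1)), f n j := by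
    simp only [s, Preadditive.sum_comp]
    refine Finset.sum_congr rfl fun j hj => ?_
    have hj' := (Finset.mem_Ico.1 hj).1
    simp only [f]
    rw [Category.assoc, hT' (n + 1) j hj', Tcomp, ← hT']
  have h2 : s n = f n n + ∑ j ∈ Finset.Ico (n + 1) (m n), f n j :=
    Finset.sum_eq_sum_Ico_succ_bot (by omega) _
  have h3 : f n n = y n := by simp only [f, hT' n n le_rfl, Tid, Category.comp_id]
  have h4 := Finset.sum_Ico_consecutive (f n) hn hm
  have h5 : c (n + 1) = c n - x n := by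
    simp only [c, Finset.sum_range_succ]
    abel
  show (s n + c n ≫ π n) - (s (n + 1) + c (n + 1) ≫ π (n + 1)) ≫ T n (n + 1) (Nat.le_succ n) = y n
  rw [Preadditive.add_comp, Category.assoc, hπ, h1, h2, h3, h5, Preadditive.sub_comp, hx, ← h4]
  abel

variable [HasProduct X] [HasZeroObject C] [HasShift C ℤ] [∀ n : ℤ, (shiftFunctor C n).Additive]
  [Pretriangulated C] {L : C} {a : L ⟶ ∏ᶜ X} {c : ∏ᶜ X ⟶ (shiftFunctor C (1 : ℤ)).obj L}
  (hT : Triangle.mk a (Pi.lift fun n => Pi.π X n - Pi.π X (n + 1) ≫ T n (n + 1) (Nat.le_succ n)) c ∈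
    distinguishedTriangles)

include hπ hT in
theorem exists_compare : ∃ φ : K ⟶ L, ∀ n, φ ≫ a ≫ Pi.π X n = π n := by
  have h0 : Pi.lift π ≫ (Pi.lift fun n => Pi.π X n - Pi.π X (n + 1) ≫ T n (n + 1) (Nat.le_succ n)) = 0 :=
    Pi.hom_ext _ _ fun n => by
      simp only [Category.assoc, Pi.lift_π, Preadditive.comp_sub, zero_comp]
      rw [← Category.assoc, Pi.lift_π, hπ, sub_self]
  obtain ⟨(φ : K ⟶ L), (hφ : Pi.lift π = φ ≫ a)⟩ := Triangle.coyoneda_exact₂ _ hT (Pi.lift π) h0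
  refine ⟨φ, fun n => ?_⟩
  have h := congrArg (· ≫ Pi.π X n) hφ
  simp only [Pi.lift_π] at h
  exact (h.trans (Category.assoc φ a (Pi.π X n))).symm

include hT in
/-- injectivity of `Hom(S, L) ⟶ Hom(S, ∏ X)` -/
theorem eq_zero_of_comp_π {S : C}
    (h' : ∀ y : ∀ n, (shiftFunctor C (1 : ℤ)).obj S ⟶ X n,
      ∃ z : ∀ n, (shiftFunctor C (1 : ℤ)).obj S ⟶ X n,
        ∀ n, z n - z (n + 1) ≫ T n (n + 1) (Nat.le_succ n) = y n)
    (f : S ⟶ L) (hf : ∀ n, f ≫ a ≫ Pi.π X n = 0) : f = 0 := by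
  have hfa : f ≫ a = 0 := Pi.hom_ext _ _ fun n => by rw [Category.assoc, hf, zero_comp]
  obtain ⟨(g : (shiftFunctor C (1 : ℤ)).obj S ⟶ ∏ᶜ X),
    (hg : (shiftFunctor C (1 : ℤ)).map f = g ≫ c)⟩ := Triangle.coyoneda_exact₁ _ hT ((shiftFunctor C (1 : ℤ)).map f)
    (by
      change (shiftFunctor C (1 : ℤ)).map f ≫ (shiftFunctor C (1 : ℤ)).map a = 0
      rw [← Functor.map_comp, hfa, Functor.map_zero])
  obtain ⟨z, hz⟩ := h' fun n => g ≫ Pi.π X n
  have hg' : g = Pi.lift z ≫ (Pi.lift fun n => Pi.π X n - Pi.π X (n + 1) ≫ T n (n + 1) (Nat.le_succ n)) :=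
    Pi.hom_ext _ _ fun n => by simp [Preadditive.comp_sub, hz]
  have h0 : (Pi.lift fun n => Pi.π X n - Pi.π X (n + 1) ≫ T n (n + 1) (Nat.le_succ n)) ≫ c = 0 :=
    comp_distTriang_mor_zero₂₃ _ hT
  have : (shiftFunctor C (1 : ℤ)).map f = 0 := by
    rw [hg, hg', Category.assoc, h0, comp_zero]
  exact (shiftFunctor C (1 : ℤ)).map_injective (this.trans (Functor.map_zero _ _ _).symm)

include hT in
theorem subsingleton_hom {S : C} (h : ∀ n, Subsingleton (S ⟶ X n))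
    (h' : ∀ n, Subsingleton ((shiftFunctor C (1 : ℤ)).obj S ⟶ X n)) : Subsingleton (S ⟶ L) :=
  subsingleton_of_forall_eq 0 fun f => eq_zero_of_comp_π hT
    (fun _ => ⟨fun _ => 0, fun _ => Subsingleton.elim _ _⟩) f fun _ => Subsingleton.elim _ _

include Tid Tcomp hπ hT in
theorem bijective {S : C} (h : Good X T π S) (h' : Good X T π ((shiftFunctor C (1 : ℤ)).obj S))
    {φ : K ⟶ L} (hφ : ∀ n, φ ≫ a ≫ Pi.π X n = π n) :
    Function.Bijective fun f : S ⟶ K => f ≫ φ := by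
  have hz := eq_zero_of_comp_π hT (S := S) (h'.exists_sub_eq Tid Tcomp hπ)
  constructor
  · intro f g hfg
    obtain ⟨m₀, h0⟩ := h.inj
    refine sub_eq_zero.1 (h0 _ ?_)
    have hfg' : f ≫ φ = g ≫ φ := hfg
    rw [Preadditive.sub_comp, ← hφ m₀, ← Category.assoc f, hfg', Category.assoc, sub_self]
  · intro g
    have hD : a ≫ (Pi.lift fun n => Pi.π X n - Pi.π X (n + 1) ≫ T n (n + 1) (Nat.le_succ n)) = 0 :=
      comp_distTriang_mor_zero₁₂ _ hT
    obtain ⟨x, hx, -⟩ := h.existsUnique_lift Tid Tcomp hπ (fun n => g ≫ a ≫ Pi.π X n) fun n => by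
      have h1 := congrArg (fun t => g ≫ t ≫ Pi.π X n) hD
      simp only [Category.assoc, Pi.lift_π, Preadditive.comp_sub, zero_comp, comp_zero] at h1
      rw [Category.assoc, Category.assoc]
      exact (sub_eq_zero.1 h1).symm
    refine ⟨x, sub_eq_zero.1 (hz _ fun n => ?_)⟩
    rw [Preadditive.sub_comp, Category.assoc, hφ, hx, sub_self]

end Limit

end Groth.Agent.LocCoh.Milnor
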