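import Groth.Agent.LocCoh.RGamma
import Groth.Agent.LocCoh.Milnor
import Groth.Agent.DRing.InjAmp
import Groth.Agent.DHA.Horseshoe

/-!
# Maps from modules into `RΓ_J`
-/

universe u

open CategoryTheory CategoryTheory.Limits DerivedCategory HomologicalComplex

attribute [local instance] HasDerivedCategory.standard

namespace Groth.Agent.LocCoh.RGHom

open Groth.Agent.DRing Groth.Agent.DRing.Homology Groth.Agent.DRing.PC
open RGamma (GC)

variable {A : Type u} [CommRing A]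

section Chain

variable {W : ModuleCat.{u} A} {G : DRing.Cx A} {i : ℤ}

/-- the component in degree `i` -/
noncomputable abbrev ev (f : sgl i W ⟶ G) : W ⟶ G.X i :=
  (singleObjXSelf (ComplexShape.up ℤ) i W).inv ≫ f.f i

theorem ev_comp_d (f : sgl i W ⟶ G) (j : ℤ) : ev f ≫ G.d i j = 0 := by
  rw [Category.assoc, f.comm, single_obj_d, zero_comp, comp_zero]

theorem ev_map {W' : ModuleCat.{u} A} (g : W' ⟶ W) (f : sgl i W ⟶ G) :
    ev ((single (ModuleCat.{u} A) (ComplexShape.up ℤ) i).map g ≫ f) = g ≫ ev f := by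
  rw [ev, comp_f, single_map_f_self, Category.assoc, Category.assoc, Iso.inv_hom_id_assoc]

theorem ext_of_ev {f g : sgl i W ⟶ G} (h : ev f = ev g) : f = g :=
  from_single_hom_ext ((cancel_epi _).1 h)

theorem exists_chain (φ : W ⟶ G.X i) (h : φ ≫ G.d i (i + 1) = 0) : ∃ f : sgl i W ⟶ G, ev f = φ :=
  ⟨mkHomFromSingle φ (fun k (hk : i + 1 = k) => by subst hk; exact h), by
    rw [ev, mkHomFromSingle_f, Iso.inv_hom_id_assoc]⟩

theorem exists_boundary {f : sgl i W ⟶ G} (h : Homotopy f 0) :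
    ∃ ψ : W ⟶ G.X (i - 1), ψ ≫ G.d (i - 1) i = ev f := by
  refine ⟨(singleObjXSelf (ComplexShape.up ℤ) i W).inv ≫ h.hom i (i - 1), ?_⟩
  have hc := h.comm i
  rw [dNext_eq _ (show (ComplexShape.up ℤ).Rel i (i + 1) from rfl),
    prevD_eq _ (show (ComplexShape.up ℤ).Rel (i - 1) i from sub_add_cancel i 1), single_obj_d, zero_comp,
    zero_add, HomologicalComplex.zero_f, add_zero] at hc
  rw [Category.assoc, ev, hc]

theorem homotopic_zero (f : sgl i W ⟶ G) (ψ : W ⟶ G.X (i - 1)) (hψ : ψ ≫ G.d (i - 1) i = ev f) :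
    Nonempty (Homotopy f 0) := by
  let h : ∀ a b, (ComplexShape.up ℤ).Rel b a → ((sgl i W).X a ⟶ G.X b) := fun a b (hab : b + 1 = a) =>
    if ha : a = i then (singleObjXIsoOfEq (ComplexShape.up ℤ) i W a ha).hom ≫ ψ ≫
      (G.XIsoOfEq (show i - 1 = b by omega)).hom else 0
  suffices f = Homotopy.nullHomotopicMap' h from ⟨this ▸ Homotopy.nullHomotopy' h⟩
  refine from_single_hom_ext ?_
  rw [Homotopy.nullHomotopicMap'_f (show (ComplexShape.up ℤ).Rel (i - 1) i from sub_add_cancel i 1)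
    (show (ComplexShape.up ℤ).Rel i (i + 1) from rfl), single_obj_d, zero_comp, zero_add]
  rw [← cancel_epi (singleObjXSelf (ComplexShape.up ℤ) i W).inv]
  simp only [h, dif_pos, Category.assoc]
  simp only [XIsoOfEq_rfl, Iso.refl_hom, Category.id_comp]
  exact (Iso.inv_hom_id_assoc _ _).trans hψ |>.symm

/-- maps in `D` from `W` vanish iff cocycles are boundaries -/
theorem Q_map_eq_zero_iff [G.IsKInjective] (f : sgl i W ⟶ G) :
    Q.map f = 0 ↔ ∃ ψ : W ⟶ G.X (i - 1), ψ ≫ G.d (i - 1) i = ev f := by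
  refine ⟨fun h => ?_, fun ⟨ψ, hψ⟩ => ?_⟩
  · obtain ⟨hh⟩ := (InjAmp.Q_map_eq_iff_inj f 0).1 (h.trans (Q.map_zero _ _).symm)
    exact exists_boundary hh
  · obtain ⟨hh⟩ := homotopic_zero f ψ hψ
    exact (DerivedCategory.Q_map_eq_of_homotopy _ hh).trans (Q.map_zero _ _)

end Chain

section Quot

variable (J : Ideal A) (W : Type u) [AddCommGroup W] [Module A W]

/-- `W ⟶ W ⧸ J^k W` -/
noncomputable def qJ (k : ℕ) :
    ModuleCat.of A W ⟶ ModuleCat.of A (W ⧸ (J ^ k • ⊤ : Submodule A W)) :=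
  ModuleCat.ofHom (Submodule.mkQ _)

/-- the transition map -/
noncomputable def pJ {k k' : ℕ} (h : k ≤ k') :
    ModuleCat.of A (W ⧸ (J ^ k' • ⊤ : Submodule A W)) ⟶ ModuleCat.of A (W ⧸ (J ^ k • ⊤ : Submodule A W)) :=
  ModuleCat.ofHom (Submodule.mapQ _ _ LinearMap.id (Submodule.smul_mono (Ideal.pow_le_pow_right h) le_rfl))

theorem qJ_pJ {k k' : ℕ} (h : k ≤ k') : qJ J W k' ≫ pJ J W h = qJ J W k := rfl

variable {J W}

/-- a map from a finite module to a torsion module factors -/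
theorem exists_factor_module [Module.Finite A W] {N : Type u} [AddCommGroup N] [Module A N] (φ : W →ₗ[A] N)
    (hN : ∀ x : N, ∃ k : ℕ, ∀ c ∈ J ^ k, c • x = 0) :
    ∃ k : ℕ, ∀ k', k ≤ k' → (J ^ k' • ⊤ : Submodule A W) ≤ LinearMap.ker φ := by
  classical
  obtain ⟨s, hs⟩ := Module.Finite.fg_top (R := A) (M := W)
  choose k hk using hN
  refine ⟨s.sup fun w => k (φ w), fun k' hk' => ?_⟩
  rw [← hs, Submodule.smul_le]
  intro c hc w hw
  rw [LinearMap.mem_ker, map_smul]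
  induction hw using Submodule.span_induction with
  | mem y hy =>
    exact hk _ c (Ideal.pow_le_pow_right ((Finset.le_sup (f := fun w => k (φ w)) hy).trans hk') hc)
  | zero => rw [map_zero, smul_zero]
  | add y z _ _ hy hz => rw [map_add, smul_add, hy, hz, add_zero]
  | smul a y _ hy => rw [map_smul, smul_comm, hy, smul_zero]

variable [Module.Finite A W] {G : DRing.Cx A} [G.IsKInjective]

/-- the map in `D` -/
noncomputable abbrev inMap {V V' : ModuleCat.{u} A} (g : V ⟶ V') :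
    Dual.inD A V ⟶ Dual.inD A V' := (singleFunctor (ModuleCat.{u} A) 0).map g

/-- maps into a torsion K-injective complex factor through some `W ⧸ J^k W` -/
theorem exists_factor (hG : ∀ j, ∀ x : G.X j, ∃ k : ℕ, ∀ c ∈ J ^ k, c • x = 0)
    (x : Dual.inD A W ⟶ DRing.toD G) :
    ∃ (k : ℕ) (x' : Dual.inD A (W ⧸ (J ^ k • ⊤ : Submodule A W)) ⟶ DRing.toD G),
      inMap (qJ J W k) ≫ x' = x := by
  obtain ⟨f, hf⟩ := InjAmp.exists_Q_map_eq_inj (K := sgl 0 (ModuleCat.of A W)) (L := G) x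
  obtain ⟨k, hk⟩ := exists_factor_module (J := J) (ev f).hom (hG 0)
  let φ : ModuleCat.of A (W ⧸ (J ^ k • ⊤ : Submodule A W)) ⟶ G.X 0 :=
    ModuleCat.ofHom (Submodule.liftQ _ (ev f).hom (hk k le_rfl))
  have hφ : φ ≫ G.d 0 (0 + 1) = 0 := ModuleCat.hom_ext (Submodule.linearMap_qext _
    (congrArg ModuleCat.Hom.hom (ev_comp_d f (0 + 1))))
  obtain ⟨g, hg⟩ := exists_chain φ hφ
  refine ⟨k, Q.map g, ?_⟩
  have h1 : (single (ModuleCat.{u} A) (ComplexShape.up ℤ) 0).map (qJ J W k) ≫ g = f :=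
    ext_of_ev (by rw [ev_map, hg]; rfl)
  rw [← hf, ← h1, Q.map_comp]
  rfl

/-- … and if the composite vanishes it vanishes at a finite stage -/
theorem exists_factor_zero (hG : ∀ j, ∀ x : G.X j, ∃ k : ℕ, ∀ c ∈ J ^ k, c • x = 0) (k : ℕ)
    (y : Dual.inD A (W ⧸ (J ^ k • ⊤ : Submodule A W)) ⟶ DRing.toD G)
    (hy : inMap (qJ J W k) ≫ y = 0) :
    ∃ (k' : ℕ) (h : k ≤ k'), inMap (pJ J W h) ≫ y = 0 := by
  obtain ⟨f, hf⟩ := InjAmp.exists_Q_map_eq_inj
    (K := sgl 0 (ModuleCat.of A (W ⧸ (J ^ k • ⊤ : Submodule A W)))) (L := G) y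
  have h0 : Q.map ((single (ModuleCat.{u} A) (ComplexShape.up ℤ) 0).map (qJ J W k) ≫ f) = 0 := by
    rw [Q.map_comp, hf]
    exact hy
  obtain ⟨ψ, hψ⟩ := (Q_map_eq_zero_iff _).1 h0
  obtain ⟨k₁, hk₁⟩ := exists_factor_module (J := J) ψ.hom (hG _)
  refine ⟨max k k₁, le_max_left _ _, ?_⟩
  have h1 : inMap (pJ J W (le_max_left k k₁)) ≫ y =
      Q.map ((single (ModuleCat.{u} A) (ComplexShape.up ℤ) 0).map (pJ J W (le_max_left k k₁)) ≫ f) := by
    rw [Q.map_comp, hf]
    rfl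
  refine h1.trans ((Q_map_eq_zero_iff _).2 ?_)
  refine ⟨ModuleCat.ofHom (Submodule.liftQ _ ψ.hom (hk₁ _ (le_max_right k k₁))), ?_⟩
  rw [ev_map]
  refine ModuleCat.hom_ext (Submodule.linearMap_qext _ ?_)
  rw [ev_map] at hψ
  exact congrArg ModuleCat.Hom.hom hψ

end Quot

section Torsion

variable [IsNoetherianRing A] (I : Ideal A) [DRing.HasRgammaI I]

omit [IsNoetherianRing A] [DRing.HasRgammaI I] in
theorem HD_inD_torsion {W : Type u} [AddCommGroup W] [Module A W] (n : ℕ)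
    (hW : ∀ c ∈ I ^ n, ∀ w : W, c • w = 0) (i : ℤ) :
    _root_.LocCoh.IsPowerTorsion I (Dual.HD A (Dual.inD A W) i) := by
  have hs : RGamma.TorsionHom I (sgl 0 (ModuleCat.of A W)) := fun a b hb z _ => ⟨n, fun c hc => ⟨0, by
    rw [map_zero]
    by_cases ha : a = 0
    · subst ha
      refine ((singleObjXSelf (ComplexShape.up ℤ) 0 (ModuleCat.of A W)).toLinearEquiv.injective ?_).symm
      rw [map_smul, map_zero]
      exact hW c hc _
    · have := ModuleCat.subsingleton_of_isZero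
        (isZero_single_obj_X (ComplexShape.up ℤ) 0 (ModuleCat.of A W) a ha)
      exact Subsingleton.elim _ _⟩⟩
  exact RGamma.HD_torsion_of_torsionHom (Iso.refl _) hs i

/-- `RΓ_I` is invisible to maps from torsion objects -/
theorem bijective_comp_ε {S : Dual.D A} (hS : ∀ i, _root_.LocCoh.IsPowerTorsion I (Dual.HD A S i))
    (K : Dual.D A) :
    Function.Bijective fun f : S ⟶ (DRing.RgammaI I).obj K => f ≫ (DRing.RgammaIε I).app K := by
  have := RGamma.isIso_ε I S hS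
  constructor
  · intro f g h
    have key : ∀ f : S ⟶ (DRing.RgammaI I).obj K, f =
        inv ((DRing.RgammaIε I).app S) ≫ (DRing.RgammaI I).map (f ≫ (DRing.RgammaIε I).app K) := fun f => by
      rw [Functor.map_comp, RGamma.map_ε_eq, (DRing.RgammaIε I).naturality, IsIso.inv_hom_id_assoc]
      rfl
    rw [key f, key g]
    exact congrArg (fun t => inv ((DRing.RgammaIε I).app S) ≫ (DRing.RgammaI I).map t) h
  · intro f
    exact ⟨inv ((DRing.RgammaIε I).app S) ≫ (DRing.RgammaI I).map f, by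
      simp only [Category.assoc, (DRing.RgammaIε I).naturality, IsIso.inv_hom_id_assoc, Functor.id_map]⟩

omit [IsNoetherianRing A] [DRing.HasRgammaI I] in
theorem torsion_shift {S : Dual.D A} (hS : ∀ i, _root_.LocCoh.IsPowerTorsion I (Dual.HD A S i)) (j i : ℤ) :
    _root_.LocCoh.IsPowerTorsion I (Dual.HD A ((shiftFunctor (Dual.D A) j).obj S) i) := fun x => by
  let e := (DRing.DBasic.HFShiftIso S j i (j + i) rfl).toLinearEquiv
  obtain ⟨n, hn⟩ := hS (j + i) (e x)
  exact ⟨n, fun c hc => e.injective (by rw [map_smul, hn c hc, map_zero])⟩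

/-- … also after shifting -/
theorem bijective_comp_ε_shift {W : Type u} [AddCommGroup W] [Module A W] (n : ℕ)
    (hW : ∀ c ∈ I ^ n, ∀ w : W, c • w = 0) (K : Dual.D A) (p : ℤ) :
    Function.Bijective fun f : Dual.inD A W ⟶ (shiftFunctor (Dual.D A) p).obj ((DRing.RgammaI I).obj K) =>
      f ≫ (shiftFunctor (Dual.D A) p).map ((DRing.RgammaIε I).app K) := by
  have hb := bijective_comp_ε I (torsion_shift I (HD_inD_torsion I n hW) (-p)) K
  have h2 := ((Milnor.homEq (-p) p (neg_add_cancel p) (Dual.inD A W) K).bijective.comp hb).comp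
    (Milnor.homEq (-p) p (neg_add_cancel p) (Dual.inD A W) ((DRing.RgammaI I).obj K)).symm.bijective
  convert h2 using 1
  funext f
  simp [Milnor.homEq_comp]

end Torsion

section Resolution

variable [IsNoetherianRing A] (J : Ideal A) [DRing.HasRgammaI J] (N : Type u) [AddCommGroup N] [Module A N]

/-- `RΓ_J(N)[p]` by a K-injective complex of torsion modules -/
theorem exists_torsion_model (p : ℤ) :
    ∃ G : DRing.Cx A, G.IsKInjective ∧ (∀ j, ∀ x : G.X j, ∃ k : ℕ, ∀ c ∈ J ^ k, c • x = 0) ∧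
      (∀ j, j + p < 0 → IsZero (G.X j)) ∧
      Nonempty (DRing.toD G ≅ (shiftFunctor (Dual.D A) p).obj ((DRing.RgammaI J).obj (Dual.inD A N))) := by
  have : CochainComplex.IsStrictlyGE (sgl 0 (ModuleCat.of A N)) 0 :=
    (CochainComplex.isStrictlyGE_iff _ _).2 fun i hi =>
      isZero_single_obj_X (ComplexShape.up ℤ) 0 _ i (by omega)
  obtain ⟨L, α, hL, hinj, -, hα⟩ := DHA.Horseshoe.exists_injRes (sgl 0 (ModuleCat.of A N)) 0
  have := CochainComplex.isKInjective_of_injective L 0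
  let G := (GC J).obj L
  have hGz : ∀ j, j < 0 → IsZero (G.X j) := fun j hj =>
    (DRing.gammaI J).map_isZero (L.isZero_of_isStrictlyGE 0 j hj)
  have hGi : ∀ j, Injective (G.X j) := fun j =>
    have := hinj j
    injective_torsionSub J (L.X j)
  have : G.IsStrictlyGE 0 := (CochainComplex.isStrictlyGE_iff _ _).2 hGz
  have := CochainComplex.isKInjective_of_injective G 0
  have := RGamma.isIso_unitQ J L
  let e : DRing.toD G ≅ (DRing.RgammaI J).obj (Dual.inD A N) :=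
    asIso (RGamma.unitQ J L) ≪≫ (DRing.RgammaI J).mapIso (asIso (Q.map α)).symm
  refine ⟨(shiftFunctor (DRing.Cx A) p).obj G, inferInstance, fun j x => ?_, fun j hj => hGz _ (by omega),
    ⟨((Q (C := ModuleCat.{u} A)).commShiftIso p).app G ≪≫ (shiftFunctor (Dual.D A) p).mapIso e⟩⟩
  obtain ⟨n, hn⟩ := x.2
  exact ⟨n, fun c hc => Subtype.ext (hn c hc)⟩

variable {W : Type u} [AddCommGroup W] [Module A W]

/-- maps `W ⟶ RΓ_J(N)[p]` factor -/
theorem exists_factor_RgammaI [Module.Finite A W] (p : ℤ)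
    (x : Dual.inD A W ⟶ (shiftFunctor (Dual.D A) p).obj ((DRing.RgammaI J).obj (Dual.inD A N))) :
    ∃ (k : ℕ) (x' : Dual.inD A (W ⧸ (J ^ k • ⊤ : Submodule A W)) ⟶
      (shiftFunctor (Dual.D A) p).obj ((DRing.RgammaI J).obj (Dual.inD A N))),
      inMap (qJ J W k) ≫ x' = x := by
  obtain ⟨G, hG, ht, -, ⟨e⟩⟩ := exists_torsion_model J N p
  obtain ⟨k, x', hx'⟩ := exists_factor ht (x ≫ e.inv)
  exact ⟨k, x' ≫ e.hom, by rw [← Category.assoc, hx', Category.assoc, e.inv_hom_id, Category.comp_id]⟩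

theorem exists_factor_zero_RgammaI [Module.Finite A W] (p : ℤ) (k : ℕ)
    (y : Dual.inD A (W ⧸ (J ^ k • ⊤ : Submodule A W)) ⟶
      (shiftFunctor (Dual.D A) p).obj ((DRing.RgammaI J).obj (Dual.inD A N)))
    (hy : inMap (qJ J W k) ≫ y = 0) :
    ∃ (k' : ℕ) (h : k ≤ k'), inMap (pJ J W h) ≫ y = 0 := by
  obtain ⟨G, hG, ht, -, ⟨e⟩⟩ := exists_torsion_model J N p
  obtain ⟨k', h, hk'⟩ := exists_factor_zero ht k (y ≫ e.inv) (by rw [← Category.assoc, hy, zero_comp])
  exact ⟨k', h, by rw [← cancel_mono e.inv, Category.assoc, hk', zero_comp]⟩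

theorem eq_zero_of_neg (p : ℤ) (hp : p < 0)
    (x : Dual.inD A W ⟶ (shiftFunctor (Dual.D A) p).obj ((DRing.RgammaI J).obj (Dual.inD A N))) : x = 0 := by
  obtain ⟨G, hG, -, hz, ⟨e⟩⟩ := exists_torsion_model J N p
  obtain ⟨f, hf⟩ := InjAmp.exists_Q_map_eq_inj (K := sgl 0 (ModuleCat.of A W)) (L := G) (x ≫ e.inv)
  have : f = 0 := ext_of_ev ((hz 0 (by omega)).eq_of_tgt _ _)
  rw [← cancel_mono e.inv, zero_comp]
  exact hf.symm.trans ((congrArg Q.map this).trans (Q.map_zero _ _))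

end Resolution

end Groth.Agent.LocCoh.RGHom
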