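import Groth.Agent.LocCoh.Finiteness
import Groth.Agent.EGA4Lib.Codepth
import Groth.Agent.ZClosLib.DepthCrit
import Groth.Prelude.Def_W4bk5brsh7111920
import Mathlib.RingTheory.Ideal.KrullsHeightTheorem
import Mathlib.RingTheory.Ideal.Height

/-!
# Adjusted depths bound the finiteness dimension from above

* `depth_le_depth_add_height`, `height_add_height_le`, `exists_between`;
* `not_locZero_H`: at the depth of `M_p` along `a` local cohomology does not vanish locally at `p`;
* `exists_not_kills`: the case of height one;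
* `finDimRel_le_adjDepth`, `finDimRel_le_minAdjDepth`.
-/

universe u

open CategoryTheory Limits

namespace Groth.Agent.LocCoh.AdjDepth

variable {R : Type u} [CommRing R]

section Height

theorem height_add_le_of_series {α β : Type*} [Preorder α] [Preorder β] (f : α → β) (hf : StrictMono f)
    (b : β) (hb : ∀ x, b ≤ f x) (x : α) : Order.height b + Order.height x ≤ Order.height (f x) := by
  refine ENat.forall_natCast_le_iff_le.mp fun k hk => ?_
  suffices H : ∀ n : ℕ, ∀ y : α, (n : ℕ∞) ≤ Order.height y → Order.height b + n ≤ Order.height (f y) by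
    by_cases htop : Order.height x = ⊤
    · exact (show (k : ℕ∞) ≤ Order.height b + k from le_add_self).trans (H k x (htop ▸ le_top))
    · obtain ⟨n, hn⟩ := ENat.ne_top_iff_exists.mp htop
      exact hk.trans (hn ▸ H n x hn.le)
  intro n
  induction n with
  | zero => exact fun y _ => by simpa using Order.height_mono (hb y)
  | succ n ih =>
    intro y hy
    obtain ⟨s, hs, hlen⟩ := Order.exists_series_of_le_height y hy
    have h1 : (n : ℕ∞) ≤ Order.height (s ⟨n, by omega⟩) := by
      have := Order.index_le_height s ⟨n, by omega⟩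
      simpa using this
    have h2 : s ⟨n, by omega⟩ < y := by
      rw [← hs]
      exact s.strictMono (Fin.lt_def.mpr (by simp [hlen]))
    calc Order.height b + ((n + 1 : ℕ) : ℕ∞) = Order.height b + n + 1 := by push_cast; rw [add_assoc]
      _ ≤ Order.height (f (s ⟨n, by omega⟩)) + 1 := add_le_add (ih _ h1) le_rfl
      _ ≤ Order.height (f y) := Order.height_add_one_le (hf h2)

theorem comap_mk_map {p t : Ideal R} (h : p ≤ t) :
    (t.map (Ideal.Quotient.mk p)).comap (Ideal.Quotient.mk p) = t := by
  rw [Ideal.comap_map_of_surjective' _ Ideal.Quotient.mk_surjective, Ideal.mk_ker, sup_eq_left.2 h]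

theorem isPrime_map_mk {p t : Ideal R} [t.IsPrime] (h : p ≤ t) :
    (t.map (Ideal.Quotient.mk p)).IsPrime :=
  Ideal.map_isPrime_of_surjective Ideal.Quotient.mk_surjective (by rwa [Ideal.mk_ker])

/-- `ht(t/p) + ht(q/t) ≤ ht(q/p)`. -/
theorem height_add_height_le {p t q : Ideal R} [t.IsPrime] [q.IsPrime] (hpt : p ≤ t) (htq : t ≤ q) :
    (t.map (Ideal.Quotient.mk p)).height + (q.map (Ideal.Quotient.mk t)).height ≤
      (q.map (Ideal.Quotient.mk p)).height := by
  let T : PrimeSpectrum (R ⧸ p) := ⟨_, isPrime_map_mk (t := t) hpt⟩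
  let Q : PrimeSpectrum (R ⧸ t) := ⟨_, isPrime_map_mk (t := q) htq⟩
  let φ : R ⧸ p →+* R ⧸ t := Ideal.Quotient.factor hpt
  have hφ : Function.Surjective φ := Ideal.Quotient.factor_surjective hpt
  have hmap : ∀ I : Ideal R, t ≤ I →
      (I.map (Ideal.Quotient.mk t)).comap φ = I.map (Ideal.Quotient.mk p) := by
    intro I hI
    refine Ideal.comap_injective_of_surjective _ Ideal.Quotient.mk_surjective ?_
    rw [Ideal.comap_comap, Ideal.Quotient.factor_comp_mk, comap_mk_map hI, comap_mk_map (hpt.trans hI)]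
  have hb : ∀ x, T ≤ PrimeSpectrum.comap φ x := fun x => Ideal.map_le_iff_le_comap.2 fun a ha => by
    show Ideal.Quotient.mk p a ∈ x.asIdeal.comap φ
    rw [Ideal.mem_comap, ← RingHom.comp_apply, Ideal.Quotient.factor_comp_mk,
      Ideal.Quotient.eq_zero_iff_mem.2 ha]
    exact zero_mem _
  have hQ : PrimeSpectrum.comap φ Q = ⟨_, isPrime_map_mk (t := q) (hpt.trans htq)⟩ :=
    PrimeSpectrum.ext (hmap q htq)
  have h := height_add_le_of_series (PrimeSpectrum.comap φ)
    (Monotone.strictMono_of_injective (fun a b hab => Ideal.comap_mono hab)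
      (PrimeSpectrum.comap_injective_of_surjective φ hφ)) T hb Q
  rw [hQ, ← PrimeSpectrum.height_eq_orderHeight, ← PrimeSpectrum.height_eq_orderHeight,
    ← PrimeSpectrum.height_eq_orderHeight] at h
  exact h

theorem one_le_height_map {p q : Ideal R} [p.IsPrime] [q.IsPrime] (h : p < q) :
    (1 : ℕ∞) ≤ (q.map (Ideal.Quotient.mk p)).height := by
  refine Order.one_le_iff_pos.2 (pos_iff_ne_zero.2 fun h0 => h.ne' ?_)
  rw [← comap_mk_map h.le, Ideal.height_eq_zero_iff_eq_bot.1 h0, ← RingHom.ker_eq_comap_bot,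
    Ideal.mk_ker]

/-- Relative height one means nothing in between. -/
theorem eq_of_height_le_one {p q P : Ideal R} [p.IsPrime] [q.IsPrime] [P.IsPrime]
    (h : (q.map (Ideal.Quotient.mk p)).height ≤ 1) (hpP : p < P) (hPq : P ≤ q) : P = q := by
  refine eq_of_le_of_not_lt hPq fun hlt => ?_
  have h2 := (add_le_add (one_le_height_map hpP) (one_le_height_map hlt)).trans
    ((height_add_height_le hpP.le hlt.le).trans h)
  exact absurd h2 (by decide)

/-- BS 9.3.4: between `s` and `q` at distance at least two there is a prime avoiding `a`. -/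
theorem exists_between [IsNoetherianRing R] {s q : Ideal R} [s.IsPrime] [q.IsPrime] (hsq : s < q)
    (hht : 1 < (q.map (Ideal.Quotient.mk s)).height) {a : R} (haq : a ∈ q) (has : a ∉ s) :
    ∃ t : Ideal R, t.IsPrime ∧ s < t ∧ t < q ∧ a ∉ t := by
  classical
  have hle1 : ∀ (z : R) (P : Ideal R), P ∈ (s ⊔ Ideal.span {z}).minimalPrimes →
      (P.map (Ideal.Quotient.mk s)).height ≤ 1 := by
    intro z P hP
    haveI := hP.1.1
    have hsP : s ≤ P := le_sup_left.trans hP.1.2
    refine Ideal.height_le_one_of_isPrincipal_of_mem_minimalPrimes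
      ((Ideal.span {z}).map (Ideal.Quotient.mk s)) (P.map (Ideal.Quotient.mk s))
      ⟨⟨isPrime_map_mk hsP, Ideal.map_mono (le_sup_right.trans hP.1.2)⟩, ?_⟩
    rintro r ⟨hr, hzr⟩ hrP
    refine Ideal.map_le_iff_le_comap.2 (hP.2 ⟨hr.comap _, sup_le ?_ ?_⟩
      ((Ideal.comap_mono hrP).trans (comap_mk_map hsP).le))
    · intro x hx
      rw [Ideal.mem_comap, Ideal.Quotient.eq_zero_iff_mem.2 hx]
      exact zero_mem _
    · exact Ideal.map_le_iff_le_comap.1 hzr
  have hfin := (s ⊔ Ideal.span {a}).finite_minimalPrimes_of_isNoetherianRing R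
  obtain ⟨z, hz, hzn⟩ : ∃ z ∈ q, ∀ P ∈ (s ⊔ Ideal.span {a}).minimalPrimes, z ∉ P := by
    by_contra hc
    push Not at hc
    have hsub : (q : Set R) ⊆ ⋃ P ∈ (hfin.toFinset : Set (Ideal R)), (P : Set R) := fun z hz => by
      obtain ⟨P, hP, hzP⟩ := hc z hz
      exact Set.mem_biUnion (hfin.mem_toFinset.2 hP) hzP
    obtain ⟨P, hP, hqP⟩ := (Ideal.subset_union_prime (f := id) ⊥ ⊥
      fun P hP _ _ => (hfin.mem_toFinset.1 hP).1.1).1 hsub
    exact hht.not_ge ((Ideal.height_mono (Ideal.map_mono hqP)).trans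
      (hle1 a P (hfin.mem_toFinset.1 hP)))
  obtain ⟨t, ht, htq⟩ := Ideal.exists_minimalPrimes_le
    (show s ⊔ Ideal.span {z} ≤ q from sup_le hsq.le ((Ideal.span_singleton_le_iff_mem _).2 hz))
  haveI := ht.1.1
  have hat : a ∉ t := fun hat => by
    obtain ⟨P, hP, hPt⟩ := Ideal.exists_minimalPrimes_le
      (show s ⊔ Ideal.span {a} ≤ t from sup_le (le_sup_left.trans ht.1.2)
        ((Ideal.span_singleton_le_iff_mem _).2 hat))
    haveI := hP.1.1
    have hsP : s < P := lt_of_le_of_ne (le_sup_left.trans hP.1.2) fun e =>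
      has (e.symm ▸ (le_sup_right.trans hP.1.2 : Ideal.span {a} ≤ P) (Ideal.mem_span_singleton_self a))
    exact hzn P hP (eq_of_height_le_one (hle1 z t ht) hsP hPt ▸
      (le_sup_right.trans ht.1.2 : Ideal.span {z} ≤ t) (Ideal.mem_span_singleton_self z))
  refine ⟨t, inferInstance, lt_of_le_of_ne (le_sup_left.trans ht.1.2) fun e => ?_,
    lt_of_le_of_ne htq fun e => hat (e.symm ▸ haq), hat⟩
  obtain ⟨P, hP, -⟩ := Ideal.exists_minimalPrimes_le
    (show s ⊔ Ideal.span {a} ≤ q from sup_le hsq.le ((Ideal.span_singleton_le_iff_mem _).2 haq))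
  exact hzn P hP ((le_sup_left.trans hP.1.2 : s ≤ P) (e.symm ▸
    (le_sup_right.trans ht.1.2 : Ideal.span {z} ≤ t) (Ideal.mem_span_singleton_self z)))

/-- The height of a finite height image is realised by a prime. -/
theorem exists_prime_height_eq {a p : Ideal R} {h : ℕ}
    (hh : ((a ⊔ p).map (Ideal.Quotient.mk p)).height = h) :
    ∃ q : Ideal R, q.IsPrime ∧ a ≤ q ∧ p ≤ q ∧ (q.map (Ideal.Quotient.mk p)).height = h := by
  obtain ⟨Q, hQ, hle, hQh⟩ := Ideal.exists_isPrime_height_eq hh
  refine ⟨Q.comap (Ideal.Quotient.mk p), hQ.comap _, le_sup_left.trans (Ideal.map_le_iff_le_comap.1 hle),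
    le_sup_right.trans (Ideal.map_le_iff_le_comap.1 hle), ?_⟩
  rw [Ideal.map_comap_of_surjective _ Ideal.Quotient.mk_surjective, hQh]

variable [IsNoetherianRing R] (M : Type u) [AddCommGroup M] [Module R M] [Module.Finite R M]

/-- BS 9.3.2: `depth M_s ≤ depth M_p + ht(s/p)`. -/
theorem depth_le_depth_add_height {p s : Ideal R} [p.IsPrime] [s.IsPrime] (hps : p ≤ s) :
    LocCoh.depth (Localization.AtPrime s) (LocalizedModule s.primeCompl M) ≤
      LocCoh.depth (Localization.AtPrime p) (LocalizedModule p.primeCompl M) +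
        (s.map (Ideal.Quotient.mk p)).height := by
  let Rs := Localization.AtPrime s
  let Ms := LocalizedModule s.primeCompl M
  let P : Ideal Rs := p.map (algebraMap R Rs)
  have hdis : Disjoint (s.primeCompl : Set R) p :=
    Set.disjoint_left.2 fun x hx hx' => hx (hps hx')
  haveI hP : P.IsPrime := IsLocalization.isPrime_of_isPrime_disjoint s.primeCompl Rs p inferInstance hdis
  have hPc : P.comap (algebraMap R Rs) = p :=
    IsLocalization.comap_map_of_isPrime_disjoint s.primeCompl Rs inferInstance hdis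
  haveI : Module.Finite Rs Ms := inferInstance
  have h1 := EGA4Lib.depth_le_depth_atPrime_add (R := Rs) (M := Ms) P
  have h2 : LocCoh.depth (Localization.AtPrime P) (LocalizedModule P.primeCompl Ms) =
      LocCoh.depth (Localization.AtPrime p) (LocalizedModule p.primeCompl M) := by
    haveI : IsLocalization.AtPrime (Localization.AtPrime P) p := by
      have := IsLocalization.isLocalization_isLocalization_atPrime_isLocalization s.primeCompl
        (Localization.AtPrime P) P
      convert this
      exact hPc.symm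
    refine (ZClosLib.DepthCrit.depth_eq_of_isBaseChange (R := R) (S := Localization.AtPrime P) p
      (φ := ((LocalizedModule.mkLinearMap P.primeCompl Ms).restrictScalars R) ∘ₗ
        LocalizedModule.mkLinearMap s.primeCompl M) ?_).symm
    exact (IsLocalizedModule.isBaseChange s.primeCompl Rs (LocalizedModule.mkLinearMap s.primeCompl M)).comp
      (IsLocalizedModule.isBaseChange P.primeCompl (Localization.AtPrime P)
        (LocalizedModule.mkLinearMap P.primeCompl Ms))
  have h3 : ringKrullDim (Rs ⧸ P) ≤ ((s.map (Ideal.Quotient.mk p)).height : WithBot ℕ∞) := by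
    let f : R ⧸ p →+* Rs ⧸ P := Ideal.quotientMap P (algebraMap R Rs) hPc.ge
    haveI : IsLocalRing (Rs ⧸ P) :=
      haveI : Nontrivial (Rs ⧸ P) := Ideal.Quotient.nontrivial_iff.2 hP.ne_top
      IsLocalRing.of_surjective' _ Ideal.Quotient.mk_surjective
    let m : PrimeSpectrum (Rs ⧸ P) := IsLocalRing.closedPoint _
    haveI : m.asIdeal.IsMaximal := IsLocalRing.maximalIdeal.isMaximal _
    have hmono : StrictMono (PrimeSpectrum.comap f) := by
      refine Monotone.strictMono_of_injective (fun a b hab => Ideal.comap_mono hab) fun a b hab => ?_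
      apply PrimeSpectrum.comap_injective_of_surjective _ Ideal.Quotient.mk_surjective
      apply PrimeSpectrum.localization_comap_injective Rs s.primeCompl
      exact congrArg (PrimeSpectrum.comap (Ideal.Quotient.mk p)) hab
    have hsbar : (PrimeSpectrum.comap f m).asIdeal = s.map (Ideal.Quotient.mk p) := by
      refine Ideal.comap_injective_of_surjective _ Ideal.Quotient.mk_surjective ?_
      rw [comap_mk_map hps]
      change (m.asIdeal.comap f).comap (Ideal.Quotient.mk p) = s
      rw [Ideal.comap_comap, Ideal.quotientMap_comp_mk, ← Ideal.comap_comap,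
        IsLocalRing.eq_maximalIdeal (Ideal.comap_isMaximal_of_surjective _ Ideal.Quotient.mk_surjective
          (K := m.asIdeal))]
      exact IsLocalization.AtPrime.under_maximalIdeal Rs s
    rw [← IsLocalRing.maximalIdeal_height_eq_ringKrullDim, WithBot.coe_le_coe, ← hsbar,
      PrimeSpectrum.height_eq_orderHeight]
    exact le_trans (PrimeSpectrum.height_eq_orderHeight m).le
      (Order.height_le_height_apply_of_strictMono _ hmono m)
  rw [h2] at h1
  exact WithBot.coe_le_coe.1 (h1.trans ((add_le_add le_rfl h3).trans (le_of_eq (WithBot.coe_add _ _).symm)))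

end Height

section Reduction

/-- A uniform power killing the torsion of a finite module. -/
theorem exists_pow_kill_torsionSub [IsNoetherianRing R] (a : Ideal R) (N : Type u) [AddCommGroup N]
    [Module R N] [Module.Finite R N] : ∃ k : ℕ, ∀ m ∈ DRing.torsionSub a N, ∀ r ∈ a ^ k, r • m = 0 := by
  obtain ⟨s, hs⟩ := IsNoetherian.noetherian (DRing.torsionSub a N)
  obtain ⟨k, hk⟩ := exists_common_pow (I := a) s id fun m hm =>
    (hs ▸ Submodule.subset_span hm : m ∈ DRing.torsionSub a N)
  refine ⟨k, fun m hm r hr => ?_⟩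
  rw [← hs] at hm
  induction hm using Submodule.span_induction with
  | mem x hx => exact hk x hx r hr
  | zero => exact smul_zero r
  | add x y _ _ hx hy => rw [smul_add, hx, hy, add_zero]
  | smul c x _ hx => rw [smul_comm, hx, smul_zero]

/-- Every element is killed by an element outside `p`. -/
def LocZero (p : Ideal R) (N : Type*) [AddCommGroup N] [Module R N] : Prop :=
  ∀ x : N, ∃ s, s ∉ p ∧ s • x = 0

variable [IsNoetherianRing R] (p : Ideal R) [p.IsPrime] (a : Ideal R)

/-- If the depth of `M_p` along `J` is positive, the `J`-torsion of `M` is killed outside `p`. -/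
theorem exists_kill_torsion (J : Ideal R) (M : Type u) [AddCommGroup M] [Module R M] [Module.Finite R M]
    (h : 1 ≤ LocCoh.idealDepth (J.map (algebraMap R (Localization.AtPrime p))) (LocalizedModule p.primeCompl M)) :
    ∃ d, d ∉ p ∧ ∀ m ∈ DRing.torsionSub J M, d • m = 0 := by
  classical
  obtain ⟨y, hy, hreg⟩ := Depth.exists_isSMulRegular_of_one_le_idealDepth h
  have key : ∀ m ∈ DRing.torsionSub J M, ∃ u, u ∉ p ∧ u • m = 0 := by
    rintro m ⟨n, hn⟩
    have hle : (J ^ n).map (algebraMap R (Localization.AtPrime p)) ≤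
        (⊥ : Submodule (Localization.AtPrime p) (LocalizedModule p.primeCompl M)).colon
          {LocalizedModule.mkLinearMap p.primeCompl M m} := by
      refine Ideal.map_le_iff_le_comap.2 fun x hx => ?_
      rw [Ideal.mem_comap, Submodule.mem_colon_singleton, Submodule.mem_bot,
        IsScalarTower.algebraMap_smul, ← map_smul, hn x hx, map_zero]
    rw [Ideal.map_pow] at hle
    have h0 := Submodule.mem_colon_singleton.1 (hle (Ideal.pow_mem_pow hy n))
    rw [Submodule.mem_bot] at h0
    have h1 : LocalizedModule.mkLinearMap p.primeCompl M m = 0 :=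
      hreg.pow n (h0.trans (smul_zero _).symm)
    obtain ⟨⟨u, hu⟩, hum⟩ :=
      (IsLocalizedModule.eq_zero_iff p.primeCompl (LocalizedModule.mkLinearMap p.primeCompl M)).1 h1
    exact ⟨u, hu, hum⟩
  obtain ⟨s, hs⟩ := IsNoetherian.noetherian (DRing.torsionSub J M)
  choose u hu hum using key
  refine ⟨∏ m ∈ s.attach, u m.1 (hs ▸ Submodule.subset_span m.2), fun hd => ?_, fun m hm => ?_⟩
  · obtain ⟨i, -, hi⟩ := (Ideal.IsPrime.prod_mem_iff (hp := inferInstance)).mp hd
    exact hu _ _ hi
  · rw [← hs] at hm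
    induction hm using Submodule.span_induction with
    | mem x hx =>
      obtain ⟨c, hc⟩ := Finset.dvd_prod_of_mem
        (fun m : s => u m.1 (hs ▸ Submodule.subset_span m.2)) (Finset.mem_attach s ⟨x, hx⟩)
      rw [hc, mul_comm, mul_smul, hum, smul_zero]
    | zero => exact smul_zero _
    | add x z _ _ hx hz => rw [smul_add, hx, hz, add_zero]
    | smul r x _ hx => rw [smul_comm, hx, smul_zero]

/-- Passing to the quotient by a submodule killed outside `p`. -/
theorem equiv_quotient {M : Type u} [AddCommGroup M] [Module R M] (T : Submodule R M) {d : R}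
    (hd : d ∉ p) (hT : ∀ m ∈ T, d • m = 0) :
    Nonempty (LocalizedModule p.primeCompl M ≃ₗ[Localization.AtPrime p]
      LocalizedModule p.primeCompl (M ⧸ T)) := by
  refine ⟨LinearEquiv.ofBijective (LocalizedModule.map p.primeCompl T.mkQ)
    ⟨(injective_iff_map_eq_zero _).2 fun x hx => ?_, LocalizedModule.map_surjective _ _ T.mkQ_surjective⟩⟩
  induction x using LocalizedModule.induction_on with
  | h m s =>
    rw [LocalizedModule.map_mk] at hx
    obtain ⟨c, hc⟩ := LocalizedModule.mk_eq.1 (hx.trans (LocalizedModule.zero_mk s).symm)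
    have hm : (c : R) • ((s : R) • m) ∈ T := by
      rw [← Submodule.Quotient.mk_eq_zero]
      simpa [Submonoid.smul_def] using hc
    refine (LocalizedModule.mk_eq.2 ⟨⟨d, hd⟩ * c, ?_⟩).trans (LocalizedModule.zero_mk s)
    simpa [Submonoid.smul_def, mul_smul] using hT _ hm

variable {i : ℕ} {S : ShortComplex (ModuleCat.{u} R)} (hS : S.ShortExact)

omit [IsNoetherianRing R]
include hS

theorem kills_X₃ {s t : R} (h₂ : ∀ x : (localCohomology a i).obj S.X₂, s • x = 0)
    (h₁ : ∀ x : (localCohomology a (i + 1)).obj S.X₁, t • x = 0)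
    (x : (localCohomology a i).obj S.X₃) : (s * t) • x = 0 := by
  obtain ⟨w, hw⟩ := (exact₃ (I := a) hS (t • x)).1 (by rw [map_smul, h₁])
  rw [mul_smul, ← hw, ← map_smul, h₂, map_zero]

theorem locZero_X₃ (h₂ : LocZero p ((localCohomology a i).obj S.X₂))
    (h₁ : LocZero p ((localCohomology a (i + 1)).obj S.X₁)) :
    LocZero p ((localCohomology a i).obj S.X₃) := fun x => by
  obtain ⟨t, ht, ht'⟩ := h₁ (δH (I := a) i hS x)
  obtain ⟨w, hw⟩ := (exact₃ (I := a) hS (t • x)).1 (by rw [map_smul, ht'])
  obtain ⟨s, hs, hs'⟩ := h₂ w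
  exact ⟨s * t, ‹p.IsPrime›.mul_notMem hs ht, by rw [mul_smul, ← hw, ← map_smul, hs', map_zero]⟩

theorem locZero_X₂ (h₁ : LocZero p ((localCohomology a i).obj S.X₁))
    (h₃ : LocZero p ((localCohomology a i).obj S.X₃)) :
    LocZero p ((localCohomology a i).obj S.X₂) := fun x => by
  obtain ⟨t, ht, ht'⟩ := h₃ (((localCohomology a i).map S.g).hom x)
  obtain ⟨w, hw⟩ := (exact₂ (I := a) (i := i) hS (t • x)).1 (by rw [map_smul, ht'])
  obtain ⟨s, hs, hs'⟩ := h₁ w
  exact ⟨s * t, ‹p.IsPrime›.mul_notMem hs ht, by rw [mul_smul, ← hw, ← map_smul, hs', map_zero]⟩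

end Reduction

section Main

variable [IsNoetherianRing R] {a : Ideal R}

omit [IsNoetherianRing R] in
theorem locZero_of_kills {p : Ideal R} {N : Type*} [AddCommGroup N] [Module R N] {d : R}
    (hd : d ∉ p) (h : ∀ x : N, d • x = 0) : LocZero p N := fun x => ⟨d, hd, h x⟩

/-- The short exact sequence of the torsion submodule. -/
noncomputable abbrev torsionSeq {M : Type u} [AddCommGroup M] [Module R M] (T : Submodule R M) :
    ShortComplex (ModuleCat.{u} R) :=
  ShortComplex.mk (ModuleCat.ofHom T.subtype) (ModuleCat.ofHom T.mkQ)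
    (ModuleCat.hom_ext (LinearMap.ext fun x => (Submodule.Quotient.mk_eq_zero T).2 x.2))

omit [IsNoetherianRing R] in
theorem torsionSeq_shortExact {M : Type u} [AddCommGroup M] [Module R M] (T : Submodule R M) :
    (torsionSeq T).ShortExact :=
  { exact := (ShortComplex.ShortExact.moduleCat_exact_iff_function_exact _).mpr
      (LinearMap.exact_subtype_mkQ T)
    mono_f := (ModuleCat.mono_iff_injective _).mpr Subtype.val_injective
    epi_g := (ModuleCat.epi_iff_surjective _).mpr T.mkQ_surjective }

/-- At `t = depth` of `M_p` along `a R_p`, local cohomology of `M` along `a` is locally zero at `p`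
below `t` and not at `t`. -/
theorem not_locZero_H (p : Ideal R) [p.IsPrime] : ∀ (t : ℕ) (M : Type u) [AddCommGroup M] [Module R M]
    [Module.Finite R M],
    LocCoh.idealDepth (a.map (algebraMap R (Localization.AtPrime p))) (LocalizedModule p.primeCompl M) = t →
      (∀ i < t, LocZero p (LocCoh.H a i M)) ∧ ¬ LocZero p (LocCoh.H a t M) := by
  intro t
  induction t with
  | zero =>
    intro M _ _ _ h
    refine ⟨fun i hi => absurd hi (Nat.not_lt_zero i), fun hz => ?_⟩
    obtain ⟨Q, hQ, hle⟩ := Depth.idealDepth_eq_zero_iff.mp (by simpa using h)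
    obtain ⟨hQp, z, hQz⟩ := isAssociatedPrime_iff.mp hQ
    induction z using LocalizedModule.induction_on with
    | h m s =>
      have hm : ∀ r ∈ a, ∃ u, u ∉ p ∧ u • r • m = 0 := fun r hr => by
        have h0 := hle (Ideal.mem_map_of_mem (algebraMap R (Localization.AtPrime p)) hr)
        rw [hQz, Submodule.mem_colon_singleton, Submodule.mem_bot, IsScalarTower.algebraMap_smul,
          LocalizedModule.smul'_mk] at h0
        obtain ⟨u, hu⟩ := LocalizedModule.mk_eq.1 (h0.trans (LocalizedModule.zero_mk s).symm)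
        exact ⟨(u : R) * s, ‹p.IsPrime›.mul_notMem u.2 s.2, by
          simpa [Submonoid.smul_def, mul_smul] using hu⟩
      classical
      obtain ⟨gs, hgs⟩ := IsNoetherian.noetherian a
      choose u hu hum using hm
      let U := ∏ g ∈ gs.attach, u g.1 (hgs ▸ Submodule.subset_span g.2)
      have hU : U ∉ p := fun hd => by
        obtain ⟨i, -, hi⟩ := (Ideal.IsPrime.prod_mem_iff (hp := inferInstance)).mp hd
        exact hu _ _ hi
      have hUm : U • m ∈ DRing.torsionSub a M := ⟨1, fun r hr => by
        rw [pow_one] at hr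
        rw [← hgs] at hr
        induction hr using Submodule.span_induction with
        | mem x hx =>
          obtain ⟨c, hc⟩ := Finset.dvd_prod_of_mem
            (fun g : gs => u g.1 (hgs ▸ Submodule.subset_span g.2)) (Finset.mem_attach gs ⟨x, hx⟩)
          rw [smul_comm, show U = _ from hc, mul_comm, mul_smul, hum, smul_zero]
        | zero => exact zero_smul _ _
        | add x y _ _ hx hy => rw [add_smul, hx, hy, add_zero]
        | smul r x _ hx => rw [smul_eq_mul, mul_smul, hx, smul_zero]⟩
      obtain ⟨v, hv, hv0⟩ := hz ((H0Equiv a (ModuleCat.of R M)).symm ⟨U • m, hUm⟩)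
      have h1 : v • U • m = 0 := by
        have := congrArg (fun x => ((H0Equiv a (ModuleCat.of R M)) x : M))
          ((map_smul (H0Equiv a (ModuleCat.of R M)).symm v ⟨U • m, hUm⟩).trans hv0)
        simpa using this
      refine hQp.ne_top ((Ideal.eq_top_iff_one _).2 ?_)
      rw [hQz, Submodule.mem_colon_singleton, one_smul, Submodule.mem_bot, ← LocalizedModule.zero_mk s,
        LocalizedModule.mk_eq]
      exact ⟨⟨v * U, ‹p.IsPrime›.mul_notMem hv hU⟩, by
        rw [smul_zero, smul_zero, Submonoid.smul_def, Submonoid.smul_def]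
        show (v * U) • ((s : R) • m) = 0
        rw [smul_comm, mul_smul, h1, smul_zero]⟩
  | succ t ih =>
    intro M _ _ _ h
    obtain ⟨d, hd, hdT⟩ := exists_kill_torsion p a M (h ▸ by simp)
    obtain ⟨x, hx, hreg, h0⟩ := exists_isSMulRegular_quotient_torsion (I := a) (ModuleCat.of R M)
    let T := DRing.torsionSub a M
    let M' := M ⧸ T
    obtain ⟨e⟩ := equiv_quotient p T hd hdT
    have hregp : IsSMulRegular (LocalizedModule p.primeCompl M')
        (algebraMap R (Localization.AtPrime p) x) := Depth.isSMulRegular_localizedModule p.primeCompl hreg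
    have hq : LocCoh.idealDepth (a.map (algebraMap R (Localization.AtPrime p)))
        (LocalizedModule p.primeCompl (QuotSMulTop x M')) = t := by
      rw [← Depth.idealDepth_congr (Depth.quotSMulTopLocalizedEquiv M' p.primeCompl x)]
      have e' := Depth.idealDepth_quotSMulTop_add_one (M := LocalizedModule p.primeCompl M')
        (Ideal.mem_map_of_mem (algebraMap R (Localization.AtPrime p)) hx) hregp
      rw [← Depth.idealDepth_congr e, h, Nat.cast_succ] at e'
      exact (WithTop.add_right_inj ENat.one_ne_top).mp e'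
    obtain ⟨ih1, ih2⟩ := ih (QuotSMulTop x M') hq
    have hT : ∀ i, LocZero p (LocCoh.H a i T) := fun i =>
      locZero_of_kills hd (smul_H_eq_zero (M := ModuleCat.of R T) fun m => Subtype.ext (hdT _ m.2))
    have hSx := IsSMulRegular.smulShortComplex_shortExact (M := ModuleCat.of R M') hreg
    have hM' : ∀ i < t + 1, LocZero p (LocCoh.H a i M') := by
      rintro (- | i) hi
      · exact fun y => ⟨1, fun h1 => ‹p.IsPrime›.ne_top ((Ideal.eq_top_iff_one _).2 h1), h0.elim _ _⟩
      · have hker : ∀ y : LocCoh.H a (i + 1) M', x • y = 0 → ∃ s, s ∉ p ∧ s • y = 0 := fun y hy => by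
          obtain ⟨w, hw⟩ := (exact₁ (I := a) (i := i) hSx y).1 ((map_smul_id x _ y).trans hy)
          obtain ⟨s, hs, hs'⟩ := ih1 i (by omega) w
          exact ⟨s, hs, (congrArg (s • ·) hw.symm).trans
            ((map_smul (δH (I := a) i hSx) s w).symm.trans ((congrArg _ hs').trans (map_zero _)))⟩
        intro y
        obtain ⟨n, hn⟩ := isPowerTorsion_H (i := i + 1) (ModuleCat.of R M') y
        have hyn : x ^ n • y = 0 := hn _ (Ideal.pow_mem_pow hx n)
        clear hn
        induction n generalizing y with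
        | zero => exact ⟨1, fun h1 => ‹p.IsPrime›.ne_top ((Ideal.eq_top_iff_one _).2 h1), by
            simpa using hyn⟩
        | succ n ihn =>
          rw [pow_succ, mul_smul] at hyn
          obtain ⟨s, hs, hs'⟩ := ihn (x • y) hyn
          obtain ⟨u, hu, hu'⟩ := hker (s • y) (by rw [smul_comm]; exact hs')
          exact ⟨u * s, ‹p.IsPrime›.mul_notMem hu hs, by rw [mul_smul]; exact hu'⟩
    refine ⟨fun i hi => locZero_X₂ p a (torsionSeq_shortExact T) (hT i) (hM' i hi), fun hz => ih2 ?_⟩
    exact locZero_X₃ p a hSx (hM' t (Nat.lt_succ_self t))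
      (locZero_X₃ p a (torsionSeq_shortExact T) hz (hT (t + 1 + 1)))

omit [IsNoetherianRing R] in
/-- A power of an element of the radical of the annihilator kills all modules in finitely many degrees. -/
theorem exists_pow_kills {b : Ideal R} {M : Type u} [AddCommGroup M] [Module R M] {c : R} (hc : c ∈ b)
    {n : ℕ} (h : ∀ i ≤ n, b ≤ (Module.annihilator R (LocCoh.H a i M)).radical) :
    ∃ k : ℕ, ∀ i ≤ n, ∀ x : LocCoh.H a i M, c ^ k • x = 0 := by
  choose k hk using fun i : Fin (n + 1) => h i (Nat.lt_succ_iff.1 i.2) hc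
  refine ⟨∑ i, k i, fun i hi x => ?_⟩
  obtain ⟨l, hl⟩ := Nat.exists_eq_add_of_le
    (Finset.single_le_sum (fun j _ => Nat.zero_le (k j)) (Finset.mem_univ (⟨i, by omega⟩ : Fin (n + 1))))
  rw [hl, add_comm, pow_add, mul_smul, Module.mem_annihilator.1 (hk ⟨i, by omega⟩) x, smul_zero]

/-- BS 9.3.5, an associated prime at height one: no element outside `p` kills `H¹`. -/
theorem exists_not_kills_one (p q : Ideal R) [p.IsPrime] [q.IsPrime] (haq : a ≤ q) (hpq : p < q)
    (hap : ¬ a ≤ p) (hcov : (q.map (Ideal.Quotient.mk p)).height ≤ 1) (M : Type u) [AddCommGroup M]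
    [Module R M] [Module.Finite R M] (hpM : p ∈ associatedPrimes R M) (c : R) (hc : c ∉ p) :
    ∃ x : LocCoh.H a 1 M, c • x ≠ 0 := by
  by_contra hcon
  push Not at hcon
  have hH1 := hcon
  obtain ⟨-, j, hj⟩ := (isAssociatedPrime_iff_exists_injective_linearMap _ _).mp hpM
  let S₀ : ShortComplex (ModuleCat.{u} R) :=
    ShortComplex.mk (ModuleCat.ofHom j) (ModuleCat.ofHom (LinearMap.range j).mkQ)
      (ModuleCat.hom_ext (LinearMap.range_mkQ_comp j))
  have hS₀ : S₀.ShortExact :=
    { exact := (ShortComplex.ShortExact.moduleCat_exact_iff_function_exact _).mpr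
        (LinearMap.exact_map_mkQ_range j)
      mono_f := (ModuleCat.mono_iff_injective _).mpr hj
      epi_g := (ModuleCat.epi_iff_surjective _).mpr (Submodule.mkQ_surjective _) }
  obtain ⟨k, hk⟩ := (show ∃ k : ℕ, ∀ m ∈ DRing.torsionSub a (M ⧸ LinearMap.range j), ∀ r ∈ a ^ k, r • m = 0 from exists_pow_kill_torsionSub a _)
  obtain ⟨e, he, hep⟩ : ∃ e ∈ a ^ k, e ∉ p := Set.not_subset.1 fun hs =>
    hap fun y hy => ‹p.IsPrime›.mem_of_pow_mem k (hs (Ideal.pow_mem_pow hy k))
  have hB : ∀ x : LocCoh.H a 1 (R ⧸ p), (e * c) • x = 0 := fun x => by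
    obtain ⟨w, hw⟩ := (exact₁ (I := a) (i := 0) hS₀ (c • x)).1
      ((map_smul _ c x).trans (hH1 _))
    rw [mul_smul, ← hw, ← map_smul]
    have : e • w = 0 := (H0Equiv a S₀.X₃).injective (Subtype.ext (by
      rw [map_smul, map_zero]
      exact hk _ (H0Equiv a S₀.X₃ w).2 e he))
    rw [this, map_zero]
  obtain ⟨z, hzq, hzp⟩ := SetLike.exists_of_lt hpq
  let c' := e * c * z
  have hc'p : c' ∉ p := ‹p.IsPrime›.mul_notMem (‹p.IsPrime›.mul_notMem hep hc) hzp
  have hc'q : c' ∈ q := Ideal.mul_mem_left q _ hzq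
  have hc2 : c' * c' ∉ p := ‹p.IsPrime›.mul_notMem hc'p hc'p
  let Ic : Ideal R := p ⊔ Ideal.span {c' * c'}
  obtain ⟨s, hs, n, hn⟩ : ∃ s, s ∉ q ∧ ∃ n : ℕ, ∀ y ∈ a ^ n, s * y ∈ Ic := by
    have key : ∀ y ∈ a, ∃ s, s ∉ q ∧ ∃ n : ℕ, s * y ^ n ∈ Ic := by
      intro y hy
      by_contra hcon
      push Not at hcon
      have hdis : Disjoint (Ic : Set R) ((q.primeCompl ⊔ Submonoid.powers y : Submonoid R) : Set R) := by
        rw [Set.disjoint_left]
        intro x hxI hx
        obtain ⟨s, hs, w, ⟨n, rfl⟩, rfl⟩ := Submonoid.mem_sup.1 hx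
        exact hcon s hs n hxI
      obtain ⟨P, hP, hIP, hPS⟩ := Ideal.exists_le_prime_disjoint Ic _ hdis
      have hPq : P ≤ q := fun x hx => by_contra fun hxq =>
        Set.disjoint_left.1 hPS hx ((le_sup_left : q.primeCompl ≤ _) hxq)
      have hpP : p < P := lt_of_le_of_ne (le_sup_left.trans hIP) fun e' =>
        hc2 (e'.symm ▸ (le_sup_right.trans hIP : Ideal.span {c' * c'} ≤ P)
          (Ideal.mem_span_singleton_self _))
      have hyP : y ∈ P := (eq_of_height_le_one hcov hpP hPq).symm ▸ haq hy
      exact Set.disjoint_left.1 hPS hyP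
        ((le_sup_right : Submonoid.powers y ≤ _) (Submonoid.mem_powers y))
    classical
    obtain ⟨gs, hgs⟩ := IsNoetherian.noetherian a
    choose u hu m hum using key
    let U := ∏ g ∈ gs.attach, u g.1 (hgs ▸ Submodule.subset_span g.2)
    have hU : U ∉ q := fun hd => by
      obtain ⟨i, -, hi⟩ := (Ideal.IsPrime.prod_mem_iff (hp := inferInstance)).mp hd
      exact hu _ _ hi
    have hrad : a ≤ (Ic.colon {U}).radical := by
      conv_lhs => rw [← hgs]
      refine Submodule.span_le.2 fun y hy => ?_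
      have hya : y ∈ a := hgs ▸ Submodule.subset_span hy
      refine ⟨m y hya, Submodule.mem_colon_singleton.2 ?_⟩
      obtain ⟨d', hd'⟩ := Finset.dvd_prod_of_mem
        (fun g : gs => u g.1 (hgs ▸ Submodule.subset_span g.2)) (Finset.mem_attach gs ⟨y, hy⟩)
      rw [smul_eq_mul, show U = _ from hd']
      have := Ideal.mul_mem_right d' Ic (hum y hya)
      convert this using 1; ring
    obtain ⟨n, hn⟩ := Ideal.exists_pow_le_of_le_radical_of_fg hrad (IsNoetherian.noetherian a)
    exact ⟨U, hU, n, fun y hy => by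
      rw [mul_comm]; exact Submodule.mem_colon_singleton.1 (hn hy)⟩
  have hregB : IsSMulRegular (R ⧸ p) (c' * c') := fun x y hxy => sub_eq_zero.1 <| by
    have h0 : (c' * c') • (x - y) = 0 := by rw [smul_sub]; exact sub_eq_zero.2 hxy
    rw [Algebra.smul_def, mul_eq_zero, Ideal.Quotient.algebraMap_eq,
      Ideal.Quotient.eq_zero_iff_mem] at h0
    exact h0.resolve_left hc2
  have hSc := IsSMulRegular.smulShortComplex_shortExact (M := ModuleCat.of R (R ⧸ p)) hregB
  let N := QuotSMulTop (c' * c') (R ⧸ p)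
  let sbar : N := Submodule.Quotient.mk (Ideal.Quotient.mk p s)
  have hmemN : ∀ y : R, (Submodule.Quotient.mk (Ideal.Quotient.mk p y) : N) = 0 ↔ y ∈ Ic := by
    intro y
    rw [Submodule.Quotient.mk_eq_zero, Submodule.mem_smul_pointwise_iff_exists, Submodule.mem_sup]
    constructor
    · rintro ⟨w, -, hw⟩
      obtain ⟨w, rfl⟩ := Ideal.Quotient.mk_surjective w
      refine ⟨y - c' * c' * w, Ideal.Quotient.eq.1 ?_, c' * c' * w,
        Ideal.mem_span_singleton.2 (dvd_mul_right _ _), sub_add_cancel _ _⟩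
      exact hw.symm
    · rintro ⟨u, hu, v, hv, rfl⟩
      obtain ⟨w, rfl⟩ := Ideal.mem_span_singleton.1 hv
      refine ⟨Ideal.Quotient.mk p w, trivial, ?_⟩
      rw [map_add, Ideal.Quotient.eq_zero_iff_mem.2 hu, zero_add]
      rfl
  have hst : sbar ∈ DRing.torsionSub a N := ⟨n, fun y hy => (hmemN (y * s)).2 (by
    rw [mul_comm]; exact hn y hy)⟩
  have hkill : ∀ x : LocCoh.H a 1 (R ⧸ p), c' • x = 0 := fun x =>
    (mul_smul (e * c) z x).trans ((smul_comm (e * c) z x).trans ((congrArg (z • ·) (hB x)).trans (smul_zero z)))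
  let w := (H0Equiv a (ModuleCat.of R N)).symm ⟨sbar, hst⟩
  obtain ⟨v, hv⟩ := (exact₃ (I := a) (i := 0) hSc (c' • w)).1 ((map_smul _ c' w).trans (by
    exact hkill _))
  have hv0 : v = 0 := (H0Equiv a _).injective (Subtype.ext (by
    rw [map_zero]
    obtain ⟨n', hn'⟩ := (H0Equiv a (ModuleCat.of R (R ⧸ p)) v).2
    obtain ⟨y, hy, hyp⟩ := Set.not_subset.1 hap
    have h0 := hn' _ (Ideal.pow_mem_pow hy n')
    rw [Algebra.smul_def, mul_eq_zero, Ideal.Quotient.algebraMap_eq,
      Ideal.Quotient.eq_zero_iff_mem] at h0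
    exact h0.resolve_left fun h' => hyp (‹p.IsPrime›.mem_of_pow_mem n' h')))
  rw [hv0, map_zero] at hv
  have h0 : c' • sbar = 0 := by
    have := congrArg (fun t => ((H0Equiv a (ModuleCat.of R N)) t : N)) hv.symm
    simp [w] at this
    exact this.trans (congrArg Subtype.val (map_zero (H0Equiv a (ModuleCat.of R N))))
  have hcs : c' * s ∈ Ic := (hmemN (c' * s)).1 h0
  obtain ⟨u, hu, v', hv', he'⟩ := Submodule.mem_sup.1 hcs
  obtain ⟨y, rfl⟩ := Ideal.mem_span_singleton.1 hv'
  have : c' * (s - c' * y) ∈ p := by convert hu using 1; linear_combination (-1 : R) * he'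
  have hsq : s - c' * y ∈ q := hpq.le ((‹p.IsPrime›.mem_or_mem this).resolve_left hc'p)
  exact hs (by simpa using q.add_mem hsq (q.mul_mem_right y hc'q))

/-- BS 9.3.5, height one: no element outside `p` kills everything up to `depth M_p + 1`. -/
theorem exists_not_kills (p q : Ideal R) [p.IsPrime] [q.IsPrime] (haq : a ≤ q) (hpq : p < q)
    (hap : ¬ a ≤ p) (hcov : (q.map (Ideal.Quotient.mk p)).height ≤ 1) :
    ∀ (r : ℕ) (M : Type u) [AddCommGroup M] [Module R M] [Module.Finite R M],
      LocCoh.depth (Localization.AtPrime p) (LocalizedModule p.primeCompl M) = r →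
        ∀ c, c ∉ p → ∃ i ≤ r + 1, ∃ x : LocCoh.H a i M, c • x ≠ 0 := by
  intro r
  induction r with
  | zero =>
    intro M _ _ _ h c hc
    rw [Depth.depth_eq_idealDepth] at h
    obtain ⟨Q, hQ, hle⟩ := Depth.idealDepth_eq_zero_iff.mp (by simpa using h)
    have hmax : Q = IsLocalRing.maximalIdeal _ :=
      ((IsLocalRing.maximalIdeal.isMaximal _).eq_of_le
        (Depth.isPrime_of_mem_associatedPrimes hQ).ne_top hle).symm
    have hpM : p ∈ associatedPrimes R M := by
      have key := Module.associatedPrimes.preimage_comap_associatedPrimes_eq_associatedPrimes_of_isLocalizedModule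
        p.primeCompl (R' := Localization.AtPrime p) (LocalizedModule.mkLinearMap p.primeCompl M)
      rw [← key, Set.mem_preimage, hmax] at hQ
      exact (congrArg (· ∈ associatedPrimes R M)
        (IsLocalization.AtPrime.under_maximalIdeal (Localization.AtPrime p) p)).mp hQ
    obtain ⟨x, hx⟩ := exists_not_kills_one p q haq hpq hap hcov M hpM c hc
    exact ⟨1, by omega, x, hx⟩
  | succ r ih =>
    intro M _ _ _ h c hc
    by_contra hcon
    push Not at hcon
    obtain ⟨d, hd, hdT⟩ := exists_kill_torsion p p M (by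
      rw [Localization.AtPrime.map_eq_maximalIdeal, ← Depth.depth_eq_idealDepth, h]; simp)
    obtain ⟨x, hx, hreg, h0⟩ := exists_isSMulRegular_quotient_torsion (I := p) (ModuleCat.of R M)
    let T := DRing.torsionSub p M
    let M' := M ⧸ T
    obtain ⟨e⟩ := equiv_quotient p T hd hdT
    have hregp : IsSMulRegular (LocalizedModule p.primeCompl M')
        (algebraMap R (Localization.AtPrime p) x) := Depth.isSMulRegular_localizedModule p.primeCompl hreg
    have hq : LocCoh.depth (Localization.AtPrime p) (LocalizedModule p.primeCompl (QuotSMulTop x M')) = r := by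
      rw [Depth.depth_eq_idealDepth,
        ← Depth.idealDepth_congr (Depth.quotSMulTopLocalizedEquiv M' p.primeCompl x)]
      have hxm : algebraMap R (Localization.AtPrime p) x ∈ IsLocalRing.maximalIdeal _ :=
        (IsLocalization.AtPrime.to_map_mem_maximal_iff (Localization.AtPrime p) p x).2 hx
      have e' := Depth.idealDepth_quotSMulTop_add_one (M := LocalizedModule p.primeCompl M') hxm hregp
      have h' : LocCoh.idealDepth (IsLocalRing.maximalIdeal (Localization.AtPrime p))
          (LocalizedModule p.primeCompl M) = ((r + 1 : ℕ) : ℕ∞) := h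
      rw [← Depth.idealDepth_congr e, h', Nat.cast_succ] at e'
      exact (WithTop.add_right_inj ENat.one_ne_top).mp e'
    have hM' : ∀ i ≤ r + 1 + 1, ∀ y : LocCoh.H a i M', (c * d) • y = 0 := fun i hi y =>
      kills_X₃ a (torsionSeq_shortExact T) (hcon i hi)
        (fun z => smul_H_eq_zero (M := ModuleCat.of R T) (fun m => Subtype.ext (hdT _ m.2)) z) y
    obtain ⟨i, hi, y, hy⟩ := ih (QuotSMulTop x M') hq (c * d * (c * d))
      (‹p.IsPrime›.mul_notMem (‹p.IsPrime›.mul_notMem hc hd) (‹p.IsPrime›.mul_notMem hc hd))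
    exact hy (kills_X₃ a (IsSMulRegular.smulShortComplex_shortExact (M := ModuleCat.of R M') hreg)
      (hM' i (by omega)) (hM' (i + 1) (by omega)) y)

omit [IsNoetherianRing R] in
theorem le_radical_of_lt_finDimRel {b : Ideal R} {M : Type u} [AddCommGroup M] [Module R M] {i : ℕ}
    (h : (i : ℕ∞) < LocCoh.finDimRel a b M) : b ≤ (Module.annihilator R (LocCoh.H a i M)).radical := by
  by_contra hb
  exact h.not_ge (iInf₂_le (f := fun (i : ℕ) (_ : ¬ b ≤ (Module.annihilator R (LocCoh.H a i M)).radical) =>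
    (i : ℕ∞)) i hb)

omit [IsNoetherianRing R] in
theorem finDimRel_le_of_not_le {b : Ideal R} {M : Type u} [AddCommGroup M] [Module R M] {n : ℕ}
    (h : (∀ i ≤ n, b ≤ (Module.annihilator R (LocCoh.H a i M)).radical) → False) :
    LocCoh.finDimRel a b M ≤ n := by
  by_contra hlt
  rw [not_le] at hlt
  exact h fun i hi => le_radical_of_lt_finDimRel (lt_of_le_of_lt (Nat.cast_le.2 hi) hlt)

/-- `f_a^b(M) ≤` depth of `M_p` along `a` for `b ⊄ p`. -/
theorem finDimRel_le_idealDepth {b : Ideal R} (p : Ideal R) [p.IsPrime] (hb : ¬ b ≤ p) (M : Type u)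
    [AddCommGroup M] [Module R M] [Module.Finite R M] :
    LocCoh.finDimRel a b M ≤
      LocCoh.idealDepth (a.map (algebraMap R (Localization.AtPrime p))) (LocalizedModule p.primeCompl M) := by
  by_cases htop : LocCoh.idealDepth (a.map (algebraMap R (Localization.AtPrime p)))
      (LocalizedModule p.primeCompl M) = ⊤
  · rw [htop]; exact le_top
  obtain ⟨t, ht⟩ := ENat.ne_top_iff_exists.mp htop
  obtain ⟨c, hc, hcp⟩ := Set.not_subset.1 hb
  rw [← ht]
  refine finDimRel_le_of_not_le fun hk => ?_
  obtain ⟨k, hk'⟩ := exists_pow_kills hc hk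
  exact (not_locZero_H p t M ht.symm).2
    (locZero_of_kills (fun h => hcp (‹p.IsPrime›.mem_of_pow_mem k h)) (hk' t le_rfl))

/-- BS 9.3.5. -/
theorem finDimRel_le_depth_add {b : Ideal R} (M : Type u) [AddCommGroup M] [Module R M] [Module.Finite R M] :
    ∀ (h : ℕ) (p q : Ideal R) [p.IsPrime] [q.IsPrime], ¬ b ≤ p → a ≤ q → p ≤ q →
      (q.map (Ideal.Quotient.mk p)).height ≤ h →
      LocCoh.finDimRel a b M ≤
        LocCoh.depth (Localization.AtPrime p) (LocalizedModule p.primeCompl M) + h := by
  intro h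
  induction h using Nat.strong_induction_on with
  | _ h ih =>
    intro p q _ _ hbp haq hpq hht
    by_cases hbq : b ≤ q
    swap
    · calc LocCoh.finDimRel a b M
          ≤ LocCoh.idealDepth (a.map (algebraMap R (Localization.AtPrime q))) (LocalizedModule q.primeCompl M) :=
            finDimRel_le_idealDepth q hbq M
        _ ≤ LocCoh.depth (Localization.AtPrime q) (LocalizedModule q.primeCompl M) :=
            Depth.idealDepth_mono (Depth.map_le_maximalIdeal haq)
        _ ≤ _ := (depth_le_depth_add_height M hpq).trans (add_le_add le_rfl hht)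
    have hlt : p < q := lt_of_le_of_ne hpq fun e => hbp (e ▸ hbq)
    obtain ⟨c, hc, hcp⟩ := Set.not_subset.1 hbp
    rcases le_or_gt (q.map (Ideal.Quotient.mk p)).height 1 with h1 | h1
    · by_cases hap : a ≤ p
      · exact (finDimRel_le_idealDepth p hbp M).trans
          ((Depth.idealDepth_mono (Depth.map_le_maximalIdeal hap)).trans le_self_add)
      refine le_trans ?_ (add_le_add le_rfl ((one_le_height_map hlt).trans hht))
      by_cases htop : LocCoh.depth (Localization.AtPrime p) (LocalizedModule p.primeCompl M) = ⊤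
      · simp [htop]
      obtain ⟨r, hr⟩ := ENat.ne_top_iff_exists.mp htop
      rw [← hr, ← Nat.cast_one, ← Nat.cast_add]
      refine finDimRel_le_of_not_le fun hk => ?_
      obtain ⟨k, hk'⟩ := exists_pow_kills hc hk
      obtain ⟨i, hi, x, hx⟩ := exists_not_kills p q haq hlt hap h1 r M hr.symm (c ^ k)
        fun hck => hcp (‹p.IsPrime›.mem_of_pow_mem k hck)
      exact hx (hk' i hi x)
    · obtain ⟨t, ht, hpt, htq, hct⟩ := exists_between hlt h1 (hbq hc) hcp
      have hsum := (height_add_height_le hpt.le htq.le).trans hht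
      obtain ⟨h1', e1⟩ := ENat.ne_top_iff_exists.mp
        (ne_top_of_le_ne_top (ENat.natCast_ne_top h) (le_self_add.trans hsum))
      obtain ⟨h2', e2⟩ := ENat.ne_top_iff_exists.mp
        (ne_top_of_le_ne_top (ENat.natCast_ne_top h) (le_add_self.trans hsum))
      have h1pos := one_le_height_map hpt
      rw [← e1] at h1pos hsum
      rw [← e2, ← Nat.cast_add, Nat.cast_le] at hsum
      have h1p : 1 ≤ h1' := by exact_mod_cast h1pos
      calc LocCoh.finDimRel a b M
          ≤ LocCoh.depth (Localization.AtPrime t) (LocalizedModule t.primeCompl M) + h2' :=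
            ih h2' (by omega) t q (fun hbt => hct (hbt hc)) haq htq.le e2.ge
        _ ≤ LocCoh.depth (Localization.AtPrime p) (LocalizedModule p.primeCompl M) + h1' + h2' :=
            add_le_add ((depth_le_depth_add_height M hpt.le).trans (add_le_add le_rfl e1.ge)) le_rfl
        _ ≤ _ := by rw [add_assoc]; exact add_le_add le_rfl (by exact_mod_cast hsum)

/-- BS 9.3.5: `f_a^b(M) ≤ λ_a^b(M)`. -/
theorem finDimRel_le_minAdjDepth (a b : Ideal R) (M : Type u) [AddCommGroup M] [Module R M]
    [Module.Finite R M] : LocCoh.finDimRel a b M ≤ LocCoh.minAdjDepth a b M := by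
  refine le_iInf₂ fun p hp => ?_
  rw [LocCoh.adjDepth]
  by_cases htop : ((a ⊔ p.asIdeal).map (Ideal.Quotient.mk p.asIdeal)).height = ⊤
  · rw [htop, add_top]; exact le_top
  obtain ⟨h, hh⟩ := ENat.ne_top_iff_exists.mp htop
  obtain ⟨q, hq, haq, hpq, hqh⟩ := exists_prime_height_eq hh.symm
  rw [← hh]
  exact finDimRel_le_depth_add M h p.asIdeal q hp haq hpq hqh.le

end Main

end Groth.Agent.LocCoh.AdjDepth
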