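import Groth.Prelude.Def_DualLC
import Mathlib.RingTheory.Flat.EquationalCriterion
import Mathlib.RingTheory.Length
import Mathlib.RingTheory.Nakayama
import Mathlib.RingTheory.Ideal.KrullsHeightTheorem

/-!
# Independent families, projective covers, primes of coheight one
-/

universe u

open scoped BigOperators

namespace Groth.Agent.LocCoh

variable {A : Type u} [CommRing A] {r : ℕ}

theorem sum_update_mul (f : Fin r → A) (j : Fin r) (g : A) (a : Fin r → A) :
    ∑ i, a i * Function.update f j g i = ∑ i, a i * f i + a j * (g - f j) := by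
  rw [← sub_eq_iff_eq_add', ← Finset.sum_sub_distrib, Finset.sum_eq_single j]
  · rw [Function.update_self, mul_sub]
  · intro i _ hi
    rw [Function.update_of_ne hi, sub_self]
  · exact fun h => absurd (Finset.mem_univ j) h

theorem span_range_update_le {f : Fin r → A} {j : Fin r} {g : A}
    (hg : g ∈ Ideal.span (Set.range f)) :
    Ideal.span (Set.range (Function.update f j g)) ≤ Ideal.span (Set.range f) := by
  rw [Ideal.span_le]
  rintro x ⟨i, rfl⟩
  rcases eq_or_ne i j with rfl | hi
  · rw [Function.update_self]; exact hg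
  · rw [Function.update_of_ne hi]; exact Ideal.subset_span ⟨i, rfl⟩

/-- Replacing `f j * g` by `f j` preserves independence. -/
theorem independent_of_update_mul {f : Fin r → A} (j : Fin r) (g : A)
    (h : Dual2.Independent (Function.update f j (f j * g))) : Dual2.Independent f := by
  intro a ha i
  have hJ : Ideal.span (Set.range (Function.update f j (f j * g))) ≤ Ideal.span (Set.range f) :=
    span_range_update_le (Ideal.mul_mem_right g _ (Ideal.subset_span ⟨j, rfl⟩))
  -- first the coefficient at `j`
  have h1 := h (Function.update (fun i => a i * g) j (a j)) (by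
    rw [sum_update_mul, Finset.sum_congr rfl fun i _ => mul_comm _ (f i),
      show ∑ i, f i * Function.update (fun i => a i * g) j (a j) i =
        ∑ i, f i * (a i * g) + f j * (a j - a j * g) from sum_update_mul _ j (a j) f,
      Function.update_self, show ∑ i, f i * (a i * g) = (∑ i, a i * f i) * g by
        rw [Finset.sum_mul]; exact Finset.sum_congr rfl fun i _ => by ring, ha]
    ring) j
  rw [Function.update_self] at h1
  obtain ⟨c, hc⟩ := (Submodule.mem_span_range_iff_exists_fun A).mp h1
  -- substitute it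
  let e : Fin r → A := Function.update (fun i => a i + c i * f j) j (c j * f j)
  have h2 : ∑ i, e i * Function.update f j (f j * g) i = 0 := by
    rw [sum_update_mul, Finset.sum_congr rfl fun i _ => mul_comm _ (f i),
      show ∑ i, f i * e i = ∑ i, f i * (a i + c i * f j) + f j * (c j * f j - (a j + c j * f j)) from
        sum_update_mul _ j (c j * f j) f]
    have hc' : a j = ∑ i, c i * f i + c j * (f j * g - f j) := by
      rw [← hc, ← sum_update_mul]; rfl
    simp only [e, Function.update_self, mul_add, Finset.sum_add_distrib]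
    rw [Finset.sum_congr rfl fun i _ => mul_comm (f i) (a i), ha,
      show ∑ i, f i * (c i * f j) = (∑ i, c i * f i) * f j by
        rw [Finset.sum_mul]; exact Finset.sum_congr rfl fun i _ => by ring]
    linear_combination (-f j) * hc'
  rcases eq_or_ne i j with rfl | hi
  · exact hJ h1
  · have := h e h2 i
    simp only [e, Function.update_of_ne hi] at this
    simpa using Submodule.sub_mem _ (hJ this)
      (Ideal.mul_mem_left (Ideal.span (Set.range f)) (c i) (Ideal.subset_span ⟨j, rfl⟩))

theorem length_quotient_update_mul {f : Fin r → A} (j : Fin r) (g : A)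
    (h : Dual2.Independent (Function.update f j (f j * g))) :
    Module.length A (A ⧸ Ideal.span (Set.range (Function.update f j (f j * g)))) =
      Module.length A (A ⧸ Ideal.span (Set.range f)) +
        Module.length A (A ⧸ Ideal.span (Set.range (Function.update f j g))) := by
  let J := Ideal.span (Set.range (Function.update f j (f j * g)))
  let J₁ := Ideal.span (Set.range f)
  let J₂ := Ideal.span (Set.range (Function.update f j g))
  have hJ₁ : J ≤ J₁ := span_range_update_le (Ideal.mul_mem_right g _ (Ideal.subset_span ⟨j, rfl⟩))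
  have hfj : ∀ b ∈ J₂, f j * b ∈ J := by
    intro b hb
    induction hb using Submodule.span_induction with
    | mem x hx =>
      obtain ⟨i, rfl⟩ := hx
      rcases eq_or_ne i j with rfl | hi
      · rw [Function.update_self]
        exact Ideal.subset_span ⟨i, Function.update_self ..⟩
      · rw [Function.update_of_ne hi]
        exact Ideal.mul_mem_left _ _ (Ideal.subset_span ⟨i, Function.update_of_ne hi ..⟩)
    | zero => rw [mul_zero]; exact zero_mem _
    | add x y _ _ hx hy => rw [mul_add]; exact add_mem hx hy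
    | smul c x _ hx => rw [smul_eq_mul, mul_left_comm]; exact Ideal.mul_mem_left _ _ hx
  let φ : (A ⧸ J₂) →ₗ[A] (A ⧸ J) :=
    Submodule.mapQ J₂ J (LinearMap.lsmul A A (f j)) fun b hb => hfj b hb
  let ψ : (A ⧸ J) →ₗ[A] (A ⧸ J₁) := Submodule.mapQ J J₁ LinearMap.id hJ₁
  have hφ : Function.Injective φ := (injective_iff_map_eq_zero _).mpr fun x hx => by
    obtain ⟨b, rfl⟩ := Submodule.Quotient.mk_surjective _ x
    refine (Submodule.Quotient.mk_eq_zero J₂).mpr ?_
    have hb : f j * b ∈ J := (Submodule.Quotient.mk_eq_zero J).mp hx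
    obtain ⟨c, hc⟩ := (Submodule.mem_span_range_iff_exists_fun A).mp hb
    let e : Fin r → A := Function.update (fun i => c i * g) j (c j * g - b)
    have he : ∑ i, e i * Function.update f j (f j * g) i = 0 := by
      rw [sum_update_mul, Finset.sum_congr rfl fun i _ => mul_comm _ (f i),
        show ∑ i, f i * e i = ∑ i, f i * (c i * g) + f j * (c j * g - b - c j * g) from
          sum_update_mul _ j (c j * g - b) f]
      have hc' : f j * b = ∑ i, c i * f i + c j * (f j * g - f j) := by
        rw [← hc, ← sum_update_mul]; rfl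
      simp only [e, Function.update_self]
      rw [show ∑ i, f i * (c i * g) = (∑ i, c i * f i) * g by
        rw [Finset.sum_mul]; exact Finset.sum_congr rfl fun i _ => by ring]
      linear_combination (-g) * hc'
    have h1 := h e he j
    simp only [e, Function.update_self] at h1
    have hJ₂ : J ≤ J₂ := by
      refine Ideal.span_le.mpr ?_
      rintro x ⟨i, rfl⟩
      rcases eq_or_ne i j with rfl | hi
      · rw [Function.update_self]
        exact Ideal.mul_mem_left _ _ (Ideal.subset_span ⟨i, Function.update_self ..⟩)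
      · rw [Function.update_of_ne hi]
        exact Ideal.subset_span ⟨i, Function.update_of_ne hi ..⟩
    have h2 : c j * g ∈ J₂ := Ideal.mul_mem_left _ _ (Ideal.subset_span ⟨j, Function.update_self ..⟩)
    simpa using Submodule.sub_mem _ h2 (hJ₂ h1)
  have hψ : Function.Surjective ψ := fun x => by
    obtain ⟨b, rfl⟩ := Submodule.Quotient.mk_surjective _ x
    exact ⟨Submodule.Quotient.mk b, rfl⟩
  have hexact : Function.Exact φ ψ := fun x => by
    obtain ⟨b, rfl⟩ := Submodule.Quotient.mk_surjective _ x
    refine ⟨fun hb => ?_, ?_⟩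
    · obtain ⟨c, hc⟩ := (Submodule.mem_span_range_iff_exists_fun A).mp
        ((Submodule.Quotient.mk_eq_zero J₁).mp hb)
      rw [LinearMap.id_apply] at hc
      refine ⟨Submodule.Quotient.mk (c j), (Submodule.Quotient.eq J).mpr ?_⟩
      have e : f j * c j - b = -∑ i ∈ Finset.univ.erase j, c i * f i := by
        rw [← hc, ← Finset.add_sum_erase _ _ (Finset.mem_univ j), smul_eq_mul]
        simp only [smul_eq_mul]
        ring
      show f j * c j - b ∈ J
      rw [e]
      exact neg_mem (Ideal.sum_mem _ fun i hi => Ideal.mul_mem_left _ _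
        (Ideal.subset_span ⟨i, Function.update_of_ne (Finset.ne_of_mem_erase hi) ..⟩))
    · rintro ⟨y, hy⟩
      obtain ⟨d, rfl⟩ := Submodule.Quotient.mk_surjective _ y
      rw [← hy]
      exact (Submodule.Quotient.mk_eq_zero J₁).mpr
        (Ideal.mul_mem_right d _ (Ideal.subset_span ⟨j, rfl⟩))
  rw [Module.length_eq_add_of_exact φ ψ hφ hψ hexact, add_comm]

theorem length_quotient_pow_eq_prod [IsLocalRing A] (x : Fin r → A)
    (hx : Ideal.span (Set.range x) = IsLocalRing.maximalIdeal A) : ∀ (n : ℕ) (e : Fin r → ℕ),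
      ∑ i, e i ≤ n → (∀ i, 0 < e i) → Dual2.Independent (fun i => x i ^ e i) →
      Module.length A (A ⧸ Ideal.span (Set.range fun i => x i ^ e i)) = ∏ i, (e i : ℕ∞) := by
  intro n
  induction n with
  | zero =>
    intro e hle he _
    have : IsEmpty (Fin r) := ⟨fun i => by
      have := Finset.single_le_sum (f := e) (fun k _ => Nat.zero_le _) (Finset.mem_univ i)
      have := he i
      omega⟩
    rw [show Set.range (fun i => x i ^ e i) = Set.range x by simp [Set.range_eq_empty], hx]
    have : IsSimpleModule A (A ⧸ IsLocalRing.maximalIdeal A) :=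
      isSimpleModule_iff_isCoatom.mpr (IsLocalRing.maximalIdeal.isMaximal A).out
    rw [Module.length_eq_one, Finset.univ_eq_empty, Finset.prod_empty]
  | succ n ih =>
    intro e hle he hind
    by_cases hall : ∀ i, e i = 1
    · rw [show (fun i => x i ^ e i) = x from funext fun i => by rw [hall i, pow_one], hx]
      have : IsSimpleModule A (A ⧸ IsLocalRing.maximalIdeal A) :=
        isSimpleModule_iff_isCoatom.mpr (IsLocalRing.maximalIdeal.isMaximal A).out
      rw [Module.length_eq_one]
      simp [hall]
    push Not at hall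
    obtain ⟨j, hj⟩ := hall
    have hj2 : 2 ≤ e j := by have := he j; omega
    let e₁ := Function.update e j (e j - 1)
    let e₂ := Function.update e j 1
    let f₁ : Fin r → A := fun i => x i ^ e₁ i
    let f₂ : Fin r → A := fun i => x i ^ e₂ i
    have hpow : x j ^ (e j - 1) * x j = x j ^ e j := by
      rw [← pow_succ, Nat.sub_add_cancel (he j)]
    have hf : Function.update f₁ j (f₁ j * x j) = fun i => x i ^ e i := funext fun i => by
      rcases eq_or_ne i j with rfl | hi
      · simp [f₁, e₁, hpow]
      · simp [f₁, e₁, hi]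
    have hf' : Function.update f₂ j (f₂ j * x j ^ (e j - 1)) = fun i => x i ^ e i := funext fun i => by
      rcases eq_or_ne i j with rfl | hi
      · simp [f₂, e₂, mul_comm _ (x i ^ (e i - 1)), hpow]
      · simp [f₂, e₂, hi]
    have hf₂ : Function.update f₁ j (x j) = f₂ := funext fun i => by
      rcases eq_or_ne i j with rfl | hi
      · simp [f₂, e₂]
      · simp [f₁, f₂, e₁, e₂, hi]
    have h₁ : Dual2.Independent f₁ := independent_of_update_mul j (x j) (hf ▸ hind)
    have h₂ : Dual2.Independent f₂ := independent_of_update_mul j (x j ^ (e j - 1)) (hf' ▸ hind)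
    have hlen := length_quotient_update_mul (f := f₁) j (x j) (hf ▸ hind)
    rw [hf, hf₂] at hlen
    have hs₁ : ∑ i, e₁ i ≤ n := by
      have := Finset.sum_update_of_mem (s := Finset.univ) (Finset.mem_univ j) e (e j - 1)
      have h3 := Finset.add_sum_erase Finset.univ e (Finset.mem_univ j)
      rw [Finset.sdiff_singleton_eq_erase] at this
      simp only [e₁]; omega
    have hs₂ : ∑ i, e₂ i ≤ n := by
      have := Finset.sum_update_of_mem (s := Finset.univ) (Finset.mem_univ j) e 1
      have h3 := Finset.add_sum_erase Finset.univ e (Finset.mem_univ j)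
      rw [Finset.sdiff_singleton_eq_erase] at this
      simp only [e₂]; omega
    have he₁ : ∀ i, 0 < e₁ i := fun i => by
      rcases eq_or_ne i j with rfl | hi
      · simp only [e₁, Function.update_self]; omega
      · simpa [e₁, hi] using he i
    have he₂ : ∀ i, 0 < e₂ i := fun i => by
      rcases eq_or_ne i j with rfl | hi
      · simp [e₂]
      · simpa [e₂, hi] using he i
    rw [hlen, ih e₁ hs₁ he₁ h₁, ih e₂ hs₂ he₂ h₂, ← Finset.mul_prod_erase _ _ (Finset.mem_univ j),
      ← Finset.mul_prod_erase _ (fun i => (e₂ i : ℕ∞)) (Finset.mem_univ j),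
      ← Finset.mul_prod_erase _ (fun i => (e i : ℕ∞)) (Finset.mem_univ j)]
    have hc₁ : ∏ i ∈ Finset.univ.erase j, (e₁ i : ℕ∞) = ∏ i ∈ Finset.univ.erase j, (e i : ℕ∞) :=
      Finset.prod_congr rfl fun i hi => by simp [e₁, Finset.ne_of_mem_erase hi]
    have hc₂ : ∏ i ∈ Finset.univ.erase j, (e₂ i : ℕ∞) = ∏ i ∈ Finset.univ.erase j, (e i : ℕ∞) :=
      Finset.prod_congr rfl fun i hi => by simp [e₂, Finset.ne_of_mem_erase hi]
    rw [hc₁, hc₂, ← add_mul]
    congr 1
    simp only [e₁, e₂, Function.update_self, Nat.cast_one]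
    exact_mod_cast congrArg (Nat.cast : ℕ → ℕ∞) (Nat.sub_add_cancel (he j))

theorem independent_map_of_flat {B : Type u} [CommRing B] [Algebra A B] [Module.Flat A B]
    {f : Fin r → A} (hf : Dual2.Independent f) : Dual2.Independent fun i => algebraMap A B (f i) := by
  intro b hb i
  have h : ∑ i, f i • b i = 0 := by
    simpa [Algebra.smul_def, mul_comm] using hb
  obtain ⟨k, a, y, hx, ha⟩ := Module.Flat.isTrivialRelation_of_sum_smul_eq_zero h
  rw [hx i]
  refine Submodule.sum_mem _ fun l _ => ?_
  have hmem := hf (fun i => a i l) (by rw [← ha l]; exact Finset.sum_congr rfl fun i _ => mul_comm _ _) i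
  rw [Algebra.smul_def]
  refine Ideal.mul_mem_right _ _ ?_
  have := Ideal.mem_map_of_mem (algebraMap A B) hmem
  rwa [Ideal.map_span, ← Set.range_comp] at this

/-- Finite modules over local rings have projective covers. -/
theorem exists_projectiveCover [IsLocalRing A] (M : Type u) [AddCommGroup M] [Module A M]
    [Module.Finite A M] : ∃ (P : Type u) (_ : AddCommGroup P) (_ : Module A P) (f : P →ₗ[A] M),
      Dual2.IsProjectiveCover f := by
  classical
  have hex : ∃ n : ℕ, ∃ f : (Fin n → A) →ₗ[A] M, Function.Surjective f := Module.Finite.exists_fin' A M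
  obtain ⟨f, hf⟩ := Nat.find_spec hex
  refine ⟨_, _, _, f, inferInstance, hf, fun N hN => ?_⟩
  have hker : ∀ v ∈ LinearMap.ker f, ∀ j, v j ∈ IsLocalRing.maximalIdeal A := by
    intro v hv j
    by_contra hj
    obtain ⟨c, hc⟩ := (IsLocalRing.notMem_maximalIdeal.mp hj).exists_left_inv
    obtain ⟨m, hm⟩ : ∃ m, Nat.find hex = m + 1 := ⟨Nat.find hex - 1, by have := j.2; omega⟩
    refine Nat.find_min hex (m := m) (by omega) ?_
    let succ : Fin m → Fin (Nat.find hex) := fun i => Fin.cast hm.symm (Fin.succAbove (Fin.cast hm j) i)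
    have hne : ∀ i, succ i ≠ j := fun i h => Fin.succAbove_ne (Fin.cast hm j) i
      (Fin.ext (congrArg Fin.val h :))
    refine ⟨Fintype.linearCombination A fun i => f (Pi.single (succ i) 1), fun y => ?_⟩
    rw [← LinearMap.mem_range, Fintype.range_linearCombination]
    obtain ⟨w, rfl⟩ := hf y
    have hsingle : ∀ i, i ≠ j → f (Pi.single i 1) ∈
        Submodule.span A (Set.range fun i => f (Pi.single (succ i) 1)) := by
      intro i hi
      obtain ⟨i', hi'⟩ := Fin.exists_succAbove_eq (x := Fin.cast hm i) (y := Fin.cast hm j)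
        (fun h => hi (Fin.cast_injective hm h))
      exact Submodule.subset_span ⟨i', by
        show f (Pi.single (succ i') 1) = _
        rw [show succ i' = i from Fin.ext (congrArg Fin.val hi' :)]⟩
    have hall : ∀ i, f (Pi.single i 1) ∈
        Submodule.span A (Set.range fun i => f (Pi.single (succ i) 1)) := by
      intro i
      rcases eq_or_ne i j with rfl | hi
      · have e : v = ∑ k, v k • Pi.single (M := fun _ => A) k 1 := pi_eq_sum_univ' v
        have h0 : f v = 0 := hv
        rw [e, map_sum, ← Finset.add_sum_erase _ _ (Finset.mem_univ i), map_smul,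
          add_eq_zero_iff_eq_neg] at h0
        have : f (Pi.single i 1) = c • (-∑ k ∈ Finset.univ.erase i, f (v k • Pi.single k 1)) := by
          rw [← h0, smul_smul, hc, one_smul]
        rw [this]
        refine Submodule.smul_mem _ c (neg_mem (Submodule.sum_mem _ fun k hk => ?_))
        rw [map_smul]
        exact Submodule.smul_mem _ _ (hsingle k (Finset.ne_of_mem_erase hk))
      · exact hsingle i hi
    rw [pi_eq_sum_univ' w, map_sum]
    exact Submodule.sum_mem _ fun i _ => by rw [map_smul]; exact Submodule.smul_mem _ _ (hall i)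
  refine eq_top_iff.mpr (Submodule.le_of_le_smul_of_le_jacobson_bot
    (I := IsLocalRing.maximalIdeal A) Module.Finite.fg_top
    (IsLocalRing.maximalIdeal_le_jacobson _) fun x _ => ?_)
  obtain ⟨y, hy, hyx⟩ : f x ∈ Submodule.map f N := hN ▸ Submodule.mem_top
  refine Submodule.mem_sup.mpr ⟨y, hy, x - y, ?_, add_sub_cancel y x⟩
  have hxy := hker (x - y) (by rw [LinearMap.mem_ker, map_sub, hyx, sub_self])
  rw [pi_eq_sum_univ' (x - y)]
  exact Submodule.sum_mem _ fun k _ => Submodule.smul_mem_smul (hxy k) Submodule.mem_top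

theorem projectiveCover_unique {M P P' : Type u} [AddCommGroup M] [Module A M] [AddCommGroup P]
    [Module A P] [AddCommGroup P'] [Module A P'] (f : P →ₗ[A] M) (f' : P' →ₗ[A] M)
    (hf : Dual2.IsProjectiveCover f) (hf' : Dual2.IsProjectiveCover f') :
    ∃ e : P ≃ₗ[A] P', f' ∘ₗ e.toLinearMap = f := by
  have := hf.projective
  have := hf'.projective
  obtain ⟨h, hh⟩ := Module.projective_lifting_property f' f hf'.surjective
  have hsurj : Function.Surjective h := by
    rw [← LinearMap.range_eq_top]
    refine hf'.essential _ ?_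
    rw [← LinearMap.range_comp, hh, LinearMap.range_eq_top.mpr hf.surjective]
  obtain ⟨s, hs⟩ := Module.projective_lifting_property h LinearMap.id hsurj
  have hs' : Function.Surjective s := by
    rw [← LinearMap.range_eq_top]
    refine hf.essential _ ?_
    rw [← LinearMap.range_comp, ← hh, LinearMap.comp_assoc, hs, LinearMap.comp_id,
      LinearMap.range_eq_top.mpr hf'.surjective]
  refine ⟨LinearEquiv.ofBijective h ⟨fun a b hab => ?_, hsurj⟩, hh⟩
  obtain ⟨a, rfl⟩ := hs' a
  obtain ⟨b, rfl⟩ := hs' b
  rw [show h (s a) = a from LinearMap.congr_fun hs a, show h (s b) = b from LinearMap.congr_fun hs b]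
    at hab
  rw [hab]

/-- If `V(I)` contains no component, some curve through the closed point is not in `V(I)`. -/
theorem exists_prime_coheight_one [IsLocalRing A] [IsNoetherianRing A] (I : Ideal A) (hI : I ≠ ⊤)
    (hdense : ∀ q ∈ minimalPrimes A, ¬ I ≤ q) :
    ∃ p : PrimeSpectrum A, ¬ I ≤ p.asIdeal ∧ ringKrullDim (A ⧸ p.asIdeal) = 1 := by
  obtain ⟨q₀, hq₀⟩ := Ideal.nonempty_minimalPrimes (bot_ne_top (α := Ideal A))
  obtain ⟨p, hpS, hmax⟩ := set_has_maximal_iff_noetherian.mpr (inferInstanceAs (IsNoetherianRing A))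
    {p : Ideal A | p.IsPrime ∧ ¬ I ≤ p} ⟨q₀, hq₀.1.1, hdense q₀ hq₀⟩
  obtain ⟨hp, hIp⟩ := hpS
  refine ⟨⟨p, hp⟩, hIp, ?_⟩
  have hpm : p < IsLocalRing.maximalIdeal A := lt_of_le_of_ne (IsLocalRing.le_maximalIdeal hp.ne_top)
    fun e => hIp (e ▸ IsLocalRing.le_maximalIdeal hI)
  have : Nontrivial (A ⧸ p) := Ideal.Quotient.nontrivial_iff.mpr hp.ne_top
  have : IsLocalRing (A ⧸ p) := IsLocalRing.of_surjective' _ Ideal.Quotient.mk_surjective
  let m := IsLocalRing.maximalIdeal (A ⧸ p)
  have hm : m ≠ ⊥ := by
    intro e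
    obtain ⟨y, hy, hyp⟩ := SetLike.exists_of_lt hpm
    refine hyp (Ideal.Quotient.eq_zero_iff_mem.mp ?_)
    have : Ideal.Quotient.mk p y ∈ m := fun hu => by
      obtain ⟨z, hz⟩ := hu.exists_right_inv
      obtain ⟨z, rfl⟩ := Ideal.Quotient.mk_surjective z
      rw [← map_mul, ← map_one (Ideal.Quotient.mk p), Ideal.Quotient.eq] at hz
      have h1 : (1 : A) ∈ IsLocalRing.maximalIdeal A := by
        have := Submodule.sub_mem _ (Ideal.mul_mem_right z _ hy) (hpm.le hz)
        simpa using this
      exact (IsLocalRing.maximalIdeal.isMaximal A).ne_top ((Ideal.eq_top_iff_one _).mpr h1)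
    rwa [e, Ideal.mem_bot] at this
  obtain ⟨x, hxI, hxp⟩ := SetLike.not_le_iff_exists.mp hIp
  let x' := Ideal.Quotient.mk p x
  -- every nonzero prime of `A ⧸ p` contains `x'`
  have hxq : ∀ q : Ideal (A ⧸ p), q.IsPrime → q ≠ ⊥ → x' ∈ q := by
    intro q hq hq0
    by_contra hxq
    refine hmax (q.comap (Ideal.Quotient.mk p)) ⟨Ideal.IsPrime.comap _, fun h => hxq (h hxI)⟩ ?_
    refine lt_of_le_of_ne ?_ fun e => hq0 ?_
    · intro a ha
      rw [Ideal.mem_comap, Ideal.Quotient.eq_zero_iff_mem.mpr ha]
      exact zero_mem _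
    · rw [← Ideal.map_comap_of_surjective _ Ideal.Quotient.mk_surjective q, ← e, Ideal.map_quotient_self]
  have hne : x' ≠ 0 := fun e => hxp (Ideal.Quotient.eq_zero_iff_mem.mp e)
  have h1 : m.height ≤ 1 := by
    by_contra hgt
    have hfin := Ideal.finite_minimalPrimes_of_isNoetherianRing (A ⧸ p) (Ideal.span {x'})
    obtain ⟨y, hym, hy⟩ : ∃ y ∈ m, ∀ q ∈ (Ideal.span {x'}).minimalPrimes, y ∉ q := by
      by_contra hcon
      push Not at hcon
      have hsub : (m : Set (A ⧸ p)) ⊆ ⋃ q ∈ hfin.toFinset, (q : Set (A ⧸ p)) := fun y hy => by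
        obtain ⟨q, hq, hyq⟩ := hcon y hy
        exact Set.mem_biUnion (hfin.mem_toFinset.mpr hq) hyq
      obtain ⟨q, hq, hle⟩ := (Ideal.subset_union_prime ⊥ ⊥ fun q hq _ _ =>
        (hfin.mem_toFinset.mp hq).isPrime).mp hsub
      have hqm := (IsLocalRing.maximalIdeal.isMaximal (A ⧸ p)).eq_of_le
        (hfin.mem_toFinset.mp hq).isPrime.ne_top hle
      have := Ideal.height_le_one_of_isPrincipal_of_mem_minimalPrimes (Ideal.span {x'}) q
        (hfin.mem_toFinset.mp hq)
      rw [← hqm] at this
      exact hgt this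
    have hy0 : y ≠ 0 := by
      rintro rfl
      obtain ⟨q, hq, -⟩ := Ideal.exists_minimalPrimes_le (show Ideal.span {x'} ≤ m from
        (Ideal.span_singleton_le_iff_mem _).mpr (hxq m inferInstance hm))
      exact hy q hq (zero_mem _)
    obtain ⟨q, hq, -⟩ := Ideal.exists_minimalPrimes_le
      ((Ideal.span_singleton_le_iff_mem _).mpr hym)
    have hyq : y ∈ q := hq.1.2 (Ideal.mem_span_singleton_self y)
    have := hq.isPrime
    obtain ⟨q', hq', hle⟩ := Ideal.exists_minimalPrimes_le ((Ideal.span_singleton_le_iff_mem _).mpr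
      (hxq q this fun e => hy0 (by rwa [e, Ideal.mem_bot] at hyq)))
    have := hq'.isPrime
    rcases hle.eq_or_lt with rfl | hlt
    · exact hy q' hq' hyq
    · have h0 : (⊥ : Ideal (A ⧸ p)) < q' := bot_lt_iff_ne_bot.mpr fun e => hne (by
        have := hq'.1.2 (Ideal.mem_span_singleton_self x')
        rwa [e, Ideal.mem_bot] at this)
      have e1 := Ideal.height_strict_mono_of_isPrime h0
      have e2 := Ideal.height_strict_mono_of_isPrime hlt
      have e3 := Ideal.height_le_one_of_isPrincipal_of_mem_minimalPrimes (Ideal.span {y}) q hq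
      exact absurd (ENat.lt_one_iff_eq_zero.mp (e2.trans_le e3) ▸ e1) (not_lt.mpr (zero_le))
  have h2 : (1 : ℕ∞) ≤ m.height := by
    have := Ideal.height_strict_mono_of_isPrime (I := (⊥ : Ideal (A ⧸ p))) (J := m)
      (bot_lt_iff_ne_bot.mpr hm)
    exact Order.one_le_iff_pos.mpr (lt_of_le_of_lt (zero_le) this)
  show ringKrullDim (A ⧸ p) = 1
  rw [← IsLocalRing.maximalIdeal_height_eq_ringKrullDim, le_antisymm h1 h2]
  rfl

end Groth.Agent.LocCoh
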