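import Groth.Prelude.Def_W4bk5brsh7111920
import Groth.Agent.Depth.CM
import Mathlib.RingTheory.RingHom.Surjective

/-!
# Adjusted depth and surjective ring homomorphisms

* `depth_localization_of_surjective`, `adjDepth_of_surjective`;
* `adjDepth_eq_top_of_not_le`: primes outside the closed subscheme;
* `minAdjDepth_of_surjective`.
-/

universe u

namespace Groth.Agent.LocCoh.AdjDepthRestrict

variable {S R : Type u} [CommRing S] [CommRing R] [Algebra S R]
  (M : Type u) [AddCommGroup M] [Module S M] [Module R M] [IsScalarTower S R M]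

theorem isLocalizedModule_restrict (hπ : Function.Surjective (algebraMap S R)) (P : Ideal R) [P.IsPrime] :
    IsLocalizedModule (P.comap (algebraMap S R)).primeCompl
      ((LocalizedModule.mkLinearMap P.primeCompl M).restrictScalars S) := by
  refine ⟨fun s => ?_, fun y => ?_, fun {x₁ x₂} h => ?_⟩
  · have hb := (Module.End.isUnit_iff _).1
      (IsLocalizedModule.map_units (LocalizedModule.mkLinearMap P.primeCompl M)
        (⟨algebraMap S R s, s.2⟩ : P.primeCompl))
    refine (Module.End.isUnit_iff _).2 ?_
    convert hb using 1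
    funext z
    exact (IsScalarTower.algebraMap_smul R (s : S) z).symm
  · obtain ⟨⟨m, t⟩, hm⟩ := IsLocalizedModule.surj P.primeCompl
      (LocalizedModule.mkLinearMap P.primeCompl M) y
    obtain ⟨s, hs⟩ := hπ t
    refine ⟨⟨m, ⟨s, fun hs' => t.2 (hs ▸ hs')⟩⟩, ?_⟩
    exact ((IsScalarTower.algebraMap_smul R s y).symm.trans (congrArg (· • y) hs)).trans hm
  · obtain ⟨t, ht⟩ := IsLocalizedModule.exists_of_eq (S := P.primeCompl)
      (f := LocalizedModule.mkLinearMap P.primeCompl M) h
    obtain ⟨s, hs⟩ := hπ t
    refine ⟨⟨s, fun hs' => t.2 (hs ▸ hs')⟩, ?_⟩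
    exact (((IsScalarTower.algebraMap_smul R s x₁).symm.trans (congrArg (· • x₁) hs)).trans ht).trans
      ((congrArg (· • x₂) hs.symm).trans (IsScalarTower.algebraMap_smul R s x₂))

theorem depth_localization_of_surjective (hπ : Function.Surjective (algebraMap S R)) (P : Ideal R)
    [P.IsPrime] :
    LocCoh.depth (Localization.AtPrime (P.comap (algebraMap S R)))
        (LocalizedModule (P.comap (algebraMap S R)).primeCompl M) =
      LocCoh.depth (Localization.AtPrime P) (LocalizedModule P.primeCompl M) := by
  set p := P.comap (algebraMap S R) with hp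
  let φ : Localization.AtPrime p →+* Localization.AtPrime P :=
    Localization.localRingHom p P (algebraMap S R) hp
  have hφ : Function.Surjective φ := RingHom.surjective_localRingHom_of_surjective _ hπ P
  letI : Algebra (Localization.AtPrime p) (Localization.AtPrime P) := φ.toAlgebra
  letI : Module (Localization.AtPrime p) (LocalizedModule P.primeCompl M) := Module.compHom _ φ
  haveI : IsScalarTower (Localization.AtPrime p) (Localization.AtPrime P)
      (LocalizedModule P.primeCompl M) :=
    ⟨fun x y z => (mul_smul (φ x) y z : _)⟩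
  haveI : IsScalarTower S (Localization.AtPrime p) (LocalizedModule P.primeCompl M) :=
    ⟨fun s y z => by
      show φ (s • y) • z = s • (φ y • z)
      rw [Algebra.smul_def, map_mul, Localization.localRingHom_to_map, mul_smul,
        IsScalarTower.algebraMap_smul (Localization.AtPrime P) (algebraMap S R s),
        IsScalarTower.algebraMap_smul R s]⟩
  haveI := isLocalizedModule_restrict M hπ P
  let e := (IsLocalizedModule.iso p.primeCompl
    ((LocalizedModule.mkLinearMap P.primeCompl M).restrictScalars S)).extendScalarsOfIsLocalization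
      p.primeCompl (Localization.AtPrime p)
  unfold LocCoh.depth
  rw [Depth.idealDepth_congr e,
    ← Depth.idealDepth_map_of_surjective (R := Localization.AtPrime p) (S := Localization.AtPrime P) hφ]
  exact congrArg (fun I => LocCoh.idealDepth I (LocalizedModule P.primeCompl M))
    (IsLocalRing.map_maximalIdeal_of_surjective φ hφ)

theorem adjDepth_of_surjective (hπ : Function.Surjective (algebraMap S R)) (a : Ideal S)
    (P : PrimeSpectrum R) :
    LocCoh.adjDepth a M (PrimeSpectrum.comap (algebraMap S R) P) =
      LocCoh.adjDepth (a.map (algebraMap S R)) M P := by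
  refine congrArg₂ (· + ·) (depth_localization_of_surjective M hπ P.asIdeal) ?_
  set p := P.asIdeal.comap (algebraMap S R) with hp
  have hle : p ≤ P.asIdeal.comap (algebraMap S R) := hp.le
  let e : (S ⧸ p) ≃+* (R ⧸ P.asIdeal) := RingEquiv.ofBijective (Ideal.quotientMap P.asIdeal (algebraMap S R) hle)
    ⟨Ideal.quotientMap_injective' hp.ge, Ideal.quotientMap_surjective hπ⟩
  show ((a ⊔ p).map (Ideal.Quotient.mk p)).height = _
  rw [← RingEquiv.height_map e ((a ⊔ p).map (Ideal.Quotient.mk p))]
  congr 1
  refine (Ideal.map_map (Ideal.Quotient.mk p) (e : (S ⧸ p) →+* (R ⧸ P.asIdeal))).trans ?_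
  calc Ideal.map ((e : (S ⧸ p) →+* (R ⧸ P.asIdeal)).comp (Ideal.Quotient.mk p)) (a ⊔ p)
      = Ideal.map ((Ideal.Quotient.mk P.asIdeal).comp (algebraMap S R)) (a ⊔ p) := rfl
    _ = _ := by
      rw [← Ideal.map_map, Ideal.map_sup, hp, Ideal.map_comap_of_surjective _ hπ]

omit [Module R M] [IsScalarTower S R M] in
theorem adjDepth_eq_top_of_kills (a : Ideal S) (p : PrimeSpectrum S) {s : S} (hs : s ∉ p.asIdeal)
    (h : ∀ m : M, s • m = 0) : LocCoh.adjDepth a M p = ⊤ := by
  haveI : Subsingleton (LocalizedModule p.asIdeal.primeCompl M) :=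
    LocalizedModule.subsingleton_iff.2 fun m => ⟨s, hs, h m⟩
  rw [LocCoh.adjDepth, LocCoh.depth, Depth.idealDepth_eq_top_of_subsingleton, top_add]

theorem minAdjDepth_of_surjective (hπ : Function.Surjective (algebraMap S R)) (a b : Ideal S) :
    LocCoh.minAdjDepth a b M =
      LocCoh.minAdjDepth (a.map (algebraMap S R)) (b.map (algebraMap S R)) M := by
  refine le_antisymm (le_iInf₂ fun P hP => ?_) (le_iInf₂ fun p hp => ?_)
  · rw [← adjDepth_of_surjective M hπ a P]
    exact iInf₂_le (f := fun (p : PrimeSpectrum S) (_ : ¬ b ≤ p.asIdeal) => LocCoh.adjDepth a M p) _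
      fun h => hP (Ideal.map_le_iff_le_comap.2 h)
  · by_cases hker : RingHom.ker (algebraMap S R) ≤ p.asIdeal
    · let P : PrimeSpectrum R := ⟨p.asIdeal.map (algebraMap S R),
        Ideal.map_isPrime_of_surjective hπ hker⟩
      have hPc : P.asIdeal.comap (algebraMap S R) = p.asIdeal := by
        rw [Ideal.comap_map_of_surjective' _ hπ, sup_eq_left.2 hker]
      have : PrimeSpectrum.comap (algebraMap S R) P = p := PrimeSpectrum.ext hPc
      rw [← this, adjDepth_of_surjective M hπ a P]
      exact iInf₂_le (f := fun (p : PrimeSpectrum R) (_ : ¬ b.map (algebraMap S R) ≤ p.asIdeal) =>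
        LocCoh.adjDepth (a.map (algebraMap S R)) M p) P
        fun h => hp (hPc ▸ Ideal.map_le_iff_le_comap.1 h)
    · obtain ⟨s, hs, hsp⟩ := Set.not_subset.1 hker
      rw [adjDepth_eq_top_of_kills M a p hsp fun m => by
        rw [← IsScalarTower.algebraMap_smul R s m, RingHom.mem_ker.1 hs, zero_smul]]
      exact le_top

end Groth.Agent.LocCoh.AdjDepthRestrict
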