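import Groth.Agent.LocCoh.HTBridge
import Groth.Agent.DualCx.LocCompare

/-!
# The annihilator theorem for modules
-/

universe u

open CategoryTheory CategoryTheory.Limits DerivedCategory

attribute [local instance] HasDerivedCategory.standard

namespace Groth.Agent.LocCoh.AnnModule

open Groth.Agent.DualCx
open Groth.Agent.DualCx.Dimfun (Z deg)
open Devissage (E F)
open SuppGamma (LT)

variable {A : Type u} [CommRing A] [IsNoetherianRing A] {M : Type u} [AddCommGroup M] [Module A M]

omit [IsNoetherianRing A] in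
theorem finite_HD [Module.Finite A M] (j : ℤ) : Module.Finite A (Dual.HD A (Dual.inD A M) j) := by
  by_cases hj : j = 0
  · subst hj
    have : Module.Finite A ((𝟭 (ModuleCat.{u} A)).obj (ModuleCat.of A M)) := ‹Module.Finite A M›
    exact Module.Finite.equiv
      ((DerivedCategory.singleFunctorCompHomologyFunctorIso (ModuleCat.{u} A) 0).app (ModuleCat.of A M)).toLinearEquiv.symm
  · have := HTBridge.subsingleton_HD_inD (A := A) M j hj
    infer_instance

omit [IsNoetherianRing A] in
theorem bdd_below (j : ℤ) (hj : j < 0) : Subsingleton (Dual.HD A (Dual.inD A M) j) :=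
  HTBridge.subsingleton_HD_inD M j (by omega)

omit [IsNoetherianRing A] in
theorem subsingleton_LT_neg (T : Set (PrimeSpectrum A)) (i : ℤ) (hi : i < 0) :
    Subsingleton (LT T ((Dual.inD A M)⟦i⟧)) := by
  refine subsingleton_of_forall_eq 0 fun x => ?_
  obtain ⟨J, e, rfl⟩ := SuppGamma.exists_rep x
  have : ((Dual.inD A M)⟦i⟧).IsGE (-i) :=
    DerivedCategory.TStructure.t.isGE_shift (Dual.inD A M) 0 i (-i) (by omega)
  rw [DerivedCategory.TStructure.t.zero e 0 (-i) (by omega), map_zero]

omit [IsNoetherianRing A] in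
/-- annihilation, module form -/
theorem kills_HT_iff (T : Set (PrimeSpectrum A)) (s : ℕ) (J : Ideal A) :
    (∀ i : ℕ, i ≤ s → ∀ a ∈ J, ∀ x : Dual2.HT T i M, a • x = 0) ↔
      ∀ i : ℤ, i ≤ s → ∀ c ∈ J, ∀ x : LT T ((Dual.inD A M)⟦i⟧), c • x = 0 := by
  constructor
  · intro h i hi c hc x
    rcases lt_or_ge i 0 with hn | hn
    · have := subsingleton_LT_neg (M := M) T i hn
      exact Subsingleton.elim _ _
    · lift i to ℕ using hn
      obtain ⟨y, rfl⟩ := (HTBridge.equiv T i M).surjective x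
      rw [← map_smul, h i (by omega) c hc, map_zero]
  · intro h i hi c hc x
    exact (HTBridge.equiv T i M).injective (by rw [map_smul, h i (by omega) c hc, map_zero])

omit [IsNoetherianRing A] in
/-- finiteness, module form -/
theorem finite_HT_iff (T : Set (PrimeSpectrum A)) (s : ℕ) :
    (∀ i : ℕ, i ≤ s → Module.Finite A (Dual2.HT T i M)) ↔
      ∀ i : ℤ, i ≤ s → Module.Finite A (LT T ((Dual.inD A M)⟦i⟧)) := by
  constructor
  · intro h i hi
    rcases lt_or_ge i 0 with hn | hn
    · have := subsingleton_LT_neg (M := M) T i hn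
      infer_instance
    · lift i to ℕ using hn
      have := h i (by omega)
      exact Module.Finite.equiv (HTBridge.equiv T i M)
  · intro h i hi
    have := h i (by omega)
    exact Module.Finite.equiv (HTBridge.equiv T i M).symm

theorem finite_iff_annihilated [Module.Finite A M] (T : Set (PrimeSpectrum A)) (s : ℕ) :
    (∀ i : ℕ, i ≤ s → Module.Finite A (Dual2.HT T i M)) ↔
      ∃ J : Ideal A, PrimeSpectrum.zeroLocus (J : Set A) ⊆ T ∧
        ∀ i : ℕ, i ≤ s → ∀ a ∈ J, ∀ x : Dual2.HT T i M, a • x = 0 := by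
  rw [finite_HT_iff, AnnThm.finite_iff_annihilated (bdd_below (M := M)) finite_HD T]
  exact exists_congr fun J => and_congr_right fun _ => (kills_HT_iff T s J).symm

variable [Module.Finite A M] {ω : Dual.D A}

omit [IsNoetherianRing A] [Module.Finite A M] in
/-- dimension of an interval and height -/
theorem krullDim_Icc {p q : PrimeSpectrum A} (hpq : p ≤ q) :
    Order.krullDim (Set.Icc p q) = ((Order.height (⟨q, hpq⟩ : Set.Ici p) : ℕ∞) : WithBot ℕ∞) := by
  rw [Order.height_eq_krullDim_Iic]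
  exact (Order.krullDim_eq_of_orderIso
    { toFun := fun r => ⟨r.1.1, r.1.2, r.2⟩
      invFun := fun r => ⟨⟨r.1, r.2.1⟩, r.2.2⟩
      left_inv := fun _ => rfl
      right_inv := fun _ => rfl
      map_rel_iff' := Iff.rfl }).symm

/-- depth against the degrees of the dual -/
theorem cond_depth_iff (hω : Dual.IsDualizing A ω) {p q : PrimeSpectrum A} (hpq : p ≤ q) (s : ℕ) :
    (∀ j, deg hω q - s ≤ j → Z p (F (Dual.inD A M) ω j)) ↔
      (s : WithBot ℕ∞) < ((LocCoh.depth (Localization.AtPrime p.asIdeal)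
        (LocalizedModule p.asIdeal.primeCompl M) : ℕ∞) : WithBot ℕ∞) + Order.krullDim (Set.Icc p q) := by
  have hle : deg hω p ≤ deg hω q := by
    rcases eq_or_lt_of_le hpq with rfl | h'
    · rfl
    · exact (Dimfun.deg_lt hω h').le
  rw [krullDim_Icc hpq, AnnThm.height_Ici hω hpq, ← WithBot.coe_add,
    show (s : WithBot ℕ∞) = ((s : ℕ∞) : WithBot ℕ∞) from rfl, WithBot.coe_lt_coe]
  rcases subsingleton_or_nontrivial (LocalizedModule p.asIdeal.primeCompl M) with hM | hM
  · have htop : LocCoh.depth (Localization.AtPrime p.asIdeal) (LocalizedModule p.asIdeal.primeCompl M) = ⊤ := by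
      rw [_root_.LocCoh.depth, _root_.LocCoh.idealDepth, if_pos (Subsingleton.elim _ _)]
    rw [htop, top_add]
    refine ⟨fun _ => ENat.natCast_lt_top s, fun _ j _ => ?_⟩
    rw [show Z p (F (Dual.inD A M) ω j) ↔ Z p (E M ω j) from Iff.rfl, Normalized.Z_E_iff hω]
    exact Devissage.subsingleton_of_subsingleton _
  · obtain ⟨n, hn, h1, h2⟩ := Normalized.depth_spec hω p M
    rw [hn, ← Nat.cast_add, Nat.cast_lt]
    constructor
    · intro H
      by_contra hcon
      exact h2 (H (deg hω p - n) (by omega))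
    · intro H j hj
      exact h1 j (by omega)

/-- the annihilator theorem for modules -/
theorem annihilator_iff (hω : Dual.IsDualizing A ω) {T T' : Set (PrimeSpectrum A)}
    (hT : StableUnderSpecialization T) (hT' : StableUnderSpecialization T') (s : ℕ) :
    (∃ J : Ideal A, PrimeSpectrum.zeroLocus (J : Set A) ⊆ T' ∧
        ∀ i : ℕ, i ≤ s → ∀ a ∈ J, ∀ x : Dual2.HT T i M, a • x = 0) ↔
      ∀ p q : PrimeSpectrum A, p ∉ T' → q ∈ T → p ≤ q →
        (s : WithBot ℕ∞) < ((LocCoh.depth (Localization.AtPrime p.asIdeal)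
          (LocalizedModule p.asIdeal.primeCompl M) : ℕ∞) : WithBot ℕ∞) + Order.krullDim (Set.Icc p q) := by
  refine ((exists_congr fun J => and_congr_right fun _ => kills_HT_iff T s J).trans
    (AnnThm.exists_annihilator_iff hω hT hT' (bdd_below (M := M)) finite_HD (s : ℤ))).trans ?_
  exact ⟨fun h p q hp hq hpq => (cond_depth_iff hω hpq s).1 (h p hp q hq hpq),
    fun h p hp q hq hpq => (cond_depth_iff hω hpq s).2 (h p q hp hq hpq)⟩

/-- the finiteness theorem for modules -/
theorem finite_iff (hω : Dual.IsDualizing A ω) {T : Set (PrimeSpectrum A)}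
    (hT : StableUnderSpecialization T) (s : ℕ) :
    (∀ i : ℕ, i ≤ s → Module.Finite A (Dual2.HT T i M)) ↔
      ∀ p q : PrimeSpectrum A, p ∉ T → q ∈ T → p ≤ q →
        (s : WithBot ℕ∞) < ((LocCoh.depth (Localization.AtPrime p.asIdeal)
          (LocalizedModule p.asIdeal.primeCompl M) : ℕ∞) : WithBot ℕ∞) + Order.krullDim (Set.Icc p q) :=
  (finite_iff_annihilated T s).trans (annihilator_iff hω hT hT s)

/-- the away form -/
theorem exists_kills_away (hω : Dual.IsDualizing A ω) (I : Ideal A) {p : PrimeSpectrum A}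
    (hp : ¬ I ≤ p.asIdeal) (s : ℕ)
    (h : ∀ p' q : PrimeSpectrum A, p' ≤ p → I ≤ q.asIdeal → p' ≤ q →
      (s : WithBot ℕ∞) < ((LocCoh.depth (Localization.AtPrime p'.asIdeal)
        (LocalizedModule p'.asIdeal.primeCompl M) : ℕ∞) : WithBot ℕ∞) + Order.krullDim (Set.Icc p' q)) :
    ∃ f : A, f ∉ p.asIdeal ∧ ∀ i : ℕ, i ≤ s → ∀ x : _root_.LocCoh.H I i M, f • x = 0 := by
  let T : Set (PrimeSpectrum A) := PrimeSpectrum.zeroLocus (I : Set A)
  let T' : Set (PrimeSpectrum A) := T ∪ {r | ¬ r ≤ p}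
  have hT : StableUnderSpecialization T := (PrimeSpectrum.isClosed_zeroLocus _).stableUnderSpecialization
  have hT' : StableUnderSpecialization T' := by
    rintro x y hxy (hx | hx)
    · exact Or.inl (hT hxy hx)
    · exact Or.inr fun hy => hx (((PrimeSpectrum.le_iff_specializes x y).2 hxy).trans hy)
  obtain ⟨J, hJ, hk⟩ := (annihilator_iff (M := M) hω hT hT' s).2 fun p' q hp' hq hpq =>
    h p' q (not_not.1 fun hne => hp' (Or.inr hne)) hq hpq
  obtain ⟨f, hfJ, hfp⟩ := SetLike.not_le_iff_exists.1 fun hle : J ≤ p.asIdeal => by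
    rcases hJ hle with h' | h'
    · exact hp h'
    · exact h' le_rfl
  refine ⟨f, hfp, fun i hi x => (LocCompare.equiv I i M).injective ?_⟩
  rw [map_smul, map_zero]
  obtain ⟨u, hu, hux⟩ := (AnnDual.locKill_congr I ((Dual.inD A M)⟦(i : ℤ)⟧) f ⊥).2 (fun y => ⟨1, rfl, by
    rw [one_smul]
    exact (kills_HT_iff T s J).1 hk i (by omega) f hfJ y⟩) (LocCompare.equiv I i M x)
  rw [Submonoid.mem_bot] at hu
  rwa [hu, one_smul] at hux

end Groth.Agent.LocCoh.AnnModule
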