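import Groth.Agent.LocCoh.TorProZero
import Mathlib.Algebra.Homology.Linear
import Mathlib.Algebra.Homology.ShortComplex.Linear

/-!
# Scalars killing `Tor`
-/

universe u

open CategoryTheory CategoryTheory.Limits MonoidalCategory

set_option linter.unusedVariables false

namespace Groth.Agent.LocCoh.Tor

variable {A : Type u} [CommRing A]

section Linear

variable {N : ModuleCat.{u} A} (R : ProjectiveResolution N)

theorem tC_map_smul {M M' : ModuleCat.{u} A} (c : A) (g : M ⟶ M') : (tC R).map (c • g) = c • (tC R).map g :=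
  HomologicalComplex.hom_ext _ _ fun n =>
    show (c • g) ▷ R.complex.X n = c • (g ▷ R.complex.X n) from MonoidalLinear.smul_whiskerRight c g (R.complex.X n)

end Linear

theorem tf_comp_apply {M M' M'' : ModuleCat.{u} A} (g : M ⟶ M') (h : M' ⟶ M'') (n : ℕ) (N : ModuleCat.{u} A)
    (y : T n M N) : (tf (g ≫ h) n N).hom y = (tf h n N).hom ((tf g n N).hom y) := by
  simp only [tf, Functor.map_comp]
  rfl

theorem tf_id_apply (M : ModuleCat.{u} A) (n : ℕ) (N : ModuleCat.{u} A) (y : T n M N) :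
    (tf (𝟙 M) n N).hom y = y := by
  simp only [tf, CategoryTheory.Functor.map_id]
  rfl

theorem homologyMap_smul' {K L : ChainComplex (ModuleCat.{u} A) ℕ} (c : A) (φ : K ⟶ L) (n : ℕ) :
    HomologicalComplex.homologyMap (c • φ) n = c • HomologicalComplex.homologyMap φ n :=
  ShortComplex.homologyMap_smul ((HomologicalComplex.shortComplexFunctor (ModuleCat.{u} A) _ n).map φ) c

theorem tf_smul {M : ModuleCat.{u} A} (c : A) (n : ℕ) (N : ModuleCat.{u} A) (y : T n M N) :
    (tf (c • 𝟙 M) n N).hom y = c • y := by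
  let R := projectiveResolution N
  have h := tIso_naturality R (c • 𝟙 M) n
  rw [tC_map_smul, CategoryTheory.Functor.map_id, homologyMap_smul', HomologicalComplex.homologyMap_id] at h
  apply inj_hom (tIso R n M)
  refine (congrArg (fun k => k.hom y) h).trans ?_
  exact (map_smul (tIso R n M).hom.hom c y).symm

theorem tf_zero {M M' : ModuleCat.{u} A} (n : ℕ) (N : ModuleCat.{u} A) (y : T n M N) :
    (tf (0 : M ⟶ M') n N).hom y = 0 := by
  have h : (0 : M ⟶ M') = ((0 : A) • 𝟙 M) ≫ 0 := by rw [comp_zero]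
  rw [h, tf_comp_apply, tf_smul, zero_smul, map_zero]

/-- `c` kills `Tor_i(M, -)`. -/
def Kill (c : A) (i : ℕ) (M : ModuleCat.{u} A) : Prop :=
  ∀ (N : ModuleCat.{u} A) (y : T i M N), c • y = 0

theorem kill_of_module {c : A} {M : ModuleCat.{u} A} (h : ∀ x : M, c • x = 0) (i : ℕ) : Kill c i M := by
  intro N y
  have h0 : c • 𝟙 M = 0 := by ext m; exact h m
  rw [← tf_smul, h0, tf_zero]

theorem kill_of_iso {c : A} {i : ℕ} {M M' : ModuleCat.{u} A} (e : M ≅ M') (h : Kill c i M) : Kill c i M' := by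
  intro N y
  rw [← tf_id_apply M' i N y, ← e.inv_hom_id, tf_comp_apply, ← map_smul, h, map_zero]

theorem kill_of_flat (c : A) (i : ℕ) (M : ModuleCat.{u} A) [Module.Flat A M] : Kill c (i + 1) M := fun N y => by
  rw [tor_succ_eq_zero_of_flat M i N y, smul_zero]

variable {S : ShortComplex (ModuleCat.{u} A)}

theorem kill_X₂ (hS : S.ShortExact) {a b : A} {i : ℕ} (h₁ : Kill a i S.X₁) (h₃ : Kill b i S.X₃) :
    Kill (a * b) i S.X₂ := by
  intro N y
  obtain ⟨x, hx⟩ := (tor_exact₂ hS i N (b • y)).mp (by rw [map_smul]; exact h₃ N _)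
  rw [mul_smul, ← hx, ← map_smul, h₁ N x, map_zero]

theorem kill_X₃ (hS : S.ShortExact) {a b : A} {i : ℕ} (h₁ : Kill a i S.X₁) (h₂ : Kill b (i + 1) S.X₂) :
    Kill (b * a) (i + 1) S.X₃ := by
  intro N y
  obtain ⟨x, hx⟩ := (tor_exact₃ hS i N (a • y)).mp (by rw [map_smul]; exact h₁ N _)
  rw [mul_smul, ← hx, ← map_smul, h₂ N x, map_zero]

theorem kill_X₁ (hS : S.ShortExact) {a b : A} {i : ℕ} (h₂ : Kill a i S.X₂) (h₃ : Kill b (i + 1) S.X₃) :
    Kill (b * a) i S.X₁ := by
  intro N y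
  obtain ⟨x, hx⟩ := (tor_exact₁ hS i N (a • y)).mp (by rw [map_smul]; exact h₂ N _)
  rw [mul_smul, ← hx, ← map_smul, h₃ N x, map_zero]

end Groth.Agent.LocCoh.Tor
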