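import Groth.Agent.LocCoh.AnnThm

/-!
# The vanishing condition in terms of stalks
-/

universe u

open CategoryTheory CategoryTheory.Limits DerivedCategory

attribute [local instance] HasDerivedCategory.standard

namespace Groth.Agent.LocCoh.AnnDepth

open Groth.Agent.DualCx
open Groth.Agent.DualCx.Dimfun (Z deg)
open Devissage (F)

variable {A : Type u} [CommRing A] [IsNoetherianRing A] {ω : Dual.D A}

/-- vanishing of the local cohomology of the derived stalk -/
theorem subsingleton_HDI_iff (hω : Dual.IsDualizing A ω) (p : PrimeSpectrum A) (K : Dual.D A) (a : ℤ)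
    [K.IsGE a] (hK : ∀ i, Module.Finite A (Dual.HD A K i))
    [DRing.HasLBaseChange (algebraMap A (Localization.AtPrime p.asIdeal))] (i : ℤ) :
    Subsingleton (Dual2.HDI (Localization.AtPrime p.asIdeal)
      (IsLocalRing.maximalIdeal (Localization.AtPrime p.asIdeal))
      ((DRing.LBaseChange (algebraMap A (Localization.AtPrime p.asIdeal))).obj K) i) ↔
      Z p (F K ω (deg hω p - i)) := by
  obtain ⟨e⟩ := FlatBC.nonempty_LBaseChange (B := Localization.AtPrime p.asIdeal) K
  refine Iff.trans ?_ (AnnDual.subsingleton_L_iff hω p K a hK i)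
  exact (TorsColim.congr _ ((shiftFunctor _ i).mapIso e)).toEquiv.subsingleton_congr

/-- the two forms of the condition -/
theorem cond_iff (hω : Dual.IsDualizing A ω) {T T' : Set (PrimeSpectrum A)} (s : ℤ) (K : Dual.D A) (a : ℤ)
    [K.IsGE a] (hK : ∀ i, Module.Finite A (Dual.HD A K i))
    [∀ p : PrimeSpectrum A, DRing.HasLBaseChange (algebraMap A (Localization.AtPrime p.asIdeal))] :
    (∀ p : PrimeSpectrum A, p ∉ T' → ∀ q ∈ T, p ≤ q → ∀ j, deg hω q - s ≤ j → Z p (F K ω j)) ↔
      ∀ (p q : PrimeSpectrum A) (hpq : p ≤ q), p ∉ T' → q ∈ T → ∀ h : ℕ,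
        Order.height (⟨q, hpq⟩ : Set.Ici p) = h → ∀ i : ℤ, i ≤ s - h →
          Subsingleton (Dual2.HDI (Localization.AtPrime p.asIdeal)
            (IsLocalRing.maximalIdeal (Localization.AtPrime p.asIdeal))
            ((DRing.LBaseChange (algebraMap A (Localization.AtPrime p.asIdeal))).obj K) i) := by
  have hh : ∀ (p q : PrimeSpectrum A) (hpq : p ≤ q) (h : ℕ),
      Order.height (⟨q, hpq⟩ : Set.Ici p) = h → (h : ℤ) = deg hω q - deg hω p := fun p q hpq h hh => by
    rw [AnnThm.height_Ici hω hpq, Nat.cast_inj] at hh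
    have : deg hω p ≤ deg hω q := by
      rcases eq_or_lt_of_le hpq with rfl | h'
      · rfl
      · exact (Dimfun.deg_lt hω h').le
    omega
  constructor
  · intro H p q hpq hp hq h hht i hi
    rw [subsingleton_HDI_iff hω p K a hK]
    have := hh p q hpq h hht
    exact H p hp q hq hpq _ (by omega)
  · intro H p hp q hq hpq j hj
    have := hh p q hpq _ (AnnThm.height_Ici hω hpq)
    have h2 := H p q hpq hp hq _ (AnnThm.height_Ici hω hpq) (deg hω p - j) (by omega)
    rwa [subsingleton_HDI_iff hω p K a hK, sub_sub_cancel] at h2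

end Groth.Agent.LocCoh.AnnDepth
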