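import Groth.Agent.LocCoh.HDIGamma
import Groth.Agent.LocCoh.BaseChange
import Groth.Agent.DRing.FlatBCModule
import Groth.Agent.DRing.KProjRes

/-!
# Change of rings for `colim_n Hom(A/I^n, X)`
-/

universe u

open CategoryTheory CategoryTheory.Limits DerivedCategory TensorProduct

attribute [local instance] HasDerivedCategory.standard

namespace Groth.Agent.LocCoh.HDIBaseChange

open Groth.Agent.DRing.Homology
open RGamma (GC Div)

variable {A B : Type u} [CommRing A] [CommRing B] [Algebra A B]

/-- restriction -/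
noncomputable abbrev res : ModuleCat.{u} B ⥤ ModuleCat.{u} A :=
  ModuleCat.restrictScalars (algebraMap A B)

/-- extension -/
noncomputable abbrev ext' : ModuleCat.{u} A ⥤ ModuleCat.{u} B :=
  ModuleCat.extendScalars.{u, u, u} (algebraMap A B)

section Restrict

/-- `Γ_I (res N) = res (Γ_{IB} N)` -/
noncomputable def gammaResLEquiv (I : Ideal A) (N : ModuleCat.{u} B) :
    (res.obj ((DRing.gammaI (I.map (algebraMap A B))).obj N) : ModuleCat.{u} A) ≃ₗ[A]
      DRing.torsionSub I (resA A N) where
  toFun x := ⟨(x : DRing.torsionSub (I.map (algebraMap A B)) N).1,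
    (mem_torsionSub_map_iff (B := B) (N := resA A N) I).mp (x : DRing.torsionSub (I.map (algebraMap A B)) N).2⟩
  invFun x := (⟨x.1, (mem_torsionSub_map_iff (B := B) (N := resA A N) I).mpr x.2⟩ :
    DRing.torsionSub (I.map (algebraMap A B)) N)
  map_add' _ _ := rfl
  map_smul' _ _ := rfl
  left_inv _ := rfl
  right_inv _ := rfl

/-- `res ⋙ Γ_I ≅ Γ_{IB} ⋙ res` -/
noncomputable def gammaResIso (I : Ideal A) :
    res ⋙ DRing.gammaI I ≅ DRing.gammaI (I.map (algebraMap A B)) ⋙ res :=
  NatIso.ofComponents (fun N => (gammaResLEquiv I N).toModuleIso.symm) fun {_ _} _ => rfl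

theorem div_res [IsNoetherianRing B] (J : Ideal A) (a : A) (N : ModuleCat.{u} B) [Injective N] :
    Div J a (res.obj N : ModuleCat.{u} A) := by
  intro n
  let T := ModuleCat.of B (DRing.torsionSub (J.map (algebraMap A B)) N)
  have h : IsDivModTorsion (algebraMap A B (a ^ n)) (resA A T) := by
    rw [map_pow]
    exact RGamma.div_of_injective (J.map (algebraMap A B)) (algebraMap A B a) N n
  exact (isDivModTorsion_restrict (B := B) (N := resA A T) h).of_surjective
    (gammaResLEquiv J N).toLinearMap (gammaResLEquiv J N).surjective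

end Restrict

section Extend

variable (A B) in
/-- `M ↦ B ⊗ M` -/
noncomputable abbrev extT : ModuleCat.{u} A ⥤ ModuleCat.{u} B where
  obj M := tens B M
  map g := ModuleCat.ofHom (g.hom.baseChange B)
  map_id M := by ext : 1; exact LinearMap.baseChange_id
  map_comp f g := by ext : 1; exact LinearMap.baseChange_comp f.hom g.hom

omit [Algebra A B] in
theorem nonempty_extT_iso_toAlgebra (φ : A →+* B) :
    letI := φ.toAlgebra
    ∃ t : extT A B ≅ ModuleCat.extendScalars.{u, u, u} φ, ∀ (M : ModuleCat.{u} A) (x : M),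
      (t.hom.app M).hom ((1 : B) ⊗ₜ[A] x) =
        ((ModuleCat.extendRestrictScalarsAdj.{u} φ).unit.app M).hom x := by
  let := φ.toAlgebra
  let F : ModuleCat.{u} A ⥤ ModuleCat.{u} B := ModuleCat.extendScalars.{u, u, u} φ
  let e : ∀ M : ModuleCat.{u} A, (B ⊗[A] M) ≃ₗ[B] (F.obj M : ModuleCat.{u} B) := fun M =>
    { toFun := fun x => x
      invFun := fun x => x
      left_inv := fun _ => rfl
      right_inv := fun _ => rfl
      map_add' := fun _ _ => rfl
      map_smul' := fun c (x : B ⊗[A] M) => by
        induction x using TensorProduct.induction_on with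
        | zero => exact (smul_zero (A := B ⊗[A] M) c).trans (smul_zero (A := (F.obj M : ModuleCat.{u} B)) c).symm
        | tmul s m => rfl
        | add x y hx hy =>
          exact (smul_add (A := B ⊗[A] M) c x y).trans ((congrArg₂ (fun p q : B ⊗[A] M => p + q) hx hy).trans
            (smul_add (A := (F.obj M : ModuleCat.{u} B)) c x y).symm) }
  refine ⟨NatIso.ofComponents (fun M => (e M).toModuleIso) fun {M N} g =>
    ModuleCat.hom_ext (LinearMap.ext fun (x : B ⊗[A] M) => by
      induction x using TensorProduct.induction_on with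
      | zero => exact (map_zero _).trans (map_zero _).symm
      | tmul s m => rfl
      | add x y hx hy => exact (map_add _ x y).trans ((congrArg₂ (· + ·) hx hy).trans (map_add _ x y).symm)),
    fun M x => rfl⟩

omit [Algebra A B] in
theorem nonempty_extendScalars_iso_toAlgebra (φ : A →+* B) (M : ModuleCat.{u + 1} A) :
    letI := φ.toAlgebra
    Nonempty ((ModuleCat.extendScalars.{u, u, u + 1} φ).obj M ≅ ModuleCat.of B (B ⊗[A] M)) := by
  let := φ.toAlgebra
  exact ⟨(show ((ModuleCat.extendScalars.{u, u, u + 1} φ).obj M : ModuleCat.{u + 1} B) ≃ₗ[B] B ⊗[A] M from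
    { toFun := fun x => x
      invFun := fun x => x
      left_inv := fun _ => rfl
      right_inv := fun _ => rfl
      map_add' := fun _ _ => rfl
      map_smul' := fun c (x : B ⊗[A] M) => by
        induction x using TensorProduct.induction_on with
        | zero => exact (smul_zero (A := ((ModuleCat.extendScalars.{u, u, u + 1} φ).obj M : ModuleCat.{u + 1} B)) c).trans (smul_zero (A := B ⊗[A] M) c).symm
        | tmul s m => rfl
        | add x y hx hy => exact (smul_add (A := ((ModuleCat.extendScalars.{u, u, u + 1} φ).obj M : ModuleCat.{u + 1} B)) c x y).trans ((congrArg₂ (fun p q : B ⊗[A] M => p + q) hx hy).trans (smul_add c x y).symm) }).toModuleIso⟩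

theorem nonempty_extendScalars_iso (M : ModuleCat.{u + 1} A) :
    Nonempty ((ModuleCat.extendScalars.{u, u, u + 1} (algebraMap A B)).obj M ≅ ModuleCat.of B (B ⊗[A] M)) := by
  have key := nonempty_extendScalars_iso_toAlgebra (algebraMap A B) M
  have e : (algebraMap A B).toAlgebra = ‹Algebra A B› := Algebra.algebra_ext _ _ fun _ => rfl
  rw [e] at key
  exact key

theorem exists_extT_iso : ∃ t : extT A B ≅ ext', ∀ (M : ModuleCat.{u} A) (x : M),
    (t.hom.app M).hom ((1 : B) ⊗ₜ[A] x) =
      ((ModuleCat.extendRestrictScalarsAdj.{u} (algebraMap A B)).unit.app M).hom x := by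
  have key := nonempty_extT_iso_toAlgebra (algebraMap A B)
  have e : (algebraMap A B).toAlgebra = ‹Algebra A B› := Algebra.algebra_ext _ _ fun _ => rfl
  rw [e] at key
  exact key

theorem nonempty_extT_iso : Nonempty (extT A B ≅ ext') :=
  let ⟨t, _⟩ := exists_extT_iso (A := A) (B := B)
  ⟨t⟩

variable [IsNoetherianRing A] [Module.Flat A B]

/-- `B ⊗ Γ_I M → Γ_{IB}(B ⊗ M)` -/
noncomputable def gammaExtMap (I : Ideal A) (M : ModuleCat.{u} A) :
    (B ⊗[A] DRing.torsionSub I M) →ₗ[B] DRing.torsionSub (I.map (algebraMap A B)) (B ⊗[A] M) :=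
  LinearMap.codRestrict _ ((DRing.torsionSub I M).subtype.baseChange B)
    fun w => (torsionSub_tensor I M _).mpr ⟨w, rfl⟩

theorem bijective_gammaExtMap (I : Ideal A) (M : ModuleCat.{u} A) :
    Function.Bijective (gammaExtMap (B := B) I M) := by
  refine ⟨fun x y h => Module.Flat.lTensor_preserves_injective_linearMap _ (Submodule.injective_subtype _)
    (congrArg Subtype.val h), fun z => ?_⟩
  obtain ⟨w, hw⟩ := (torsionSub_tensor I M z.1).mp z.2
  exact ⟨w, Subtype.ext hw⟩

theorem nonempty_gammaExtIso (I : Ideal A) :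
    Nonempty (DRing.gammaI I ⋙ ext' ≅ ext' ⋙ DRing.gammaI (I.map (algebraMap A B))) := by
  obtain ⟨e⟩ := nonempty_extT_iso (A := A) (B := B)
  refine ⟨Functor.isoWhiskerLeft _ e.symm ≪≫ ?_ ≪≫ Functor.isoWhiskerRight e _⟩
  exact NatIso.ofComponents (fun M => (LinearEquiv.ofBijective _ (bijective_gammaExtMap I M)).toModuleIso)
    fun {X Y} g => ModuleCat.hom_ext (LinearMap.ext fun (w : B ⊗[A] DRing.torsionSub I X) => by
      induction w using TensorProduct.induction_on with
      | zero => exact (map_zero _).trans (map_zero _).symm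
      | tmul s m => rfl
      | add x y hx hy => exact (map_add _ x y).trans ((congrArg₂ (· + ·) hx hy).trans (map_add _ x y).symm))

theorem div_ext [IsNoetherianRing B] (J : Ideal A) (a : A) (M : ModuleCat.{u} A) [Injective M] :
    Div (J.map (algebraMap A B)) (algebraMap A B a) (ext'.obj M : ModuleCat.{u} B) := by
  obtain ⟨e⟩ := nonempty_extT_iso (A := A) (B := B)
  refine RGamma.Div.of_linearEquiv (fun n => ?_) (e.app M).toLinearEquiv
  rw [← map_pow]
  exact (isDivModTorsion_tensor (B := B) (RGamma.div_of_injective J a M n)).of_surjective _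
    (bijective_gammaExtMap J M).2

end Extend

section Main

open Groth.Agent.DualCx

variable [IsNoetherianRing A] [IsNoetherianRing B]

/-- independence of the base -/
theorem nonempty_restrict (I : Ideal A) (X : Dual.D B) :
    Nonempty (TorsColim.L I ((DRing.restrictD (algebraMap A B)).obj X) ≅
      (ModuleCat.restrictScalars.{u + 1} (algebraMap A B)).obj (TorsColim.L (I.map (algebraMap A B)) X)) := by
  obtain ⟨s, rfl⟩ := IsNoetherian.noetherian I
  set I : Ideal A := Ideal.span (s : Set A)
  let J := I.map (algebraMap A B)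
  let F := (res (A := A) (B := B)).mapHomologicalComplex (ComplexShape.up ℤ)
  obtain ⟨L, hL, hLi, ⟨θ⟩⟩ := RGamma.exists_resolution X
  obtain ⟨P, π, hP, hπ, -, hPi⟩ := DHA.KInj.exists_resolution (ModuleCat.{u} A) (F.obj L)
  have hG : QuasiIso ((GC I).map π) := RGamma.quasiIso_map_of_div s
    (fun t _ a _ i => div_res _ a (L.X i)) (fun t _ a _ i => RGamma.div_of_injective _ a (P.X i)) π
  let θ' : DRing.toD P ≅ (DRing.restrictD (algebraMap A B)).obj X :=
    (asIso (Q.map π)).symm ≪≫ ((res (A := A) (B := B)).mapDerivedCategoryFactors.app L).symm ≪≫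
      (DRing.restrictD (algebraMap A B)).mapIso θ
  let c : (GC I).obj (F.obj L) ≅ F.obj ((GC J).obj L) :=
    HomologicalComplex.Hom.isoOfComponents (fun i => (gammaResIso I).app (L.X i))
      fun i j _ => ((gammaResIso I).hom.naturality (L.d i j)).symm
  let h : ((GC I).obj P).homology 0 ≅ res.obj (((GC J).obj L).homology 0) :=
    (asIso (HomologicalComplex.homologyMap ((GC I).map π) 0)).symm ≪≫
      HomologicalComplex.homologyMapIso c 0 ≪≫ (((GC J).obj L).sc 0).mapHomologyIso res
  let eA := (HDIGamma.equiv I θ').trans h.toLinearEquiv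
  let eB := HDIGamma.equiv J θ
  exact ⟨(show (TorsColim.L I ((DRing.restrictD (algebraMap A B)).obj X) : ModuleCat.{u + 1} A) ≃ₗ[A]
      ((ModuleCat.restrictScalars.{u + 1} (algebraMap A B)).obj (TorsColim.L J X) : ModuleCat.{u + 1} A) from
    eA.trans
      { toFun := fun x => (eB.symm x : TorsColim.L J X)
        invFun := fun y => eB (y : TorsColim.L J X)
        left_inv := fun x => eB.apply_symm_apply x
        right_inv := fun y => eB.symm_apply_apply y
        map_add' := fun x y => map_add eB.symm x y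
        map_smul' := fun c x => eB.symm.map_smul (algebraMap A B c) x }).toModuleIso⟩

variable [Module.Flat A B]

/-- flat base change -/
theorem nonempty_baseChange [DRing.HasLBaseChange (algebraMap A B)] (I : Ideal A) (X : Dual.D A) :
    Nonempty (TorsColim.L (I.map (algebraMap A B)) ((DRing.LBaseChange (algebraMap A B)).obj X) ≅
      (ModuleCat.extendScalars.{u, u, u + 1} (algebraMap A B)).obj (TorsColim.L I X)) := by
  classical
  obtain ⟨s, rfl⟩ := IsNoetherian.noetherian I
  set I : Ideal A := Ideal.span (s : Set A) with hI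
  let J := I.map (algebraMap A B)
  have hφ : (algebraMap A B).Flat := RingHom.flat_algebraMap_iff.mpr inferInstance
  obtain ⟨L, hL, hLi, ⟨θ⟩⟩ := RGamma.exists_resolution X
  let F := Groth.Agent.DRing.LTensor.extCx (algebraMap A B)
  obtain ⟨R, ρ, hR, -, hρ, -⟩ := Groth.Agent.DRing.KProjRes.exists_resolution L
  have := Groth.Agent.DRing.Descent.quasiIso_extCx (algebraMap A B) hφ ρ
  let θB : DRing.toD (F.obj L) ≅ (DRing.LBaseChange (algebraMap A B)).obj X :=
    (asIso (Q.map (F.map ρ))).symm ≪≫ Groth.Agent.DRing.Perfect.baseChangeIsoOfRep (algebraMap A B)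
      (Groth.Agent.DRing.KFlat.isKFlat_of_isKProjective R) (asIso (Q.map ρ) ≪≫ θ)
  obtain ⟨P, π, hP, hπ, -, hPi⟩ := DHA.KInj.exists_resolution (ModuleCat.{u} B) (F.obj L)
  let θ' : DRing.toD P ≅ (DRing.LBaseChange (algebraMap A B)).obj X := (asIso (Q.map π)).symm ≪≫ θB
  have hJ : J = Ideal.span ((s.image (algebraMap A B) : Finset B) : Set B) := by
    rw [Finset.coe_image, ← Ideal.map_span]
  have hG : QuasiIso ((GC J).map π) := by
    rw [hJ]
    refine RGamma.quasiIso_map_of_div _ (fun t ht a ha i => ?_)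
      (fun t _ a _ i => RGamma.div_of_injective _ a (P.X i)) π
    obtain ⟨a₀, -, rfl⟩ := Finset.mem_image.1 ha
    obtain ⟨t₀, -, rfl⟩ := Finset.subset_image_iff.1 ht
    rw [Finset.coe_image, ← Ideal.map_span]
    exact div_ext _ a₀ (L.X i)
  obtain ⟨γ⟩ := nonempty_gammaExtIso (A := A) (B := B) I
  let c : (GC J).obj (F.obj L) ≅ F.obj ((GC I).obj L) :=
    HomologicalComplex.Hom.isoOfComponents (fun i => (γ.app (L.X i)).symm)
      fun i j _ => (γ.inv.naturality (L.d i j)).symm
  have := ModuleCat.preservesFiniteLimits_extendScalars_of_flat hφ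
  have := (ModuleCat.extendRestrictScalarsAdj.{u} (algebraMap A B)).leftAdjoint_preservesColimits
  obtain ⟨e⟩ := nonempty_extT_iso (A := A) (B := B)
  let h : ((GC J).obj P).homology 0 ≅ tens B (((GC I).obj L).homology 0) :=
    (asIso (HomologicalComplex.homologyMap ((GC J).map π) 0)).symm ≪≫
      HomologicalComplex.homologyMapIso c 0 ≪≫ (((GC I).obj L).sc 0).mapHomologyIso ext' ≪≫ (e.app _).symm
  obtain ⟨e'⟩ := nonempty_extendScalars_iso (A := A) (B := B) (TorsColim.L I X)
  exact ⟨((HDIGamma.equiv J θ').trans (h.toLinearEquiv.trans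
    (TensorProduct.AlgebraTensorModule.congr (LinearEquiv.refl B B) (HDIGamma.equiv I θ).symm))).toModuleIso
      ≪≫ e'.symm⟩

end Main

end Groth.Agent.LocCoh.HDIBaseChange
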