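import Groth.Agent.LocCoh.SuppModel
import Groth.Agent.LocCoh.HDIBaseChange
import Groth.Agent.DualCx.Normalized
import Groth.Agent.DualCx.Pairing
import Groth.Agent.InjHull.Basic
import Groth.Agent.S1761

/-!
# The annihilator theorem for cohomology with supports, with a dualizing complex

`N^j := Hom(K, ω[j])`.
* `locKill_iff`: at `q`, `f` kills `H^i_{V(q)}(K)` iff it kills `N^{deg q - i}`;
* `subsingleton_HDI_iff`: `H^i_p(K_p) = 0` iff `N^{deg p - i}_p = 0`;
* `exists_annihilator_iff`, `finite_iff`: the annihilator and finiteness theorems.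
-/

universe u

open CategoryTheory CategoryTheory.Limits DerivedCategory
open scoped TensorProduct

attribute [local instance] HasDerivedCategory.standard

namespace Groth.Agent.LocCoh.AnnDual

open Groth.Agent.DualCx
open Groth.Agent.DualCx.Dimfun (Z deg)
open Devissage (F)
open BaseChange (FD BijAt)
open SuppGamma (LT)

variable {A : Type u} [CommRing A]

section Compare

open SuppGamma (Idx ιT qT)

theorem qT_comp {J J' J'' : Ideal A} (h : J ≤ J') (h' : J' ≤ J'') :
    qT h ≫ qT h' = qT (h.trans h') := by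
  rw [qT, qT, qT, ← Functor.map_comp]
  congr 1
  exact ModuleCat.hom_ext (Submodule.linearMap_qext _ (LinearMap.ext_ring rfl))

theorem qD_eq (I : Ideal A) {n m : ℕ} (h : n ≤ m) :
    TorsColim.qD I h = qT (Ideal.pow_le_pow_right h) := rfl

/-- powers and ideals with zero locus in `V(I)` are cofinal -/
theorem locKill_congr [IsNoetherianRing A] (I : Ideal A) (X : Dual.D A) (f : A) (S : Submonoid A) :
    (∀ x : TorsColim.L I X, ∃ u ∈ S, u • f • x = 0) ↔
      ∀ x : LT (PrimeSpectrum.zeroLocus (I : Set A)) X, ∃ u ∈ S, u • f • x = 0 := by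
  constructor
  · intro h x
    obtain ⟨J, e, rfl⟩ := SuppGamma.exists_rep x
    obtain ⟨n, hn⟩ : ∃ n : ℕ, I ^ n ≤ J.obj := Ideal.exists_pow_le_of_le_radical_of_fg_radical
      (PrimeSpectrum.zeroLocus_subset_zeroLocus_iff _ _ |>.1 J.property) (IsNoetherian.noetherian _)
    obtain ⟨u, hu, hux⟩ := h (TorsColim.ι I n X (qT hn ≫ e))
    refine ⟨u, hu, ?_⟩
    rw [← map_smul, ← map_smul, TorsColim.ι_eq_zero_iff] at hux
    obtain ⟨m, hnm, hm⟩ := hux
    rw [← map_smul, ← map_smul, SuppGamma.ιT_eq_zero_iff]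
    refine ⟨⟨I ^ (m + 1), (PrimeSpectrum.zeroLocus_pow I m.succ_ne_zero).subset⟩,
      (Ideal.pow_le_pow_right (by omega)).trans hn, ?_⟩
    rw [Linear.comp_smul, Linear.comp_smul] at *
    rw [qD_eq] at hm
    have hh := congrArg (fun t => qT (Ideal.pow_le_pow_right (Nat.le_succ m) : I ^ (m + 1) ≤ I ^ m) ≫ t) hm
    simp only [Linear.comp_smul, comp_zero, ← Category.assoc, qT_comp] at hh
    exact hh
  · intro h x
    obtain ⟨n, e, rfl⟩ := TorsColim.exists_rep I x
    let J : Idx (PrimeSpectrum.zeroLocus (I : Set A)) :=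
      ⟨I ^ (n + 1), (PrimeSpectrum.zeroLocus_pow I n.succ_ne_zero).subset⟩
    obtain ⟨u, hu, hux⟩ := h (ιT J X (qT (Ideal.pow_le_pow_right (Nat.le_succ n)) ≫ e))
    refine ⟨u, hu, ?_⟩
    rw [← map_smul, ← map_smul, SuppGamma.ιT_eq_zero_iff] at hux
    obtain ⟨J', hJ', hm⟩ := hux
    obtain ⟨m, hm'⟩ : ∃ m : ℕ, I ^ m ≤ J'.obj := Ideal.exists_pow_le_of_le_radical_of_fg_radical
      (PrimeSpectrum.zeroLocus_subset_zeroLocus_iff _ _ |>.1 J'.property) (IsNoetherian.noetherian _)
    rw [← map_smul, ← map_smul, TorsColim.ι_eq_zero_iff]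
    refine ⟨max m (n + 1), by omega, ?_⟩
    rw [Linear.comp_smul, Linear.comp_smul] at *
    have hh := congrArg (fun t => qT ((Ideal.pow_le_pow_right (le_max_left m (n + 1))).trans hm') ≫ t) hm
    simp only [Linear.comp_smul, comp_zero, ← Category.assoc, qT_comp] at hh
    exact hh

end Compare

variable [IsNoetherianRing A] {ω : Dual.D A}

local notation "Bl " p => Localization.AtPrime (PrimeSpectrum.asIdeal p)

/-- base change of `Hom(K, ω[j])` to a local ring -/
theorem bijAt (hω : Dual.IsDualizing A ω) (p : PrimeSpectrum A) (K : Dual.D A) (a : ℤ) [K.IsGE a]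
    (hK : ∀ i, Module.Finite A (Dual.HD A K i)) (j : ℤ) : BijAt (B := Bl p) K ω j := by
  obtain ⟨a', ha'⟩ := Dimfun.exists_isGE hω
  obtain ⟨c, d, hcd⟩ := hω.finite_injective_dimension
  have hampA := DRing.InjAmp.hasInjAmplitudeIn_of_vanishing (a := c) (b := d) fun J i hi => hcd (A ⧸ J) i hi
  obtain ⟨c', d', hcd'⟩ := (Dimfun.isDualizing_local hω p).finite_injective_dimension
  have hampB := DRing.InjAmp.hasInjAmplitudeIn_of_vanishing (a := c') (b := d')
    fun J i hi => hcd' (_ ⧸ J) i hi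
  let q : ℤ := max (max d d' - j) (a - 1)
  obtain ⟨T, hT, rfl, hl, hr, e1, e3⟩ := Devissage.exists_split K q
  have hge3 : T.obj₃.IsGE (q + 1) := (DerivedCategory.isGE_iff _ _).mpr fun m hm =>
    (DRing.DBasic.subsingleton_HD_iff_isZero _ m).mp (hr m (by omega))
  have hle1 : T.obj₁.IsLE q := (DerivedCategory.isLE_iff _ _).mpr fun m hm =>
    (DRing.DBasic.subsingleton_HD_iff_isZero _ m).mp (hl m hm)
  have hge1 : T.obj₁.IsGE a := (DerivedCategory.isGE_iff _ _).mpr fun m hm =>
    (DRing.DBasic.subsingleton_HD_iff_isZero _ m).mp (by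
      by_cases hm' : m ≤ q
      · obtain ⟨e⟩ := e1 m hm'
        have := (DRing.DBasic.subsingleton_HD_iff_isZero T.obj₂ m).mpr
          (DerivedCategory.isZero_of_isGE T.obj₂ a m hm)
        exact e.toEquiv.subsingleton
      · exact hl m (by omega))
  have hf1 : ∀ m, Module.Finite A (Dual.HD A T.obj₁ m) := fun m => by
    by_cases hm : m ≤ q
    · obtain ⟨e⟩ := e1 m hm
      have := hK m
      exact Module.Finite.equiv e.symm
    · have : Subsingleton (Dual.HD A T.obj₁ m) := hl m (by omega)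
      infer_instance
  have hzero : ∀ (Y : Dual.D A), Y.IsGE (q + 1) → LinBaseChange.Bij A (Bl p) (FD A (Bl p)) Y (ω⟦j⟧) := by
    intro Y hY
    have h1 : Subsingleton (Y ⟶ ω⟦j⟧) := LocalGlobal.subsingleton_hom_injRep hampA Y (q + 1) j (by omega)
    have hYB : ((FD A (Bl p)).obj Y).IsGE (q + 1) := FlatBC.isGE_FD Y (q + 1)
    have h2 : Subsingleton ((FD A (Bl p)).obj Y ⟶ (FD A (Bl p)).obj (ω⟦j⟧)) :=
      have := LocalGlobal.subsingleton_hom_injRep hampB ((FD A (Bl p)).obj Y) (q + 1) j (by omega)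
      (Hom.congr (Bl p) (Iso.refl _) (FlatBC.shiftFD ω j)).toEquiv.subsingleton
    refine ⟨fun x y _ => ?_, fun y => ⟨0, Subsingleton.elim _ _⟩⟩
    have : Subsingleton ((Bl p) ⊗[A] (Y ⟶ ω⟦j⟧)) := inferInstance
    exact Subsingleton.elim _ _
  refine LinBaseChange.bij₂ A (Bl p) (FD A (Bl p)) hT
    (FlatBC.bijAt_bounded ω a' T.obj₁ a q hge1 hle1 hf1 j) (hzero _ hge3) ?_ (hzero _ ?_)
  · exact (BaseChange.bijAt_shift 1 j (j - 1) (by omega)).mpr
      (FlatBC.bijAt_bounded ω a' T.obj₁ a q hge1 hle1 hf1 (j - 1))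
  · change (T.obj₃⟦(-1 : ℤ)⟧).IsGE (q + 1)
    have := DerivedCategory.TStructure.t.isGE_shift T.obj₃ (q + 1) (-1) (q + 2) (by omega)
    exact DerivedCategory.TStructure.t.isGE_of_ge _ (q + 1) (q + 2) (by omega)

/-- base change of `Hom(K, ω[j])`, linear version -/
theorem nonempty_homEquiv (hω : Dual.IsDualizing A ω) (p : PrimeSpectrum A) (K : Dual.D A) (a : ℤ)
    [K.IsGE a] (hK : ∀ i, Module.Finite A (Dual.HD A K i)) (i : ℤ) :
    Nonempty (((Bl p) ⊗[A] F K ω (deg hω p - i)) ≃ₗ[Bl p]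
      F ((FD A (Bl p)).obj K) (Normalized.loc hω p) (-i)) := by
  let e : ((Bl p) ⊗[A] F K ω (deg hω p - i)) ≃+ ((FD A (Bl p)).obj K ⟶ (FD A (Bl p)).obj (ω⟦deg hω p - i⟧)) :=
    AddEquiv.ofBijective _ (bijAt hω p K a hK (deg hω p - i))
  have he : ∀ (c : Bl p) t, e (c • t) = c • e t := fun c t => by
    change LinBaseChange.β A (Bl p) (FD A (Bl p)) _ _ _ = c • LinBaseChange.β A (Bl p) (FD A (Bl p)) _ _ _
    induction t using TensorProduct.induction_on with
    | zero => rw [smul_zero, map_zero, smul_zero]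
    | tmul b g => rw [TensorProduct.smul_tmul', LinBaseChange.β_tmul, LinBaseChange.β_tmul, smul_smul,
        smul_eq_mul]
    | add x y hx hy => simp only [smul_add, map_add, hx, hy]
  exact ⟨(e.toLinearEquiv he).trans (Hom.congr (Bl p) (Iso.refl _)
    (FlatBC.shiftFD ω _ ≪≫ (shiftFunctorAdd' (Dual.D (Bl p)) (deg hω p) (-i) _ (by omega)).app _))⟩

/-- linear maps into the injective hull detect zero -/
theorem exists_dual_ne_zero {R : Type u} [CommRing R] [IsLocalRing R] {H : Type u} [AddCommGroup H] [Module R H]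
    {g : IsLocalRing.ResidueField R →ₗ[R] H} (hg : InjHull.IsInjectiveHull g)
    {M : Type (u + 1)} [AddCommGroup M] [Module R M] [Small.{u} M] {x : M} (hx : x ≠ 0) :
    ∃ φ : M →ₗ[R] H, φ x ≠ 0 := by
  have := hg.isInjective
  have hle : LinearMap.ker (LinearMap.toSpanSingleton R M x) ≤ IsLocalRing.maximalIdeal R := by
    refine IsLocalRing.le_maximalIdeal fun h => hx ?_
    have := (LinearMap.ker_eq_top.1 h)
    simpa using LinearMap.congr_fun this 1
  let π : (R ⧸ LinearMap.ker (LinearMap.toSpanSingleton R M x)) →ₗ[R] H :=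
    g.comp (Submodule.mapQ _ (IsLocalRing.maximalIdeal R) LinearMap.id hle)
  obtain ⟨φ, hφ⟩ := Module.Injective.extension_property R H _ _
    ((LinearMap.ker (LinearMap.toSpanSingleton R M x)).liftQ (LinearMap.toSpanSingleton R M x) le_rfl)
    (LinearMap.ker_eq_bot.mp (Submodule.ker_liftQ_eq_bot _ _ _ le_rfl)) π
  refine ⟨φ, fun h0 => ?_⟩
  have h1 := LinearMap.congr_fun hφ (Submodule.Quotient.mk 1)
  simp only [LinearMap.comp_apply, Submodule.liftQ_apply, LinearMap.toSpanSingleton_apply, one_smul, h0] at h1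
  have h2 := hg.injective (h1.symm.trans (map_zero g).symm)
  exact one_ne_zero (α := IsLocalRing.ResidueField R) h2

/-- `f` kills a dual iff it kills the module -/
theorem smul_dual_iff {R : Type u} [CommRing R] [IsLocalRing R] {H : Type u} [AddCommGroup H] [Module R H]
    {g : IsLocalRing.ResidueField R →ₗ[R] H} (hg : InjHull.IsInjectiveHull g)
    (M : Type (u + 1)) [AddCommGroup M] [Module R M] [Small.{u} M] (c : R) :
    (∀ φ : M →ₗ[R] H, c • φ = 0) ↔ ∀ x : M, c • x = 0 := by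
  refine ⟨fun h x => ?_, fun h φ => LinearMap.ext fun x => by
    rw [LinearMap.smul_apply, ← map_smul, h, map_zero, LinearMap.zero_apply]⟩
  by_contra hx
  obtain ⟨φ, hφ⟩ := exists_dual_ne_zero hg hx
  exact hφ (by rw [map_smul]; exact LinearMap.congr_fun (h φ) x)

omit [IsNoetherianRing A] in
theorem locKill_tensor_iff (p : PrimeSpectrum A) (M : Type (u + 1)) [AddCommGroup M] [Module A M] (f : A) :
    (∀ t : (Bl p) ⊗[A] M, algebraMap A (Bl p) f • t = 0) ↔
      ∀ x : M, ∃ u ∈ p.asIdeal.primeCompl, u • f • x = 0 := by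
  constructor
  · intro h x
    have := h (1 ⊗ₜ x)
    rw [algebraMap_smul, ← TensorProduct.tmul_smul] at this
    obtain ⟨⟨u, hu⟩, hux⟩ := (IsLocalizedModule.eq_zero_iff p.asIdeal.primeCompl
      (TensorProduct.mk A (Bl p) M 1)).1 this
    exact ⟨u, hu, hux⟩
  · intro h t
    induction t using TensorProduct.induction_on with
    | zero => exact smul_zero _
    | tmul b x =>
      obtain ⟨u, hu, hux⟩ := h x
      obtain ⟨v, hv⟩ := IsLocalization.map_units (Bl p) (⟨u, hu⟩ : p.asIdeal.primeCompl)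
      rw [algebraMap_smul, ← TensorProduct.tmul_smul]
      refine (v.isUnit.smul_eq_zero).1 ?_
      change (v : Bl p) • _ = (0 : (Bl p) ⊗[A] M)
      rw [hv, algebraMap_smul, ← TensorProduct.tmul_smul, hux, TensorProduct.tmul_zero]
    | add y z hy hz => rw [smul_add, hy, hz, add_zero]

theorem finite_F (hω : Dual.IsDualizing A ω) (K : Dual.D A) (hK : ∀ i, Module.Finite A (Dual.HD A K i))
    (j : ℤ) : Module.Finite A (F K ω j) := S1761.finite_hom hω K hK j

/-- killing the local cohomology of the stalk -/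
theorem kills_L_iff (hω : Dual.IsDualizing A ω) (p : PrimeSpectrum A) (K : Dual.D A) (a : ℤ)
    [K.IsGE a] (hK : ∀ i, Module.Finite A (Dual.HD A K i)) (i : ℤ) (c : Bl p) :
    (∀ x : TorsColim.L (IsLocalRing.maximalIdeal (Bl p)) (((FD A (Bl p)).obj K)⟦i⟧), c • x = 0) ↔
      ∀ t : (Bl p) ⊗[A] F K ω (deg hω p - i), c • t = 0 := by
  obtain ⟨H, _, _, g, hg⟩ := Groth.Agent.InjHull.Basic.exists_isInjectiveHull (Bl p) (IsLocalRing.ResidueField (Bl p))
  have hf : ∀ m, Module.Finite (Bl p) (Dual.HD (Bl p) ((FD A (Bl p)).obj K) m) := fun m =>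
    have := hK m
    BaseChange.finite_HD A (Bl p) K m
  obtain ⟨e⟩ := S1761.nonempty_duality (Normalized.isDualizing_loc hω p) (Normalized.isNormalized_loc hω p)
    hg ((FD A (Bl p)).obj K) hf i
  obtain ⟨e'⟩ := nonempty_homEquiv hω p K a hK i
  have : Module.Finite (Bl p) (F ((FD A (Bl p)).obj K) (Normalized.loc hω p) (-i)) :=
    finite_F (Normalized.isDualizing_loc hω p) _ hf (-i)
  have : Small.{u} (F ((FD A (Bl p)).obj K) (Normalized.loc hω p) (-i)) := Module.Finite.small (Bl p) _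
  have key := smul_dual_iff hg (F ((FD A (Bl p)).obj K) (Normalized.loc hω p) (-i)) c
  constructor
  · intro h t
    apply e'.injective
    rw [map_smul, map_zero]
    exact key.1 (fun φ => by rw [← e.apply_symm_apply φ, ← map_smul, h, map_zero]) _
  · intro h x
    apply e.injective
    rw [map_smul, map_zero]
    exact key.2 (fun y => by rw [← e'.apply_symm_apply y, ← map_smul, h, map_zero]) _

/-- killing at a point of the support -/
theorem locKill_iff (hω : Dual.IsDualizing A ω) (p : PrimeSpectrum A) (K : Dual.D A) (a : ℤ)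
    [K.IsGE a] (hK : ∀ i, Module.Finite A (Dual.HD A K i)) (i : ℤ) (f : A) :
    (∀ x : LT (PrimeSpectrum.zeroLocus (p.asIdeal : Set A)) (K⟦i⟧),
        ∃ u ∈ p.asIdeal.primeCompl, u • f • x = 0) ↔
      ∀ y : F K ω (deg hω p - i), ∃ u ∈ p.asIdeal.primeCompl, u • f • y = 0 := by
  rw [← locKill_congr, ← locKill_tensor_iff, ← locKill_tensor_iff, ← kills_L_iff hω p K a hK]
  have : DRing.HasLBaseChange (algebraMap A (Bl p)) := Groth.Agent.DRing.LTensor.hasLBaseChange _
  obtain ⟨h⟩ := HDIBaseChange.nonempty_baseChange (A := A) (B := Bl p) p.asIdeal (K⟦i⟧)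
  obtain ⟨h'⟩ := HDIBaseChange.nonempty_extendScalars_iso (A := A) (B := Bl p) (TorsColim.L p.asIdeal (K⟦i⟧))
  obtain ⟨h''⟩ := FlatBC.nonempty_LBaseChange (B := Bl p) (K⟦i⟧)
  rw [show p.asIdeal.map (algebraMap A (Bl p)) = IsLocalRing.maximalIdeal (Bl p) from
    IsLocalization.AtPrime.map_eq_maximalIdeal p.asIdeal (Bl p)] at h
  let e : TorsColim.L (IsLocalRing.maximalIdeal (Bl p)) (((FD A (Bl p)).obj K)⟦i⟧) ≃ₗ[Bl p]
      (Bl p) ⊗[A] TorsColim.L p.asIdeal (K⟦i⟧) :=
    (TorsColim.congr _ ((FlatBC.shiftFD K i).symm ≪≫ h''.symm)).trans (h ≪≫ h').toLinearEquiv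
  constructor
  · intro hh x
    exact e.injective (by rw [map_smul, hh, map_zero])
  · intro hh t
    rw [← e.apply_symm_apply t, ← map_smul, hh, map_zero]

/-- vanishing of the local cohomology of the stalk -/
theorem subsingleton_L_iff (hω : Dual.IsDualizing A ω) (p : PrimeSpectrum A) (K : Dual.D A) (a : ℤ)
    [K.IsGE a] (hK : ∀ i, Module.Finite A (Dual.HD A K i)) (i : ℤ) :
    Subsingleton (TorsColim.L (IsLocalRing.maximalIdeal (Bl p)) (((FD A (Bl p)).obj K)⟦i⟧)) ↔
      Z p (F K ω (deg hω p - i)) := by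
  have h1 : ∀ (R : Type u) (M : Type (u + 1)) [CommRing R] [AddCommGroup M] [Module R M],
      Subsingleton M ↔ ∀ x : M, (1 : R) • x = 0 := fun R M _ _ _ =>
    ⟨fun _ x => Subsingleton.elim _ _, fun h => subsingleton_of_forall_eq 0 fun x => by simpa using h x⟩
  rw [h1 (Bl p) (TorsColim.L (IsLocalRing.maximalIdeal (Bl p)) (((FD A (Bl p)).obj K)⟦i⟧)),
    kills_L_iff hω p K a hK i 1, Dimfun.Z_iff_tensor]
  exact (h1 (Bl p) ((Bl p) ⊗[A] F K ω (deg hω p - i))).symm

end Groth.Agent.LocCoh.AnnDual
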