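import Groth.Agent.LocCoh.AnnDual
import Mathlib.Data.Int.Interval

/-!
# The annihilator and finiteness theorems for cohomology with supports

* `finite_iff_annihilated`: finiteness against annihilation by an ideal in the support;
* `exists_annihilator_iff`: the annihilator theorem;
* `height_Ici`: heights in intervals of primes against `deg`.
-/

universe u

open CategoryTheory CategoryTheory.Limits DerivedCategory

attribute [local instance] HasDerivedCategory.standard

namespace Groth.Agent.LocCoh.AnnThm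

open Groth.Agent.DualCx
open Groth.Agent.DualCx.Dimfun (Z deg)
open Devissage (F)
open SuppGamma (LT Idx)
open SuppModel (Model)

variable {A : Type u} [CommRing A] [IsNoetherianRing A]

/-- finiteness against annihilation -/
theorem finite_iff_annihilated {K : Dual.D A} {a : ℤ}
    (hKa : ∀ i, i < a → Subsingleton (Dual.HD A K i)) (hK : ∀ i, Module.Finite A (Dual.HD A K i))
    (T : Set (PrimeSpectrum A)) (s : ℤ) :
    (∀ i, i ≤ s → Module.Finite A (LT T (K⟦i⟧))) ↔
      ∃ J : Ideal A, PrimeSpectrum.zeroLocus (J : Set A) ⊆ T ∧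
        ∀ i, i ≤ s → ∀ c ∈ J, ∀ x : LT T (K⟦i⟧), c • x = 0 := by
  obtain ⟨M⟩ := SuppModel.nonempty_model hKa
  constructor
  · intro h
    classical
    have key : ∀ i, ∃ J : Idx T, i ≤ s → ∀ c ∈ J.obj, ∀ x : LT T (K⟦i⟧), c • x = 0 := fun i => by
      by_cases hi : i ≤ s
      · have := h i hi
        obtain ⟨J, hJ⟩ := SuppModel.exists_kill_of_finite (T := T) (X := K⟦i⟧)
        exact ⟨J, fun _ => hJ⟩
      · exact ⟨Classical.arbitrary _, fun h' => absurd h' hi⟩
    choose J hJ using key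
    refine ⟨(Finset.Icc M.lo s).inf fun i => (J i).obj, fun p hp => ?_, fun i hi c hc x => ?_⟩
    · obtain ⟨i, -, hi⟩ := (Ideal.IsPrime.inf_le' p.2).1 hp
      exact (J i).property hi
    · by_cases hlo : i < M.lo
      · have := M.subsingleton_LT T i hlo
        exact Subsingleton.elim _ _
      · exact hJ i hi c ((Finset.inf_le (f := fun i => (J i).obj)
          (Finset.mem_Icc.2 ⟨not_lt.1 hlo, hi⟩) : _ ≤ (J i).obj) hc) x
  · rintro ⟨J, hJ, h⟩
    exact M.finite_of_kills hK hJ h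

theorem exists_ideal_kills_tors {T' : Set (PrimeSpectrum A)} (N : Type (u + 1)) [AddCommGroup N]
    [Module A N] [Module.Finite A N] :
    ∃ J : Ideal A, PrimeSpectrum.zeroLocus (J : Set A) ⊆ T' ∧ ∀ (y : N) (J' : Ideal A),
      PrimeSpectrum.zeroLocus (J' : Set A) ⊆ T' → (∀ c ∈ J', c • y = 0) → ∀ c ∈ J, c • y = 0 := by
  classical
  let t : Submodule A N :=
    { carrier := {y | ∃ J : Ideal A, PrimeSpectrum.zeroLocus (J : Set A) ⊆ T' ∧ ∀ c ∈ J, c • y = 0}
      zero_mem' := ⟨⊤, by simp [PrimeSpectrum.zeroLocus_univ], fun c _ => smul_zero c⟩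
      add_mem' := by
        rintro z z' ⟨J, hJ, hz⟩ ⟨J', hJ', hz'⟩
        refine ⟨J ⊓ J', ?_, fun c hc => by rw [smul_add, hz c hc.1, hz' c hc.2, add_zero]⟩
        rw [PrimeSpectrum.zeroLocus_inf]
        exact Set.union_subset hJ hJ'
      smul_mem' := by
        rintro a z ⟨J, hJ, hz⟩
        exact ⟨J, hJ, fun c hc => by rw [smul_comm, hz c hc, smul_zero]⟩ }
  obtain ⟨S, hS⟩ : t.FG := IsNoetherian.noetherian t
  choose J hJ hJy using fun y : S => (show y.1 ∈ t from hS ▸ Submodule.subset_span y.2)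
  refine ⟨Finset.univ.inf J, fun p hp => ?_, fun y J' hJ' hy c hc => ?_⟩
  · obtain ⟨y, -, hy⟩ := (Ideal.IsPrime.inf_le' p.2).1 hp
    exact hJ y hy
  · have hy' : y ∈ Submodule.span A (S : Set N) := hS.symm ▸ (⟨J', hJ', hy⟩ : y ∈ t)
    clear hy
    induction hy' using Submodule.span_induction with
    | mem z hz =>
      exact hJy ⟨z, hz⟩ c ((Finset.inf_le (f := J) (Finset.mem_univ (⟨z, hz⟩ : {a // a ∈ S}))) hc)
    | zero => exact smul_zero c
    | add y z _ _ iy iz => rw [smul_add, iy, iz, add_zero]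
    | smul a y _ iy => rw [smul_comm, iy, smul_zero]

variable {ω : Dual.D A}

/-- localised vanishing gives a killing ideal -/
theorem exists_smul_mem_tors {T' : Set (PrimeSpectrum A)} (hT' : StableUnderSpecialization T')
    {N : Type (u + 1)} [AddCommGroup N] [Module A N] (q : PrimeSpectrum A)
    (h : ∀ p : PrimeSpectrum A, p ≤ q → p ∉ T' → Z p N) (y : N) :
    ∃ u ∉ q.asIdeal, ∃ J : Ideal A, PrimeSpectrum.zeroLocus (J : Set A) ⊆ T' ∧
      ∀ c ∈ J, c • u • y = 0 := by
  classical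
  let 𝔞 : Ideal A := LinearMap.ker (LinearMap.toSpanSingleton A N y)
  have hfin := 𝔞.finite_minimalPrimes_of_isNoetherianRing A
  let S₁ : Finset (Ideal A) := hfin.toFinset.filter fun P => P ≤ q.asIdeal
  let S₂ : Finset (Ideal A) := hfin.toFinset.filter fun P => ¬ P ≤ q.asIdeal
  obtain ⟨v, hv, hvq⟩ : ∃ v ∈ S₂.inf id, v ∉ q.asIdeal := SetLike.not_le_iff_exists.1 fun hle => by
    obtain ⟨P, hP, hPq⟩ := (Ideal.IsPrime.inf_le' q.2).1 hle
    exact (Finset.mem_filter.1 hP).2 hPq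
  have hrad : Ideal.span {v} * S₁.inf id ≤ 𝔞.radical := by
    rw [← Ideal.sInf_minimalPrimes]
    refine le_sInf fun P hP => ?_
    have hP' := hfin.mem_toFinset.2 hP
    by_cases hPq : P ≤ q.asIdeal
    · exact Ideal.mul_le_right.trans (Finset.inf_le (f := id) (Finset.mem_filter.2 ⟨hP', hPq⟩))
    · exact Ideal.mul_le_left.trans ((Ideal.span_singleton_le_iff_mem _).2
        ((Finset.inf_le (f := id) (Finset.mem_filter.2 ⟨hP', hPq⟩)) hv))
  obtain ⟨m, hm⟩ := Ideal.exists_pow_le_of_le_radical_of_fg_radical hrad (IsNoetherian.noetherian _)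
  rw [mul_pow, Ideal.span_singleton_pow] at hm
  refine ⟨v ^ m, fun h' => hvq (q.2.mem_of_pow_mem m h'), (S₁.inf id) ^ (m + 1), ?_, fun c hc => ?_⟩
  · rw [PrimeSpectrum.zeroLocus_pow _ m.succ_ne_zero]
    intro p hp
    obtain ⟨P, hP, hPp⟩ := (Ideal.IsPrime.inf_le' p.2).1 hp
    obtain ⟨hP₁, hPq⟩ := Finset.mem_filter.1 hP
    have hPm := hfin.mem_toFinset.1 hP₁
    let P' : PrimeSpectrum A := ⟨P, hPm.1.1⟩
    have hPT : P' ∈ T' := by
      by_contra hne
      obtain ⟨u, hu, huy⟩ := h P' hPq hne y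
      exact hu (hPm.1.2 huy)
    exact hT' ((PrimeSpectrum.le_iff_specializes P' p).1 (show P' ≤ p from hPp)) hPT
  · rw [smul_smul, mul_comm]
    exact hm (Ideal.mul_mem_mul (Ideal.mem_span_singleton_self _) (Ideal.pow_le_pow_right m.le_succ hc))

/-- the annihilator theorem -/
theorem exists_annihilator_iff (hω : Dual.IsDualizing A ω) {T T' : Set (PrimeSpectrum A)}
    (hT : StableUnderSpecialization T) (hT' : StableUnderSpecialization T')
    {K : Dual.D A} {a : ℤ} (hKa : ∀ i, i < a → Subsingleton (Dual.HD A K i))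
    (hK : ∀ i, Module.Finite A (Dual.HD A K i)) (s : ℤ) :
    (∃ J : Ideal A, PrimeSpectrum.zeroLocus (J : Set A) ⊆ T' ∧
        ∀ i, i ≤ s → ∀ c ∈ J, ∀ x : LT T (K⟦i⟧), c • x = 0) ↔
      ∀ p : PrimeSpectrum A, p ∉ T' → ∀ q ∈ T, p ≤ q → ∀ j, deg hω q - s ≤ j → Z p (F K ω j) := by
  classical
  obtain ⟨M⟩ := SuppModel.nonempty_model hKa
  have hge : K.IsGE a := (DerivedCategory.isGE_iff K a).mpr fun i hi =>
    (DRing.DBasic.subsingleton_HD_iff_isZero K i).mp (hKa i hi)
  constructor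
  · rintro ⟨J, hJ, hk⟩ p hp q hq hpq j hj
    obtain ⟨f, hfJ, hfp⟩ := SetLike.not_le_iff_exists.1 fun hle : J ≤ p.asIdeal => hp (hJ hle)
    have hsub : PrimeSpectrum.zeroLocus (q.asIdeal : Set A) ⊆ T := fun r hr =>
      hT ((PrimeSpectrum.le_iff_specializes q r).1 (show q ≤ r from hr)) hq
    obtain ⟨n, hn⟩ := M.kills_of_subset hsub (f := f) (fun i hi x => hk i hi f hfJ x)
      (deg hω q - j) (by omega)
    have h2 := (AnnDual.locKill_iff hω q K a hK (deg hω q - j) (f ^ n)).1 fun x =>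
      ⟨1, q.asIdeal.primeCompl.one_mem, by rw [hn, smul_zero]⟩
    rw [sub_sub_cancel] at h2
    intro y
    obtain ⟨u, hu, huy⟩ := h2 y
    refine ⟨u * f ^ n, fun hmem => ?_, by rw [mul_smul, huy]⟩
    exact (p.2.mem_or_mem hmem).elim (fun h => hu (hpq h)) fun h => hfp (p.2.mem_of_pow_mem n h)
  · intro h
    obtain ⟨lo, hi', hdeg⟩ := Dimfun.deg_bounds hω
    obtain ⟨c, d, hcd⟩ := hω.finite_injective_dimension
    have hamp := DRing.InjAmp.hasInjAmplitudeIn_of_vanishing (a := c) (b := d) fun J i hi => hcd (A ⧸ J) i hi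
    have key : ∀ j : ℤ, ∃ J : Ideal A, PrimeSpectrum.zeroLocus (J : Set A) ⊆ T' ∧
        ∀ q ∈ T, deg hω q - s ≤ j → ∀ y : F K ω j, ∃ u ∈ q.asIdeal.primeCompl, ∀ c ∈ J, u • c • y = 0 := by
      intro j
      have := AnnDual.finite_F hω K hK j
      obtain ⟨J, hJ, hJy⟩ := exists_ideal_kills_tors (T' := T') (F K ω j)
      refine ⟨J, hJ, fun q hq hqj y => ?_⟩
      obtain ⟨u, hu, J', hJ', hJ'y⟩ := exists_smul_mem_tors hT' q (fun p hpq hp => h p hp q hq hpq j hqj) y
      exact ⟨u, hu, fun c hc => by rw [smul_comm]; exact hJy (u • y) J' hJ' hJ'y c hc⟩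
    choose J hJ hJy using key
    let R : Finset ℤ := Finset.Icc (lo - s) (d - a)
    let J₀ : Ideal A := R.inf J
    have hJ₀ : PrimeSpectrum.zeroLocus (J₀ : Set A) ⊆ T' := fun p hp => by
      obtain ⟨j, -, hj⟩ := (Ideal.IsPrime.inf_le' p.2).1 hp
      exact hJ j hj
    let k : ℕ := (hi' - lo + 1).toNat + 1
    refine ⟨Ideal.span ((fun c => c ^ k) '' (J₀ : Set A)), fun p hp => hJ₀ fun c hc =>
      p.2.mem_of_pow_mem k (hp (Ideal.subset_span ⟨c, hc, rfl⟩)), fun i hi c hc x => ?_⟩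
    induction hc using Submodule.span_induction with
    | mem c' hc' =>
      obtain ⟨f, hf, rfl⟩ := hc'
      refine M.kills_of_local (deg hω) (fun p q hpq => Dimfun.deg_lt hω hpq) (lo := lo) (k := k)
        (fun p _ => ⟨(hdeg p).1, by have := (hdeg p).2; omega⟩) (f := f) (fun q hq => ?_) x
      refine fun x => (AnnDual.locKill_iff hω q K a hK i f).2 (fun y => ?_) x
      by_cases hjd : deg hω q - i ≤ d - a
      · obtain ⟨u, hu, huy⟩ := hJy (deg hω q - i) q hq (by omega) y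
        have hmem : deg hω q - i ∈ R := Finset.mem_Icc.2 ⟨by have := (hdeg q).1; omega, hjd⟩
        exact ⟨u, hu, huy f ((Finset.inf_le (f := J) hmem : J₀ ≤ J (deg hω q - i)) hf)⟩
      · have : Subsingleton (F K ω (deg hω q - i)) :=
          LocalGlobal.subsingleton_hom_injRep hamp K a _ (by omega)
        exact ⟨1, q.asIdeal.primeCompl.one_mem, Subsingleton.elim _ _⟩
    | zero => exact zero_smul A x
    | add y z _ _ iy iz => rw [add_smul, iy, iz, add_zero]
    | smul b y _ iy => rw [smul_eq_mul, mul_smul, iy, smul_zero]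

/-- the finiteness theorem -/
theorem finite_iff (hω : Dual.IsDualizing A ω) {T : Set (PrimeSpectrum A)}
    (hT : StableUnderSpecialization T) {K : Dual.D A} {a : ℤ}
    (hKa : ∀ i, i < a → Subsingleton (Dual.HD A K i))
    (hK : ∀ i, Module.Finite A (Dual.HD A K i)) (s : ℤ) :
    (∀ i, i ≤ s → Module.Finite A (LT T (K⟦i⟧))) ↔
      ∀ p : PrimeSpectrum A, p ∉ T → ∀ q ∈ T, p ≤ q → ∀ j, deg hω q - s ≤ j → Z p (F K ω j) :=
  (finite_iff_annihilated hKa hK T s).trans (exists_annihilator_iff hω hT hT hKa hK s)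

/-- heights in intervals of primes -/
theorem height_Ici (hω : Dual.IsDualizing A ω) {p q : PrimeSpectrum A} (hpq : p ≤ q) :
    Order.height (⟨q, hpq⟩ : Set.Ici p) = ((deg hω q - deg hω p).toNat : ℕ∞) := by
  have hmono : ∀ r : Set.Ici p, deg hω p ≤ deg hω r.1 := fun r => by
    rcases eq_or_lt_of_le (show p ≤ r.1 from r.2) with h | h
    · exact (congrArg (deg hω) h).le
    · exact (Dimfun.deg_lt hω h).le
  refine le_antisymm ?_ ?_
  · refine (Order.height_le_height_apply_of_strictMono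
      (fun r : Set.Ici p => (deg hω r.1 - deg hω p).toNat) (fun x y hxy => ?_) _).trans
      (Order.height_nat _).le
    have := Dimfun.deg_lt hω (show x.1 < y.1 from hxy)
    have := hmono x
    change (_ : ℤ).toNat < (_ : ℤ).toNat
    omega
  · suffices ∀ (n : ℕ) (r : Set.Ici p), deg hω r.1 - deg hω p = n → (n : ℕ∞) ≤ Order.height r from
      this _ ⟨q, hpq⟩ (Int.toNat_of_nonneg (sub_nonneg.2 (hmono ⟨q, hpq⟩))).symm
    intro n
    induction n with
    | zero => exact fun _ _ => by simp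
    | succ n ih =>
      intro r hr
      have hpr : p < r.1 := lt_of_le_of_ne r.2 fun h => by rw [show deg hω p = deg hω r.1 from congrArg (deg hω) h] at hr; omega
      obtain ⟨b, ⟨hb1, hb2⟩, hbmax⟩ := WellFounded.has_min
        (InvImage.wf (fun x : PrimeSpectrum A => x.asIdeal) (wellFounded_gt (α := Ideal A)))
        {b | p ≤ b ∧ b < r.1} ⟨p, le_rfl, hpr⟩
      have hcov : b ⋖ r.1 := ⟨hb2, fun c hbc hcr => hbmax c ⟨hb1.trans hbc.le, hcr⟩ hbc⟩
      have h1 := ih ⟨b, hb1⟩ (by have := Dimfun.deg_covBy hω hcov; push_cast at hr; simp only; omega)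
      refine le_trans ?_ (Order.height_add_one_le (show (⟨b, hb1⟩ : Set.Ici p) < r from hb2))
      rw [Nat.cast_succ]
      exact add_le_add_left h1 1

end Groth.Agent.LocCoh.AnnThm
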