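import Groth.Agent.S1812
import Groth.Agent.LocCoh.GreenleesMay
import Groth.Agent.DRing.LTensor
import Groth.Agent.DRing.DerivedAdj
import Groth.Agent.DRing.FlatBCModule

/-!
# Derived base change of `RΓ_I`
-/

universe u

open CategoryTheory CategoryTheory.Limits CategoryTheory.Pretriangulated DerivedCategory

attribute [local instance] HasDerivedCategory.standard

namespace Groth.Agent.LocCoh.BCGamma

open scoped ZeroObject
open Groth.Agent.DRing Groth.Agent.DRing.Homology Groth.Agent.DRing.DBasic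
open Completion (IsBij CxBij)
open RGamma (GC inc)

section Vanish

variable {A : Type u} [CommRing A] (I : Ideal A) [DRing.HasRgammaI I]

theorem isZero_RgammaI_of_isIso_smul (hI : I.FG) {f : A} (hf : f ∈ I) (Z : Dual.D A)
    (hZ : IsIso (f • 𝟙 Z)) : IsZero ((DRing.RgammaI I).obj Z) := by
  refine Devissage.isZero_of_subsingleton_HD fun q => ?_
  obtain ⟨e⟩ := Groth.Agent.S1812.result A I hI Z q
  have hshift : ∀ n : ℕ, IsIso (f ^ n • 𝟙 ((shiftFunctor (Dual.D A) q).obj Z)) := fun n => by
    have hn : IsIso (f ^ n • 𝟙 Z) := by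
      induction n with
      | zero => rw [pow_zero, one_smul]; infer_instance
      | succ n ih =>
        have : f ^ (n + 1) • 𝟙 Z = (f ^ n • 𝟙 Z) ≫ (f • 𝟙 Z) := by
          rw [Linear.smul_comp, Category.id_comp, ← mul_smul, pow_succ]
        rw [this]; infer_instance
    rw [← CategoryTheory.Functor.map_id, ← Functor.map_smul]
    infer_instance
  have : Subsingleton (DualCx.TorsColim.L I ((shiftFunctor (Dual.D A) q).obj Z)) :=
    subsingleton_of_forall_eq 0 fun x => by
      obtain ⟨n, φ, rfl⟩ := DualCx.TorsColim.exists_rep I x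
      have := hshift n
      have h0 : φ = 0 := by
        rw [← cancel_mono (f ^ n • 𝟙 ((shiftFunctor (Dual.D A) q).obj Z)), zero_comp, Linear.comp_smul,
          Category.comp_id]
        have h := congrArg (· ≫ φ) (DualCx.TorsColim.pow_smul_qD I (Ideal.pow_mem_pow hf n))
        rw [Linear.smul_comp, Category.id_comp, Limits.zero_comp] at h
        exact h
      rw [h0, map_zero]
  exact e.toEquiv.subsingleton_congr.2 this

theorem hom_eq_zero [IsNoetherianRing A] {T Z : Dual.D A}
    (hT : ∀ i, _root_.LocCoh.IsPowerTorsion I (Dual.HD A T i)) (hZ : IsZero ((DRing.RgammaI I).obj Z))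
    (z : T ⟶ Z) : z = 0 := by
  have := RGamma.isIso_ε I T hT
  have h := (DRing.RgammaIε I).naturality z
  rw [hZ.eq_of_tgt ((DRing.RgammaI I).map z) 0, zero_comp] at h
  rw [← cancel_epi ((DRing.RgammaIε I).app T), comp_zero]
  exact h.symm

end Vanish

variable {A B : Type u} [CommRing A] [CommRing B] [IsNoetherianRing A] [IsNoetherianRing B] (φ : A →+* B)
  [DRing.HasLBaseChange φ] (J : Ideal B) [DRing.HasRgammaI J]

/-- `T` has `J`-torsion cohomology -/
abbrev Tors (T : Dual.D B) : Prop := ∀ i, _root_.LocCoh.IsPowerTorsion J (Dual.HD B T i)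

/-- postcomposition with `g` is bijective out of torsion objects -/
def TBij {X Y : Dual.D B} (g : X ⟶ Y) : Prop :=
  ∀ T : Dual.D B, Tors J T → Function.Bijective fun x : T ⟶ X => x ≫ g

omit [IsNoetherianRing B] [DRing.HasRgammaI J] in
theorem TBij.comp {X Y Z : Dual.D B} {g : X ⟶ Y} {h : Y ⟶ Z} (hg : TBij J g) (hh : TBij J h) :
    TBij J (g ≫ h) := fun T hT => by
  have := (hh T hT).comp (hg T hT)
  convert this using 1
  funext x
  exact (Category.assoc x g h).symm

theorem tbij_of_cone {T : Triangle (Dual.D B)} (hT : T ∈ distinguishedTriangles)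
    (h : IsZero ((DRing.RgammaI J).obj T.obj₃))
    (h' : IsZero ((DRing.RgammaI J).obj ((shiftFunctor (Dual.D B) (-1 : ℤ)).obj T.obj₃))) :
    TBij J T.mor₁ := by
  intro X hX
  refine ⟨fun x x' hxx => sub_eq_zero.1 ?_, fun y => ?_⟩
  · obtain ⟨k, hk⟩ := Triangle.coyoneda_exact₂ _ (inv_rot_of_distTriang _ hT) (x - x') (by
      change (x - x') ≫ T.mor₁ = 0
      rw [Preadditive.sub_comp, sub_eq_zero]
      exact hxx)
    exact hk.trans ((congrArg (· ≫ _) (hom_eq_zero J hX h' k)).trans zero_comp)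
  · obtain ⟨x, hx⟩ := Triangle.coyoneda_exact₂ _ hT y (hom_eq_zero J hX h _)
    exact ⟨x, hx.symm⟩

omit [IsNoetherianRing A] [IsNoetherianRing B] [DRing.HasLBaseChange φ] [DRing.HasRgammaI J] in
theorem ext_map_smul (a : A) (P : DRing.Cx A) :
    (LTensor.extCx φ).map (a • 𝟙 P) = φ a • 𝟙 ((LTensor.extCx φ).obj P) := by
  refine HomologicalComplex.Hom.ext (funext fun i => ModuleCat.ExtendScalars.hom_ext fun x => ?_)
  exact ((ModuleCat.extendRestrictScalarsAdj.{u} φ).unit.app (P.X i)).hom.map_smul a x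

omit [IsNoetherianRing A] in
/-- one step: a map with a cone on which `f` is bijective -/
theorem tbij_LBC {f : A} (hf : φ f ∈ J) {T : Triangle (Dual.D A)} (hT : T ∈ distinguishedTriangles)
    (hf3 : IsIso (f • 𝟙 T.obj₃)) : TBij J ((DRing.LBaseChange φ).map T.mor₁) := by
  obtain ⟨P₁, hP₁, -, ⟨e₁⟩⟩ := exists_kproj_iso T.obj₁
  obtain ⟨P₂, hP₂, -, ⟨e₂⟩⟩ := exists_kproj_iso T.obj₂
  obtain ⟨g, hg⟩ := exists_Q_map_eq (P := P₁) (L := P₂) (e₁.hom ≫ T.mor₁ ≫ e₂.inv)
  let C := CochainComplex.mappingCone g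
  have hC : KFlat.IsKFlat C :=
    ((KFlat.mappingCone_two_of_three g).1 (KFlat.isKFlat_of_isKProjective P₁)
      (KFlat.isKFlat_of_isKProjective P₂))
  let τ := isoTriangleOfIso₁₂ _ _ (mappingCone_triangle_distinguished g) hT e₁ e₂ (by
    change Q.map g ≫ e₂.hom = e₁.hom ≫ T.mor₁
    rw [hg]
    simp)
  have hqis : QuasiIso (f • 𝟙 C) := by
    rw [← isIso_Q_map_iff_quasiIso, (Q (C := ModuleCat.{u} A)).map_smul, CategoryTheory.Functor.map_id]
    let e₃ : DRing.toD C ≅ T.obj₃ := Triangle.π₃.mapIso τ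
    have : f • 𝟙 (DRing.toD C) = e₃.hom ≫ (f • 𝟙 T.obj₃) ≫ e₃.inv := by simp
    rw [this]
    infer_instance
  have hqB : IsIso (Q.map ((LTensor.extCx φ).map (f • 𝟙 C))) := by
    have := SingleTensor.quasiIso_extendScalars φ (f • 𝟙 C) hC hC
    infer_instance
  have hiso : IsIso (φ f • 𝟙 (DRing.toD ((LTensor.extCx φ).obj C))) := by
    rw [ext_map_smul, (Q (C := ModuleCat.{u} B)).map_smul, CategoryTheory.Functor.map_id] at hqB
    exact hqB
  let c : DRing.toD (CochainComplex.mappingCone ((LTensor.extCx φ).map g)) ≅ DRing.toD ((LTensor.extCx φ).obj C) :=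
    (Q.mapIso (CochainComplex.mappingCone.mapHomologicalComplexIso g _)).symm
  have hiso' : IsIso (φ f • 𝟙 (DRing.toD (CochainComplex.mappingCone ((LTensor.extCx φ).map g)))) := by
    have : φ f • 𝟙 (DRing.toD (CochainComplex.mappingCone ((LTensor.extCx φ).map g))) =
        c.hom ≫ (φ f • 𝟙 _) ≫ c.inv := by simp
    rw [this]
    infer_instance
  have hiso'' : IsIso (φ f • 𝟙 ((shiftFunctor (Dual.D B) (-1 : ℤ)).obj
      (DRing.toD (CochainComplex.mappingCone ((LTensor.extCx φ).map g))))) := by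
    rw [← CategoryTheory.Functor.map_id, ← Functor.map_smul]
    infer_instance
  have hb := tbij_of_cone J (mappingCone_triangle_distinguished ((LTensor.extCx φ).map g))
    (isZero_RgammaI_of_isIso_smul J (IsNoetherian.noetherian J) hf _ hiso')
    (isZero_RgammaI_of_isIso_smul J (IsNoetherian.noetherian J) hf _ hiso'')
  -- transport
  let ψ₁ := Perfect.baseChangeIsoOfRep φ (KFlat.isKFlat_of_isKProjective P₁) e₁
  let ψ₂ := Perfect.baseChangeIsoOfRep φ (KFlat.isKFlat_of_isKProjective P₂) e₂
  have hnat : (DRing.LBaseChange φ).map T.mor₁ = ψ₁.inv ≫ Q.map ((LTensor.extCx φ).map g) ≫ ψ₂.hom := by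
    have hn := LTensor.toTerm_natural (ModuleCat.extendScalars.{u, u, u} φ) g
    rw [hg] at hn
    have : IsIso (LTensor.toTerm (ModuleCat.extendScalars.{u, u, u} φ) P₂) :=
      LTensor.isIso_toTerm_LBaseChange φ (KFlat.isKFlat_of_isKProjective P₂)
    have : IsIso (LTensor.toTerm (ModuleCat.extendScalars.{u, u, u} φ) P₁) :=
      LTensor.isIso_toTerm_LBaseChange φ (KFlat.isKFlat_of_isKProjective P₁)
    change _ = ((DRing.LBaseChange φ).map e₁.inv ≫ LTensor.toTerm _ P₁) ≫ Q.map ((LTensor.extCx φ).map g) ≫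
      inv (LTensor.toTerm _ P₂) ≫ (DRing.LBaseChange φ).map e₂.hom
    rw [Category.assoc, ← reassoc_of% hn, IsIso.hom_inv_id_assoc, ← Functor.map_comp, ← Functor.map_comp]
    simp
  intro X hX
  have := (hb X hX)
  rw [hnat]
  have h2 := (ψ₂.homToEquiv (Z := X)).bijective.comp (this.comp (ψ₁.symm.homToEquiv (Z := X)).bijective)
  convert h2 using 1
  funext x
  exact (Category.assoc _ _ _).symm.trans (Category.assoc _ _ _).symm

omit [IsNoetherianRing B] [DRing.HasRgammaI J] in
/-- the localised map -/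
noncomputable def mapLoc (g : B) {M N : ModuleCat.{u} B} (h : M ⟶ N) :
    LocalizedModule (Submonoid.powers g) M →ₗ[B] LocalizedModule (Submonoid.powers g) N :=
  IsLocalizedModule.map (Submonoid.powers g)
    (LocalizedModule.mkLinearMap (Submonoid.powers g) M) (LocalizedModule.mkLinearMap (Submonoid.powers g) N) h.hom

omit [IsNoetherianRing B] in
theorem mapLoc_mk (g : B) {M N : ModuleCat.{u} B} (h : M ⟶ N) (x : M) (s : Submonoid.powers g) :
    mapLoc g h (LocalizedModule.mk x s) = LocalizedModule.mk (h.hom x) s := by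
  rw [mapLoc, IsLocalizedModule.mk_eq_mk', IsLocalizedModule.map_mk', ← IsLocalizedModule.mk_eq_mk']

/-- localisation at the powers of `g` -/
noncomputable def locF (g : B) : ModuleCat.{u} B ⥤ ModuleCat.{u} B where
  obj M := ModuleCat.of B (LocalizedModule (Submonoid.powers g) M)
  map h := ModuleCat.ofHom (mapLoc g h)
  map_id M := ModuleCat.hom_ext (LinearMap.ext fun x => x.induction_on fun m t => mapLoc_mk g (𝟙 M) m t)
  map_comp h k := ModuleCat.hom_ext (LinearMap.ext fun x => x.induction_on fun m t =>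
    (mapLoc_mk g (h ≫ k) m t).trans (((congrArg (mapLoc g k) (mapLoc_mk g h m t)).trans (mapLoc_mk g k _ t)).symm))

instance (g : B) : (locF g).Additive where
  map_add {M N h k} := ModuleCat.hom_ext (map_add (IsLocalizedModule.map (Submonoid.powers g)
    (LocalizedModule.mkLinearMap (Submonoid.powers g) M) (LocalizedModule.mkLinearMap (Submonoid.powers g) N)) h.hom k.hom)

/-- the localisation map of complexes -/
noncomputable def toLoc (g : B) (R : DRing.Cx B) :
    R ⟶ ((locF g).mapHomologicalComplex (ComplexShape.up ℤ)).obj R where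
  f j := ModuleCat.ofHom (LocalizedModule.mkLinearMap (Submonoid.powers g) (R.X j))
  comm' j k _ := ModuleCat.hom_ext (LinearMap.ext fun y => mapLoc_mk g (R.d j k) y 1)

omit [IsNoetherianRing B] [DRing.HasRgammaI J] in
theorem exists_pow_le_of_forall {M : Type u} [AddCommGroup M] [Module B M] [IsNoetherianRing B] (x : M)
    {K : Ideal B} (hJK : J ≤ K.radical) (hK : K ≤ (Ideal.torsionOf B M x).radical) :
    ∃ n : ℕ, ∀ c ∈ J ^ n, c • x = 0 := by
  obtain ⟨n, hn⟩ := Ideal.exists_pow_le_of_le_radical_of_fg (hJK.trans ((Ideal.radical_mono hK).trans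
    (Ideal.radical_idem _).le)) (IsNoetherian.noetherian J)
  exact ⟨n, fun c hc => hn hc⟩

omit [IsNoetherianRing B] [DRing.HasRgammaI J] in
theorem exists_pow_smul_of_toLoc (g : B) (R : DRing.Cx B) (i : ℤ)
    (h : HomologicalComplex.homologyMap (toLoc g R) i = 0) (x : R.homology i) : ∃ k : ℕ, g ^ k • x = 0 := by
  obtain ⟨z, hz, rfl⟩ := cls_surjective x
  have h0 : cls (((toLoc g R).f i).hom z) (isCyc_map (toLoc g R) hz) = 0 := by
    rw [← homologyMap_cls (toLoc g R) hz, h]
    rfl
  obtain ⟨w, hw⟩ := (cls_eq_zero_iff (i - 1) (by omega) _).1 h0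
  obtain ⟨y, s, rfl⟩ : ∃ (y : R.X (i - 1)) (s : Submonoid.powers g), LocalizedModule.mk y s = w :=
    (w : LocalizedModule (Submonoid.powers g) (R.X (i - 1))).induction_on fun y s => ⟨y, s, rfl⟩
  replace hw : (LocalizedModule.mk ((R.d (i - 1) i).hom y) s : LocalizedModule (Submonoid.powers g) (R.X i)) =
      LocalizedModule.mk z 1 := (mapLoc_mk g (R.d (i - 1) i) y s).symm.trans hw
  obtain ⟨t, ht⟩ := LocalizedModule.mk_eq.1 hw
  obtain ⟨k, hk⟩ := (Submonoid.powers g).mul_mem t.2 s.2
  refine ⟨k, ?_⟩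
  rw [← cls_smul hz, cls_eq_zero_iff (i - 1) (by omega)]
  refine ⟨(t : B) • y, ?_⟩
  rw [map_smul]
  simp only [one_smul, Submonoid.smul_def] at ht
  rw [show g ^ k = (t : B) * s from hk, mul_smul]
  exact ht

omit [DRing.HasRgammaI J] in
theorem torsion_LBC {I : Ideal A} [DRing.HasRgammaI I] (hrad : J ≤ (I.map φ).radical) {X : Dual.D A}
    (hX : ∀ i, _root_.LocCoh.IsPowerTorsion I (Dual.HD A X i)) : Tors J ((DRing.LBaseChange φ).obj X) := by
  obtain ⟨P, hP, -, ⟨e⟩⟩ := exists_kproj_iso X
  let R := (LTensor.extCx φ).obj P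
  have hR : ∀ i, _root_.LocCoh.IsPowerTorsion J (R.homology i) := by
    intro i x
    refine exists_pow_le_of_forall J x hrad (Ideal.map_le_iff_le_comap.2 fun f hf => ?_)
    obtain ⟨z, hz, rfl⟩ := cls_surjective x
    let Y := ((locF (φ f)).mapHomologicalComplex (ComplexShape.up ℤ)).obj R
    let v : R ⟶ Y := toLoc (φ f) R
    let adj := ModuleCat.extendRestrictScalarsAdj.{u} φ
    let v' : P ⟶ ((ModuleCat.restrictScalars.{u} φ).mapHomologicalComplex (ComplexShape.up ℤ)).obj Y :=
      { f := fun j => adj.homEquiv _ _ (v.f j)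
        comm' := fun j k _ => by
          exact (adj.homEquiv_naturality_right (v.f j) (Y.d j k)).symm.trans
            ((congrArg (adj.homEquiv _ _) (v.comm j k)).trans (adj.homEquiv_naturality_left (P.d j k) (v.f k))) }
    have hbij : IsIso (f • 𝟙 (DRing.toD (((ModuleCat.restrictScalars.{u} φ).mapHomologicalComplex
        (ComplexShape.up ℤ)).obj Y))) := by
      rw [← CategoryTheory.Functor.map_id, ← Functor.map_smul]
      have : ∀ j, IsIso ((f • 𝟙 (((ModuleCat.restrictScalars.{u} φ).mapHomologicalComplex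
          (ComplexShape.up ℤ)).obj Y)).f j) := fun j =>
        (ConcreteCategory.isIso_iff_bijective _).2 ((Module.End.isUnit_iff _).1
          (IsLocalizedModule.map_units (LocalizedModule.mkLinearMap (Submonoid.powers (φ f)) (R.X j))
            ⟨φ f, Submonoid.mem_powers _⟩))
      have : IsIso (f • 𝟙 (((ModuleCat.restrictScalars.{u} φ).mapHomologicalComplex
          (ComplexShape.up ℤ)).obj Y)) := HomologicalComplex.Hom.isIso_of_components _
      infer_instance
    have hv' : Q.map v' = 0 := hom_eq_zero I (fun j x => by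
        let ψ := ((HF j).mapIso e).toLinearEquiv
        obtain ⟨n, hn⟩ := hX j (ψ x)
        exact ⟨n, fun c hc => ψ.injective (by rw [map_smul, hn c hc, map_zero])⟩)
      (isZero_RgammaI_of_isIso_smul I (IsNoetherian.noetherian I) hf _ hbij) _
    obtain ⟨h⟩ := (Q_map_eq_iff v' 0).1 (hv'.trans (Functor.map_zero _ _ _).symm)
    let ε : (LTensor.extCx φ).obj (((ModuleCat.restrictScalars.{u} φ).mapHomologicalComplex
        (ComplexShape.up ℤ)).obj Y) ⟶ Y :=
      { f := fun j => adj.counit.app (Y.X j)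
        comm' := fun j k _ => (adj.counit.naturality (Y.d j k)).symm }
    have hv : v = (LTensor.extCx φ).map v' ≫ ε := HomologicalComplex.Hom.ext (funext fun j =>
      ((adj.homEquiv _ _).symm_apply_apply (v.f j)).symm.trans (adj.homEquiv_counit ..))
    have hh : HomologicalComplex.homologyMap v i = 0 := by
      rw [hv, HomologicalComplex.homologyMap_comp,
        ((ModuleCat.extendScalars.{u, u, u} φ).mapHomotopy h).homologyMap_eq i, Functor.map_zero,
        HomologicalComplex.homologyMap_zero, zero_comp]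
    obtain ⟨k, hk⟩ := exists_pow_smul_of_toLoc (φ f) R i hh (cls z hz)
    exact ⟨k, (Ideal.mem_torsionOf_iff _ _).2 hk⟩
  let ψ := Perfect.baseChangeIsoOfRep φ (KFlat.isKFlat_of_isKProjective P) e
  intro i x
  let χ := (((HF i).mapIso ψ).symm ≪≫ hIso R i).toLinearEquiv
  obtain ⟨n, hn⟩ := hR i (χ x)
  exact ⟨n, fun c hc => χ.injective (by rw [map_smul, hn c hc, map_zero])⟩

theorem nonempty_iso_of_tbij {X Y : Dual.D B} (g : X ⟶ Y) (hX : Tors J X) (hg : TBij J g) :
    Nonempty (X ≅ (DRing.RgammaI J).obj Y) := by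
  have := RGamma.isIso_ε J X hX
  let a : X ⟶ (DRing.RgammaI J).obj Y := inv ((DRing.RgammaIε J).app X) ≫ (DRing.RgammaI J).map g
  have ha : a ≫ (DRing.RgammaIε J).app Y = g := by
    rw [Category.assoc, (DRing.RgammaIε J).naturality, IsIso.inv_hom_id_assoc]
    rfl
  have hT : Tors J ((DRing.RgammaI J).obj Y) := fun i => RGamma.HD_RgammaI_torsion J Y i
  obtain ⟨b, hb⟩ := (hg _ hT).2 ((DRing.RgammaIε J).app Y)
  change b ≫ g = _ at hb
  refine ⟨⟨a, b, (hg X hX).1 ?_, ?_⟩⟩
  · change (a ≫ b) ≫ g = 𝟙 X ≫ g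
    rw [Category.assoc, hb, ha, Category.id_comp]
  · have huniq : ∀ x : (DRing.RgammaI J).obj Y ⟶ (DRing.RgammaI J).obj Y,
        x ≫ (DRing.RgammaIε J).app Y = 0 → x = 0 := fun x hx => by
      have := RGamma.isIso_ε J _ hT
      rw [← cancel_epi ((DRing.RgammaIε J).app ((DRing.RgammaI J).obj Y)), comp_zero]
      have h1 := (DRing.RgammaIε J).naturality x
      rw [Functor.id_map] at h1
      rw [← h1, ← RGamma.map_ε_eq, ← Functor.map_comp, hx,
        ← show (0 : (DRing.RgammaI J).obj Y ⟶ (0 : Dual.D B)) ≫ (0 : (0 : Dual.D B) ⟶ Y) = 0 from zero_comp,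
        Functor.map_comp, (isZero_RgammaI_of_isIso_smul J (IsNoetherian.noetherian J) J.zero_mem _
          (isIso_of_source_target_iso_zero _ (Iso.refl _) (Iso.refl _))).eq_of_tgt ((DRing.RgammaI J).map 0) 0,
        zero_comp]
    rw [← sub_eq_zero]
    refine huniq _ ?_
    rw [Preadditive.sub_comp, sub_eq_zero, Category.id_comp, Category.assoc, ha]
    exact hb

theorem tbij_inc (s : Finset A) : ∀ (I : Ideal A), I = Ideal.span (s : Set A) → (∀ f ∈ s, φ f ∈ J) →
    ∀ (E : DRing.Cx A), (∀ i, Injective (E.X i)) → TBij J ((DRing.LBaseChange φ).map (Q.map (inc I E))) := by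
  classical
  induction s using Finset.induction with
  | empty =>
    intro I hI _ E _ T _
    rw [Finset.coe_empty, Ideal.span_empty] at hI
    subst hI
    have : ∀ i, IsIso ((inc (⊥ : Ideal A) E).f i) := fun i =>
      (ConcreteCategory.isIso_iff_bijective _).2 ⟨Subtype.val_injective, fun x =>
        ⟨⟨x, RGamma.mem_torsionSub_bot x⟩, rfl⟩⟩
    have := HomologicalComplex.Hom.isIso_of_components (inc (⊥ : Ideal A) E)
    exact ((asIso ((DRing.LBaseChange φ).map (Q.map (inc (⊥ : Ideal A) E)))).homToEquiv (Z := T)).bijective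
  | insert a s _ ih =>
    intro I hI hJ E hE
    rw [Finset.coe_insert, Ideal.span_insert, sup_comm] at hI
    subst hI
    let K := Ideal.span (s : Set A)
    let c : (GC (Ideal.span {a})).obj ((GC K).obj E) ≅ (GC (K ⊔ Ideal.span {a})).obj E :=
      HomologicalComplex.Hom.isoOfComponents (fun i => (RGamma.gammaCompIso K (Ideal.span {a})).app (E.X i))
        fun i j _ => ((RGamma.gammaCompIso K (Ideal.span {a})).hom.naturality (E.d i j)).symm
    have hc : inc (K ⊔ Ideal.span {a}) E = c.inv ≫ inc (Ideal.span {a}) ((GC K).obj E) ≫ inc K E := by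
      rw [Iso.eq_inv_comp]
      ext i x
      rfl
    rw [hc, Q.map_comp, Q.map_comp, Functor.map_comp, Functor.map_comp]
    refine TBij.comp J (fun T _ => ((asIso ((DRing.LBaseChange φ).map (Q.map c.inv))).homToEquiv (Z := T)).bijective)
      (TBij.comp J ?_ (ih K rfl (fun f hf => hJ f (Finset.mem_insert_of_mem hf)) E hE))
    let P := (GC K).obj E
    let F := (GM.quotF (Ideal.span {a})).mapHomologicalComplex (ComplexShape.up ℤ)
    let π : P ⟶ F.obj P :=
      { f := fun i => ModuleCat.ofHom (DRing.torsionSub (Ideal.span {a}) (P.X i)).mkQ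
        comm' := fun i j _ => rfl }
    let S : ShortComplex (DRing.Cx A) := ShortComplex.mk (inc (Ideal.span {a}) P) π (by
      ext i x
      exact (Submodule.Quotient.mk_eq_zero _).2 x.2)
    have hS : S.ShortExact := HomologicalComplex.shortExact_of_degreewise_shortExact S fun i =>
      { exact := (ShortComplex.ShortExact.moduleCat_exact_iff_function_exact _).mpr (LinearMap.exact_subtype_mkQ _)
        mono_f := (ModuleCat.mono_iff_injective _).mpr (Submodule.injective_subtype _)
        epi_g := (ModuleCat.epi_iff_surjective _).mpr (Submodule.mkQ_surjective _) }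
    refine tbij_LBC φ J (hJ a (Finset.mem_insert_self a s)) (triangleOfSES_distinguished hS) ?_
    change IsIso (a • 𝟙 (Q.obj (F.obj P)))
    rw [← CategoryTheory.Functor.map_id, ← Functor.map_smul]
    have : ∀ i, IsIso ((a • 𝟙 (F.obj P)).f i) := fun i => by
      have hd := RGamma.div_of_injective K a (E.X i) 1
      rw [pow_one] at hd
      have hb : IsBij a ((GM.quotF (Ideal.span {a})).obj (P.X i)) := GM.bijective_of_div a (P.X i) hd
      refine (ConcreteCategory.isIso_iff_bijective _).2 ?_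
      exact hb
    have : IsIso (a • 𝟙 (F.obj P)) := HomologicalComplex.Hom.isIso_of_components _
    infer_instance

/-- derived base change commutes with `RΓ` -/
theorem nonempty_LBC_RgammaI (I : Ideal A) [DRing.HasRgammaI I] (hle : I.map φ ≤ J)
    (hrad : J ≤ (I.map φ).radical) (K : Dual.D A) :
    Nonempty ((DRing.LBaseChange φ).obj ((DRing.RgammaI I).obj K) ≅
      (DRing.RgammaI J).obj ((DRing.LBaseChange φ).obj K)) := by
  obtain ⟨E, hE, hinj, ⟨e⟩⟩ := RGamma.exists_resolution K
  obtain ⟨s, hs⟩ := IsNoetherian.noetherian I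
  have := RGamma.isIso_unitQ I E
  let σ := (DRing.LBaseChange φ).mapIso (asIso (RGamma.unitQ I E) ≪≫ (DRing.RgammaI I).mapIso e)
  have hg : TBij J ((DRing.LBaseChange φ).map (Q.map (inc I E) ≫ e.hom)) := by
    rw [Functor.map_comp]
    exact TBij.comp J (tbij_inc φ J s I hs.symm (fun f hf => hle (Ideal.mem_map_of_mem φ
      (hs ▸ Submodule.subset_span hf))) E hinj)
      fun T _ => ((asIso ((DRing.LBaseChange φ).map e.hom)).homToEquiv (Z := T)).bijective
  have hT : Tors J ((DRing.LBaseChange φ).obj (DRing.toD ((GC I).obj E))) := torsion_LBC φ J hrad fun i =>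
    RGamma.HD_torsion_of_torsionHom (Iso.refl _) (RGamma.torsionHom_gamma I E) i
  obtain ⟨r⟩ := nonempty_iso_of_tbij J _ hT hg
  exact ⟨σ.symm ≪≫ r⟩

omit [IsNoetherianRing A] [IsNoetherianRing B] in
theorem nonempty_LBC_self : Nonempty ((DRing.LBaseChange φ).obj (Dual.inD A A) ≅ Dual.inD B B) := by
  let := φ.toAlgebra
  obtain ⟨i⟩ := Perfect.nonempty_extendScalarsIso φ A
  have hflat : KFlat.IsKFlat (PC.sgl 0 (ModuleCat.of A A)) :=
    KFlat.isKFlat_of_d_eq_zero (fun i j => HomologicalComplex.single_obj_d _ _ _ _ _) fun j => by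
      by_cases hj : j = 0
      · subst hj
        exact Module.Flat.of_linearEquiv
          (HomologicalComplex.singleObjXSelf (ComplexShape.up ℤ) 0 (ModuleCat.of A A)).toLinearEquiv
      · have := ModuleCat.subsingleton_of_isZero
          (HomologicalComplex.isZero_single_obj_X (ComplexShape.up ℤ) 0 (ModuleCat.of A A) j hj)
        infer_instance
  exact ⟨(Perfect.baseChangeIsoOfRep φ hflat
      ((singleFunctorIsoCompQ (ModuleCat.{u} A) 0).app (ModuleCat.of A A)).symm).symm ≪≫
    Q.mapIso ((HomologicalComplex.singleMapHomologicalComplex (ModuleCat.extendScalars.{u, u, u} φ)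
      (ComplexShape.up ℤ) 0).app _) ≪≫ ((singleFunctorIsoCompQ (ModuleCat.{u} B) 0).app _).symm ≪≫
    (singleFunctor (ModuleCat.{u} B) 0).mapIso
      (i ≪≫ (TensorProduct.AlgebraTensorModule.rid A B B).toModuleIso)⟩

end Groth.Agent.LocCoh.BCGamma
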