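import Groth.Agent.LocCoh.Punctured
import Groth.Agent.EulerChar.Push
import Groth.Agent.BlowUp.StrictClosed
import Groth.Agent.BlowUp.Basic
import Groth.Agent.BlowUpProper.Basic
import Groth.Agent.VanQC.Model
import Groth.Agent.S7411
import Groth.Agent.CohTop.CechBasic
import Groth.Agent.CohTop.Restrict
import Groth.Prelude.Def_CurvBase
import Groth.Prelude.Def_BlowUp2

/-!
# Cohomological dimension from the fibres of a blow-up
-/

universe u

open CategoryTheory AlgebraicGeometry

set_option linter.style.haveILetI false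

attribute [local instance] HasDerivedCategory.standard

namespace Groth.Agent.LocCoh.BlowUpCd

/-- cohomology above the fibre dimension vanishes over an affine base -/
theorem subsingleton_HH_of_fibreDim {X Y : Scheme.{u}} (f : X ⟶ Y) [IsProper f] [IsAffine Y] (d : ℕ)
    (hdim : ∀ y : Y, topologicalKrullDim ↥(f.fiber y) ≤ d)
    (F : X.Modules) [F.IsQuasicoherent] (p : ℕ) (hp : d < p) : Subsingleton (Coh.HH X F p) := by
  haveI : Coh.IsQCoh F := ‹F.IsQuasicoherent›
  obtain ⟨n, rfl⟩ : ∃ n, p = n + 1 := ⟨p - 1, by omega⟩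
  obtain ⟨D⟩ := Groth.Agent.CBC.nonempty_model f (isAffineOpen_top Y)
  have hcov : iSup D.U = ⊤ := top_le_iff.mp D.cov
  have hvan : Subsingleton Γ((Coh.Rpush f (n + 1)).obj F, ⊤) :=
    Groth.Agent.VanQC.subsingleton_rpush_sections f F (n + 1) ⊤ fun y _ =>
      Groth.Agent.S7411.result f y d (hdim y) F (n + 1) hp
  have hex := Groth.Agent.VanQC.cechExact_of_subsingleton_rpush D F (isAffineOpen_top Y) n hvan
  obtain ⟨c⟩ := Groth.Agent.CohTop.CechBasic.cech_eq_HU D.U (n + 1) (Coh.toAb F)
    (fun m x q => Groth.Agent.LocCoh.Punctured.subsingleton_HU_of_isAffineOpen F (D.aff x) q)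
  have h1 : Subsingleton (CohTop.cechH (Coh.toAb F).obj D.U (n + 1)) :=
    AddCommGrpCat.subsingleton_of_isZero
      ((Groth.Agent.CohAff.isZero_homology_iff_cechExact _ D.U n).mpr hex)
  have h2 : Subsingleton (CohTop.HU (Coh.toAb F) (n + 1) ⊤) :=
    hcov ▸ c.symm.toEquiv.subsingleton
  exact (Groth.Agent.CohTop.Basic.HEquivHUTop (Coh.toAb F) (n + 1)).toEquiv.subsingleton

/-- cohomology along an affine morphism over the base -/
theorem subsingleton_of_push {X Y : Scheme.{u}} (A : Type u) [CommRing A] [X.Over (Spec (CommRingCat.of A))]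
    [Y.Over (Spec (CommRingCat.of A))] (f : X ⟶ Y) [IsAffineHom f]
    (w : f ≫ (Y ↘ Spec (CommRingCat.of A)) = X ↘ Spec (CommRingCat.of A)) (F : X.Modules) [F.IsQuasicoherent] (n : ℕ)
    (h : Subsingleton (Coh.HH Y ((Scheme.Modules.pushforward f).obj F) n)) : Subsingleton (Coh.HH X F n) := by
  obtain ⟨e⟩ := EulerChar.nonempty_pushEquiv (A := A) f w F ‹F.IsQuasicoherent› n
  exact e.toEquiv.symm.subsingleton

variable (A : Type u) [CommRing A] [IsNoetherianRing A] (I : Ideal A)

omit [IsNoetherianRing A] in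
theorem disjoint_support :
    Disjoint ((_root_.LocCoh.puncturedOpen A I : (Spec (CommRingCat.of A)).Opens) : Set (Spec (CommRingCat.of A)))
      ((Curv2.idealSheaf A I).support : Set (Spec (CommRingCat.of A))) := by
  rw [Set.disjoint_left]
  intro x hx hx'
  rw [Curv2.idealSheaf, Scheme.IdealSheafData.coe_support_ofIdealTop, Spec_zeroLocus] at hx'
  exact hx fun a ha => hx' (show _ ∈ _ from Ideal.mem_map_of_mem _ ha)

theorem isFiniteType_idealSheaf : BlowUp.IsFiniteTypeIdeal (Curv2.idealSheaf A I) := fun U =>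
  have := IsLocallyNoetherian.component_noetherian (X := Spec (CommRingCat.of A)) U
  IsNoetherian.noetherian _

/-- `cd (A, I) ≤ d + 1` for fibres of dimension `≤ d` -/
theorem cdLE (X : Scheme.{u}) (b : X ⟶ Spec (CommRingCat.of A)) (hb : BlowUp.IsBlowUp b (Curv2.idealSheaf A I))
    (d : ℕ) (hd : ∀ y, topologicalKrullDim ↥(b.fiber y) ≤ d) (M : Type u) [AddCommGroup M] [Module A M] (i : ℕ)
    (hi : d + 1 < i) : Subsingleton (_root_.LocCoh.H I i M) := by
  obtain ⟨p, rfl⟩ : ∃ p, i = p + 1 := ⟨i - 1, by omega⟩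
  obtain ⟨e⟩ := Punctured.nonempty_HH_equiv_H I M p (by omega)
  refine (fun h : Subsingleton _ => @Equiv.subsingleton _ _ e.toEquiv.symm h) ?_
  let U := _root_.LocCoh.puncturedOpen A I
  have : IsProper b := BlowUpProper.Basic.isProper hb (isFiniteType_idealSheaf A I)
  have hiso : IsIso (b ∣_ U) := BlowUp.Basic.isIso_restrict hb U (disjoint_support A I)
  let F := (tilde (R := CommRingCat.of A) (ModuleCat.of A M)).restrict U.ι
  have : F.IsQuasicoherent := Scheme.Modules.isQuasicoherent_restrictFunctor U.ι _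
  let W : X.Opens := b ⁻¹ᵁ U
  let g : (U : Scheme.{u}) ⟶ (W : Scheme.{u}) := inv (b ∣_ U)
  have : IsAffineHom W.ι := by
    let C : X.Opens := b ⁻¹ᵁ (Curv2.idealSheaf A I).support.compl
    have hC : IsAffineHom C.ι := BlowUp.StrictClosed.isAffineHom_compl hb.1 C (by
      rw [Scheme.IdealSheafData.support_comap]; rfl)
    have hU : U = (Curv2.idealSheaf A I).support.compl := by
      apply TopologicalSpace.Opens.ext
      rw [Curv2.idealSheaf]
      show (PrimeSpectrum.zeroLocus (I : Set A))ᶜ = (_ : Set _)ᶜ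
      congr 1
      rw [Scheme.IdealSheafData.coe_support_ofIdealTop, Spec_zeroLocus]
      refine Set.Subset.antisymm (fun x hx a ha => ?_) fun x hx a ha => hx (show _ ∈ _ from Ideal.mem_map_of_mem _ ha)
      obtain ⟨c, hc, hca⟩ := (Ideal.mem_map_iff_of_surjective _
        (ConcreteCategory.bijective_of_isIso (Scheme.ΓSpecIso (CommRingCat.of A)).inv).2).1 ha
      rw [← (ConcreteCategory.bijective_of_isIso (Scheme.ΓSpecIso (CommRingCat.of A)).inv).1 hca]
      exact hx hc
    show IsAffineHom (b ⁻¹ᵁ U).ι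
    rw [hU]
    exact hC
  letI : X.Over (Spec (CommRingCat.of A)) := ⟨b⟩
  letI : (W : Scheme.{u}).Over (Spec (CommRingCat.of A)) := ⟨W.ι ≫ b⟩
  letI : (U : Scheme.{u}).Over (Spec (CommRingCat.of A)) := ⟨U.ι⟩
  have : ((Scheme.Modules.pushforward g).obj F).IsQuasicoherent := QCoh.isQuasicoherent_pushforward g F
  refine subsingleton_of_push A g ?_ F p (subsingleton_of_push A W.ι rfl _ p ?_)
  · show inv (b ∣_ U) ≫ W.ι ≫ b = U.ι
    rw [IsIso.inv_comp_eq, morphismRestrict_ι]
  · have := QCoh.isQuasicoherent_pushforward W.ι ((Scheme.Modules.pushforward g).obj F)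
    exact subsingleton_HH_of_fibreDim b d hd _ p (by omega)

end Groth.Agent.LocCoh.BlowUpCd
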