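import Groth.Agent.DualCx.FlatBC
import Mathlib.RingTheory.Finiteness.Basic
import Mathlib.RingTheory.Flat.FaithfullyFlat.Basic
import Mathlib.RingTheory.OrzechProperty

/-!
# Flat base change bookkeeping

* `τ`, `τ_natural`: `FD(V[i]) ≅ (B ⊗ V)[i]`;
* `quotEquiv`, `quotEquiv_natural`: `B ⊗ A/K ≅ B/KB`;
* `powEquiv`: `B ⊗ I^n M ≅ (IB)^n (B ⊗ M)`;
* `exists_smul_eq_zero`: elements dying in `B ⊗ N` die at the prime below.
-/

universe v u

open CategoryTheory CategoryTheory.Limits
open scoped TensorProduct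

attribute [local instance] HasDerivedCategory.standard

namespace Groth.Agent.LocCoh.BootBC

open Groth.Agent.DualCx
open BaseChange (FD ext extEquiv)

variable {A : Type u} (B : Type u) [CommRing A] [CommRing B] [Algebra A B] [Module.Flat A B]

/-- `g` after base change -/
noncomputable abbrev bc {V V' : ModuleCat.{u} A} (g : V ⟶ V') :
    ModuleCat.of B (B ⊗[A] V) ⟶ ModuleCat.of B (B ⊗[A] V') :=
  ModuleCat.ofHom (g.hom.baseChange B)

/-- `g` in the derived category -/
noncomputable abbrev inM {R : Type u} [CommRing R] {V V' : ModuleCat.{u} R} (g : V ⟶ V') :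
    Dual.inD R V ⟶ Dual.inD R V' :=
  (DerivedCategory.singleFunctor (ModuleCat.{u} R) 0).map g

theorem FDinD_natural {V V' : ModuleCat.{u} A} (g : V ⟶ V') :
    (FD A B).map (inM g) ≫ (FlatBC.FDinD V').hom = (FlatBC.FDinD V).hom ≫ inM (bc B g) := by
  have h1 := ((ext A B).mapDerivedCategorySingleFunctor 0).hom.naturality g
  have h2 : (ext A B).map g ≫ (extEquiv A B V').toModuleIso.inv = (extEquiv A B V).toModuleIso.inv ≫ bc B g := by
    rw [← cancel_epi (extEquiv A B V).toModuleIso.hom, Iso.hom_inv_id_assoc,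
      ← cancel_mono (extEquiv A B V').toModuleIso.hom]
    simp only [Category.assoc, Iso.inv_hom_id, Category.comp_id]
    refine ModuleCat.hom_ext (LinearMap.ext fun t => ?_)
    refine (BaseChange.ext_map_extEquiv A B g t).trans ?_
    change extEquiv A B V' (g.hom.lTensor B t) = extEquiv A B V' (g.hom.baseChange B t)
    rw [LinearMap.baseChange_eq_ltensor]
  change (FD A B).map (inM g) ≫ (((ext A B).mapDerivedCategorySingleFunctor 0).hom.app _ ≫
    inM (extEquiv A B V').toModuleIso.inv) = (((ext A B).mapDerivedCategorySingleFunctor 0).hom.app _ ≫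
      inM (extEquiv A B V).toModuleIso.inv) ≫ inM (bc B g)
  rw [← Category.assoc]
  refine (congrArg (fun t => t ≫ inM (extEquiv A B V').toModuleIso.inv) h1).trans ?_
  change (_ ≫ (DerivedCategory.singleFunctor (ModuleCat.{u} B) 0).map ((ext A B).map g)) ≫ _ = _
  rw [Category.assoc, Category.assoc, inM, inM, inM, ← Functor.map_comp, ← Functor.map_comp, h2]

/-- `FD(V[i]) ≅ (B ⊗ V)[i]` -/
noncomputable def τ (i : ℤ) (V : ModuleCat.{u} A) :
    (FD A B).obj ((Dual.inD A V)⟦i⟧) ≅ (Dual.inD B (B ⊗[A] V))⟦i⟧ :=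
  FlatBC.shiftFD (Dual.inD A V) i ≪≫ (shiftFunctor (Dual.D B) i).mapIso (FlatBC.FDinD V)

theorem τ_natural (i : ℤ) {V V' : ModuleCat.{u} A} (g : V ⟶ V') :
    (FD A B).map ((inM g)⟦i⟧') ≫ (τ B i V').hom = (τ B i V).hom ≫ (inM (bc B g))⟦i⟧' := by
  have h1 := ((FD A B).commShiftIso i).hom.naturality (inM g)
  change (FD A B).map ((inM g)⟦i⟧') ≫ ((FlatBC.shiftFD (Dual.inD A V') i).hom ≫
    (FlatBC.FDinD V').hom⟦i⟧') = ((FlatBC.shiftFD (Dual.inD A V) i).hom ≫ (FlatBC.FDinD V).hom⟦i⟧') ≫ _
  rw [← Category.assoc]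
  refine (congrArg (fun t => t ≫ (FlatBC.FDinD V').hom⟦i⟧') h1).trans ?_
  refine (Category.assoc _ _ _).trans (Eq.trans ?_ (Category.assoc _ _ _).symm)
  refine congrArg ((FlatBC.shiftFD (Dual.inD A V) i).hom ≫ ·) ?_
  change ((FD A B).map (inM g))⟦i⟧' ≫ _ = _
  rw [← Functor.map_comp, ← Functor.map_comp, FDinD_natural]

/-- `B ⊗ A/K → B/KB` -/
noncomputable def quotMap (K : Ideal A) : B ⊗[A] (A ⧸ K) →ₗ[B] B ⧸ K.map (algebraMap A B) :=
  (Submodule.liftQ K (LinearMap.toSpanSingleton A (B ⧸ K.map (algebraMap A B)) (Submodule.Quotient.mk 1))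
    fun a ha => by
      rw [LinearMap.mem_ker, LinearMap.toSpanSingleton_apply, ← Submodule.Quotient.mk_smul,
        Submodule.Quotient.mk_eq_zero, Algebra.smul_def, mul_one]
      exact Ideal.mem_map_of_mem _ ha).liftBaseChange B

theorem quotMap_one (K : Ideal A) :
    quotMap B K (1 ⊗ₜ Submodule.Quotient.mk 1) = Submodule.Quotient.mk 1 := by
  rw [quotMap, LinearMap.liftBaseChange_tmul, one_smul, Submodule.liftQ_apply, LinearMap.toSpanSingleton_apply,
    one_smul]

theorem bijective_quotMap [IsNoetherianRing B] (K : Ideal A) : Function.Bijective (quotMap B K) := by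
  obtain ⟨e⟩ := FlatBC.nonempty_quotient (B := B) K
  have hs : Function.Surjective (quotMap B K) := fun y => by
    obtain ⟨b, rfl⟩ := Submodule.Quotient.mk_surjective _ y
    exact ⟨b • ((1 : B) ⊗ₜ Submodule.Quotient.mk 1), by
      rw [map_smul, quotMap_one, ← Submodule.Quotient.mk_smul, smul_eq_mul, mul_one]⟩
  let f := (quotMap B K).comp e.symm.toLinearMap
  have hf : Function.Surjective f := hs.comp e.symm.surjective
  have hfi : Function.Injective f := OrzechProperty.injective_of_surjective_endomorphism f hf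
  exact ⟨fun x y h => e.injective (hfi (by simpa [f] using h)), hs⟩

/-- `B ⊗ A/K ≅ B/KB` -/
noncomputable def quotEquiv [IsNoetherianRing B] (K : Ideal A) :
    B ⊗[A] (A ⧸ K) ≃ₗ[B] B ⧸ K.map (algebraMap A B) :=
  LinearEquiv.ofBijective _ (bijective_quotMap B K)

theorem quotMap_natural {K K' : Ideal A} (h : K ≤ K') (x : B ⊗[A] (A ⧸ K)) :
    quotMap B K' ((Submodule.mapQ K K' LinearMap.id h).baseChange B x) =
      Submodule.mapQ _ _ LinearMap.id (Ideal.map_mono h) (quotMap B K x) := by
  induction x using TensorProduct.induction_on with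
  | zero => simp
  | tmul b a =>
    obtain ⟨a, rfl⟩ := Submodule.Quotient.mk_surjective _ a
    rw [LinearMap.baseChange_tmul]
    rfl
  | add x y hx hy => simp only [map_add, hx, hy]

/-- `B ⊗ I^n M → (IB)^n (B ⊗ M)` is bijective -/
theorem exists_powEquiv [IsNoetherianRing A] (I : Ideal A) (M : Type u) [AddCommGroup M] [Module A M] (n : ℕ) :
    ∃ e : B ⊗[A] ↥(I ^ n • ⊤ : Submodule A M) ≃ₗ[B]
        ↥((I.map (algebraMap A B)) ^ n • ⊤ : Submodule B (B ⊗[A] M)),
      ∀ x, ((e x : B ⊗[A] M)) = (I ^ n • ⊤ : Submodule A M).subtype.baseChange B x := by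
  let f := (I ^ n • ⊤ : Submodule A M).subtype.baseChange B
  have hf : Function.Injective f := by
    have := Module.Flat.lTensor_preserves_injective_linearMap (M := B) _
      (Submodule.injective_subtype (I ^ n • ⊤ : Submodule A M))
    intro x y h
    exact this (by simpa [f, LinearMap.baseChange_eq_ltensor] using h)
  have hr : LinearMap.range f = (I.map (algebraMap A B)) ^ n • ⊤ := by
    rw [← Ideal.map_pow]
    refine le_antisymm ?_ (Submodule.smul_le.2 fun c hc y _ => ?_)
    · rintro _ ⟨x, rfl⟩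
      induction x using TensorProduct.induction_on with
      | zero => rw [map_zero]; exact Submodule.zero_mem _
      | tmul b z =>
        obtain ⟨z, hz⟩ := z
        rw [LinearMap.baseChange_tmul]
        change b ⊗ₜ[A] z ∈ _
        induction hz using Submodule.smul_induction_on' with
        | smul a ha m hm =>
          rw [TensorProduct.tmul_smul, ← algebraMap_smul B a (b ⊗ₜ[A] m)]
          exact Submodule.smul_mem_smul (Ideal.mem_map_of_mem _ ha) Submodule.mem_top
        | add x _ y _ hx hy => rw [TensorProduct.tmul_add]; exact Submodule.add_mem _ hx hy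
      | add x y hx hy => rw [map_add]; exact Submodule.add_mem _ hx hy
    · rw [Ideal.map, ← Ideal.submodule_span_eq] at hc
      induction hc using Submodule.span_induction with
      | mem c hc =>
        obtain ⟨a, ha, rfl⟩ := hc
        induction y using TensorProduct.induction_on with
        | zero => rw [smul_zero]; exact Submodule.zero_mem _
        | tmul b m =>
          refine ⟨b ⊗ₜ ⟨a • m, Submodule.smul_mem_smul ha Submodule.mem_top⟩, ?_⟩
          rw [LinearMap.baseChange_tmul, algebraMap_smul, ← TensorProduct.tmul_smul]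
          rfl
        | add x y hx hy => rw [smul_add]; exact Submodule.add_mem _ (hx trivial) (hy trivial)
      | zero => rw [zero_smul]; exact Submodule.zero_mem _
      | add x z _ _ hx hz => rw [add_smul]; exact Submodule.add_mem _ hx hz
      | smul r x _ hx => rw [smul_eq_mul, mul_smul]; exact Submodule.smul_mem _ r hx
  exact ⟨(LinearEquiv.ofInjective f hf).trans (LinearEquiv.ofEq _ _ hr), fun x => rfl⟩

variable [IsNoetherianRing A]

/-- what dies in `B ⊗ N` dies at a prime below -/
theorem exists_smul_eq_zero {q : PrimeSpectrum A} (p' : PrimeSpectrum B)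
    (h : p'.asIdeal.comap (algebraMap A B) = q.asIdeal) {N : Type v} [AddCommGroup N] [Module A N] (x : N)
    (hx : (1 : B) ⊗ₜ[A] x = 0) : ∃ u ∉ q.asIdeal, u • x = 0 := by
  let f := LinearMap.toSpanSingleton A N x
  let K : Ideal A := LinearMap.ker f
  let g := Submodule.liftQ K f le_rfl
  have hg : Function.Injective g := LinearMap.ker_eq_bot.1 (Submodule.ker_liftQ_eq_bot' _ _ rfl)
  have hgB := Module.Flat.lTensor_preserves_injective_linearMap (M := B) g hg
  have h0 : (1 : B) ⊗ₜ[A] (Submodule.Quotient.mk 1 : A ⧸ K) = 0 := hgB (by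
    rw [map_zero, LinearMap.lTensor_tmul, show g (Submodule.Quotient.mk 1) = x from one_smul A x, hx])
  have h1 := congrArg (quotMap B K) h0
  rw [quotMap_one, map_zero, Submodule.Quotient.mk_eq_zero] at h1
  obtain ⟨u, huK, huq⟩ := SetLike.not_le_iff_exists.1 fun hle : K ≤ q.asIdeal =>
    p'.2.ne_top ((Ideal.eq_top_iff_one _).2 ((Ideal.map_le_iff_le_comap.2 (hle.trans h.ge)) h1))
  exact ⟨u, huq, huK⟩

end Groth.Agent.LocCoh.BootBC
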