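import Groth.Agent.LocCoh.RGammaHom
import Groth.Agent.LocCoh.GreenleesMay
import Groth.Agent.ExtAR.Exact
import Groth.Agent.ExtAR.Basic
import Groth.Agent.DRing.TorsionDetect
import Groth.Agent.DRing.Devissage

/-!
# The derived completion of `RΓ_J(M)` as a derived limit
-/

universe u

open CategoryTheory CategoryTheory.Limits CategoryTheory.Pretriangulated DerivedCategory

attribute [local instance] HasDerivedCategory.standard

namespace Groth.Agent.LocCoh.CompRlim

open Groth.Agent.DRing Groth.Agent.DRing.Homology Groth.Agent.DRing.PC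
open RGHom (inMap qJ pJ)

variable {A : Type u} [CommRing A]

section Shift

variable {W : Type u} [AddCommGroup W] [Module A W]

theorem subsingleton_shifted (Y : Dual.D A) (j p : ℤ) (h : j + p = 0)
    (hs : Subsingleton (Dual.inD A W ⟶ (shiftFunctor (Dual.D A) p).obj Y)) :
    Subsingleton ((shiftFunctor (Dual.D A) j).obj (Dual.inD A W) ⟶ Y) :=
  (Milnor.homEq j p h (Dual.inD A W) Y).subsingleton_congr.2 hs

theorem subsingleton_shifted_one (Y : Dual.D A) (j p : ℤ) (h : j + 1 + p = 0)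
    (hs : Subsingleton (Dual.inD A W ⟶ (shiftFunctor (Dual.D A) p).obj Y)) :
    Subsingleton ((shiftFunctor (Dual.D A) (1 : ℤ)).obj ((shiftFunctor (Dual.D A) j).obj (Dual.inD A W)) ⟶ Y) :=
  (Iso.homCongr ((shiftFunctorAdd' (Dual.D A) j 1 (j + 1) rfl).app (Dual.inD A W))
    (Iso.refl Y)).subsingleton_congr.1 (subsingleton_shifted Y (j + 1) p h hs)

end Shift

section Annihilate

theorem inMap_smul {V V' : ModuleCat.{u} A} (a : A) (g : V ⟶ V') : inMap (a • g) = a • inMap g :=
  Functor.map_smul _ _ _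

theorem smul_hom_eq_zero {W : Type u} [AddCommGroup W] [Module A W] {a : A} (ha : ∀ w : W, a • w = 0)
    {Y : Dual.D A} (φ : Dual.inD A W ⟶ Y) : a • φ = 0 := by
  have h0 : a • 𝟙 (ModuleCat.of A W) = 0 := ModuleCat.hom_ext (LinearMap.ext fun w => ha w)
  have h1 : a • 𝟙 (Dual.inD A W) = 0 := by
    rw [← (singleFunctor (ModuleCat.{u} A) 0).map_id]
    exact (inMap_smul a (𝟙 (ModuleCat.of A W))).symm.trans ((congrArg inMap h0).trans (Functor.map_zero _ _ _))
  have h2 := Linear.smul_comp _ _ _ a (𝟙 (Dual.inD A W)) φ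
  rwa [h1, zero_comp, Category.id_comp, eq_comm] at h2

/-- an object killed by a power of `f` is complete at `f` -/
theorem subsingleton_away {Y : Dual.D A} {f : A} {n : ℕ} (h : f ^ n • 𝟙 Y = 0) (j : ℤ) :
    Subsingleton (Dual.inD A (Localization.Away f) ⟶ (shiftFunctor (Dual.D A) j).obj Y) :=
  subsingleton_of_forall_eq 0 fun φ => by
    let u₀ : ModuleCat.of A (Localization.Away f) ⟶ ModuleCat.of A (Localization.Away f) :=
      ModuleCat.ofHom (LinearMap.mulLeft A ((IsLocalization.Away.invSelf (S := Localization.Away f) f) ^ n))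
    have hu₀ : f ^ n • u₀ = 𝟙 _ := ModuleCat.hom_ext (LinearMap.ext fun x => by
      change f ^ n • ((IsLocalization.Away.invSelf (S := Localization.Away f) f) ^ n * x) = x
      rw [Algebra.smul_def, ← mul_assoc, map_pow, ← mul_pow, IsLocalization.Away.mul_invSelf, one_pow, one_mul])
    have hu : f ^ n • inMap u₀ = 𝟙 (Dual.inD A (Localization.Away f)) :=
      (inMap_smul _ _).symm.trans ((congrArg inMap hu₀).trans (CategoryTheory.Functor.map_id _ _))
    have h0 : f ^ n • 𝟙 ((shiftFunctor (Dual.D A) j).obj Y) = 0 := by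
      rw [← (shiftFunctor (Dual.D A) j).map_id, ← Functor.map_smul, h, Functor.map_zero]
    calc φ = (f ^ n • inMap u₀) ≫ φ := by rw [hu, Category.id_comp]
      _ = inMap u₀ ≫ φ ≫ (f ^ n • 𝟙 _) := by
        rw [Linear.comp_smul, Category.comp_id, Linear.comp_smul, Linear.smul_comp]
      _ = 0 := by rw [h0, comp_zero, comp_zero]

end Annihilate

section Uniform

variable [IsNoetherianRing A] (I : Ideal A) {M : Type u} [AddCommGroup M] [Module A M] [Module.Finite A M]

/-- `I^m M ⟶ I^n M` -/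
noncomputable def inc (M : Type u) [AddCommGroup M] [Module A M] {n m : ℕ} (h : n ≤ m) :
    ModuleCat.of A ↥(I ^ m • ⊤ : Submodule A M) ⟶ ModuleCat.of A ↥(I ^ n • ⊤ : Submodule A M) :=
  ModuleCat.ofHom (Submodule.inclusion (Submodule.smul_mono (Ideal.pow_le_pow_right h) le_rfl))

omit [IsNoetherianRing A] [Module.Finite A M] in
theorem inc_comp {n m l : ℕ} (h : n ≤ m) (h' : m ≤ l) : inc I M h' ≫ inc I M h = inc I M (h.trans h') := rfl

omit [IsNoetherianRing A] [Module.Finite A M] in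
theorem hom_neg (W N : Type u) [AddCommGroup W] [Module A W] [AddCommGroup N] [Module A N] (p : ℤ) (hp : p < 0)
    (e : Dual.inD A W ⟶ (shiftFunctor (Dual.D A) p).obj (Dual.inD A N)) : e = 0 := by
  have hW : (Dual.inD A W).IsLE 0 := inferInstanceAs (((singleFunctor (ModuleCat.{u} A) 0).obj _).IsLE 0)
  have hN : (Dual.inD A N).IsGE 0 := inferInstanceAs (((singleFunctor (ModuleCat.{u} A) 0).obj _).IsGE 0)
  have := DerivedCategory.TStructure.t.isGE_shift (Dual.inD A N) 0 p (-p) (by omega)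
  exact DerivedCategory.TStructure.t.zero e 0 (-p) (by omega)

omit [IsNoetherianRing A] [Module.Finite A M] in
theorem pc_inD (W : Type u) [AddCommGroup W] [Module A W] [Module.Finite A W] [IsNoetherianRing A] :
    DRing.IsPseudoCoherent' A (Dual.inD A W) :=
  TorsionDetect.exists_rep _ ⟨0, fun j hj => subsingleton_HD_inD A W j (by omega)⟩ fun j => by
    by_cases hj : j = 0
    · subst hj
      exact Module.Finite.equiv (inDEquiv A W).symm
    · have := subsingleton_HD_inD A W j hj
      infer_instance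

/-- Artin–Rees: for a fixed `W` killed by `I` -/
theorem exists_comp_inc_eq_zero (W : Type u) [AddCommGroup W] [Module A W] [Module.Finite A W]
    (hW : ∀ c ∈ I, ∀ w : W, c • w = 0) (p : ℤ) (n : ℕ) :
    ∃ (m : ℕ) (h : n ≤ m), ∀ e : Dual.inD A W ⟶
      (shiftFunctor (Dual.D A) p).obj (Dual.inD A ↥(I ^ m • ⊤ : Submodule A M)),
      e ≫ (shiftFunctor (Dual.D A) p).map (inMap (inc I M h)) = 0 := by
  obtain ⟨c, hc⟩ := ExtAR.map_mem_smul_top' I (pc_inD W) ↥(I ^ n • ⊤ : Submodule A M) p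
  refine ⟨n + c + 1, by omega, fun e => ?_⟩
  have h := hc (c + 1) (Nat.le_succ c) ↥(I ^ (n + c + 1) • ⊤ : Submodule A M)
    (Submodule.inclusion (Submodule.smul_mono (Ideal.pow_le_pow_right (by omega)) le_rfl)) (fun x => by
      have hmap : ((I ^ (c + 1) • ⊤ : Submodule A ↥(I ^ n • ⊤ : Submodule A M)).map
          (I ^ n • ⊤ : Submodule A M).subtype) = I ^ (n + c + 1) • ⊤ := by
        rw [Submodule.map_smul'', Submodule.map_subtype_top, ← Submodule.mul_smul, ← pow_add]
        congr 2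
        omega
      obtain ⟨z, hz, hz'⟩ := hmap.ge x.2
      rwa [show Submodule.inclusion _ x = z from Subtype.ext hz'.symm]) e
  rw [show c + 1 - c = 1 by omega, pow_one] at h
  refine (Submodule.mem_bot A).1 ((?_ : (I • ⊤ : Submodule A _) ≤ ⊥) h)
  exact Submodule.smul_le.2 fun a ha φ _ => (Submodule.mem_bot A).2 (smul_hom_eq_zero (hW a ha) φ)

omit [Module.Finite A M] in
theorem exists_cover (W : Type u) [AddCommGroup W] [Module A W] [Module.Finite A W]
    (hW : ∀ c ∈ I, ∀ w : W, c • w = 0) :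
    ∃ (r : ℕ) (f : (Fin r → A ⧸ I) →ₗ[A] W), Function.Surjective f := by
  obtain ⟨r, f, hf⟩ := Module.Finite.exists_fin' A W
  let g : ∀ i : Fin r, (A ⧸ I) →ₗ[A] W := fun i =>
    Submodule.liftQ I (LinearMap.toSpanSingleton A W (f (Pi.single i 1))) fun c hc => hW c hc _
  refine ⟨r, ∑ i, (g i).comp (LinearMap.proj i), fun w => ?_⟩
  obtain ⟨v, rfl⟩ := hf w
  refine ⟨fun i => Submodule.Quotient.mk (v i), ?_⟩
  rw [LinearMap.sum_apply]
  conv_rhs => rw [pi_eq_sum_univ' v, map_sum]
  refine Finset.sum_congr rfl fun i _ => ?_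
  show v i • f (Pi.single i 1) = f (v i • Pi.single i 1)
  rw [map_smul]

/-- Artin–Rees, uniformly in `W` killed by `I` -/
theorem exists_uniform (M : Type u) [AddCommGroup M] [Module A M] [Module.Finite A M] (p : ℤ) :
    ∀ n : ℕ, ∃ (m : ℕ) (h : n ≤ m), ∀ (W : Type u) [AddCommGroup W] [Module A W] [Module.Finite A W],
      (∀ c ∈ I, ∀ w : W, c • w = 0) → ∀ e : Dual.inD A W ⟶
        (shiftFunctor (Dual.D A) p).obj (Dual.inD A ↥(I ^ m • ⊤ : Submodule A M)),
        e ≫ (shiftFunctor (Dual.D A) p).map (inMap (inc I M h)) = 0 := by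
  suffices ∀ (q : ℕ) (p : ℤ), p < q → ∀ n : ℕ, ∃ (m : ℕ) (h : n ≤ m),
      ∀ (W : Type u) [AddCommGroup W] [Module A W] [Module.Finite A W],
      (∀ c ∈ I, ∀ w : W, c • w = 0) → ∀ e : Dual.inD A W ⟶
        (shiftFunctor (Dual.D A) p).obj (Dual.inD A ↥(I ^ m • ⊤ : Submodule A M)),
        e ≫ (shiftFunctor (Dual.D A) p).map (inMap (inc I M h)) = 0 from
    this (p + 1).toNat p (by omega)
  intro q
  induction q with
  | zero =>
    intro p hp n
    exact ⟨n, le_rfl, fun W _ _ _ _ e => by rw [hom_neg _ _ p (by omega) e, zero_comp]⟩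
  | succ q ih =>
    intro p hp n
    obtain ⟨n₁, h₁, hn₁⟩ := ih (p - 1) (by omega) n
    obtain ⟨m, hm, hA⟩ := exists_comp_inc_eq_zero I (M := M) (A ⧸ I) (fun c hc w => by
      obtain ⟨a, rfl⟩ := Submodule.Quotient.mk_surjective I w
      rw [← Submodule.Quotient.mk_smul, Submodule.Quotient.mk_eq_zero]
      exact I.mul_mem_right a hc) p n₁
    refine ⟨m, h₁.trans hm, fun W _ _ _ hW e => ?_⟩
    obtain ⟨r, f, hf⟩ := exists_cover I W hW
    let S : ShortComplex (ModuleCat.{u} A) :=
      ShortComplex.mk (ModuleCat.ofHom (LinearMap.ker f).subtype) (ModuleCat.ofHom f)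
        (ModuleCat.hom_ext (LinearMap.ext fun x => x.2))
    have hS : S.ShortExact :=
      { exact := S.moduleCat_exact_iff.2 fun x hx => ⟨⟨x, hx⟩, rfl⟩
        mono_f := (ModuleCat.mono_iff_injective _).2 Subtype.val_injective
        epi_g := (ModuleCat.epi_iff_surjective _).2 hf }
    let e' := e ≫ (shiftFunctor (Dual.D A) p).map (inMap (inc I M hm))
    have hpi : inMap S.g ≫ e' = 0 := by
      have hid : 𝟙 S.X₂ = ∑ i : Fin r, ModuleCat.ofHom (LinearMap.proj (φ := fun _ : Fin r => A ⧸ I) i) ≫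
          (ModuleCat.ofHom (LinearMap.single A (fun _ : Fin r => A ⧸ I) i) :
            ModuleCat.of A (A ⧸ I) ⟶ S.X₂) :=
        ModuleCat.hom_ext (LinearMap.ext fun x => by
          simp only [ModuleCat.hom_sum, LinearMap.sum_apply]
          exact (Finset.univ_sum_single x).symm)
      rw [← Category.id_comp (inMap S.g ≫ e'), ← (singleFunctor (ModuleCat.{u} A) 0).map_id, hid,
        Functor.map_sum, Preadditive.sum_comp]
      refine Finset.sum_eq_zero fun i _ => ?_
      rw [Functor.map_comp, Category.assoc]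
      have := hA (inMap (ModuleCat.ofHom (LinearMap.single A (fun _ : Fin r => A ⧸ I) i) :
        ModuleCat.of A (A ⧸ I) ⟶ S.X₂) ≫ inMap S.g ≫ e)
      simp only [Category.assoc] at this
      exact (congrArg _ this).trans comp_zero
    obtain ⟨(g : (shiftFunctor (Dual.D A) (1 : ℤ)).obj (Dual.inD A (LinearMap.ker f)) ⟶
        (shiftFunctor (Dual.D A) p).obj (Dual.inD A ↥(I ^ n₁ • ⊤ : Submodule A M))), hg⟩ :=
      Triangle.yoneda_exact₃ _ hS.singleTriangle_distinguished e' hpi
    let c := shiftFunctorAdd' (Dual.D A) (p - 1) 1 p (by omega)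
    obtain ⟨g₀, hg₀⟩ := (shiftFunctor (Dual.D A) (1 : ℤ)).map_surjective (g ≫ c.hom.app _)
    have h0 : g ≫ (shiftFunctor (Dual.D A) p).map (inMap (inc I M h₁)) = 0 := by
      have hW' : ∀ a ∈ I, ∀ w : LinearMap.ker f, a • w = 0 := fun a ha w => Subtype.ext (funext fun i => by
        obtain ⟨b, hb⟩ := Submodule.Quotient.mk_surjective I (w.1 i)
        show a • w.1 i = 0
        rw [← hb, ← Submodule.Quotient.mk_smul, Submodule.Quotient.mk_eq_zero]
        exact I.mul_mem_right b ha)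
      rw [← cancel_mono (c.hom.app _), Category.assoc, c.hom.naturality, ← Category.assoc, ← hg₀,
        Functor.comp_map, ← Functor.map_comp, hn₁ _ hW' g₀, Functor.map_zero, zero_comp]
    calc e ≫ (shiftFunctor (Dual.D A) p).map (inMap (inc I M (h₁.trans hm)))
        = e' ≫ (shiftFunctor (Dual.D A) p).map (inMap (inc I M h₁)) := by
          simp only [e', Category.assoc, ← Functor.map_comp, inc_comp]
      _ = 0 := by
          rw [hg]
          exact (Category.assoc _ _ _).trans ((congrArg _ h0).trans comp_zero)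

end Uniform

section System

variable [IsNoetherianRing A] (I J : Ideal A) [DRing.HasRgammaI J] (M : Type u) [AddCommGroup M] [Module A M]

/-- `M ⟶ M ⧸ I^n M` -/
noncomputable def π₀ (n : ℕ) : ModuleCat.of A M ⟶ ModuleCat.of A (M ⧸ (I ^ n • ⊤ : Submodule A M)) :=
  ModuleCat.ofHom (Submodule.mkQ _)

/-- transition maps -/
noncomputable def T₀ {n m : ℕ} (h : n ≤ m) :
    ModuleCat.of A (M ⧸ (I ^ m • ⊤ : Submodule A M)) ⟶ ModuleCat.of A (M ⧸ (I ^ n • ⊤ : Submodule A M)) :=
  ModuleCat.ofHom (Submodule.mapQ _ _ LinearMap.id (Submodule.smul_mono (Ideal.pow_le_pow_right h) le_rfl))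

/-- the system -/
noncomputable abbrev X (n : ℕ) : Dual.D A :=
  (DRing.RgammaI J).obj (Dual.inD A (M ⧸ (I ^ n • ⊤ : Submodule A M)))

/-- transition maps of the system -/
noncomputable abbrev T (n m : ℕ) (h : n ≤ m) : X I J M m ⟶ X I J M n :=
  (DRing.RgammaI J).map (inMap (T₀ I M h))

/-- the projections -/
noncomputable abbrev π (n : ℕ) : (DRing.RgammaI J).obj (Dual.inD A M) ⟶ X I J M n :=
  (DRing.RgammaI J).map (inMap (π₀ I M n))

omit [IsNoetherianRing A] in
theorem T_id (n : ℕ) : T I J M n n le_rfl = 𝟙 _ := by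
  have : T₀ I M (le_refl n) = 𝟙 _ := ModuleCat.hom_ext (Submodule.linearMap_qext _ rfl)
  rw [T, this]
  exact (congrArg _ (CategoryTheory.Functor.map_id _ _)).trans (CategoryTheory.Functor.map_id _ _)

omit [IsNoetherianRing A] in
theorem T_comp (a b c : ℕ) (h : a ≤ b) (h' : b ≤ c) :
    T I J M b c h' ≫ T I J M a b h = T I J M a c (h.trans h') := by
  have : T₀ I M h' ≫ T₀ I M h = T₀ I M (h.trans h') := ModuleCat.hom_ext (Submodule.linearMap_qext _ rfl)
  exact ((DRing.RgammaI J).map_comp _ _).symm.trans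
    (congrArg (DRing.RgammaI J).map (((singleFunctor (ModuleCat.{u} A) 0).map_comp _ _).symm.trans
      (congrArg inMap this)))

omit [IsNoetherianRing A] in
theorem π_T (n m : ℕ) (h : n ≤ m) : π I J M m ≫ T I J M n m h = π I J M n := by
  have : π₀ I M m ≫ T₀ I M h = π₀ I M n := rfl
  exact ((DRing.RgammaI J).map_comp _ _).symm.trans
    (congrArg (DRing.RgammaI J).map (((singleFunctor (ModuleCat.{u} A) 0).map_comp _ _).symm.trans
      (congrArg inMap this)))

omit [IsNoetherianRing A] in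
theorem map_ε {V V' : ModuleCat.{u} A} (g : V ⟶ V') (p : ℤ) :
    (shiftFunctor (Dual.D A) p).map ((DRing.RgammaI J).map (inMap g)) ≫
        (shiftFunctor (Dual.D A) p).map ((DRing.RgammaIε J).app (Dual.inD A V')) =
      (shiftFunctor (Dual.D A) p).map ((DRing.RgammaIε J).app (Dual.inD A V)) ≫
        (shiftFunctor (Dual.D A) p).map (inMap g) := by
  rw [← Functor.map_comp, ← Functor.map_comp, (DRing.RgammaIε J).naturality]
  rfl

variable [Module.Finite A M]

theorem good (W : Type u) [AddCommGroup W] [Module A W] [Module.Finite A W]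
    (hW : ∀ c ∈ I, ∀ w : W, c • w = 0) (j : ℤ) :
    Milnor.Good (X I J M) (T I J M) (π I J M) ((shiftFunctor (Dual.D A) j).obj (Dual.inD A W)) := by
  obtain ⟨p, hp⟩ : ∃ p : ℤ, j + p = 0 := ⟨-j, add_neg_cancel j⟩
  have hW' : ∀ k : ℕ, ∀ c ∈ I, ∀ w : W ⧸ (J ^ k • ⊤ : Submodule A W), c • w = 0 := fun k c hc w => by
    obtain ⟨v, rfl⟩ := Submodule.Quotient.mk_surjective _ w
    rw [← Submodule.Quotient.mk_smul, hW c hc, Submodule.Quotient.mk_zero]
  have hJ : ∀ k : ℕ, ∀ c ∈ J ^ k, ∀ w : W ⧸ (J ^ k • ⊤ : Submodule A W), c • w = 0 := fun k c hc w => by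
    obtain ⟨v, rfl⟩ := Submodule.Quotient.mk_surjective _ w
    rw [← Submodule.Quotient.mk_smul, Submodule.Quotient.mk_eq_zero]
    exact Submodule.smul_mem_smul hc Submodule.mem_top
  refine Milnor.good_of_shifted j p hp _ ?_ fun n => ?_
  · obtain ⟨m₀, h₀, hm₀⟩ := exists_uniform I M p 0
    refine ⟨m₀, fun x hx => ?_⟩
    obtain ⟨k, x', rfl⟩ := RGHom.exists_factor_RgammaI J M p x
    rw [Category.assoc] at hx
    obtain ⟨k', hk, hk'⟩ := RGHom.exists_factor_zero_RgammaI J _ p k _ hx
    let x₀ := inMap (pJ J W hk) ≫ x' ≫ (shiftFunctor (Dual.D A) p).map ((DRing.RgammaIε J).app (Dual.inD A M))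
    have h1 : x₀ ≫ (shiftFunctor (Dual.D A) p).map (inMap (π₀ I M m₀)) = 0 := by
      simp only [x₀, Category.assoc]
      refine (congrArg (fun t => inMap (pJ J W hk) ≫ x' ≫ t) (map_ε J (π₀ I M m₀) p).symm).trans ?_
      refine (congrArg (inMap (pJ J W hk) ≫ ·) (Category.assoc _ _ _).symm).trans ?_
      exact (Category.assoc _ _ _).symm.trans ((congrArg (· ≫ _) hk').trans zero_comp)
    obtain ⟨z, hz⟩ := ExtAR.exact₂_shift _
      (ExtAR.sesQ_shortExact (I ^ m₀ • ⊤ : Submodule A M)).singleTriangle_distinguished p x₀ h1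
    have hinc : inMap (inc I M h₀) ≫ inMap (ModuleCat.ofHom (I ^ 0 • ⊤ : Submodule A M).subtype) =
        inMap (ModuleCat.ofHom (I ^ m₀ • ⊤ : Submodule A M).subtype) :=
      (Functor.map_comp _ _ _).symm
    have h2 : x₀ = 0 := by
      rw [hz]
      change z ≫ (shiftFunctor (Dual.D A) p).map (inMap (ModuleCat.ofHom (I ^ m₀ • ⊤ : Submodule A M).subtype)) = 0
      refine (congrArg (fun t => z ≫ (shiftFunctor (Dual.D A) p).map t) hinc.symm).trans ?_
      refine (congrArg (z ≫ ·) ((shiftFunctor (Dual.D A) p).map_comp _ _)).trans ?_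
      exact (Category.assoc _ _ _).symm.trans ((congrArg (· ≫ _) (hm₀ _ (hW' k') z)).trans zero_comp)
    have h3 : inMap (pJ J W hk) ≫ x' = 0 :=
      (RGHom.bijective_comp_ε_shift J k' (hJ k') (Dual.inD A M) p).1
        ((Category.assoc _ _ _).trans (h2.trans zero_comp.symm))
    rw [← RGHom.qJ_pJ J W hk]
    refine (congrArg (· ≫ x') ((singleFunctor (ModuleCat.{u} A) 0).map_comp _ _)).trans ?_
    exact (Category.assoc _ _ _).trans ((congrArg _ h3).trans comp_zero)
  · obtain ⟨m, hm, hm'⟩ := exists_uniform I M (p + 1) n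
    refine ⟨m, hm, fun y => ?_⟩
    obtain ⟨k, y', rfl⟩ := RGHom.exists_factor_RgammaI J _ p y
    let y₀ := y' ≫ (shiftFunctor (Dual.D A) p).map
      ((DRing.RgammaIε J).app (Dual.inD A (M ⧸ (I ^ m • ⊤ : Submodule A M))))
    let hSm := ExtAR.sesQ_shortExact (I ^ m • ⊤ : Submodule A M)
    let hSn := ExtAR.sesQ_shortExact (I ^ n • ⊤ : Submodule A M)
    have hnat : inMap (T₀ I M hm) ≫ hSn.singleTriangle.mor₃ =
        hSm.singleTriangle.mor₃ ≫ (shiftFunctor (Dual.D A) (1 : ℤ)).map (inMap (inc I M hm)) :=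
      (ShortComplex.ShortExact.singleTriangle.map hSm hSn
        (ExtAR.sesQMap (Submodule.smul_mono (Ideal.pow_le_pow_right hm) le_rfl))).comm₃.symm
    let c := shiftFunctorAdd' (Dual.D A) 1 p (p + 1) (add_comm 1 p)
    have h1 : (y₀ ≫ (shiftFunctor (Dual.D A) p).map (inMap (T₀ I M hm))) ≫
        (shiftFunctor (Dual.D A) p).map hSn.singleTriangle.mor₃ = 0 := by
      refine (Category.assoc _ _ _).trans ?_
      refine (congrArg (y₀ ≫ ·) (((shiftFunctor (Dual.D A) p).map_comp _ _).symm.trans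
        ((congrArg (shiftFunctor (Dual.D A) p).map hnat).trans ((shiftFunctor (Dual.D A) p).map_comp _ _)))).trans ?_
      refine (cancel_mono (c.inv.app _)).1 (Eq.trans ?_ zero_comp.symm)
      refine (Category.assoc _ _ _).trans ?_
      refine (congrArg (y₀ ≫ ·) ((Category.assoc _ _ _).trans
        (congrArg _ (c.inv.naturality (inMap (inc I M hm)))))).trans ?_
      refine (congrArg (y₀ ≫ ·) (Category.assoc _ _ _).symm).trans ?_
      exact (Category.assoc _ _ _).symm.trans (hm' _ (hW' k) _)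
    obtain ⟨x₀, hx₀⟩ := ExtAR.exact₃_shift _ hSn.singleTriangle_distinguished p _ h1
    obtain ⟨x', hx'⟩ := (RGHom.bijective_comp_ε_shift J k (hJ k) (Dual.inD A M) p).2 x₀
    refine ⟨inMap (qJ J W k) ≫ x', ?_⟩
    rw [Category.assoc, Category.assoc]
    refine congrArg _ ((RGHom.bijective_comp_ε_shift J k (hJ k) _ p).1 ?_)
    change (x' ≫ _) ≫ _ = (y' ≫ _) ≫ _
    rw [Category.assoc, Category.assoc, map_ε, map_ε, ← Category.assoc, ← Category.assoc]
    exact (congrArg (· ≫ _) hx').trans hx₀.symm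

end System

section Complete

variable [IsNoetherianRing A] (I J : Ideal A) [DRing.HasRgammaI J] (M : Type u) [AddCommGroup M] [Module A M]

theorem complete_X (n : ℕ) : DRing.IsDerivedComplete I (X I J M n) := by
  intro f hf j
  refine subsingleton_away (n := n) ?_ j
  have hN : f ^ n • 𝟙 (Dual.inD A (M ⧸ (I ^ n • ⊤ : Submodule A M))) = 0 :=
    smul_hom_eq_zero (fun w => by
      obtain ⟨v, rfl⟩ := Submodule.Quotient.mk_surjective _ w
      rw [← Submodule.Quotient.mk_smul, Submodule.Quotient.mk_eq_zero]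
      exact Submodule.smul_mem_smul (Ideal.pow_mem_pow hf n) Submodule.mem_top) _
  refine (RGHom.bijective_comp_ε J (RGamma.HD_RgammaI_torsion J _) _).1 ?_
  change (f ^ n • 𝟙 (X I J M n)) ≫ _ = 0 ≫ _
  rw [zero_comp, Linear.smul_comp, Category.id_comp]
  have := congrArg (fun t => (DRing.RgammaIε J).app (Dual.inD A (M ⧸ (I ^ n • ⊤ : Submodule A M))) ≫ t) hN
  simp only [Functor.id_obj, comp_zero, Linear.comp_smul, Category.comp_id] at this
  exact this

omit [IsNoetherianRing A] in
theorem complete_cone {T : Triangle (Dual.D A)} (hT : T ∈ distinguishedTriangles)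
    (h₁ : DRing.IsDerivedComplete I T.obj₁) (h₂ : DRing.IsDerivedComplete I T.obj₂) :
    DRing.IsDerivedComplete I T.obj₃ := fun f hf j =>
  subsingleton_of_forall_eq 0 fun φ => by
    have := h₁ f hf (1 + j)
    have := h₂ f hf j
    have h0 : φ ≫ (shiftFunctor (Dual.D A) j).map T.mor₃ = 0 := by
      rw [← cancel_mono ((shiftFunctorAdd' (Dual.D A) 1 j (1 + j) rfl).inv.app T.obj₁)]
      exact Subsingleton.elim _ _
    obtain ⟨g, rfl⟩ := ExtAR.exact₃_shift T hT j φ h0
    rw [Subsingleton.elim g 0, zero_comp]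

end Complete

section Detect

variable [IsNoetherianRing A] (I : Ideal A)

theorem subsingleton_of_killed_pow {C : Dual.D A}
    (h : ∀ (W : Type u) [AddCommGroup W] [Module A W] [Module.Finite A W], (∀ c ∈ I, ∀ w : W, c • w = 0) →
      ∀ p : ℤ, Subsingleton (Dual.inD A W ⟶ (shiftFunctor (Dual.D A) p).obj C)) :
    ∀ (k : ℕ) (W : Type u) [AddCommGroup W] [Module A W] [Module.Finite A W],
      (∀ c ∈ I ^ k, ∀ w : W, c • w = 0) →
      ∀ p : ℤ, Subsingleton (Dual.inD A W ⟶ (shiftFunctor (Dual.D A) p).obj C) := by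
  intro k
  induction k with
  | zero =>
    intro W _ _ _ hW p
    refine h W (fun c _ w => ?_) p
    have := hW 1 (by simp) w
    rw [one_smul] at this
    rw [this, smul_zero]
  | succ k ih =>
    intro W _ _ _ hW p
    refine subsingleton_of_forall_eq 0 fun φ => ?_
    have h1 := h ↥(I ^ k • ⊤ : Submodule A W) (fun c hc w => Subtype.ext ((Submodule.mem_bot A).1
      ((?_ : c • w.1 ∈ (⊥ : Submodule A W))))) p
    · obtain ⟨g, hg⟩ := Triangle.yoneda_exact₂ _
        (ExtAR.sesQ_shortExact (I ^ k • ⊤ : Submodule A W)).singleTriangle_distinguished φ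
        (Subsingleton.elim (α := Dual.inD A ↥(I ^ k • ⊤ : Submodule A W) ⟶ _) _ _)
      have h2 := ih (W ⧸ (I ^ k • ⊤ : Submodule A W)) (fun c hc w => by
        obtain ⟨v, rfl⟩ := Submodule.Quotient.mk_surjective _ w
        rw [← Submodule.Quotient.mk_smul, Submodule.Quotient.mk_eq_zero]
        exact Submodule.smul_mem_smul hc Submodule.mem_top) p
      rw [hg, show g = 0 from Subsingleton.elim (α := Dual.inD A (W ⧸ (I ^ k • ⊤ : Submodule A W)) ⟶ _) _ _]
      exact comp_zero
    · refine (Submodule.smul_le.2 fun a ha w _ => (Submodule.mem_bot A).2 (hW a ha w) :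
        (I ^ (k + 1) • ⊤ : Submodule A W) ≤ ⊥) ?_
      rw [pow_succ', Submodule.mul_smul]
      exact Submodule.smul_mem_smul hc w.2

theorem isZero_RgammaI_of_hom [DRing.HasRgammaI I] (C : Dual.D A)
    (h : ∀ (W : Type u) [AddCommGroup W] [Module A W] [Module.Finite A W], (∀ c ∈ I, ∀ w : W, c • w = 0) →
      ∀ p : ℤ, Subsingleton (Dual.inD A W ⟶ (shiftFunctor (Dual.D A) p).obj C)) :
    IsZero ((DRing.RgammaI I).obj C) := by
  obtain ⟨E, hE, -, ⟨e⟩⟩ := RGamma.exists_resolution C
  have := RGamma.isIso_unitQ I E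
  refine IsZero.of_iso (Devissage.isZero_of_subsingleton_HD fun i => ?_)
    ((asIso (RGamma.unitQ I E) ≪≫ (DRing.RgammaI I).mapIso e).symm)
  rw [DBasic.subsingleton_HD_toD_iff, ← HomologicalComplex.exactAt_iff_isZero_homology,
    exactAt_iff_forall i (i - 1) (by omega)]
  rintro ⟨z, k, hk⟩ hz
  let φ : ModuleCat.of A (A ⧸ I ^ k) ⟶ E.X i :=
    ModuleCat.ofHom (Submodule.liftQ (I ^ k) (LinearMap.toSpanSingleton A (E.X i) z) fun c hc => hk c hc)
  have hφ : φ ≫ E.d i (i + 1) = 0 := ModuleCat.hom_ext (Submodule.linearMap_qext _ (LinearMap.ext_ring (by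
    change (E.d i (i + 1)).hom ((1 : A) • z) = 0
    rw [one_smul]
    exact congrArg Subtype.val hz)))
  obtain ⟨g, hg⟩ := RGHom.exists_chain φ hφ
  have hk' : ∀ c ∈ I ^ k, ∀ w : A ⧸ I ^ k, c • w = 0 := fun c hc w => by
    obtain ⟨v, rfl⟩ := Submodule.Quotient.mk_surjective _ w
    rw [← Submodule.Quotient.mk_smul, Submodule.Quotient.mk_eq_zero]
    exact (I ^ k).mul_mem_right v hc
  have hs := (InjAmp.subsingleton_ext_iff C (A ⧸ I ^ k) i).1 (subsingleton_of_killed_pow I h k (A ⧸ I ^ k) hk' i)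
  have h0 : Q.map g = 0 := by
    rw [← cancel_mono e.hom, zero_comp]
    exact hs.elim _ _
  obtain ⟨ψ, hψ⟩ := (RGHom.Q_map_eq_zero_iff g).1 h0
  refine ⟨⟨ψ.hom (Submodule.Quotient.mk 1), k, fun c hc => ?_⟩, Subtype.ext ?_⟩
  · rw [← map_smul, hk' c hc, map_zero]
  · exact (ConcreteCategory.congr_hom (hψ.trans hg) (Submodule.Quotient.mk 1)).trans (one_smul A z)

theorem isZero_of_complete [DRing.HasRgammaI I] [DRing.HasDerivedCompletion I] (C : Dual.D A)
    (hC : DRing.IsDerivedComplete I C) (h0 : IsZero ((DRing.RgammaI I).obj C)) : IsZero C := by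
  have := GM.isIso_completion_map_ε I C
  have hz : IsZero ((DRing.derivedCompletion I).obj C) :=
    IsZero.of_iso ((DRing.derivedCompletion I).map_isZero h0)
      (asIso ((DRing.derivedCompletion I).map ((DRing.RgammaIε I).app C))).symm
  refine (IsZero.iff_id_eq_zero C).2 ?_
  exact ((DRing.derivedCompletionAdj I).homEquiv C ⟨C, hC⟩).symm.injective (hz.eq_of_src _ _)

end Detect

section Main

variable [IsNoetherianRing A] (I J : Ideal A) [DRing.HasRgammaI J] [DRing.HasDerivedCompletion I]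
  [∀ K : ℕ → Dual.D A, HasProduct K] (M : Type u) [AddCommGroup M] [Module A M] [Module.Finite A M]

theorem main_compat :
    (∃ (a : ((DRing.derivedCompletion I).obj ((DRing.RgammaI J).obj (Dual.inD A M))).obj ⟶ ∏ᶜ (X I J M))
      (c : (∏ᶜ (X I J M)) ⟶ (shiftFunctor (Dual.D A) (1 : ℤ)).obj
        ((DRing.derivedCompletion I).obj ((DRing.RgammaI J).obj (Dual.inD A M))).obj),
      Triangle.mk a (Pi.lift fun n => Pi.π (X I J M) n - Pi.π (X I J M) (n + 1) ≫ T I J M n (n + 1) (Nat.le_succ n)) c ∈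
        distinguishedTriangles ∧
      ∀ n, DRing.toDerivedCompletion I ((DRing.RgammaI J).obj (Dual.inD A M)) ≫ a ≫ Pi.π (X I J M) n = π I J M n) ∧
    ∀ i : ℤ, i < 0 → Subsingleton
      (Dual.HD A ((DRing.derivedCompletion I).obj ((DRing.RgammaI J).obj (Dual.inD A M))).obj i) := by
  have : DRing.HasRgammaI I :=
    (DTrunc.RightDerived.hasEnough (A := ModuleCat.{u} A) (DRing.gammaIKh I)).hasRightDerivedFunctor _
  obtain ⟨L, a, c, hT⟩ := distinguished_cocone_triangle₁
    (Pi.lift fun n => Pi.π (X I J M) n - Pi.π (X I J M) (n + 1) ≫ T I J M n (n + 1) (Nat.le_succ n))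
  -- `L` is derived complete
  have hL : DRing.IsDerivedComplete I L := fun f hf j =>
    (Milnor.homEq (-j) j (neg_add_cancel j) _ L).subsingleton_congr.1 (Milnor.subsingleton_hom hT
      (fun n => subsingleton_shifted _ (-j) j (neg_add_cancel j) (complete_X I J M n f hf j))
      (fun n => subsingleton_shifted_one _ (-j) (j - 1) (by omega) (complete_X I J M n f hf (j - 1))))
  let K := (DRing.RgammaI J).obj (Dual.inD A M)
  obtain ⟨φ, hφ⟩ := Milnor.exists_compare (π_T I J M) hT
  let η := DRing.toDerivedCompletion I K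
  let ψ' := ((DRing.derivedCompletionAdj I).homEquiv K ⟨L, hL⟩).symm φ
  have hψ : η ≫ ψ'.hom = φ :=
    ((DRing.derivedCompletionAdj I).homEquiv_unit ..).symm.trans (Equiv.apply_symm_apply _ _)
  let ψ : ((DRing.derivedCompletion I).obj K).obj ⟶ L := ψ'.hom
  have := GM.isIso_map_toDerivedCompletion I (IsNoetherian.noetherian I) K
  have hη : IsIso ((DRing.RgammaI I).map η) := this
  -- `Hom(W[j], ψ)` is bijective
  have hb : ∀ (W : Type u) [AddCommGroup W] [Module A W] [Module.Finite A W], (∀ c ∈ I, ∀ w : W, c • w = 0) →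
      ∀ j : ℤ, Function.Bijective fun f : (shiftFunctor (Dual.D A) j).obj (Dual.inD A W) ⟶ _ => f ≫ ψ := by
    intro W _ _ _ hW j
    let S := (shiftFunctor (Dual.D A) j).obj (Dual.inD A W)
    have hS := RGHom.torsion_shift I (RGHom.HD_inD_torsion I 1 (by simpa using hW)) j
    have h1 : Function.Bijective fun f : S ⟶ K => f ≫ η := by
      have e1 := (RGHom.bijective_comp_ε I hS ((DRing.derivedCompletion I).obj K).obj).comp
        ((asIso ((DRing.RgammaI I).map η)).homToEquiv (Z := S)).bijective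
      have e2 := RGHom.bijective_comp_ε I hS K
      refine (Function.Bijective.of_comp_iff _ e2).1 ?_
      convert e1 using 1
      funext f
      change (f ≫ _) ≫ η = (f ≫ (DRing.RgammaI I).map η) ≫ _
      rw [Category.assoc, Category.assoc, (DRing.RgammaIε I).naturality]
      rfl
    have h2 : Function.Bijective fun f : S ⟶ K => f ≫ φ :=
      Milnor.bijective (T_id I J M) (T_comp I J M) (π_T I J M) hT (good I J M W hW j)
        ((good I J M W hW (j + 1)).of_iso ((shiftFunctorAdd' (Dual.D A) j 1 (j + 1) rfl).app _)) hφ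
    refine (Function.Bijective.of_comp_iff _ h1).1 ?_
    convert h2 using 1
    funext f
    exact (Category.assoc _ _ _).trans (congrArg (f ≫ ·) hψ)
  -- `ψ` is an isomorphism
  obtain ⟨C, u, v, hC⟩ := distinguished_cocone_triangle ψ
  have hCc : DRing.IsDerivedComplete I C :=
    complete_cone I hC ((DRing.derivedCompletion I).obj K).property hL
  have hC0 : IsZero ((DRing.RgammaI I).obj C) := isZero_RgammaI_of_hom I C fun W _ _ _ hW p => by
    refine (Milnor.homEq (-p) p (neg_add_cancel p) _ C).subsingleton_congr.1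
      (subsingleton_of_forall_eq 0 fun f => ?_)
    have hb' := hb W hW (-p)
    have hb1 := hb W hW (-p - 1)
    have h0 : f ≫ v = 0 := by
      let e := (shiftFunctorAdd' (Dual.D A) (-p - 1) 1 (-p) (by omega)).app (Dual.inD A W)
      obtain ⟨f₀, hf₀⟩ := (shiftFunctor (Dual.D A) (1 : ℤ)).map_surjective (e.inv ≫ f ≫ v)
      have hv : v ≫ (shiftFunctor (Dual.D A) (1 : ℤ)).map ψ = 0 := comp_distTriang_mor_zero₃₁ _ hC
      have hf0 : f₀ = 0 := hb1.1 (by
        change f₀ ≫ ψ = 0 ≫ ψ
        rw [zero_comp]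
        apply (shiftFunctor (Dual.D A) (1 : ℤ)).map_injective
        rw [Functor.map_comp, hf₀, Functor.map_zero, Category.assoc, Category.assoc, hv, comp_zero, comp_zero])
      rw [← cancel_epi e.inv, ← hf₀, hf0, Functor.map_zero, comp_zero]
    obtain ⟨g, rfl⟩ := Triangle.coyoneda_exact₃ _ hC f h0
    obtain ⟨g', rfl⟩ := hb'.2 g
    change (g' ≫ ψ) ≫ u = 0
    have hu : ψ ≫ u = 0 := comp_distTriang_mor_zero₁₂ _ hC
    rw [Category.assoc, hu, comp_zero]
  have hiso : IsIso ψ := (Triangle.isZero₃_iff_isIso₁ _ hC).1 (isZero_of_complete I C hCc hC0)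
  let e := asIso ψ
  refine ⟨⟨ψ ≫ a, c ≫ (shiftFunctor (Dual.D A) (1 : ℤ)).map e.inv,
    isomorphic_distinguished _ hT _ ?_, fun n => ?_⟩, fun i hi => ?_⟩
  · refine Triangle.isoMk _ _ e (Iso.refl _) (Iso.refl _) ?_ ?_ ?_
    · exact (Category.comp_id _)
    · exact (Category.comp_id _).trans (Category.id_comp _).symm
    · change (c ≫ (shiftFunctor (Dual.D A) (1 : ℤ)).map e.inv) ≫ (shiftFunctor (Dual.D A) (1 : ℤ)).map e.hom =
        𝟙 _ ≫ c
      rw [Category.assoc, ← Functor.map_comp, e.inv_hom_id, CategoryTheory.Functor.map_id, Category.comp_id,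
        Category.id_comp]
  · exact ((congrArg (fun t => η ≫ t) (Category.assoc ψ a _)).trans (Category.assoc η ψ _).symm).trans
      ((congrArg (fun t => t ≫ a ≫ Pi.π (X I J M) n) hψ).trans (hφ n))
  · refine (DBasic.subsingleton_HD_congr e i).2 ?_
    refine InjAmp.subsingleton_HD_of_hom L i ((InjAmp.subsingleton_ext_iff L _ i).1 ?_)
    refine (Milnor.homEq (-i) i (neg_add_cancel i) _ L).subsingleton_congr.1 (Milnor.subsingleton_hom hT
      (fun n => subsingleton_shifted _ (-i) i (neg_add_cancel i) ?_)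
      (fun n => subsingleton_shifted_one _ (-i) (i - 1) (by omega) ?_))
    · exact subsingleton_of_forall_eq 0 (RGHom.eq_zero_of_neg J _ i hi)
    · exact subsingleton_of_forall_eq 0 (RGHom.eq_zero_of_neg J _ (i - 1) (by omega))

theorem main :
    DCoh.IsRlim (X I J M) (fun n => T I J M n (n + 1) (Nat.le_succ n))
      ((DRing.derivedCompletion I).obj ((DRing.RgammaI J).obj (Dual.inD A M))).obj ∧
    ∀ i : ℤ, i < 0 → Subsingleton
      (Dual.HD A ((DRing.derivedCompletion I).obj ((DRing.RgammaI J).obj (Dual.inD A M))).obj i) :=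
  (main_compat I J M).imp_left fun ⟨a, c, hT, _⟩ => ⟨a, c, hT⟩

end Main

end Groth.Agent.LocCoh.CompRlim
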