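import Groth.Agent.LocCoh.SuppHm
import Groth.Agent.LocCoh.CompletionRlim

/-!
# Comparing `colim Hom(A/𝔪^k, V[i])` with `H^i(RΓ_J V)`; `lim¹` of Artinian towers

* `exists_sub_eq`: `lim¹ = 0` for towers of Artinian modules;
* `β`, `β_natural`, `bijective_β`: the comparison for `J ≤ 𝔪`.
-/

universe v u

open CategoryTheory CategoryTheory.Limits DerivedCategory

attribute [local instance] HasDerivedCategory.standard

namespace Groth.Agent.LocCoh.BootBeta

open Groth.Agent.DRing Groth.Agent.DualCx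
open RGHom (inMap qJ pJ)

section Lim

variable {A : Type u} [CommRing A] (X : ℕ → Type v) [∀ n, AddCommGroup (X n)] [∀ n, Module A (X n)]
  (t : ∀ n, X (n + 1) →ₗ[A] X n)

/-- `lim¹ = 0` for Artinian towers -/
theorem exists_sub_eq [∀ n, IsArtinian A (X n)] (z : ∀ n, X n) :
    ∃ y : ∀ n, X n, ∀ n, y n - t n (y (n + 1)) = z n := by
  let f : ∀ n, X (n + 1) → X n := fun n x => z n + t n x
  let R : ℕ → ∀ n, Set (X n) := fun k => Nat.rec (fun _ => Set.univ) (fun _ r n => f n '' r (n + 1)) k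
  let W : ℕ → ∀ n, Submodule A (X n) :=
    fun k => Nat.rec (fun _ => ⊤) (fun _ w n => (w (n + 1)).map (t n)) k
  have hR : ∀ k n, ∃ a, ∀ x, x ∈ R k n ↔ x - a ∈ W k n := by
    intro k
    induction k with
    | zero => exact fun n => ⟨0, fun x => ⟨fun _ => trivial, fun _ => trivial⟩⟩
    | succ k ih =>
      intro n
      obtain ⟨a, ha⟩ := ih (n + 1)
      refine ⟨f n a, fun x => ⟨?_, ?_⟩⟩
      · rintro ⟨b, hb, rfl⟩
        exact ⟨b - a, (ha b).1 hb, by simp [f]⟩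
      · rintro ⟨c, hc, hx⟩
        refine ⟨a + c, (ha _).2 (by rwa [add_sub_cancel_left]), ?_⟩
        change t n c = x - f n a at hx
        simp only [f, map_add] at hx ⊢
        rw [hx]; abel
  have hmono : ∀ k l, k ≤ l → ∀ n, R l n ⊆ R k n ∧ W l n ≤ W k n := by
    have h1 : ∀ k n, R (k + 1) n ⊆ R k n ∧ W (k + 1) n ≤ W k n := by
      intro k
      induction k with
      | zero => exact fun n => ⟨fun _ _ => trivial, le_top⟩
      | succ k ih => exact fun n => ⟨Set.image_mono (ih (n + 1)).1, Submodule.map_mono (ih (n + 1)).2⟩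
    intro k l hkl
    induction l, hkl using Nat.le_induction with
    | base => exact fun n => ⟨subset_rfl, le_rfl⟩
    | succ l _ ih => exact fun n => ⟨(h1 l n).1.trans (ih n).1, (h1 l n).2.trans (ih n).2⟩
  have hK : ∀ n, ∃ K, ∀ k, K ≤ k → R K n ⊆ R k n := fun n => by
    obtain ⟨K, hK⟩ := IsArtinian.monotone_stabilizes
      ⟨fun k => OrderDual.toDual (W k n), fun a b h => (hmono a b h n).2⟩
    refine ⟨K, fun k hk x hx => ?_⟩
    obtain ⟨a, ha⟩ := hR K n
    obtain ⟨b, hb⟩ := hR k n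
    have e : W K n = W k n := congrArg OrderDual.ofDual (hK k hk)
    have hbK := (ha b).1 ((hmono K k hk n).1 ((hb b).2 (by rw [sub_self]; exact Submodule.zero_mem _)))
    rw [hb, ← e, show x - b = (x - a) - (b - a) by abel]
    exact Submodule.sub_mem _ ((ha x).1 hx) hbK
  choose K hK using hK
  let S : ∀ n, Set (X n) := fun n => R (K n) n
  have hstep : ∀ n, ∀ a ∈ S n, ∃ b ∈ S (n + 1), f n b = a := fun n a ha => by
    obtain ⟨b, hb, e⟩ := hK n (max (K n) (K (n + 1)) + 1) (by omega) ha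
    exact ⟨b, (hmono _ _ (le_max_right (K n) (K (n + 1))) (n + 1)).1 hb, e⟩
  choose g hg hg' using hstep
  obtain ⟨a₀, ha₀⟩ := hR (K 0) 0
  let y : ∀ n, {x : X n // x ∈ S n} := fun n =>
    Nat.rec (motive := fun n => {x : X n // x ∈ S n}) ⟨a₀, (ha₀ a₀).2 (by simp)⟩
      (fun n b => ⟨g n b.1 b.2, hg _ _ _⟩) n
  refine ⟨fun n => (y n).1, fun n => ?_⟩
  have h : f n (y (n + 1)).1 = (y n).1 := hg' n _ _
  change z n + t n (y (n + 1)).1 = (y n).1 at h
  dsimp only
  rw [← h]; abel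

end Lim

section Beta

variable {A : Type u} [CommRing A] [IsNoetherianRing A] {J m : Ideal A} [DRing.HasRgammaI J] (hJ : J ≤ m)
  (i : ℤ)

/-- `RΓ_J(V)[i]` -/
noncomputable abbrev R (J : Ideal A) [DRing.HasRgammaI J] (i : ℤ) (V : ModuleCat.{u} A) : Dual.D A :=
  (shiftFunctor (Dual.D A) i).obj ((DRing.RgammaI J).obj (Dual.inD A V))

/-- `A → A/𝔪^k` -/
noncomputable def qA (m : Ideal A) (k : ℕ) : Dual.inD A A ⟶ Dual.inD A (A ⧸ m ^ k) :=
  inMap (ModuleCat.ofHom (m ^ k).mkQ : ModuleCat.of A A ⟶ ModuleCat.of A (A ⧸ m ^ k))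

include hJ in
omit [IsNoetherianRing A] [DRing.HasRgammaI J] in
theorem kills (k : ℕ) : ∀ c ∈ J ^ k, ∀ w : A ⧸ m ^ k, c • w = 0 := fun c hc w => by
  obtain ⟨v, rfl⟩ := Submodule.Quotient.mk_surjective _ w
  rw [← Submodule.Quotient.mk_smul, Submodule.Quotient.mk_eq_zero]
  exact (m ^ k).mul_mem_right v (Ideal.pow_right_mono hJ k hc)

/-- lifting through `RΓ_J` -/
noncomputable def lift (V : ModuleCat.{u} A) (k : ℕ) :
    (Dual.inD A (A ⧸ m ^ k) ⟶ R J i V) ≃ₗ[A]
      (Dual.inD A (A ⧸ m ^ k) ⟶ (shiftFunctor (Dual.D A) i).obj (Dual.inD A V)) :=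
  LinearEquiv.ofBijective (CategoryTheory.Linear.rightComp A _
      ((shiftFunctor (Dual.D A) i).map ((DRing.RgammaIε J).app (Dual.inD A V))))
    (RGHom.bijective_comp_ε_shift J k (kills hJ k) (Dual.inD A V) i)

theorem lift_apply (V : ModuleCat.{u} A) (k : ℕ) (f : Dual.inD A (A ⧸ m ^ k) ⟶ R J i V) :
    lift hJ i V k f = f ≫ (shiftFunctor (Dual.D A) i).map ((DRing.RgammaIε J).app (Dual.inD A V)) := rfl

theorem lift_symm_comp (V : ModuleCat.{u} A) (k : ℕ)
    (e : Dual.inD A (A ⧸ m ^ k) ⟶ (shiftFunctor (Dual.D A) i).obj (Dual.inD A V)) :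
    (lift hJ i V k).symm e ≫ (shiftFunctor (Dual.D A) i).map ((DRing.RgammaIε J).app (Dual.inD A V)) = e :=
  (lift hJ i V k).apply_symm_apply e

/-- a stage -/
noncomputable def stage (V : ModuleCat.{u} A) (k : ℕ) :
    (Dual.inD A (A ⧸ m ^ k) ⟶ (shiftFunctor (Dual.D A) i).obj (Dual.inD A V)) →ₗ[A]
      (Dual.inD A A ⟶ R J i V) :=
  (CategoryTheory.Linear.leftComp A _ (qA m k)).comp (lift hJ i V k).symm.toLinearMap

theorem stage_qD (V : ModuleCat.{u} A) {n k : ℕ} (h : n ≤ k)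
    (e : Dual.inD A (A ⧸ m ^ n) ⟶ (shiftFunctor (Dual.D A) i).obj (Dual.inD A V)) :
    stage hJ i V k (TorsColim.qD m h ≫ e) = stage hJ i V n e := by
  have h1 : (lift hJ i V k).symm (TorsColim.qD m h ≫ e) = TorsColim.qD m h ≫ (lift hJ i V n).symm e :=
    (LinearEquiv.symm_apply_eq _).2 (by rw [lift_apply, Category.assoc, lift_symm_comp])
  have h2 : qA m k ≫ TorsColim.qD m h = qA m n := (Functor.map_comp _ _ _).symm
  change qA m k ≫ (lift hJ i V k).symm _ = qA m n ≫ _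
  rw [h1, ← Category.assoc, h2]
  rfl

/-- the cocone -/
noncomputable def cocone (V : ModuleCat.{u} A) :
    Cocone (TorsColim.sys m ((shiftFunctor (Dual.D A) i).obj (Dual.inD A V))) where
  pt := ModuleCat.of A (Dual.inD A A ⟶ R J i V)
  ι :=
    { app := fun n => ModuleCat.ofHom (stage hJ i V n.unop.unop)
      naturality := fun _ _ g => ModuleCat.hom_ext (LinearMap.ext fun e =>
        stage_qD hJ i V (leOfHom g.unop.unop) e) }

/-- `colim Hom(A/𝔪^k, V[i]) → Hom(A, RΓ_J(V)[i])` -/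
noncomputable def β (V : ModuleCat.{u} A) :
    TorsColim.L m ((shiftFunctor (Dual.D A) i).obj (Dual.inD A V)) →ₗ[A] (Dual.inD A A ⟶ R J i V) :=
  (colimit.desc _ (cocone hJ i V)).hom

theorem β_ι (V : ModuleCat.{u} A) (n : ℕ)
    (e : Dual.inD A (A ⧸ m ^ n) ⟶ (shiftFunctor (Dual.D A) i).obj (Dual.inD A V)) :
    β hJ i V (TorsColim.ι m n _ e) = qA m n ≫ (lift hJ i V n).symm e :=
  ConcreteCategory.congr_hom (colimit.ι_desc (cocone hJ i V) (Opposite.op (Opposite.op n))) e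

theorem β_natural {V V' : ModuleCat.{u} A} (g : V ⟶ V')
    (x : TorsColim.L m ((shiftFunctor (Dual.D A) i).obj (Dual.inD A V))) :
    β hJ i V' (TorsColim.map m ((shiftFunctor (Dual.D A) i).map (inMap g)) x) =
      β hJ i V x ≫ (shiftFunctor (Dual.D A) i).map ((DRing.RgammaI J).map (inMap g)) := by
  obtain ⟨n, e, rfl⟩ := TorsColim.exists_rep m x
  rw [TorsColim.map_ι, β_ι, β_ι, Category.assoc]
  refine congrArg (qA m n ≫ ·) ((LinearEquiv.symm_apply_eq _).2 ?_)
  rw [lift_apply, Category.assoc, CompRlim.map_ε, ← Category.assoc, lift_symm_comp]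

local notation "V(" I ")" => PrimeSpectrum.zeroLocus (SetLike.coe (I : Ideal A))

/-- `A/J^n → A/J^n A` -/
noncomputable def toTop (J : Ideal A) (n : ℕ) :
    ModuleCat.of A (A ⧸ J ^ n) ⟶ ModuleCat.of A (A ⧸ (J ^ n • ⊤ : Submodule A A)) :=
  ModuleCat.ofHom (Submodule.mapQ _ _ LinearMap.id fun c hc => by
    simpa using Submodule.smul_mem_smul hc (Submodule.mem_top : (1 : A) ∈ ⊤))

theorem bijective_β (V : ModuleCat.{u} A)
    (h : Function.Bijective (SuppCompare.incl (show V(m) ⊆ V(J) from fun _ hp => hJ.trans hp)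
      ((shiftFunctor (Dual.D A) i).obj (Dual.inD A V)))) :
    Function.Bijective (β hJ i V) := by
  open SuppGamma in
  let ε : R J i V ⟶ (shiftFunctor (Dual.D A) i).obj (Dual.inD A V) :=
    (shiftFunctor (Dual.D A) i).map ((DRing.RgammaIε J).app (Dual.inD A V))
  constructor
  · rw [injective_iff_map_eq_zero]
    intro x hx
    obtain ⟨n, e, rfl⟩ := TorsColim.exists_rep m x
    rw [β_ι] at hx
    let p : ModuleCat.of A (A ⧸ (J ^ n • ⊤ : Submodule A A)) ⟶ ModuleCat.of A (A ⧸ m ^ n) :=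
      ModuleCat.ofHom (Submodule.mapQ _ _ LinearMap.id fun c hc => Ideal.pow_right_mono hJ n (by simpa using hc))
    have hq : qA m n = inMap (qJ J A n) ≫ inMap p :=
      (congrArg inMap (show ModuleCat.ofHom (m ^ n).mkQ = qJ J A n ≫ p from rfl)).trans (Functor.map_comp _ _ _)
    rw [hq, Category.assoc] at hx
    obtain ⟨k', hk, hk'⟩ := RGHom.exists_factor_zero_RgammaI J V i n _ hx
    have h1 : inMap (toTop J k') ≫ inMap (pJ J A hk) ≫ inMap p ≫ e = 0 := by
      have h2 := congrArg (fun t => t ≫ ε) hk'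
      simp only [ε, Category.assoc, lift_symm_comp, zero_comp] at h2
      rw [h2, comp_zero]
    have h3 : inMap (toTop J k') ≫ inMap (pJ J A hk) ≫ inMap p =
        qT ((Ideal.pow_le_pow_right hk).trans (Ideal.pow_right_mono hJ n) : J ^ k' ≤ m ^ n) := by
      rw [qT, ← Functor.map_comp, ← Functor.map_comp]
      exact congrArg _ (ModuleCat.hom_ext (Submodule.linearMap_qext _ rfl))
    have h4 : qT ((Ideal.pow_le_pow_right hk).trans (Ideal.pow_right_mono hJ n) : J ^ k' ≤ m ^ n) ≫ e = 0 := by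
      rw [← h3]
      simpa only [Category.assoc] using h1
    have h5 : ιT (SuppHm.powIdx m n) _ e = 0 := by
      refine h.1 (Eq.trans ?_ (map_zero _).symm)
      rw [SuppCompare.incl_ι, SuppGamma.ιT_eq_zero_iff]
      exact ⟨SuppHm.powIdx J k', (Ideal.pow_le_pow_right hk).trans (Ideal.pow_right_mono hJ n), h4⟩
    obtain ⟨J', hJ', he'⟩ := (SuppGamma.ιT_eq_zero_iff (J := SuppHm.powIdx m n) e).1 h5
    obtain ⟨r, hr⟩ : ∃ r : ℕ, m ^ r ≤ J'.obj := Ideal.exists_pow_le_of_le_radical_of_fg_radical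
      (PrimeSpectrum.zeroLocus_subset_zeroLocus_iff _ _ |>.1 J'.property) (IsNoetherian.noetherian _)
    refine (TorsColim.ι_eq_zero_iff m e).2 ⟨max n r, le_max_left n r, ?_⟩
    rw [AnnDual.qD_eq, ← AnnDual.qT_comp ((Ideal.pow_le_pow_right (le_max_right n r)).trans hr) hJ',
      Category.assoc, he', comp_zero]
  · intro x
    obtain ⟨k, x', rfl⟩ := RGHom.exists_factor_RgammaI J V i x
    let x'' := inMap (toTop J k) ≫ x'
    let e := x'' ≫ ε
    obtain ⟨y, hy⟩ := h.2 (ιT (SuppHm.powIdx J k) _ e)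
    obtain ⟨J₁, e₁, rfl⟩ := SuppGamma.exists_rep y
    obtain ⟨r, hr⟩ : ∃ r : ℕ, m ^ r ≤ J₁.obj := Ideal.exists_pow_le_of_le_radical_of_fg_radical
      (PrimeSpectrum.zeroLocus_subset_zeroLocus_iff _ _ |>.1 J₁.property) (IsNoetherian.noetherian _)
    let e₂ := qT hr ≫ e₁
    refine ⟨TorsColim.ι m r _ e₂, ?_⟩
    have hv : V(m) ⊆ V(J) := fun _ hp => hJ.trans hp
    let Jr : Idx (V(J)) := ⟨m ^ r, (SuppHm.pow_mem m r).trans hv⟩
    have hsame : ιT Jr _ e₂ = ιT (SuppHm.powIdx J k) _ e :=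
      (SuppGamma.ιT_qT (J := Jr) (J' := ⟨J₁.obj, J₁.property.trans hv⟩) hr e₁).trans
        ((SuppCompare.incl_ι hv _ J₁ e₁).symm.trans hy)
    have hr' : J ^ max r k ≤ m ^ r := (Ideal.pow_le_pow_right (le_max_left r k)).trans (Ideal.pow_right_mono hJ r)
    have hk' : J ^ max r k ≤ J ^ k := Ideal.pow_le_pow_right (le_max_right r k)
    have h0 : ιT (SuppHm.powIdx J (max r k)) _ (qT hr' ≫ e₂ - qT hk' ≫ e) = 0 :=
      (map_sub _ _ _).trans (sub_eq_zero.2 ((SuppGamma.ιT_qT (J := SuppHm.powIdx J (max r k)) (J' := Jr) hr' e₂).trans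
        (hsame.trans (SuppGamma.ιT_qT (J := SuppHm.powIdx J (max r k)) (J' := SuppHm.powIdx J k) hk' e).symm)))
    obtain ⟨J₂, hJ₂, hd⟩ := (SuppGamma.ιT_eq_zero_iff (J := SuppHm.powIdx J (max r k)) _).1 h0
    obtain ⟨l, hl⟩ : ∃ l : ℕ, J ^ l ≤ J₂.obj := Ideal.exists_pow_le_of_le_radical_of_fg_radical
      (PrimeSpectrum.zeroLocus_subset_zeroLocus_iff _ _ |>.1 J₂.property) (IsNoetherian.noetherian _)
    have hA : J ^ l ≤ m ^ r := (hl.trans hJ₂).trans hr'
    have hB : J ^ l ≤ J ^ k := (hl.trans hJ₂).trans hk'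
    have hd' : qT hA ≫ e₂ = qT hB ≫ e := by
      rw [← sub_eq_zero, ← AnnDual.qT_comp (hl.trans hJ₂) hr', ← AnnDual.qT_comp (hl.trans hJ₂) hk',
        Category.assoc, Category.assoc, ← Preadditive.comp_sub, ← AnnDual.qT_comp hl hJ₂, Category.assoc,
        hd, comp_zero]
    have hu : qT hA ≫ (lift hJ i V r).symm e₂ = qT hB ≫ x'' := by
      refine (RGHom.bijective_comp_ε_shift J l (fun c hc w => ?_) (Dual.inD A V) i).1 ?_
      · obtain ⟨v, rfl⟩ := Submodule.Quotient.mk_surjective _ w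
        rw [← Submodule.Quotient.mk_smul, Submodule.Quotient.mk_eq_zero]
        exact (J ^ l).mul_mem_right v hc
      · change (qT hA ≫ _) ≫ ε = (qT hB ≫ x'') ≫ ε
        rw [Category.assoc, Category.assoc, lift_symm_comp]
        exact hd'
    let q : Dual.inD A A ⟶ Dual.inD A (A ⧸ J ^ l) :=
      inMap (ModuleCat.ofHom (J ^ l).mkQ : ModuleCat.of A A ⟶ ModuleCat.of A (A ⧸ J ^ l))
    have h1 : q ≫ qT hA = qA m r := (Functor.map_comp _ _ _).symm
    have h2 : q ≫ qT hB ≫ inMap (toTop J k) = inMap (qJ J A k) := by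
      simp only [q, qT, ← Functor.map_comp]
      rfl
    rw [β_ι, ← h1, Category.assoc, hu, ← h2]
    simp only [x'', Category.assoc]

end Beta

end Groth.Agent.LocCoh.BootBeta
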