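import Groth.Agent.LocCoh.BootPoint
import Groth.Agent.Hensel.Completion
import Groth.Agent.Adic.Rig.Hom

/-!
# The completed local rings of `A^∧` at primes over `V(I)` are those of `A`

* `exists_algEquiv`: `(A_{q₀})^∧ ≅ ((A^∧)_q)^∧` over `A`;
* `exists_eN`: the completed localisation of a module as a base change.
-/

universe u

open scoped TensorProduct

namespace Groth.Agent.LocCoh.BootCompl

open BootPoint (Bq)

variable {A : Type u} [CommRing A] [IsNoetherianRing A] (I : Ideal A)

/-- the completion of `A` along `I` -/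
local notation "Â" => AdicCompletion I A

theorem comap_pow (n : ℕ) :
    ((I ^ n).map (algebraMap A Â)).comap (algebraMap A Â) ≤ I ^ n := fun a ha => by
  rw [Ideal.mem_comap, Adic.Rig.mem_pow_map_iff (IsNoetherian.noetherian I), AlgHom.commutes,
    Ideal.Quotient.algebraMap_eq, Ideal.Quotient.eq_zero_iff_mem] at ha
  exact ha

/-- the two completed local rings agree -/
theorem exists_algEquiv (q : PrimeSpectrum Â) (hq : I.map (algebraMap A Â) ≤ q.asIdeal) :
    Nonempty (Bq I (PrimeSpectrum.comap (algebraMap A Â) q) ≃ₐ[A] Bq (I.map (algebraMap A Â)) q) := by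
  have := RegLoc.Completion.isNoetherianRing_adicCompletion' I
  let q₀ := PrimeSpectrum.comap (algebraMap A Â) q
  let J := I.map (algebraMap A Â)
  let R₀ := Localization.AtPrime q₀.asIdeal
  let Rq := Localization.AtPrime q.asIdeal
  let C := Bq J q
  let h : R₀ →+* Rq := Localization.localRingHom q₀.asIdeal q.asIdeal (algebraMap A Â) rfl
  letI algC : Algebra R₀ C := ((algebraMap Rq C).comp h).toAlgebra
  have htower : IsScalarTower A R₀ C := IsScalarTower.of_algebraMap_eq fun a => by
    change algebraMap A C a = algebraMap Rq C (h (algebraMap A R₀ a))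
    rw [Localization.localRingHom_to_map, ← IsScalarTower.algebraMap_apply Â Rq C,
      ← IsScalarTower.algebraMap_apply A Â C]
  have hJI : J.map (algebraMap Â Rq) = (I.map (algebraMap A R₀)).map h := by
    rw [Ideal.map_map, Ideal.map_map]
    exact congrArg (fun g => I.map g) (RingHom.ext fun a => (Localization.localRingHom_to_map _ _ _ rfl a).symm)
  have hfgq : (J.map (algebraMap Â Rq)).FG := IsNoetherian.noetherian _
  have hpow : ∀ n, ((I.map (algebraMap A R₀)) ^ n).map (algebraMap R₀ C) =
      ((J.map (algebraMap Â Rq)) ^ n).map (algebraMap Rq C) := fun n => by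
    refine (Ideal.map_map h (algebraMap Rq C)).symm.trans ?_
    exact congrArg (Ideal.map (algebraMap Rq C)) ((Ideal.map_pow h _ n).trans (congrArg (· ^ n) hJI.symm))
  have hcomplete : IsAdicComplete ((I.map (algebraMap A R₀)).map (algebraMap R₀ C)) C := by
    have := Adic.Rig.isAdicComplete_map (C := Rq) hfgq
    have h1 := hpow 1
    rw [pow_one, pow_one] at h1
    rw [h1]; exact this
  have hne : J.map (algebraMap Â Rq) ≠ ⊤ := fun ht => (IsLocalRing.maximalIdeal.isMaximal Rq).ne_top (top_le_iff.1
    (ht ▸ (Ideal.map_mono (f := algebraMap Â Rq) hq).trans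
      (Localization.AtPrime.map_eq_maximalIdeal (I := q.asIdeal)).le))
  have hff := FlatFibre.faithfullyFlat_adicCompletion (J.map (algebraMap Â Rq)) hne
  have hIA : ∀ n, (J.map (algebraMap Â Rq)) ^ n = ((I ^ n).map (algebraMap A Â)).map (algebraMap Â Rq) := fun n => by
    rw [← Ideal.map_pow, ← Ideal.map_pow]
  have hI0 : ∀ n, (I.map (algebraMap A R₀)) ^ n = (I ^ n).map (algebraMap A R₀) := fun n =>
    (Ideal.map_pow _ _ n).symm
  have happrox : ∀ (n : ℕ) (b : Â), ∃ a : A, b - algebraMap A Â a ∈ (I ^ n).map (algebraMap A Â) :=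
    fun n b => Adic.Rig.exists_sub_mem_pow_map (IsNoetherian.noetherian I) b n
  have hunit : ∀ (n : ℕ) (s : Â), s ∉ q.asIdeal → ∀ t : A, s - algebraMap A Â t ∈ (I ^ (n + 1)).map (algebraMap A Â) →
      t ∉ q₀.asIdeal := fun n s hs t ht ht' => hs (by
    have h2 : algebraMap A Â t ∈ q.asIdeal := ht'
    have h3 : s - algebraMap A Â t ∈ q.asIdeal :=
      hq (Ideal.map_mono (Ideal.pow_le_self n.succ_ne_zero) ht)
    simpa using add_mem h3 h2)
  have key : ∀ n : ℕ, (∀ y : Rq, ∃ x : R₀, y - h x ∈ (J.map (algebraMap Â Rq)) ^ (n + 1)) ∧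
      ∀ x : R₀, h x ∈ (J.map (algebraMap Â Rq)) ^ (n + 1) → x ∈ (I.map (algebraMap A R₀)) ^ (n + 1) := by
    intro n
    constructor
    · intro y
      obtain ⟨b, s, rfl⟩ := IsLocalization.exists_mk'_eq q.asIdeal.primeCompl y
      obtain ⟨b', hb'⟩ := happrox (n + 1) b
      obtain ⟨s', hs'⟩ := happrox (n + 1) (s : Â)
      refine ⟨IsLocalization.mk' _ b' (⟨s', hunit n s s.2 s' hs'⟩ : q₀.asIdeal.primeCompl), ?_⟩
      rw [Localization.localRingHom_mk', ← IsLocalization.mk'_sub, hIA, IsLocalization.mk'_mem_map_algebraMap_iff]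
      refine ⟨1, q.asIdeal.primeCompl.one_mem, ?_⟩
      rw [one_mul]
      have e : b * algebraMap A Â s' - algebraMap A Â b' * s =
          (b - algebraMap A Â b') * algebraMap A Â s' - algebraMap A Â b' * (s - algebraMap A Â s') := by
        ring
      convert! sub_mem (Ideal.mul_mem_right (algebraMap A Â s') _ hb')
        (Ideal.mul_mem_left _ (algebraMap A Â b') hs') using 1
    · intro x hx
      obtain ⟨a, s, rfl⟩ := IsLocalization.exists_mk'_eq q₀.asIdeal.primeCompl x
      rw [Localization.localRingHom_mk', hIA, IsLocalization.mk'_mem_map_algebraMap_iff] at hx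
      obtain ⟨t, ht, hta⟩ := hx
      obtain ⟨t', ht'⟩ := happrox (n + 1) t
      rw [hI0, IsLocalization.mk'_mem_map_algebraMap_iff]
      refine ⟨t', hunit n t ht t' ht', comap_pow I (n + 1) ?_⟩
      rw [Ideal.mem_comap, map_mul, show algebraMap A Â t' * algebraMap A Â a =
        t * algebraMap A Â a - (t - algebraMap A Â t') * algebraMap A Â a by ring]
      exact sub_mem hta (Ideal.mul_mem_right _ _ ht')
  obtain ⟨e⟩ := Hensel.nonempty_completion_equiv (I.map (algebraMap A R₀)) C (fun n c => by
    rcases n with - | n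
    · exact ⟨0, by rw [pow_zero, Ideal.one_eq_top, Ideal.map_top]; trivial⟩
    obtain ⟨y, hy⟩ := Adic.Rig.exists_sub_mem_pow_map hfgq c (n + 1)
    obtain ⟨x, hx⟩ := (key n).1 y
    refine ⟨x, ?_⟩
    rw [hpow, show c - algebraMap R₀ C x = (c - algebraMap Rq C y) + algebraMap Rq C (y - h x) by
      rw [map_sub]; exact (sub_add_sub_cancel c _ _).symm]
    exact add_mem hy (Ideal.mem_map_of_mem _ hx)) (fun n => by
    rcases n with - | n
    · rw [pow_zero, Ideal.one_eq_top]; exact le_top
    intro x hx
    refine (key n).2 x ?_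
    rw [Ideal.mem_comap, hpow, show algebraMap R₀ C x = algebraMap Rq C (h x) from rfl, ← Ideal.mem_comap,
      Ideal.comap_map_eq_self_of_faithfullyFlat] at hx
    exact hx)
  exact ⟨e.restrictScalars A⟩

/-- the completed localisation as a base change -/
theorem exists_eN {q : PrimeSpectrum A} (M : Type u) [AddCommGroup M] [Module A M] [Module.Finite A M] :
    Nonempty (Bq I q ⊗[A] M ≃ₗ[Bq I q]
      AdicCompletion (I.map (algebraMap A (Localization.AtPrime q.asIdeal))) (LocalizedModule q.asIdeal.primeCompl M)) :=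
  ⟨((TensorProduct.AlgebraTensorModule.cancelBaseChange A (Localization.AtPrime q.asIdeal) (Bq I q) (Bq I q) M).symm.trans
      (TensorProduct.AlgebraTensorModule.congr (LinearEquiv.refl (Bq I q) (Bq I q))
        (LocalizedModule.equivTensorProduct q.asIdeal.primeCompl M).symm)).trans
      (AdicCompletion.ofTensorProductEquivOfFiniteNoetherian _ _)⟩

end Groth.Agent.LocCoh.BootCompl
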