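import Groth.Agent.LocCoh.Colim
import Mathlib.Algebra.Homology.DerivedCategory.Ext.ExactSequences

/-!
# The long exact sequence of local cohomology along a cofiltered diagram of ideals

* `δ`, `δ_naturality`, `exact₁`, `exact₂`, `exact₃`, `map_map`.
-/

universe u

open CategoryTheory Limits

namespace Groth.Agent.LocCoh.DiagLES

variable {R : Type u} [CommRing R] {D : Type u} [SmallCategory D] [IsCofiltered D] {I : D ⥤ Ideal R} {i : ℕ}

/-- `H^i` along the diagram -/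
noncomputable abbrev H (I : D ⥤ Ideal R) (i : ℕ) : ModuleCat.{u} R ⥤ ModuleCat.{u} R :=
  localCohomology.ofDiagram.{u, u} I i

omit [IsCofiltered D] in
theorem map_map {L M N : ModuleCat.{u} R} (f : L ⟶ M) (g : M ⟶ N) (x : (H I i).obj L) :
    (H I i).map g ((H I i).map f x) = (H I i).map (f ≫ g) x := by
  rw [Functor.map_comp]; rfl

variable {S : ShortComplex (ModuleCat.{u} R)} (hS : S.ShortExact)

variable (I i) in
/-- the connecting map -/
noncomputable def δ : (H I i).obj S.X₃ →ₗ[R] (H I (i + 1)).obj S.X₁ :=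
  desc.{u, u, u} I i (fun t => ι.{u, u} I (i + 1) t S.X₁ ∘ₗ
      hS.extClass.postcompOfLinear R (quotMod.{u, u} (I.obj t)) (rfl : i + 1 = i + 1))
    fun s t w e => by
      show ι.{u, u} I (i + 1) s S.X₁ (((Abelian.Ext.mk₀ (qmap.{u, u} (I.map w).down.down)).comp e
        (zero_add i)).comp hS.extClass rfl) = ι.{u, u} I (i + 1) t S.X₁ (e.comp hS.extClass rfl)
      rw [← ι_qmap.{u, u} I (i + 1) w S.X₁ (e.comp hS.extClass (rfl : i + 1 = i + 1)),
        Abelian.Ext.comp_assoc _ _ _ (zero_add i) rfl (by lia)]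

theorem δ_ι (t : D) (e : Abelian.Ext (quotMod.{u, u} (I.obj t)) S.X₃ i) :
    δ I i hS (ι.{u, u} I i t S.X₃ e) = ι.{u, u} I (i + 1) t S.X₁ (e.comp hS.extClass rfl) :=
  desc_ι.{u, u, u} _ _ _ _ t e

theorem exact₂ (hS : S.ShortExact) : Function.Exact ((H I i).map S.f).hom ((H I i).map S.g).hom := by
  intro x
  constructor
  · intro hx
    obtain ⟨t, e, rfl⟩ := exists_rep.{u, u} I i x
    rw [ι_naturality.{u, u}, ι_eq_zero_iff.{u, u}] at hx
    obtain ⟨s, w, hm⟩ := hx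
    obtain ⟨a, ha⟩ := Abelian.Ext.covariant_sequence_exact₂ _ hS
      ((Abelian.Ext.mk₀ (qmap.{u, u} (I.map w).down.down)).comp e (zero_add i))
      ((Abelian.Ext.comp_assoc_of_third_deg_zero _ _ _ _).trans hm)
    exact ⟨ι.{u, u} I i s S.X₁ a, by rw [ι_naturality.{u, u}, ha, ι_qmap.{u, u} I i w]⟩
  · rintro ⟨y, rfl⟩
    obtain ⟨t, e, rfl⟩ := exists_rep.{u, u} I i y
    rw [ι_naturality.{u, u}, ι_naturality.{u, u}, Abelian.Ext.comp_assoc_of_second_deg_zero,
      Abelian.Ext.mk₀_comp_mk₀, S.zero]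
    simp

theorem exact₃ : Function.Exact ((H I i).map S.g).hom (δ I i hS) := by
  intro x
  constructor
  · intro hx
    obtain ⟨t, e, rfl⟩ := exists_rep.{u, u} I i x
    rw [δ_ι, ι_eq_zero_iff.{u, u}] at hx
    obtain ⟨s, w, hm⟩ := hx
    obtain ⟨a, ha⟩ := Abelian.Ext.covariant_sequence_exact₃ _ hS
      ((Abelian.Ext.mk₀ (qmap.{u, u} (I.map w).down.down)).comp e (zero_add i)) rfl
      ((Abelian.Ext.comp_assoc _ _ _ _ _ (by lia)).trans hm)
    exact ⟨ι.{u, u} I i s S.X₂ a, by rw [ι_naturality.{u, u}, ha, ι_qmap.{u, u} I i w]⟩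
  · rintro ⟨y, rfl⟩
    obtain ⟨t, e, rfl⟩ := exists_rep.{u, u} I i y
    rw [ι_naturality.{u, u}, δ_ι, Abelian.Ext.comp_assoc_of_second_deg_zero, hS.comp_extClass]
    simp

theorem map_δ (y : (H I i).obj S.X₃) : (H I (i + 1)).map S.f (δ I i hS y) = 0 := by
  obtain ⟨t, e, rfl⟩ := exists_rep.{u, u} I i y
  rw [δ_ι, ι_naturality.{u, u}, Abelian.Ext.comp_assoc_of_third_deg_zero, hS.extClass_comp]
  simp

theorem δ_naturality {S' : ShortComplex (ModuleCat.{u} R)} (hS' : S'.ShortExact) (φ : S ⟶ S')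
    (y : (H I i).obj S.X₃) :
    δ I i hS' ((H I i).map φ.τ₃ y) = (H I (i + 1)).map φ.τ₁ (δ I i hS y) := by
  obtain ⟨t, e, rfl⟩ := exists_rep.{u, u} I i y
  rw [δ_ι, ι_naturality.{u, u}, ι_naturality.{u, u}, δ_ι]
  congr 1
  rw [Abelian.Ext.comp_assoc_of_second_deg_zero, Abelian.Ext.comp_assoc_of_third_deg_zero,
    ShortComplex.ShortExact.extClass_naturality hS hS' φ]

theorem map_smul_id (r : R) (M : ModuleCat.{u} R) (x : (H I i).obj M) :
    ((H I i).map (r • 𝟙 M)).hom x = r • x := by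
  obtain ⟨t, e, rfl⟩ := exists_rep.{u, u} I i x
  rw [ι_naturality.{u, u}, ← Abelian.Ext.smul_eq_comp_mk₀, map_smul]

end Groth.Agent.LocCoh.DiagLES
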