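import Groth.Agent.LocCoh.BootKer
import Groth.Agent.LocCoh.DiagLES

/-!
# `H^i_T(M)` against the system `H^i_T(M/I^n M)`, `i ≤ s`
-/

universe u

open CategoryTheory CategoryTheory.Limits

attribute [local instance] HasDerivedCategory.standard

namespace Groth.Agent.LocCoh.BootFinal

open Groth.Agent.DualCx
open BootLocal (Sn sub)
open CompRlim (inc)
open BootGlobal (mdl lifts sys)

variable {A : Type u} [CommRing A] [IsNoetherianRing A] (I : Ideal A) {M : Type u} [AddCommGroup M] [Module A M]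
  [Module.Finite A M] {ω : Dual.D A} (hω : Dual.IsDualizing A ω) {d : ℕ}
  (hcd : _root_.LocCoh.CdLE A I d) {T : Set (PrimeSpectrum A)}
  (hTI : T ⊆ PrimeSpectrum.zeroLocus (I : Set A)) (hT : StableUnderSpecialization T) (s : ℕ)
  (h4 : ∀ p r q : PrimeSpectrum A, p ≤ r → r ≤ q → ¬ I ≤ p.asIdeal → I ≤ r.asIdeal → r ∉ T → q ∈ T → (s : ℕ∞) ≤ LocCoh.depth (Localization.AtPrime p.asIdeal) (LocalizedModule p.asIdeal.primeCompl M) ∨ ((d + s : ℕ) : WithBot ℕ∞) < (LocCoh.depth (Localization.AtPrime p.asIdeal) (LocalizedModule p.asIdeal.primeCompl M) : WithBot ℕ∞) + Formal2.dimBetween A p.asIdeal q.asIdeal)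
  (h6 : ∀ q : PrimeSpectrum A, q ∈ T → ∀ p' : PrimeSpectrum (AdicCompletion (I.map (algebraMap A (Localization.AtPrime q.asIdeal))) (Localization.AtPrime q.asIdeal)), ¬ (I.map (algebraMap A (AdicCompletion (I.map (algebraMap A (Localization.AtPrime q.asIdeal))) (Localization.AtPrime q.asIdeal)))) ≤ p'.asIdeal → (∀ q' : PrimeSpectrum (AdicCompletion (I.map (algebraMap A (Localization.AtPrime q.asIdeal))) (Localization.AtPrime q.asIdeal)), p' ≤ q' → (I.map (algebraMap A (AdicCompletion (I.map (algebraMap A (Localization.AtPrime q.asIdeal))) (Localization.AtPrime q.asIdeal)))) ≤ q'.asIdeal → q'.asIdeal.IsMaximal) → (s : ℕ∞) < LocCoh.depth (Localization.AtPrime p'.asIdeal) (LocalizedModule p'.asIdeal.primeCompl (AdicCompletion (I.map (algebraMap A (Localization.AtPrime q.asIdeal))) (LocalizedModule q.asIdeal.primeCompl M))))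

omit [IsNoetherianRing A] [Module.Finite A M] in
theorem τ₃_refl (U : Submodule A M) : (ExtAR.sesQMap (le_refl U)).τ₃ = 𝟙 _ :=
  ModuleCat.hom_ext (Submodule.linearMap_qext _ (LinearMap.ext fun _ => rfl))

omit [IsNoetherianRing A] [Module.Finite A M] in
theorem τ₃_comp {U V W : Submodule A M} (h : U ≤ V) (h' : V ≤ W) :
    (ExtAR.sesQMap h).τ₃ ≫ (ExtAR.sesQMap h').τ₃ = (ExtAR.sesQMap (h.trans h')).τ₃ :=
  ModuleCat.hom_ext (Submodule.linearMap_qext _ (LinearMap.ext fun _ => rfl))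

omit [IsNoetherianRing A] [Module.Finite A M] in
theorem g_τ₃ {U V : Submodule A M} (h : U ≤ V) :
    (ExtAR.sesQ U).g ≫ (ExtAR.sesQMap h).τ₃ = (ExtAR.sesQ V).g :=
  (ExtAR.sesQMap h).comm₂₃.symm.trans (Category.id_comp _)

/-- `HT` on maps -/
noncomputable abbrev hmap (T : Set (PrimeSpectrum A)) (i : ℕ) {V V' : ModuleCat.{u} A} (g : V ⟶ V') :
    (DiagLES.H (Dual2.idealsInDiagram T) i).obj V ⟶ (DiagLES.H (Dual2.idealsInDiagram T) i).obj V' :=
  (DiagLES.H (Dual2.idealsInDiagram T) i).map g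

include hω hcd hTI hT h4 h6

/-- the kernel to `M` is pro-zero -/
theorem ker {i : ℕ} (hi : i ≤ s + 1) (n : ℕ) : ∃ m, ∀ m' (h : n ≤ m'), m ≤ m' →
    ∀ x : (DiagLES.H (Dual2.idealsInDiagram T) i).obj (Sn I M m'),
      hmap T i (sub I M m') x = 0 → hmap T i (inc I M h) x = 0 := by
  obtain ⟨m, hm⟩ := BootGlobal.kerZero I hω hcd hTI hT s h4 h6 (i := (i : ℤ)) (by omega) n
  refine ⟨m, fun m' h hm' x hx0 => ?_⟩
  obtain ⟨z, hz, hc, hx⟩ := BootModel.exists_cycle (mdl (Sn I M m')) x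
  exact (hx _ _ _ (lifts (inc I M h))).2
    (hm m' h hm' z hz hc ((hx _ _ _ (lifts (sub I M m'))).1 hx0))

/-- pro-zero to `M` -/
theorem zero_M {i : ℕ} (hi : i ≤ s) : ∃ m, ∀ m', m ≤ m' →
    ∀ x : (DiagLES.H (Dual2.idealsInDiagram T) i).obj (Sn I M m'), hmap T i (sub I M m') x = 0 := by
  obtain ⟨m, hm⟩ := BootGlobal.zero I hω hcd hTI hT s h4 h6 (j := -1 + (i : ℤ)) (i := 0 + (i : ℤ))
    (by omega) (by omega) 0
  refine ⟨m, fun m' hm' x => ?_⟩
  obtain ⟨z, hz, hc, hx⟩ := BootModel.exists_cycle (mdl (Sn I M m')) x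
  have h0 := (hx _ _ _ (lifts (inc I M (Nat.zero_le m')))).2 (hm m' _ hm' z hz hc)
  have h1 : sub I M m' = inc I M (Nat.zero_le m') ≫ sub I M 0 := rfl
  rw [hmap, h1, Functor.map_comp, ModuleCat.comp_apply]
  exact (congrArg _ h0).trans (map_zero _)

/-- injectivity -/
theorem injective {i : ℕ} (hi : i ≤ s) : ∃ m, ∀ m', m ≤ m' →
    ∀ x : (DiagLES.H (Dual2.idealsInDiagram T) i).obj (ModuleCat.of A M),
      hmap T i (ExtAR.sesQ (I ^ m' • ⊤ : Submodule A M)).g x = 0 → x = 0 := by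
  obtain ⟨m, hm⟩ := zero_M I hω hcd hTI hT s h4 h6 hi
  refine ⟨m, fun m' hm' x hx => ?_⟩
  obtain ⟨y, hy⟩ := (DiagLES.exact₂ (ExtAR.sesQ_shortExact (I ^ m' • ⊤ : Submodule A M)) x).1 hx
  rw [← hy]
  exact hm m' hm' y

/-- annihilation -/
theorem killed {i : ℕ} (hi : i ≤ s) : ∃ n : ℕ, ∀ a ∈ I ^ n,
    ∀ x : (DiagLES.H (Dual2.idealsInDiagram T) i).obj (ModuleCat.of A M), a • x = 0 := by
  obtain ⟨m, hm⟩ := zero_M I hω hcd hTI hT s h4 h6 hi
  refine ⟨m, fun a ha x => ?_⟩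
  rw [← DiagLES.map_smul_id, show a • 𝟙 (ModuleCat.of A M) = BootGlobal.smulTo I M m ha ≫ sub I M m from
    ModuleCat.hom_ext (LinearMap.ext fun v => rfl), Functor.map_comp]
  exact hm m le_rfl _

/-- liftable classes -/
theorem lift {i : ℕ} (hi : i ≤ s) (n : ℕ) : ∃ m, ∀ m' (h : n ≤ m'), m ≤ m' →
    ∀ y : (DiagLES.H (Dual2.idealsInDiagram T) i).obj (ExtAR.sesQ (I ^ m' • ⊤ : Submodule A M)).X₃,
      ∃ x, hmap T i (ExtAR.sesQ (I ^ n • ⊤ : Submodule A M)).g x =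
        hmap T i (ExtAR.sesQMap (Submodule.smul_mono_left (Ideal.pow_le_pow_right h) :
          (I ^ m' • ⊤ : Submodule A M) ≤ I ^ n • ⊤)).τ₃ y := by
  obtain ⟨m, hm⟩ := ker I hω hcd hTI hT s h4 h6 (show i + 1 ≤ s + 1 by omega) n
  refine ⟨m, fun m' h hm' y => ?_⟩
  let φ := ExtAR.sesQMap (Submodule.smul_mono_left (Ideal.pow_le_pow_right h) :
    (I ^ m' • ⊤ : Submodule A M) ≤ I ^ n • ⊤)
  refine (DiagLES.exact₃ (I := Dual2.idealsInDiagram T) (i := i)
    (ExtAR.sesQ_shortExact (I ^ n • ⊤ : Submodule A M)) _).1 ?_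
  exact (DiagLES.δ_naturality (ExtAR.sesQ_shortExact _) (ExtAR.sesQ_shortExact _) φ y).trans
    (hm m' h hm' _ (DiagLES.map_δ (ExtAR.sesQ_shortExact _) y))

/-- bijectivity onto the limit -/
theorem limit {i : ℕ} (hi : i ≤ s) (W : ℕ → Submodule A M) (hW : ∀ n, W n = I ^ (n + 1) • ⊤)
    (hle : ∀ {n k}, n ≤ k → W k ≤ W n) :
    (∀ x : (DiagLES.H (Dual2.idealsInDiagram T) i).obj (ModuleCat.of A M),
      (∀ n, hmap T i (ExtAR.sesQ (W n)).g x = 0) → x = 0) ∧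
    ∀ y : (∀ n, (DiagLES.H (Dual2.idealsInDiagram T) i).obj (ExtAR.sesQ (W n)).X₃),
      (∀ n, hmap T i (ExtAR.sesQMap (hle (Nat.le_succ n))).τ₃ (y (n + 1)) = y n) →
      ∃ x : (DiagLES.H (Dual2.idealsInDiagram T) i).obj (ModuleCat.of A M),
        ∀ n, hmap T i (ExtAR.sesQ (W n)).g x = y n := by
  obtain ⟨m₀, hinj⟩ := injective I hω hcd hTI hT s h4 h6 hi
  have hinj' : ∀ x : (DiagLES.H (Dual2.idealsInDiagram T) i).obj (ModuleCat.of A M),
      hmap T i (ExtAR.sesQ (W m₀)).g x = 0 → x = 0 := by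
    rw [hW]
    exact hinj (m₀ + 1) (Nat.le_succ _)
  refine ⟨fun x hx => hinj' x (hx m₀), fun y hy => ?_⟩
  have hcomp : ∀ n k (h : n ≤ k), hmap T i (ExtAR.sesQMap (hle h)).τ₃ (y k) = y n := by
    intro n k h
    induction k, h using Nat.le_induction with
    | base =>
      exact (congrArg (fun t => hmap T i t (y n)) (τ₃_refl (W n))).trans
        (ConcreteCategory.congr_hom ((DiagLES.H (Dual2.idealsInDiagram T) i).map_id _) (y n))
    | succ k hk ih =>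
      exact (congrArg (fun t => hmap T i t (y (k + 1))) (τ₃_comp (hle (Nat.le_succ k)) (hle hk)).symm).trans
        ((DiagLES.map_map _ _ _).symm.trans ((congrArg _ (hy k)).trans ih))
  have hlift : ∀ n, ∃ x : (DiagLES.H (Dual2.idealsInDiagram T) i).obj (ModuleCat.of A M),
      hmap T i (ExtAR.sesQ (W n)).g x = y n := fun n => by
    obtain ⟨m, hm⟩ := lift I hω hcd hTI hT s h4 h6 hi (n + 1)
    have hl : ∀ (U V : Submodule A M), U = I ^ (n + 1) • ⊤ → V = I ^ (max n m + 1) • ⊤ → ∀ (h : V ≤ U),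
        ∀ z, ∃ x : (DiagLES.H (Dual2.idealsInDiagram T) i).obj (ModuleCat.of A M),
          hmap T i (ExtAR.sesQ U).g x = hmap T i (ExtAR.sesQMap h).τ₃ z := by
      rintro _ _ rfl rfl h z
      exact hm (max n m + 1) (by omega) (by omega) z
    obtain ⟨x, hx⟩ := hl (W n) (W (max n m)) (hW n) (hW _) (hle (le_max_left n m)) (y (max n m))
    exact ⟨x, hx.trans (hcomp n _ (le_max_left n m))⟩
  obtain ⟨x, hx⟩ := hlift m₀
  refine ⟨x, fun n => ?_⟩
  obtain ⟨x', hx'⟩ := hlift (max n m₀)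
  have hd : ∀ k, k ≤ max n m₀ → hmap T i (ExtAR.sesQ (W k)).g x' = y k := fun k hk =>
    (congrArg (fun t => hmap T i t x') (g_τ₃ (hle hk)).symm).trans
      ((DiagLES.map_map _ _ _).symm.trans ((congrArg _ hx').trans (hcomp k _ hk)))
  have hxx : x = x' := sub_eq_zero.1 (hinj' (x - x')
    ((map_sub _ x x').trans (sub_eq_zero.2 (hx.trans (hd m₀ (le_max_right _ _)).symm))))
  rw [hxx]
  exact hd n (le_max_left _ _)

end Groth.Agent.LocCoh.BootFinal
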