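import Groth.Agent.LocCoh.AnnModule
import Groth.Agent.DualCx.Extended
import Groth.Agent.RegLoc.Completion
import Mathlib.RingTheory.AdicCompletion.AsTensorProduct

/-!
# Degrees of primes and depths under flat base change of a dualizing complex
-/

universe u

open CategoryTheory
open scoped TensorProduct

attribute [local instance] HasDerivedCategory.standard

namespace Groth.Agent.LocCoh.CompletionDeg

open Groth.Agent.DualCx
open Devissage (E)
open Dimfun (Z deg)

/-- primes of the completion containing `I` are extended -/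
theorem map_comap_completion {A : Type u} [CommRing A] [IsNoetherianRing A] (I : Ideal A)
    (P : Ideal (AdicCompletion I A)) (hP : I.map (algebraMap A (AdicCompletion I A)) ≤ P) :
    (P.comap (algebraMap A (AdicCompletion I A))).map (algebraMap A (AdicCompletion I A)) = P := by
  set f := algebraMap A (AdicCompletion I A)
  have hfg : I.FG := IsNoetherian.noetherian I
  refine le_antisymm Ideal.map_comap_le fun x hx => ?_
  obtain ⟨a, ha⟩ := Ideal.Quotient.mk_surjective (AdicCompletion.evalOneₐ I x)
  have hxa : x - f a ∈ I.map f := by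
    rw [← AdicCompletion.ker_evalOneₐ_eq_map I hfg, RingHom.mem_ker, map_sub]
    show AdicCompletion.evalOneₐ I x - AdicCompletion.evalOneₐ I (algebraMap A (AdicCompletion I A) a) = 0
    rw [← ha, AlgHom.commutes, sub_eq_zero]
    rfl
  have haM : a ∈ P.comap f := by
    have := P.sub_mem hx (hP hxa)
    simpa [Ideal.mem_comap] using this
  have hI : I.map f ≤ (P.comap f).map f := Ideal.map_mono (Ideal.map_le_iff_le_comap.mp hP)
  have := ((P.comap f).map f).add_mem (hI hxa) (Ideal.mem_map_of_mem f haM)
  simpa using this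

variable {A B : Type u} [CommRing A] [CommRing B] [Algebra A B] [Module.Flat A B]

/-- vanishing at a prime after base change -/
theorem Z_tensor_iff {p : PrimeSpectrum A} {p' : PrimeSpectrum B}
    (h : p'.asIdeal.comap (algebraMap A B) = p.asIdeal) (X : Type*) [AddCommGroup X] [Module A X] :
    Z p' (B ⊗[A] X) ↔ Z p X := by
  constructor
  · intro hZ x
    by_contra hcon
    push Not at hcon
    let f := LinearMap.toSpanSingleton A X x
    have hker : LinearMap.ker f ≤ p.asIdeal := fun s hs => by_contra fun hsp => hcon s hsp hs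
    let g := Submodule.liftQ (LinearMap.ker f) f le_rfl
    have hg : Function.Injective g := LinearMap.ker_eq_bot.1 (Submodule.ker_liftQ_eq_bot' _ _ rfl)
    have hgB := Module.Flat.lTensor_preserves_injective_linearMap (M := B) g hg
    obtain ⟨e⟩ := FlatBC.nonempty_quotient (B := B) (LinearMap.ker f : Ideal A)
    obtain ⟨t, ht, ht'⟩ := hZ ((1 : B) ⊗ₜ[A] x)
    refine ht (Ideal.map_le_iff_le_comap.2 (hker.trans h.ge) ?_)
    have h0 : t • ((1 : B) ⊗ₜ[A] (Submodule.Quotient.mk 1 : A ⧸ LinearMap.ker f)) = 0 := by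
      apply hgB
      rw [map_zero, TensorProduct.smul_tmul', LinearMap.lTensor_tmul]
      rw [TensorProduct.smul_tmul'] at ht'
      rw [show g (Submodule.Quotient.mk 1) = x from one_smul A x]
      exact ht'
    have h1 := congrArg e h0
    rw [map_smul, map_zero] at h1
    obtain ⟨y, hy⟩ := e.surjective (Ideal.Quotient.mk _ 1)
    obtain ⟨b, hb⟩ : ∃ b : B, y = b • ((1 : B) ⊗ₜ[A] (Submodule.Quotient.mk 1 : A ⧸ LinearMap.ker f)) := by
      clear hy
      induction y using TensorProduct.induction_on with
      | zero => exact ⟨0, (zero_smul _ _).symm⟩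
      | tmul b a =>
        obtain ⟨a, rfl⟩ := Submodule.Quotient.mk_surjective _ a
        refine ⟨b * algebraMap A B a, ?_⟩
        rw [mul_smul, algebraMap_smul, ← TensorProduct.tmul_smul, ← Submodule.Quotient.mk_smul, smul_eq_mul,
          mul_one, TensorProduct.smul_tmul', smul_eq_mul, mul_one]
      | add y z hy hz =>
        obtain ⟨b, rfl⟩ := hy
        obtain ⟨c, rfl⟩ := hz
        exact ⟨b + c, (add_smul _ _ _).symm⟩
    rw [hb, map_smul] at hy
    have h2 : t • ((Ideal.Quotient.mk _ (1 : B)) : B ⧸ Ideal.map (algebraMap A B) (LinearMap.ker f : Ideal A)) = 0 := by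
      rw [← hy, smul_comm, h1, smul_zero]
    rwa [← Ideal.Quotient.mk_eq_mk, ← Submodule.Quotient.mk_smul, Submodule.Quotient.mk_eq_zero, smul_eq_mul,
      mul_one] at h2
  · intro hZ y
    induction y using TensorProduct.induction_on with
    | zero => exact ⟨1, fun h => p'.2.ne_top ((Ideal.eq_top_iff_one _).2 h), smul_zero _⟩
    | tmul b x =>
      obtain ⟨s, hs, hsx⟩ := hZ x
      exact ⟨algebraMap A B s, fun hm => hs (h ▸ hm), by
        rw [algebraMap_smul, ← TensorProduct.tmul_smul, hsx, TensorProduct.tmul_zero]⟩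
    | add y z hy hz =>
      obtain ⟨s, hs, hsy⟩ := hy
      obtain ⟨t, ht, htz⟩ := hz
      refine ⟨s * t, fun hm => (p'.2.mem_or_mem hm).elim hs ht, ?_⟩
      rw [smul_add, mul_smul, mul_smul, htz, smul_zero, add_zero, smul_comm, hsy, smul_zero]

variable [IsNoetherianRing A] [IsNoetherianRing B] {ω : Dual.D A} (hω : Dual.IsDualizing A ω)
  {p : PrimeSpectrum A} {p' : PrimeSpectrum B} (h : p'.asIdeal.comap (algebraMap A B) = p.asIdeal)

include h

omit [IsNoetherianRing B] in
include hω in
theorem Z_E_iff (M : Type u) [AddCommGroup M] [Module A M] [Module.Finite A M] (j : ℤ) :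
    Z p' (E (B ⊗[A] M) ((BaseChange.FD A B).obj ω) j) ↔ Z p (E M ω j) := by
  obtain ⟨a, ha⟩ := Dimfun.exists_isGE hω
  rw [← Z_tensor_iff (B := B) h]
  exact ⟨Dimfun.Z_equiv (FlatBC.homLEquiv ω a M j).symm, Dimfun.Z_equiv (FlatBC.homLEquiv ω a M j)⟩

variable (hω' : Dual.IsDualizing B ((BaseChange.FD A B).obj ω))

include hω hω' in
/-- degrees go up -/
theorem deg_le : deg hω p ≤ deg hω' p' := by
  by_contra hlt
  obtain ⟨e⟩ := FlatBC.nonempty_quotient (B := B) p.asIdeal
  exact Dimfun.not_Z_deg hω p ((Z_E_iff hω h (A ⧸ p.asIdeal) (deg hω p)).1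
    (Normalized.Z_E_of_deg hω' p' _ _ (by omega)))

include hω hω' in
/-- degrees of extended primes -/
theorem deg_eq (hp' : p.asIdeal.map (algebraMap A B) = p'.asIdeal) : deg hω' p' = deg hω p := by
  obtain ⟨e⟩ := FlatBC.nonempty_quotient (B := B) p.asIdeal
  refine (Dimfun.eq_deg_of_not_Z hω' fun hZ => Dimfun.not_Z_deg hω p ((Z_E_iff hω h (A ⧸ p.asIdeal) _).1
    (Dimfun.Z_equiv (Devissage.congrE (e.trans (Submodule.quotEquivOfEq _ _ hp')).symm _ _) hZ))).symm

omit h in
theorem eq_of_forall_lt {x y : ℕ∞} (h : ∀ s : ℕ, (s : ℕ∞) < x ↔ (s : ℕ∞) < y) : x = y := by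
  induction x with
  | top =>
    induction y with
    | top => rfl
    | coe n => exact absurd ((h n).1 (ENat.natCast_lt_top n)) (lt_irrefl _)
  | coe m =>
    induction y with
    | top => exact absurd ((h m).2 (ENat.natCast_lt_top m)) (lt_irrefl _)
    | coe n =>
      have h1 := h m
      have h2 := h n
      norm_cast at h1 h2 ⊢
      omega

variable {q : PrimeSpectrum A} {q' : PrimeSpectrum B} (M : Type u) [AddCommGroup M] [Module A M] [Module.Finite A M]
  (N : Type u) [AddCommGroup N] [Module B N] (eN : B ⊗[A] M ≃ₗ[B] N)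

include hω hω' eN in
/-- `depth + dim` is unchanged -/
theorem depth_add_eq (hpq : p ≤ q) (hpq' : p' ≤ q') (hd : deg hω' q' = deg hω q) :
    ((_root_.LocCoh.depth (Localization.AtPrime p'.asIdeal) (LocalizedModule p'.asIdeal.primeCompl N) : ℕ∞)
        : WithBot ℕ∞) + Order.krullDim (Set.Icc p' q') =
      ((_root_.LocCoh.depth (Localization.AtPrime p.asIdeal) (LocalizedModule p.asIdeal.primeCompl M) : ℕ∞)
        : WithBot ℕ∞) + Order.krullDim (Set.Icc p q) := by
  have := Module.Finite.equiv eN
  have key : ∀ s : ℕ, (s : WithBot ℕ∞) < ((_root_.LocCoh.depth (Localization.AtPrime p'.asIdeal)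
        (LocalizedModule p'.asIdeal.primeCompl N) : ℕ∞) : WithBot ℕ∞) + Order.krullDim (Set.Icc p' q') ↔
      (s : WithBot ℕ∞) < ((_root_.LocCoh.depth (Localization.AtPrime p.asIdeal)
        (LocalizedModule p.asIdeal.primeCompl M) : ℕ∞) : WithBot ℕ∞) + Order.krullDim (Set.Icc p q) := by
    intro s
    rw [← AnnModule.cond_depth_iff hω hpq s, ← AnnModule.cond_depth_iff hω' hpq' s, hd]
    exact forall_congr' fun j => imp_congr_right fun _ => (Iff.intro (Dimfun.Z_equiv (Devissage.congrE eN.symm _ j))
      (Dimfun.Z_equiv (Devissage.congrE eN _ j))).trans (Z_E_iff hω h M j)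
  revert key
  rw [AnnModule.krullDim_Icc hpq, AnnThm.height_Ici hω hpq, AnnModule.krullDim_Icc hpq',
    AnnThm.height_Ici hω' hpq', ← WithBot.coe_add, ← WithBot.coe_add, WithBot.coe_inj]
  intro key
  exact eq_of_forall_lt fun s => by
    have h' := key s
    rwa [show (s : WithBot ℕ∞) = ((s : ℕ∞) : WithBot ℕ∞) from rfl, WithBot.coe_lt_coe, WithBot.coe_lt_coe] at h'

include hω hω' eN in
/-- depth goes up -/
theorem depth_le : _root_.LocCoh.depth (Localization.AtPrime p.asIdeal) (LocalizedModule p.asIdeal.primeCompl M) ≤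
    _root_.LocCoh.depth (Localization.AtPrime p'.asIdeal) (LocalizedModule p'.asIdeal.primeCompl N) := by
  have := Module.Finite.equiv eN
  rcases subsingleton_or_nontrivial (LocalizedModule p'.asIdeal.primeCompl N) with hN | hN
  · rw [_root_.LocCoh.depth, _root_.LocCoh.depth, _root_.LocCoh.idealDepth, _root_.LocCoh.idealDepth]
    rw [if_pos (Subsingleton.elim _ _ :
      IsLocalRing.maximalIdeal _ • (⊤ : Submodule (Localization.AtPrime p'.asIdeal) (LocalizedModule p'.asIdeal.primeCompl N)) = ⊤)]
    exact le_top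
  · obtain ⟨n', hn', h1, h2⟩ := Normalized.depth_spec hω' p' N
    have hnt : Nontrivial (LocalizedModule p.asIdeal.primeCompl M) := by
      by_contra hM
      rw [not_nontrivial_iff_subsingleton] at hM
      refine h2 (Dimfun.Z_equiv (Devissage.congrE eN _ _) ((Z_E_iff hω h M _).2 ?_))
      rw [Normalized.Z_E_iff hω]
      exact Devissage.subsingleton_of_subsingleton _
    obtain ⟨n, hn, h3, h4⟩ := Normalized.depth_spec hω p M
    rw [hn, hn', Nat.cast_le]
    by_contra hlt
    refine h2 (Dimfun.Z_equiv (Devissage.congrE eN _ _) ((Z_E_iff hω h M _).2 (h3 _ ?_)))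
    have h5 : deg hω p - n = deg hω' p' - n' := by
      by_contra hne
      rcases lt_or_gt_of_ne hne with hl | hl
      · exact h2 (Dimfun.Z_equiv (Devissage.congrE eN _ _) ((Z_E_iff hω h M _).2 (h3 _ hl)))
      · exact h4 ((Z_E_iff hω h M _).1 (Dimfun.Z_equiv (Devissage.congrE eN.symm _ _) (h1 _ hl)))
    have := deg_le hω h hω'
    omega

omit h in
/-- the dualizing complex of a completion -/
theorem isDualizing_completion {A : Type u} [CommRing A] [IsNoetherianRing A] (I : Ideal A) {ω : Dual.D A}
    (hω : Dual.IsDualizing A ω) :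
    Dual.IsDualizing (AdicCompletion I A) ((BaseChange.FD A (AdicCompletion I A)).obj ω) := by
  have := RegLoc.Completion.isNoetherianRing_adicCompletion' I
  have := AdicCompletion.isAdicComplete_self I (IsNoetherian.noetherian I)
  refine Extended.isDualizing hω fun P hP => map_comap_completion I P ?_
  exact (IsAdicComplete.le_jacobson_bot _).trans (sInf_le ⟨bot_le, hP⟩)

end Groth.Agent.LocCoh.CompletionDeg
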