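import Groth.Agent.LocCoh.BootBC
import Groth.Agent.LocCoh.CompletionDeg
import Groth.Agent.DualCx.LocalDualityGen
import Groth.Agent.InjHull.Basic

/-!
# Germs at a prime against a flat local extension with extended maximal ideal

* `cl`, `cl_eq_zero_iff`: germs of `colim Hom(A/q^r, V[i])` in `colim Hom(B/𝔪^r, FD(V[i]))`;
* `mem_range_of_map`, `map_of_mem_range`: a kernel condition against `Hom(-, ω[D])`.
-/

universe u

open CategoryTheory CategoryTheory.Limits IsLocalRing
open scoped TensorProduct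

attribute [local instance] HasDerivedCategory.standard

namespace Groth.Agent.LocCoh.BootGerm

open Groth.Agent.DualCx
open BaseChange (FD BijAt)
open TorsColim (L qD)
open Devissage (F)
open Dimfun (deg)
open BootBC (inM)

variable {A : Type u} [CommRing A] [IsNoetherianRing A] (B : Type u) [CommRing B] [Algebra A B]
  [Module.Flat A B] [IsNoetherianRing B] [IsLocalRing B] {q : PrimeSpectrum A}
  (hq : q.asIdeal.map (algebraMap A B) = maximalIdeal B)

omit [IsNoetherianRing A] [Module.Flat A B] [IsNoetherianRing B] in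
theorem isUnit_algebraMap (hc : (maximalIdeal B).comap (algebraMap A B) = q.asIdeal) {u : A}
    (hu : u ∉ q.asIdeal) : IsUnit (algebraMap A B u) :=
  IsLocalRing.notMem_maximalIdeal.1 fun h => hu (hc ▸ h)

include hq in
omit [IsNoetherianRing A] [Module.Flat A B] [IsNoetherianRing B] in
theorem map_pow_eq (r : ℕ) : (q.asIdeal ^ r).map (algebraMap A B) = maximalIdeal B ^ r := by
  rw [Ideal.map_pow, hq]

/-- `FD(A/q^r) ≅ B/𝔪^r` -/
noncomputable def stage (r : ℕ) :
    (FD A B).obj (Dual.inD A (A ⧸ q.asIdeal ^ r)) ≅ Dual.inD B (B ⧸ maximalIdeal B ^ r) :=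
  FlatBC.FDinD (A ⧸ q.asIdeal ^ r) ≪≫ (DerivedCategory.singleFunctor (ModuleCat.{u} B) 0).mapIso
    ((BootBC.quotEquiv B (q.asIdeal ^ r)).trans (Submodule.quotEquivOfEq _ _ (map_pow_eq B hq r))).toModuleIso

theorem stage_qD {r r' : ℕ} (h : r ≤ r') :
    (FD A B).map (qD q.asIdeal h) ≫ (stage B hq r).hom = (stage B hq r').hom ≫ qD (maximalIdeal B) h := by
  have h1 := BootBC.FDinD_natural B (V := ModuleCat.of A (A ⧸ q.asIdeal ^ r'))
    (V' := ModuleCat.of A (A ⧸ q.asIdeal ^ r))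
    (ModuleCat.ofHom (Submodule.mapQ _ _ LinearMap.id (Ideal.pow_le_pow_right h)))
  let Q : ∀ k, B ⊗[A] (A ⧸ q.asIdeal ^ k) ≃ₗ[B] B ⧸ maximalIdeal B ^ k := fun k =>
    (BootBC.quotEquiv B (q.asIdeal ^ k)).trans (Submodule.quotEquivOfEq _ _ (map_pow_eq B hq k))
  let P : ModuleCat.of A (A ⧸ q.asIdeal ^ r') ⟶ ModuleCat.of A (A ⧸ q.asIdeal ^ r) :=
    ModuleCat.ofHom (Submodule.mapQ _ _ LinearMap.id (Ideal.pow_le_pow_right h))
  let P' : ModuleCat.of B (B ⧸ maximalIdeal B ^ r') ⟶ ModuleCat.of B (B ⧸ maximalIdeal B ^ r) :=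
    ModuleCat.ofHom (Submodule.mapQ _ _ LinearMap.id (Ideal.pow_le_pow_right h))
  change (FD A B).map (inM P) ≫ ((FlatBC.FDinD (A ⧸ q.asIdeal ^ r)).hom ≫ inM (Q r).toModuleIso.hom) =
    ((FlatBC.FDinD (A ⧸ q.asIdeal ^ r')).hom ≫ inM (Q r').toModuleIso.hom) ≫ inM P'
  rw [← Category.assoc]
  refine (congrArg (fun t => t ≫ inM (Q r).toModuleIso.hom) h1).trans ?_
  refine (Category.assoc _ _ _).trans (Eq.trans ?_ (Category.assoc _ _ _).symm)
  refine congrArg ((FlatBC.FDinD (A ⧸ q.asIdeal ^ r')).hom ≫ ·) ?_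
  rw [inM, inM, inM, ← Functor.map_comp]
  refine (congrArg _ ?_).trans (Functor.map_comp _ _ _)
  refine ModuleCat.hom_ext (LinearMap.ext fun x => ?_)
  change Submodule.quotEquivOfEq _ _ (map_pow_eq B hq r) (BootBC.quotMap B _ (LinearMap.baseChange B P.hom x)) =
    P'.hom (Submodule.quotEquivOfEq _ _ (map_pow_eq B hq r') (BootBC.quotMap B _ x))
  rw [show LinearMap.baseChange B P.hom x = (Submodule.mapQ (q.asIdeal ^ r') (q.asIdeal ^ r) LinearMap.id
    (Ideal.pow_le_pow_right h)).baseChange B x from rfl, BootBC.quotMap_natural B (Ideal.pow_le_pow_right h)]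
  obtain ⟨y, hy⟩ := Submodule.Quotient.mk_surjective _ (BootBC.quotMap B (q.asIdeal ^ r') x)
  rw [← hy]
  rfl

/-- the class over `B` of a stage over `A` -/
noncomputable def cl {X : Dual.D A} (r : ℕ) (e : Dual.inD A (A ⧸ q.asIdeal ^ r) ⟶ X) :
    L (maximalIdeal B) ((FD A B).obj X) :=
  TorsColim.ι (maximalIdeal B) r _ ((stage B hq r).inv ≫ (FD A B).map e)

theorem cl_qD {X : Dual.D A} {r r' : ℕ} (h : r ≤ r') (e : Dual.inD A (A ⧸ q.asIdeal ^ r) ⟶ X) :
    cl B hq r' (qD q.asIdeal h ≫ e) = cl B hq r e := by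
  have h1 : (stage B hq r').inv ≫ (FD A B).map (qD q.asIdeal h) =
      qD (maximalIdeal B) h ≫ (stage B hq r).inv := by
    rw [Iso.inv_comp_eq, ← Category.assoc, ← stage_qD B hq h, Category.assoc, Iso.hom_inv_id, Category.comp_id]
  rw [cl, cl, Functor.map_comp, ← Category.assoc, h1, Category.assoc, TorsColim.ι_qD]

theorem map_cl {X Y : Dual.D A} (g : X ⟶ Y) (r : ℕ) (e : Dual.inD A (A ⧸ q.asIdeal ^ r) ⟶ X) :
    TorsColim.map (maximalIdeal B) ((FD A B).map g) (cl B hq r e) = cl B hq r (e ≫ g) := by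
  rw [cl, cl, TorsColim.map_ι, Functor.map_comp, Category.assoc]

variable (hc : (maximalIdeal B).comap (algebraMap A B) = q.asIdeal)

include hc in
/-- germs vanish exactly when classes do -/
theorem cl_eq_zero_iff (V : Type u) [AddCommGroup V] [Module A V] (i : ℤ) (r : ℕ)
    (e : Dual.inD A (A ⧸ q.asIdeal ^ r) ⟶ (Dual.inD A V)⟦i⟧) :
    cl B hq r e = 0 ↔ ∃ u ∉ q.asIdeal, u • TorsColim.ι q.asIdeal r _ e = 0 := by
  constructor
  · intro h
    rw [cl, TorsColim.ι_eq_zero_iff] at h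
    obtain ⟨r', hr, h⟩ := h
    have h' : (FD A B).map (qD q.asIdeal hr ≫ e) = 0 := by
      rw [← cancel_epi (stage B hq r').inv, comp_zero, Functor.map_comp, ← Category.assoc,
        show (stage B hq r').inv ≫ (FD A B).map (qD q.asIdeal hr) = qD (maximalIdeal B) hr ≫ (stage B hq r).inv by
          rw [Iso.inv_comp_eq, ← Category.assoc, ← stage_qD B hq hr, Category.assoc, Iso.hom_inv_id, Category.comp_id],
        Category.assoc]
      exact h
    have : (Dual.inD A V).IsGE 0 :=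
      inferInstanceAs (((DerivedCategory.singleFunctor (ModuleCat.{u} A) 0).obj _).IsGE 0)
    have hb := BaseChange.bijAt_finite (B := B) (Dual.inD A V) 0 i (A ⧸ q.asIdeal ^ r')
    have h1 : (1 : B) ⊗ₜ[A] (qD q.asIdeal hr ≫ e) = 0 := hb.1 (by
      rw [map_zero, LinBaseChange.β_tmul, one_smul]
      exact h')
    obtain ⟨u, hu, hue⟩ := BootBC.exists_smul_eq_zero B (IsLocalRing.closedPoint B) hc _ h1
    exact ⟨u, hu, by rw [← TorsColim.ι_qD q.asIdeal hr e, ← map_smul, hue, map_zero]⟩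
  · rintro ⟨u, hu, h⟩
    rw [← map_smul, TorsColim.ι_eq_zero_iff] at h
    obtain ⟨r', hr, h⟩ := h
    rw [Linear.comp_smul] at h
    have h' := congrArg (FD A B).map h
    rw [LinBaseChange.IsSemilinear.map_smul (B := B) (G := FD A B), Functor.map_zero] at h'
    rw [← cl_qD B hq hr e, cl, (isUnit_algebraMap B hc hu).smul_eq_zero.1 h', comp_zero, map_zero]

variable {ω : Dual.D A} (hω : Dual.IsDualizing A ω) (hωB : Dual.IsDualizing B ((FD A B).obj ω))
  {X Y Z : Dual.D A}

/-- finite duals -/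
theorem small_hom {R : Type u} [CommRing R] (M : Type (u + 1)) [AddCommGroup M] [Module R M] [Module.Finite R M] :
    Small.{u} M := Module.Finite.small R M

include hq hc hω hωB in
/-- the kernel condition is the range condition, up to germs -/
theorem iff_range (φ : X ⟶ Y) (g : X ⟶ Z) (hX : ∀ j, Module.Finite A (Dual.HD A X j))
    (hY : ∀ j, Module.Finite A (Dual.HD A Y j)) (hZ : ∀ j, Module.Finite A (Dual.HD A Z j))
    (hbX : LinBaseChange.Bij A B (FD A B) X (ω⟦deg hω q⟧)) (hbY : LinBaseChange.Bij A B (FD A B) Y (ω⟦deg hω q⟧))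
    (hbZ : LinBaseChange.Bij A B (FD A B) Z (ω⟦deg hω q⟧)) :
    (∀ x : L (maximalIdeal B) ((FD A B).obj X), TorsColim.map _ ((FD A B).map g) x = 0 →
        TorsColim.map _ ((FD A B).map φ) x = 0) ↔
      ∀ y : Y ⟶ ω⟦deg hω q⟧, ∃ u ∉ q.asIdeal, ∃ z : Z ⟶ ω⟦deg hω q⟧, g ≫ z = u • (φ ≫ y) := by
  let D := deg hω q
  let m : PrimeSpectrum B := IsLocalRing.closedPoint B
  have hD : deg hωB m = D := CompletionDeg.deg_eq hω hc hωB hq
  let ω' := ((FD A B).obj ω)⟦D⟧
  have hω' : Dual.IsDualizing B ω' := Normalized.isDualizing_shift hωB D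
  have hn : Dual.IsNormalized B ω' := fun i hi => by
    have : Subsingleton (Devissage.E (B ⧸ maximalIdeal B) ((FD A B).obj ω) (D + i)) := by
      refine subsingleton_of_forall_eq 0 fun e => ?_
      obtain ⟨s, hs, hse⟩ := Dimfun.Z_of_ne hωB m (D + i) (by omega) e
      exact (IsLocalRing.notMem_maximalIdeal.1 hs).smul_eq_zero.1 hse
    exact (Normalized.shiftE (B ⧸ maximalIdeal B) ((FD A B).obj ω) D i (D + i) rfl).toEquiv.subsingleton
  obtain ⟨H, _, _, f, hf⟩ := InjHull.Basic.exists_isInjectiveHull B (ResidueField B)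
  obtain ⟨θ, hθ⟩ := Trace.exists_trace hω' hn hf
  let W : Dual.D B := ω'⟦(0 : ℤ)⟧
  let ρ : (FD A B).obj (ω⟦D⟧) ≅ W :=
    FlatBC.shiftFD ω D ≪≫ ((shiftFunctorZero (Dual.D B) ℤ).app ω').symm
  let hat : ∀ {U : Dual.D A}, (U ⟶ ω⟦D⟧) → ((FD A B).obj U ⟶ W) := fun {U} y => (FD A B).map y ≫ ρ.hom
  have hΨ : ∀ (U : Dual.D A), (∀ j, Module.Finite A (Dual.HD A U j)) →
      Function.Bijective (LocalDuality.Ψ (maximalIdeal B) W θ ((FD A B).obj U)) := fun U hU =>
    LocalDuality.bijective_congr _ _ θ ((shiftFunctorZero (Dual.D B) ℤ).app _)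
      (LocalDualityGen.bijective hω' hn hf hθ ((FD A B).obj U)
        (fun j => have := hU j; BaseChange.finite_HD A B U j) 0)
  let βW : ∀ U : Dual.D A, B ⊗[A] (U ⟶ ω⟦D⟧) →ₗ[B] ((FD A B).obj U ⟶ W) := fun U =>
    { toFun := fun t => LinBaseChange.β A B (FD A B) U (ω⟦D⟧) t ≫ ρ.hom
      map_add' := fun a b => by rw [map_add, Preadditive.add_comp]
      map_smul' := fun c t => by
        rw [RingHom.id_apply, ← Linear.smul_comp]
        congr 1
        induction t using TensorProduct.induction_on with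
        | zero => simp
        | tmul b x => rw [TensorProduct.smul_tmul', LinBaseChange.β_tmul, LinBaseChange.β_tmul, smul_smul, smul_eq_mul]
        | add x y hx hy => simp only [smul_add, map_add, hx, hy] }
  have hβW : ∀ U, LinBaseChange.Bij A B (FD A B) U (ω⟦D⟧) → Function.Bijective (βW U) := fun U hU =>
    (Iso.homCongr (Iso.refl _) ρ).bijective.comp hU |> fun h => by
      convert h using 1
      funext t
      simp [βW]
  constructor
  · intro h y
    let P : Submodule B ((FD A B).obj X ⟶ W) :=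
      LinearMap.range (CategoryTheory.Linear.leftComp B W ((FD A B).map g))
    have hmem : (FD A B).map φ ≫ hat y ∈ P := by
      by_contra hne
      have : Module.Finite A (X ⟶ ω⟦D⟧) := AnnDual.finite_F hω X hX D
      have : Module.Finite B ((FD A B).obj X ⟶ W) := Module.Finite.of_surjective (βW X) (hβW X hbX).2
      have : Small.{u} (((FD A B).obj X ⟶ W) ⧸ P) := small_hom (R := B) _
      obtain ⟨χ, hχ⟩ := AnnDual.exists_dual_ne_zero hf
        (x := P.mkQ ((FD A B).map φ ≫ hat y)) (by simpa [Submodule.Quotient.mk_eq_zero] using hne)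
      obtain ⟨x, hx⟩ := (hΨ X hX).2 (χ.comp P.mkQ)
      have hgx : TorsColim.map _ ((FD A B).map g) x = 0 := (hΨ Z hZ).1 (by
        rw [map_zero, LocalDuality.natural, hx]
        refine LinearMap.ext fun k => ?_
        rw [LocalDuality.Rmap_apply, LinearMap.zero_apply, LinearMap.comp_apply,
          show P.mkQ ((FD A B).map g ≫ k) = 0 from (Submodule.Quotient.mk_eq_zero P).2 ⟨k, rfl⟩, map_zero])
      refine hχ ?_
      rw [← LinearMap.comp_apply, ← hx, ← LocalDuality.Rmap_apply, ← LocalDuality.natural, h x hgx, map_zero]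
      rfl
    obtain ⟨k, hk⟩ := hmem
    obtain ⟨t, rfl⟩ := (hβW Z hbZ).2 k
    let P₀ : Submodule A (X ⟶ ω⟦D⟧) := LinearMap.range (CategoryTheory.Linear.leftComp A (ω⟦D⟧) g)
    have h1 : (1 : B) ⊗ₜ[A] (φ ≫ y) = (CategoryTheory.Linear.leftComp A (ω⟦D⟧) g).lTensor B t := hbX.1 (by
      rw [LinBaseChange.β_tmul, one_smul, LinBaseChange.β_pre, ← cancel_mono ρ.hom, Functor.map_comp,
        Category.assoc, Category.assoc]
      exact hk.symm)
    have h2 : (1 : B) ⊗ₜ[A] P₀.mkQ (φ ≫ y) = 0 := by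
      rw [← LinearMap.lTensor_tmul, h1, ← LinearMap.comp_apply, ← LinearMap.lTensor_comp,
        LinearMap.range_mkQ_comp, LinearMap.lTensor_zero, LinearMap.zero_apply]
    obtain ⟨u, hu, hu0⟩ := BootBC.exists_smul_eq_zero B m hc _ h2
    rw [← map_smul, Submodule.mkQ_apply, Submodule.Quotient.mk_eq_zero] at hu0
    obtain ⟨z, hz⟩ := hu0
    exact ⟨u, hu, z, hz⟩
  · intro h x hx
    refine (hΨ Y hY).1 (Eq.trans ?_ (map_zero _).symm)
    refine LinearMap.ext fun k => ?_
    obtain ⟨t, rfl⟩ := (hβW Y hbY).2 k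
    induction t using TensorProduct.induction_on with
    | zero => rw [map_zero, map_zero, map_zero]
    | tmul b y =>
      obtain ⟨u, hu, z, hz⟩ := h y
      rw [show βW Y (b ⊗ₜ y) = b • hat y from ((congrArg (· ≫ ρ.hom) (LinBaseChange.β_tmul A B (FD A B) b y)).trans
        (Linear.smul_comp _ _ _ _ _ _)), map_smul, LinearMap.zero_apply]
      refine (congrArg (b • ·) ?_).trans (smul_zero b)
      refine (isUnit_algebraMap B hc hu).smul_eq_zero.1 ?_
      rw [LocalDuality.natural, LocalDuality.Rmap_apply, ← map_smul]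
      have hz' : algebraMap A B u • ((FD A B).map φ ≫ hat y) = (FD A B).map g ≫ hat z := by
        simp only [hat, ← Category.assoc, ← Functor.map_comp, ← Linear.smul_comp]
        rw [← LinBaseChange.IsSemilinear.map_smul (B := B) (G := FD A B), hz]
      rw [hz', ← LocalDuality.Rmap_apply, ← LocalDuality.natural, hx, map_zero, LinearMap.zero_apply]
    | add a b ha hb => rw [map_add, map_add, ha, hb]; exact zero_add _

end Groth.Agent.LocCoh.BootGerm
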