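import Groth.Agent.LocCoh.SuppTors

/-!
# Pro-vanishing with supports from pro-vanishing at every point, by strata

* `exists_isolate`, `stratum`: one stratum;
* `Sys`: a system of complexes with a map to a fixed one, compositions up to homotopy on cycles;
* `Sys.zero`: pointwise pro-zero implies pro-zero;
* `Sys.ker`: pointwise control of the kernel to the fixed complex gives a uniform bound.
-/

universe u

open CategoryTheory

namespace Groth.Agent.LocCoh.BootStrata

open Groth.Agent.DRing.Homology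
open SuppTors

variable {A : Type u} [CommRing A] [IsNoetherianRing A]

/-- an element isolating a minimal prime -/
theorem exists_isolate {J : Ideal A} {q : PrimeSpectrum A} (hq : q.asIdeal ∈ J.minimalPrimes) :
    ∃ v ∉ q.asIdeal, ∀ (M : ModuleCat.{u} A) (z : M), (∀ c ∈ J, c • z = 0) →
      v • z ∈ DRing.torsionSub q.asIdeal M := by
  classical
  obtain ⟨v, hv, hvq⟩ := SetLike.not_le_iff_exists.1 (show
      ¬ ((J.finite_minimalPrimes_of_isNoetherianRing A).toFinset.erase q.asIdeal).inf id ≤ q.asIdeal by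
    rw [Ideal.IsPrime.inf_le' q.2]
    rintro ⟨P, hP, hPq⟩
    rw [Finset.mem_erase, Set.Finite.mem_toFinset] at hP
    exact hP.1 (le_antisymm hPq (hq.2 hP.2.1 hPq)))
  have hrad : Ideal.span {v} * q.asIdeal ≤ J.radical := by
    rw [← Ideal.sInf_minimalPrimes]
    refine le_sInf fun P hP => ?_
    by_cases hPq : P = q.asIdeal
    · exact hPq ▸ Ideal.mul_le_right
    · refine Ideal.mul_le_left.trans ((Ideal.span_singleton_le_iff_mem _).2 ?_)
      exact (Finset.inf_le (f := id) (Finset.mem_erase.2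
        ⟨hPq, (J.finite_minimalPrimes_of_isNoetherianRing A).mem_toFinset.2 hP⟩)) hv
  obtain ⟨m, hm⟩ := Ideal.exists_pow_le_of_le_radical_of_fg_radical hrad (IsNoetherian.noetherian _)
  rw [mul_pow, Ideal.span_singleton_pow] at hm
  refine ⟨v ^ m, fun h => hvq (q.2.mem_of_pow_mem m h), fun M z hz => ⟨m, fun c hc => ?_⟩⟩
  rw [smul_smul, mul_comm]
  exact hz _ (hm (Ideal.mul_mem_mul (Ideal.mem_span_singleton_self _) hc))

/-- the stratum `T ∩ {lo ≤ d}` -/
abbrev up (T : Set (PrimeSpectrum A)) (d : PrimeSpectrum A → ℤ) (lo : ℤ) : Set (PrimeSpectrum A) :=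
  T ∩ {p | lo ≤ d p}

omit [IsNoetherianRing A] in
theorem exists_of_mem {M N : ModuleCat.{u} A} {S : Set (PrimeSpectrum A)} {z : M} {w : N}
    (hz : z ∈ tors S M) (hw : w ∈ tors S N) : ∃ J : Ideal A,
      PrimeSpectrum.zeroLocus (J : Set A) ⊆ S ∧ (∀ c ∈ J, c • z = 0) ∧ ∀ c ∈ J, c • w = 0 := by
  obtain ⟨J, hJ, hz⟩ := hz
  obtain ⟨J', hJ', hw⟩ := hw
  refine ⟨J ⊓ J', ?_, fun c hc => hz c hc.1, fun c hc => hw c hc.2⟩
  rw [PrimeSpectrum.zeroLocus_inf]
  exact Set.union_subset hJ hJ'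

/-- correcting on one stratum -/
theorem stratum {T : Set (PrimeSpectrum A)} {d : PrimeSpectrum A → ℤ} (hd : ∀ p q, p < q → d p < d q)
    {lo : ℤ} {M N : ModuleCat.{u} A} [Injective M] (D : M →ₗ[A] N) {J : Ideal A}
    (hJ : PrimeSpectrum.zeroLocus (J : Set A) ⊆ up T d lo) (z : N) (hz : ∀ c ∈ J, c • z = 0)
    (h : ∀ q : PrimeSpectrum A, q ∈ T → q.asIdeal ∈ J.minimalPrimes → d q = lo →
      ∃ u ∉ q.asIdeal, ∃ w ∈ DRing.torsionSub q.asIdeal M, D w = u • z) :
    ∃ w ∈ tors (up T d lo) M, z - D w ∈ tors (up T d (lo + 1)) N := by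
  classical
  let S : Set (PrimeSpectrum A) := {q | q.asIdeal ∈ J.minimalPrimes ∧ d q = lo}
  have hSfin : S.Finite := (J.finite_minimalPrimes_of_isNoetherianRing A).preimage
    (Function.Injective.injOn fun _ _ h => PrimeSpectrum.ext h) |>.subset fun _ hq => hq.1
  let U : Ideal A :=
    (Submodule.map D (DRing.torsionSub J M)).comap (LinearMap.toSpanSingleton A N z)
  obtain ⟨u, huU, huS⟩ : ∃ u ∈ U, ∀ q ∈ S, u ∉ q.asIdeal := by
    by_contra hcon
    push Not at hcon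
    by_cases hne : S = ∅
    · exact absurd (hcon 0 U.zero_mem) (by simp [hne])
    obtain ⟨q₀, hq₀⟩ := Set.nonempty_iff_ne_empty.2 hne
    obtain ⟨q, hq, hUq⟩ := (Ideal.subset_union_prime q₀ q₀ (s := hSfin.toFinset)
      (f := fun q : PrimeSpectrum A => q.asIdeal) fun q _ _ _ => q.2).1 fun x hx => by
        obtain ⟨q, hq, hxq⟩ := hcon x hx
        exact Set.mem_biUnion (hSfin.mem_toFinset.2 hq) hxq
    have hqS := hSfin.mem_toFinset.1 hq
    obtain ⟨u, huq, w, ⟨r, hr⟩, hdw⟩ := h q (hJ hqS.1.1.2).1 hqS.1 hqS.2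
    exact huq (hUq (show u ∈ U from ⟨w, ⟨r, fun c hc => hr c (Ideal.pow_right_mono hqS.1.1.2 r hc)⟩, hdw⟩))
  obtain ⟨w, hw, hdw⟩ := huU
  obtain ⟨w', hw', m, hm⟩ := (RGamma.div_of_injective J u M).exists_divide 1 hw
  rw [pow_one] at hm
  obtain ⟨r, hr⟩ : z - D w' ∈ DRing.torsionSub J N :=
    Submodule.sub_mem _ ⟨1, fun c hc => hz c (by simpa using hc)⟩ (DRing.map_mem_torsionSub J D hw')
  have hu : u ^ (m + 1) • (z - D w') = 0 := by
    rw [pow_succ, mul_smul, smul_sub, ← map_smul D]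
    change u ^ m • (LinearMap.toSpanSingleton A N z u - _) = 0
    rw [← hdw, ← map_sub, ← map_smul, hm, map_zero]
  refine ⟨w', torsionSub_le hJ hw', J ^ (r + 1) ⊔ Ideal.span {u ^ (m + 1)}, fun p hp => ?_, fun c hc => ?_⟩
  · rw [PrimeSpectrum.mem_zeroLocus, SetLike.coe_subset_coe, sup_le_iff,
      Ideal.span_singleton_le_iff_mem] at hp
    have hJp : J ≤ p.asIdeal := Ideal.IsPrime.le_of_pow_le hp.1
    obtain ⟨hpT, hpd⟩ := hJ hJp
    refine ⟨hpT, show lo + 1 ≤ d p from ?_⟩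
    rcases lt_or_eq_of_le (show lo ≤ d p from hpd) with hlt | heq
    · omega
    · exfalso
      obtain ⟨P, hP, hPp⟩ := Ideal.exists_minimalPrimes_le hJp
      have hP' : (⟨P, hP.1.1⟩ : PrimeSpectrum A) = p := by
        by_contra hne
        have h1 := hd _ _ (lt_of_le_of_ne (show (⟨P, hP.1.1⟩ : PrimeSpectrum A) ≤ p from hPp) hne)
        have h2 : lo ≤ d ⟨P, hP.1.1⟩ := (hJ (show J ≤ P from hP.1.2)).2
        omega
      refine huS p ⟨?_, heq.symm⟩ (p.2.mem_of_pow_mem _ hp.2)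
      rw [← hP']; exact hP
  · obtain ⟨a, ha, b, hb', rfl⟩ := Submodule.mem_sup.1 hc
    obtain ⟨e, rfl⟩ := Ideal.mem_span_singleton'.1 hb'
    rw [add_smul, mul_smul, hu, smul_zero, add_zero, hr a (Ideal.pow_le_pow_right (by omega) ha)]

/-- `z` is a coboundary with supports -/
def Bd (S : Set (PrimeSpectrum A)) (E : DRing.Cx A) (j i : ℤ) (z : E.X i) : Prop :=
  ∃ w ∈ tors S (E.X j), (E.d j i).hom w = z

omit [IsNoetherianRing A] in
theorem Bd.mono {S S' : Set (PrimeSpectrum A)} (h : S ⊆ S') {E : DRing.Cx A} {j i : ℤ} {z : E.X i} :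
    Bd S E j i z → Bd S' E j i z := fun ⟨w, hw, hd⟩ => ⟨w, tors_mono h hw, hd⟩

omit [IsNoetherianRing A] in
theorem Bd.map {S : Set (PrimeSpectrum A)} {E E' : DRing.Cx A} (f : E ⟶ E') {j i : ℤ} {z : E.X i} :
    Bd S E j i z → Bd S E' j i ((f.f i).hom z) := fun ⟨w, hw, hd⟩ =>
  ⟨(f.f j).hom w, map_mem_tors _ hw, by rw [← hd]; exact ConcreteCategory.congr_hom (f.comm j i) w⟩

omit [IsNoetherianRing A] in
theorem Bd.add {S : Set (PrimeSpectrum A)} {E : DRing.Cx A} {j i : ℤ} {z z' : E.X i} :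
    Bd S E j i z → Bd S E j i z' → Bd S E j i (z + z') := fun ⟨w, hw, hd⟩ ⟨w', hw', hd'⟩ =>
  ⟨w + w', add_mem hw hw', by rw [map_add, hd, hd']⟩

omit [IsNoetherianRing A] in
theorem Bd.neg {S : Set (PrimeSpectrum A)} {E : DRing.Cx A} {j i : ℤ} {z : E.X i} :
    Bd S E j i z → Bd S E j i (-z) := fun ⟨w, hw, hd⟩ =>
  ⟨-w, neg_mem hw, by rw [map_neg, hd]⟩

theorem Bd.sub {S : Set (PrimeSpectrum A)} {E : DRing.Cx A} {j i : ℤ} {z z' : E.X i}
    (h : Bd S E j i z) (h' : Bd S E j i z') : Bd S E j i (z - z') := by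
  rw [sub_eq_add_neg]; exact h.add h'.neg

omit [IsNoetherianRing A] in
theorem Bd.of_homotopy {S : Set (PrimeSpectrum A)} {E E' : DRing.Cx A} {f g : E ⟶ E'} (H : Homotopy f g)
    {j i : ℤ} (hj : j + 1 = i) {z : E.X i} (hz : z ∈ tors S (E.X i)) (hc : IsCyc E i z) :
    Bd S E' j i ((f.f i).hom z - (g.f i).hom z) := by
  refine ⟨(H.hom i j).hom z, map_mem_tors _ hz, ?_⟩
  have h := ConcreteCategory.congr_hom (H.comm i) z
  rw [dNext_eq _ (show (ComplexShape.up ℤ).Rel i (i + 1) from rfl),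
    prevD_eq _ (show (ComplexShape.up ℤ).Rel j i from hj)] at h
  change (f.f i).hom z = (H.hom (i + 1) i).hom ((E.d i (i + 1)).hom z) + (E'.d j i).hom ((H.hom i j).hom z) +
    (g.f i).hom z at h
  rw [(isCyc_iff rfl z).1 hc, map_zero, zero_add] at h
  rw [h, add_sub_cancel_right]

/-- a system of complexes over a fixed one -/
structure Sys where
  E : ℕ → DRing.Cx A
  injective : ∀ n i, Injective ((E n).X i)
  φ : ∀ {n k : ℕ}, n ≤ k → (E k ⟶ E n)
  comp : ∀ {n k l : ℕ} (h : n ≤ k) (h' : k ≤ l), Nonempty (Homotopy (φ h' ≫ φ h) (φ (h.trans h')))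
  Einf : DRing.Cx A
  γ : ∀ n, E n ⟶ Einf
  compγ : ∀ {n k : ℕ} (h : n ≤ k), Nonempty (Homotopy (φ h ≫ γ n) (γ k))

namespace Sys

variable (S : Sys.{u} (A := A))

/-- a map of the system -/
abbrev app {n k : ℕ} (h : n ≤ k) (i : ℤ) (z : (S.E k).X i) : (S.E n).X i := ((S.φ h).f i).hom z

/-- to the fixed complex -/
abbrev appγ (n : ℕ) (i : ℤ) (z : (S.E n).X i) : S.Einf.X i := ((S.γ n).f i).hom z

omit [IsNoetherianRing A] in
theorem isCyc_app {n k : ℕ} (h : n ≤ k) {i : ℤ} {z : (S.E k).X i} (hc : IsCyc (S.E k) i z) :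
    IsCyc (S.E n) i (S.app h i z) := by
  refine (isCyc_iff rfl _).2 ?_
  rw [app, ← ModuleCat.comp_apply, (S.φ h).comm, ModuleCat.comp_apply, (isCyc_iff rfl z).1 hc, map_zero]

omit [IsNoetherianRing A] in
theorem d_app {n k : ℕ} (h : n ≤ k) (j i : ℤ) (w : (S.E k).X j) :
    ((S.E n).d j i).hom (S.app h j w) = S.app h i (((S.E k).d j i).hom w) :=
  ConcreteCategory.congr_hom ((S.φ h).comm j i) w

theorem bd_comp {n k l : ℕ} (h : n ≤ k) (h' : k ≤ l) {T : Set (PrimeSpectrum A)} {j i : ℤ} (hj : j + 1 = i)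
    {z : (S.E l).X i} (hz : z ∈ tors T ((S.E l).X i)) (hc : IsCyc (S.E l) i z) :
    Bd T (S.E n) j i (S.app h i (S.app h' i z) - S.app (h.trans h') i z) :=
  Bd.of_homotopy (S.comp h h').some hj hz hc

variable (T : Set (PrimeSpectrum A))

/-- pro-zero at every point -/
def PointZero (j i : ℤ) : Prop := ∀ n, ∃ k, ∃ h : n ≤ k, ∀ q ∈ T, ∀ z ∈ DRing.torsionSub q.asIdeal ((S.E k).X i),
  IsCyc (S.E k) i z → ∃ u ∉ q.asIdeal, ∃ w ∈ DRing.torsionSub q.asIdeal ((S.E n).X j),
    ((S.E n).d j i).hom w = u • S.app h i z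

/-- kernel to the fixed complex controlled at every point -/
def PointKer (j i : ℤ) : Prop := ∀ n, ∃ k, ∃ h : n ≤ k, ∀ q ∈ T, ∀ z ∈ DRing.torsionSub q.asIdeal ((S.E k).X i),
  IsCyc (S.E k) i z →
    (∃ u ∉ q.asIdeal, ∃ w ∈ DRing.torsionSub q.asIdeal (S.Einf.X j), (S.Einf.d j i).hom w = u • S.appγ k i z) →
    ∃ u ∉ q.asIdeal, ∃ w ∈ DRing.torsionSub q.asIdeal ((S.E n).X j),
      ((S.E n).d j i).hom w = u • S.app h i z

variable {T} {d : PrimeSpectrum A → ℤ} (hd : ∀ p q, p < q → d p < d q)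

include hd in
/-- pointwise pro-zero implies pro-zero -/
theorem zero {j i : ℤ} (hj : j + 1 = i) (hp : S.PointZero T j i) :
    ∀ (k : ℕ) (lo : ℤ), (∀ p ∈ T, d p < lo + k) → ∀ n, ∃ m, ∀ m' (h : n ≤ m'), m ≤ m' →
      ∀ z : (S.E m').X i, z ∈ tors (up T d lo) ((S.E m').X i) → IsCyc (S.E m') i z →
        Bd (up T d lo) (S.E n) j i (S.app h i z)
  | 0, lo, hb => fun n => ⟨n, fun m' h _ z hz _ => by
      refine ⟨0, Submodule.zero_mem _, ?_⟩
      rw [eq_zero_of_mem_tors_empty ?_ hz, app, map_zero, map_zero]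
      refine Set.eq_empty_of_forall_notMem fun p hp => ?_
      have := hb p hp.1
      have hlo : lo ≤ d p := hp.2
      omega⟩
  | k + 1, lo, hb => fun n => by
    obtain ⟨n₁, hn₁⟩ := zero hj hp k (lo + 1) (fun p hp => by have := hb p hp; push_cast at this; omega) n
    obtain ⟨m, hm, hpm⟩ := hp (max n n₁)
    have := S.injective (max n n₁) j
    refine ⟨m, fun m' h hm' z hz hc => ?_⟩
    let y := S.app hm' i z
    have hy : y ∈ tors (up T d lo) ((S.E m).X i) := map_mem_tors _ hz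
    obtain ⟨J, hJ, hJy⟩ := hy
    obtain ⟨w, hw, hhigh⟩ := stratum hd ((S.E (max n n₁)).d j i).hom hJ (S.app hm i y)
      (fun c hc' => by rw [app, ← map_smul, hJy c hc', map_zero]) fun q hqT hq _ => by
        obtain ⟨v, hv, hvz⟩ := exists_isolate hq
        obtain ⟨u, hu, w, hw, hdw⟩ := hpm q hqT (v • y) (hvz _ y hJy) ((S.isCyc_app hm' hc).smul v)
        refine ⟨u * v, fun h' => (q.2.mem_or_mem h').elim hu hv, w, hw, ?_⟩
        rw [hdw, app, map_smul, smul_smul]
    have hcyc : IsCyc (S.E (max n n₁)) i (S.app hm i y - ((S.E (max n n₁)).d j i).hom w) :=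
      (S.isCyc_app hm (S.isCyc_app hm' hc)).sub (isCyc_d _ _ _)
    have h1 := (hn₁ (max n n₁) (le_max_left _ _) (le_max_right _ _) _ hhigh hcyc).mono
      (show up T d (lo + 1) ⊆ up T d lo from fun p hp => ⟨hp.1, by have := hp.2; simp only [Set.mem_ofPred_eq] at *; omega⟩)
    have h2 : Bd (up T d lo) (S.E n) j i (((S.E n).d j i).hom (S.app (le_max_left n n₁) j w)) :=
      ⟨_, map_mem_tors _ hw, rfl⟩
    have h3 : Bd (up T d lo) (S.E n) j i (S.app (le_max_left n n₁) i (S.app hm i y)) := by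
      have := h1.add h2
      rwa [d_app, app, app, app, map_sub, sub_add_cancel] at this
    have h4 := (S.bd_comp hm hm' hj hz hc).map (S.φ (le_max_left n n₁))
    rw [map_sub] at h4
    have h5 := S.bd_comp (le_max_left n n₁) (hm.trans hm') hj hz hc
    have := (h3.sub h4).sub h5
    convert this using 1
    simp only [app, y]
    abel

include hd in
/-- pointwise control of the kernel gives one uniform bound -/
theorem ker {j' j i : ℤ} (hj' : j' + 1 = j) (hj : j + 1 = i) (hp : S.PointKer T j i)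
    (hz₀ : S.PointZero T j' j) :
    ∀ (k : ℕ) (lo : ℤ), (∀ p ∈ T, d p < lo + k) → ∃ b, ∀ n, ∃ m, ∀ m' (h : n ≤ m') (hb : b ≤ m'), m ≤ m' →
      ∀ z : (S.E m').X i, z ∈ tors (up T d lo) ((S.E m').X i) → IsCyc (S.E m') i z →
        Bd (up T d lo) (S.E b) j i (S.app hb i z) → Bd (up T d lo) (S.E n) j i (S.app h i z)
  | 0, lo, hb => ⟨0, fun n => ⟨n, fun m' h _ _ z hz _ _ => by
      refine ⟨0, Submodule.zero_mem _, ?_⟩
      rw [eq_zero_of_mem_tors_empty ?_ hz, app, map_zero, map_zero]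
      refine Set.eq_empty_of_forall_notMem fun p hp => ?_
      have := hb p hp.1
      have hlo : lo ≤ d p := hp.2
      omega⟩⟩
  | k + 1, lo, hb => by
    obtain ⟨b₁, hb₁⟩ := ker hj' hj hp hz₀ k (lo + 1) (fun p hp => by have := hb p hp; push_cast at this; omega)
    obtain ⟨b, hbb, hpb⟩ := hz₀ b₁
    refine ⟨b, fun n => ?_⟩
    obtain ⟨n₁, hn₁⟩ := hb₁ n
    let N := max (max n n₁) b
    have hNn : n ≤ N := (le_max_left _ _).trans (le_max_left _ _)
    have hNn₁ : n₁ ≤ N := (le_max_right _ _).trans (le_max_left _ _)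
    have hNb : b ≤ N := le_max_right _ _
    obtain ⟨m, hm, hpm⟩ := hp N
    refine ⟨m, fun m' h hbm' hm' z hz hc hbd => ?_⟩
    have hmb : b ≤ m := hNb.trans hm
    let y := S.app hm' i z
    have hy : y ∈ tors (up T d lo) ((S.E m).X i) := map_mem_tors _ hz
    have hcy : IsCyc (S.E m) i y := S.isCyc_app hm' hc
    -- `γ y` is a coboundary
    have hγ : Bd (up T d lo) S.Einf j i (S.appγ m i y) := by
      have h1 := Bd.of_homotopy (S.compγ hm').some hj hz hc
      have h2 := Bd.of_homotopy (S.compγ hbm').some hj hz hc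
      have := (h1.sub h2).add (hbd.map (S.γ b))
      convert this using 1
      simp only [appγ, app, y, HomologicalComplex.comp_f, ModuleCat.hom_comp, LinearMap.coe_comp, Function.comp_apply]
      abel
    obtain ⟨wi, hwi, hdwi⟩ := hγ
    obtain ⟨J, hJ, hJy, hJw⟩ := exists_of_mem hy hwi
    have := S.injective N j
    obtain ⟨w, hw, hhigh⟩ := stratum hd ((S.E N).d j i).hom hJ (S.app hm i y)
      (fun c hc' => by rw [app, ← map_smul, hJy c hc', map_zero]) fun q hqT hq _ => by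
        obtain ⟨v, hv, hvz⟩ := exists_isolate hq
        obtain ⟨u, hu, w, hw, hdw⟩ := hpm q hqT (v • y) (hvz _ y hJy) (hcy.smul v)
          ⟨1, fun h1 => q.2.ne_top ((Ideal.eq_top_iff_one _).2 h1), v • wi, hvz _ wi hJw, by
            rw [one_smul, map_smul, hdwi, appγ, appγ, map_smul]⟩
        refine ⟨u * v, fun h' => (q.2.mem_or_mem h').elim hu hv, w, hw, ?_⟩
        rw [hdw, app, map_smul, smul_smul]
    -- the corrected cycle is a coboundary at `b`
    let z' := S.app hm i y - ((S.E N).d j i).hom w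
    have hz'lo : z' ∈ tors (up T d lo) ((S.E N).X i) :=
      sub_mem (map_mem_tors _ hy) (map_mem_tors _ hw)
    have hcz' : IsCyc (S.E N) i z' := (S.isCyc_app hm hcy).sub (isCyc_d _ _ _)
    have hbz' : Bd (up T d lo) (S.E b) j i (S.app hNb i z') := by
      have h1 := S.bd_comp hNb hm hj hy hcy
      have h2 := S.bd_comp hmb hm' hj hz hc
      have h3 : Bd (up T d lo) (S.E b) j i (((S.E b).d j i).hom (S.app hNb j w)) :=
        ⟨_, map_mem_tors _ hw, rfl⟩
      have := ((h1.add h2).add hbd).sub h3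
      convert this using 1
      simp only [d_app, app, z', y, map_sub]
      abel
    obtain ⟨v₀, hv₀, hdv₀⟩ := hbz'
    -- push the chain past the stratum
    obtain ⟨K, hK, hKv⟩ := (hv₀ : v₀ ∈ tors (up T d lo) ((S.E b).X j))
    obtain ⟨K', hK', hKz⟩ : S.app hNb i z' ∈ tors (up T d (lo + 1)) ((S.E b).X i) := map_mem_tors _ hhigh
    have := S.injective b₁ j'
    obtain ⟨t, ht, hhigh'⟩ := stratum hd ((S.E b₁).d j' j).hom hK (S.app hbb j v₀)
      (fun c hc' => by rw [app, ← map_smul, hKv c hc', map_zero]) fun q hqT hq hdq => by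
        obtain ⟨v, hv, hvz⟩ := exists_isolate hq
        obtain ⟨c, hcK, hcq⟩ := SetLike.not_le_iff_exists.1 (show ¬ K' ≤ q.asIdeal from fun hle => by
          have : lo + 1 ≤ d q := (hK' hle).2
          omega)
        obtain ⟨u, hu, w, hw, hdw⟩ := hpb q hqT (c • v • v₀) (Submodule.smul_mem _ c (hvz _ v₀ hKv))
          ((isCyc_iff hj _).2 (by rw [map_smul, map_smul, hdv₀, smul_comm, hKz c hcK, smul_zero]))
        refine ⟨u * (c * v), fun h' => (q.2.mem_or_mem h').elim hu fun h'' =>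
          (q.2.mem_or_mem h'').elim hcq hv, w, hw, ?_⟩
        rw [hdw, app, map_smul, map_smul, smul_smul, smul_smul, mul_assoc]
    have hb₁N : b₁ ≤ N := hbb.trans hNb
    have hbz'' : Bd (up T d (lo + 1)) (S.E b₁) j i (S.app hb₁N i z') := by
      have h1 : Bd (up T d (lo + 1)) (S.E b₁) j i (((S.E b₁).d j i).hom
          (S.app hbb j v₀ - ((S.E b₁).d j' j).hom t)) := ⟨_, hhigh', rfl⟩
      rw [map_sub, d_d, sub_zero, d_app, hdv₀] at h1
      have h2 := S.bd_comp hbb hNb hj hhigh hcz'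
      have := h1.sub h2
      rwa [sub_sub_cancel] at this
    have hfin := (hn₁ N hNn hb₁N hNn₁ z' hhigh hcz' hbz'').mono
      (show up T d (lo + 1) ⊆ up T d lo from fun p hp => ⟨hp.1, by have := hp.2; simp only [Set.mem_ofPred_eq] at *; omega⟩)
    have h2 : Bd (up T d lo) (S.E n) j i (((S.E n).d j i).hom (S.app hNn j w)) :=
      ⟨_, map_mem_tors _ hw, rfl⟩
    have h4 := (S.bd_comp hm hm' hj hz hc).map (S.φ hNn)
    rw [map_sub] at h4
    have h5 := S.bd_comp hNn (hm.trans hm') hj hz hc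
    have := ((hfin.add h2).sub h4).sub h5
    convert this using 1
    simp only [d_app, app, z', y, map_sub]
    abel

end Sys

end Groth.Agent.LocCoh.BootStrata
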