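import Groth.Agent.OldExt.Compare
import Mathlib.Algebra.Homology.LocalCohomology
import Mathlib.Algebra.Category.ModuleCat.Ext.HasExt
import Mathlib.CategoryTheory.Abelian.Injective.Ext
import Mathlib.Algebra.Category.ModuleCat.FilteredColimits
import Mathlib.CategoryTheory.Limits.ConcreteCategory.Basic

/-!
# Local cohomology along a cofiltered diagram of ideals, in terms of elements

For `I : D ⥤ Ideal R` with `D` cofiltered, an element of `(localCohomology.ofDiagram I i).obj M`
is `ι.{u, v} I i t M e` for some `t : D` and `e : Abelian.Ext (R ⧸ I t) M i`.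

* `qmap`, `ι`, `ι_qmap`, `ι_naturality`;
* `exists_rep`, `ι_eq_zero_iff`, `exists_rep₂`;
* `desc`, `desc_ι`: linear maps out of local cohomology.
-/

universe u v w

open CategoryTheory Limits Opposite

namespace Groth.Agent.LocCoh

variable {R : Type (max u v)} [CommRing R] {D : Type v} [SmallCategory D]

/-- The module `R ⧸ J`. -/
abbrev quotMod (J : Ideal R) : ModuleCat.{max u v} R := ModuleCat.of R (R ⧸ J)

/-- The projection `R ⧸ J → R ⧸ K` for `J ≤ K`. -/
noncomputable abbrev qmap {J K : Ideal R} (h : J ≤ K) : quotMod.{u, v} J ⟶ quotMod.{u, v} K :=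
  ModuleCat.ofHom (Submodule.mapQ J K LinearMap.id h)

variable (I : D ⥤ Ideal R) (i : ℕ)

/-- `Extⁱ(R ⧸ I t, M) → Hⁱ(M)`. -/
noncomputable def ι (t : D) (M : ModuleCat.{max u v} R) :
    Abelian.Ext (quotMod.{u, v} (I.obj t)) M i →ₗ[R] (localCohomology.ofDiagram.{u, v} I i).obj M :=
  haveI := localCohomology.hasColimitDiagram.{u, v} I i
  ((colimit.ι (localCohomology.diagram I i) (op t)).app M).hom ∘ₗ
    (OldExt.oldExtEquiv R (quotMod.{u, v} (I.obj t)) M i).symm.toLinearMap

theorem ι_oldExtEquiv {t : D} {M : ModuleCat.{max u v} R}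
    (x : ((Ext R (ModuleCat.{max u v} R) i).obj (op (quotMod.{u, v} (I.obj t)))).obj M) :
    haveI := localCohomology.hasColimitDiagram.{u, v} I i
    ι.{u, v} I i t M (OldExt.oldExtEquiv R (quotMod.{u, v} (I.obj t)) M i x) =
      ((colimit.ι (localCohomology.diagram I i) (op t)).app M).hom x :=
  haveI := localCohomology.hasColimitDiagram.{u, v} I i
  congrArg ((colimit.ι (localCohomology.diagram I i) (op t)).app M).hom
    (LinearEquiv.symm_apply_apply _ x)

theorem ι_qmap {s t : D} (w : s ⟶ t) (M : ModuleCat.{max u v} R)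
    (e : Abelian.Ext (quotMod.{u, v} (I.obj t)) M i) :
    ι.{u, v} I i s M ((Abelian.Ext.mk₀ (qmap.{u, v} (I.map w).down.down)).comp e (zero_add i)) = ι.{u, v} I i t M e := by
  haveI := localCohomology.hasColimitDiagram.{u, v} I i
  obtain ⟨x, rfl⟩ := (OldExt.oldExtEquiv R (quotMod.{u, v} (I.obj t)) M i).surjective e
  rw [← OldExt.oldExtEquiv_map]
  rw [ι_oldExtEquiv, ι_oldExtEquiv]
  exact ConcreteCategory.congr_hom
    (congrArg (fun z => z.app M) (colimit.w (localCohomology.diagram I i) w.op)) x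

theorem ι_naturality (t : D) {M N : ModuleCat.{max u v} R} (g : M ⟶ N)
    (e : Abelian.Ext (quotMod.{u, v} (I.obj t)) M i) :
    ((localCohomology.ofDiagram.{u, v} I i).map g).hom (ι.{u, v} I i t M e) =
      ι.{u, v} I i t N (e.comp (Abelian.Ext.mk₀ g) (add_zero i)) := by
  haveI := localCohomology.hasColimitDiagram.{u, v} I i
  obtain ⟨x, rfl⟩ := (OldExt.oldExtEquiv R (quotMod.{u, v} (I.obj t)) M i).surjective e
  rw [← OldExt.oldExtEquiv_map_app]
  rw [ι_oldExtEquiv, ι_oldExtEquiv]
  exact (ConcreteCategory.congr_hom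
    ((colimit.ι (localCohomology.diagram I i) (op t)).naturality g) x).symm

/-- The colimit cocone at `M`. -/
noncomputable def isColimitEval (M : ModuleCat.{max u v} R) :
    haveI := localCohomology.hasColimitDiagram.{u, v} I i
    IsColimit (((evaluation _ _).obj M).mapCocone (colimit.cocone (localCohomology.diagram I i))) :=
  haveI := localCohomology.hasColimitDiagram.{u, v} I i
  isColimitOfPreserves _ (colimit.isColimit _)

variable [IsCofiltered D]

theorem preservesFilteredColimits_forget :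
    PreservesFilteredColimitsOfSize.{v, v} (forget (ModuleCat.{max u v} R)) :=
  preservesFilteredColimitsOfSize_of_univLE.{max u v, max u v} _

theorem exists_rep {M : ModuleCat.{max u v} R} (x : (localCohomology.ofDiagram.{u, v} I i).obj M) :
    ∃ (t : D) (e : Abelian.Ext (quotMod.{u, v} (I.obj t)) M i), ι.{u, v} I i t M e = x := by
  haveI := localCohomology.hasColimitDiagram.{u, v} I i
  haveI := preservesFilteredColimits_forget.{u, v} (R := R)
  obtain ⟨⟨t⟩, y, hy⟩ := Concrete.isColimit_exists_rep _ (isColimitEval.{u, v} I i M) x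
  exact ⟨t, OldExt.oldExtEquiv R (quotMod.{u, v} (I.obj t)) M i y, (ι_oldExtEquiv.{u, v} I i y).trans hy⟩

theorem exists_common {M : ModuleCat.{max u v} R} (x y : (localCohomology.ofDiagram.{u, v} I i).obj M) :
    ∃ (t : D) (e f : Abelian.Ext (quotMod.{u, v} (I.obj t)) M i), ι.{u, v} I i t M e = x ∧ ι.{u, v} I i t M f = y := by
  obtain ⟨t, e, rfl⟩ := exists_rep.{u, v} I i x
  obtain ⟨s, f, rfl⟩ := exists_rep.{u, v} I i y
  exact ⟨IsCofiltered.min t s, _, _, ι_qmap.{u, v} I i (IsCofiltered.minToLeft t s) M e,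
    ι_qmap.{u, v} I i (IsCofiltered.minToRight t s) M f⟩

theorem ι_eq_zero_iff {t : D} {M : ModuleCat.{max u v} R}
    (e : Abelian.Ext (quotMod.{u, v} (I.obj t)) M i) :
    ι.{u, v} I i t M e = 0 ↔ ∃ (s : D) (w : s ⟶ t),
      (Abelian.Ext.mk₀ (qmap.{u, v} (I.map w).down.down)).comp e (zero_add i) = 0 := by
  constructor
  · intro h
    haveI := localCohomology.hasColimitDiagram.{u, v} I i
    haveI := preservesFilteredColimits_forget.{u, v} (R := R)
    obtain ⟨x, rfl⟩ := (OldExt.oldExtEquiv R (quotMod.{u, v} (I.obj t)) M i).surjective e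
    rw [ι_oldExtEquiv] at h
    obtain ⟨⟨s⟩, f, g, hfg⟩ := (Concrete.isColimit_rep_eq_iff_exists _ (isColimitEval.{u, v} I i M)
      (i := op t) (j := op t) x 0).mp (h.trans (map_zero _).symm)
    refine ⟨s, f.unop, ?_⟩
    rw [← OldExt.oldExtEquiv_map]
    have : (((Ext R (ModuleCat.{max u v} R) i).map (qmap.{u, v} (I.map f.unop).down.down).op).app M).hom x = 0 :=
      hfg.trans (map_zero _)
    rw [this, map_zero]
  · rintro ⟨s, w, h⟩
    rw [← ι_qmap.{u, v} I i w M e, h, map_zero]

attribute [irreducible] ι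

theorem subsingleton_ofDiagram_iff {M : ModuleCat.{max u v} R} :
    Subsingleton ((localCohomology.ofDiagram.{u, v} I i).obj M) ↔
      ∀ (t : D) (e : Abelian.Ext (quotMod.{u, v} (I.obj t)) M i), ∃ (s : D) (w : s ⟶ t),
        (Abelian.Ext.mk₀ (qmap.{u, v} (I.map w).down.down)).comp e (zero_add i) = 0 := by
  refine ⟨fun h t e => (ι_eq_zero_iff.{u, v} I i e).mp (Subsingleton.elim _ _), fun h => ?_⟩
  refine subsingleton_of_forall_eq 0 fun x => ?_
  obtain ⟨t, e, rfl⟩ := exists_rep.{u, v} I i x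
  exact (ι_eq_zero_iff.{u, v} I i e).mpr (h t e)

section Desc

variable {M : ModuleCat.{max u v} R} {N : Type w} [AddCommGroup N] [Module R N]
  (g : ∀ t : D, Abelian.Ext (quotMod.{u, v} (I.obj t)) M i →ₗ[R] N)
  (hg : ∀ ⦃s t : D⦄ (w : s ⟶ t) (e : Abelian.Ext (quotMod.{u, v} (I.obj t)) M i),
    g s ((Abelian.Ext.mk₀ (qmap.{u, v} (I.map w).down.down)).comp e (zero_add i)) = g t e)

include hg in
theorem desc_aux {s t : D} (e : Abelian.Ext (quotMod.{u, v} (I.obj t)) M i)
    (f : Abelian.Ext (quotMod.{u, v} (I.obj s)) M i) (h : ι.{u, v} I i t M e = ι.{u, v} I i s M f) :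
    g t e = g s f := by
  let a := IsCofiltered.minToLeft t s
  let b := IsCofiltered.minToRight t s
  have h0 : ι.{u, v} I i _ M ((Abelian.Ext.mk₀ (qmap.{u, v} (I.map a).down.down)).comp e (zero_add i) -
      (Abelian.Ext.mk₀ (qmap.{u, v} (I.map b).down.down)).comp f (zero_add i)) = 0 := by
    rw [map_sub, ι_qmap.{u, v} I i a, ι_qmap.{u, v} I i b, h, sub_self]
  obtain ⟨r, c, hc⟩ := (ι_eq_zero_iff.{u, v} I i _).mp h0
  have h1 := congrArg (g r) hc
  rw [hg c, map_zero, map_sub, hg a, hg b, sub_eq_zero] at h1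
  exact h1

theorem exists_rep' (x : (localCohomology.ofDiagram.{u, v} I i).obj M) :
    ∃ p : Σ' t : D, Abelian.Ext (quotMod.{u, v} (I.obj t)) M i, ι.{u, v} I i p.1 M p.2 = x :=
  (exists_rep.{u, v} I i x).elim fun t h => h.elim fun e he => ⟨⟨t, e⟩, he⟩

/-- A chosen representative of a local cohomology class. -/
noncomputable def rep (x : (localCohomology.ofDiagram.{u, v} I i).obj M) :
    Σ' t : D, Abelian.Ext (quotMod.{u, v} (I.obj t)) M i :=
  Classical.choose (exists_rep'.{u, v} I i x)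

theorem ι_rep (x : (localCohomology.ofDiagram.{u, v} I i).obj M) :
    ι.{u, v} I i (rep.{u, v} I i x).1 M (rep.{u, v} I i x).2 = x :=
  Classical.choose_spec (exists_rep'.{u, v} I i x)

attribute [irreducible] rep

/-- The function underlying `desc`. -/
noncomputable def descFun (x : (localCohomology.ofDiagram.{u, v} I i).obj M) : N :=
  g (rep.{u, v} I i x).1 (rep.{u, v} I i x).2

include hg in
theorem descFun_ι (t : D) (e : Abelian.Ext (quotMod.{u, v} (I.obj t)) M i) :
    descFun.{u, v, w} I i g (ι.{u, v} I i t M e) = g t e :=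
  desc_aux.{u, v, w} I i g hg (t := (rep.{u, v} I i (ι.{u, v} I i t M e)).1) (s := t) (rep.{u, v} I i (ι.{u, v} I i t M e)).2 e
    (ι_rep.{u, v} I i (ι.{u, v} I i t M e))

/-- Linear maps out of local cohomology. -/
noncomputable def desc : (localCohomology.ofDiagram.{u, v} I i).obj M →ₗ[R] N where
  toFun := descFun.{u, v, w} I i g
  map_add' x y := by
    obtain ⟨t, e, f, rfl, rfl⟩ := exists_common.{u, v} I i x y
    rw [← map_add, descFun_ι.{u, v, w} I i g hg, descFun_ι.{u, v, w} I i g hg, descFun_ι.{u, v, w} I i g hg, map_add]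
  map_smul' r x := by
    obtain ⟨t, e, rfl⟩ := exists_rep.{u, v} I i x
    rw [← map_smul, descFun_ι.{u, v, w} I i g hg, descFun_ι.{u, v, w} I i g hg, map_smul, RingHom.id_apply]

theorem desc_ι (t : D) (e : Abelian.Ext (quotMod.{u, v} (I.obj t)) M i) :
    desc I i g hg (ι.{u, v} I i t M e) = g t e :=
  descFun_ι.{u, v, w} I i g hg t e

end Desc

end Groth.Agent.LocCoh
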