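import Groth.Agent.LocCoh.AnnThm
import Groth.Agent.LocCoh.Colim
import Mathlib.Algebra.Homology.DerivedCategory.Ext.Linear

/-!
# `HT T i M` as `colim Hom(A/J, M[i])` in the derived category
-/

universe u

open CategoryTheory CategoryTheory.Limits DerivedCategory

attribute [local instance] HasDerivedCategory.standard

namespace Groth.Agent.LocCoh.HTBridge

open SuppGamma (LT Idx ιT qT)

variable {A : Type u} [CommRing A] (T : Set (PrimeSpectrum A)) (i : ℕ) (M : Type u) [AddCommGroup M] [Module A M]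

/-- one stage -/
noncomputable def stage (J : Idx T) :
    Abelian.Ext.{u} (quotMod.{u, u} ((Dual2.idealsInDiagram T).obj J)) (ModuleCat.of A M) i ≃ₗ[A]
      (Dual.inD A (A ⧸ J.obj) ⟶ (Dual.inD A M)⟦(i : ℤ)⟧) :=
  Abelian.Ext.homLinearEquiv

theorem stage_qmap {s t : Idx T} (w : s ⟶ t)
    (e : Abelian.Ext.{u} (quotMod.{u, u} ((Dual2.idealsInDiagram T).obj t)) (ModuleCat.of A M) i) :
    stage T i M s ((Abelian.Ext.mk₀ (qmap.{u, u} ((Dual2.idealsInDiagram T).map w).down.down)).comp e (zero_add i)) =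
      qT (SuppGamma.le_of_hom w) ≫ stage T i M t e := by
  change ((Abelian.Ext.mk₀ _).comp e (zero_add i)).hom = _
  rw [Abelian.Ext.comp_hom, Abelian.Ext.mk₀_hom, ShiftedHom.mk₀_comp]
  rfl

/-- the comparison -/
noncomputable def toLT : Dual2.HT T i M →ₗ[A] LT T ((Dual.inD A M)⟦(i : ℤ)⟧) :=
  LocCoh.desc.{u, u, u + 1} (Dual2.idealsInDiagram T) i
    (fun J => (ιT J _).comp (stage T i M J).toLinearMap) fun s t w e => by
      change ιT s _ (stage T i M s _) = ιT t _ (stage T i M t e)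
      rw [stage_qmap T i M w, SuppGamma.ιT_qT]

theorem toLT_ι (J : Idx T)
    (e : Abelian.Ext.{u} (quotMod.{u, u} ((Dual2.idealsInDiagram T).obj J)) (ModuleCat.of A M) i) :
    toLT T i M (LocCoh.ι.{u, u} (Dual2.idealsInDiagram T) i J (ModuleCat.of A M) e) =
      ιT J _ (stage T i M J e) :=
  LocCoh.desc_ι.{u, u, u + 1} _ _ _ _ J e

theorem bijective_toLT : Function.Bijective (toLT T i M) := by
  constructor
  · rw [injective_iff_map_eq_zero]
    intro x hx
    obtain ⟨J, e, rfl⟩ := LocCoh.exists_rep.{u, u} (Dual2.idealsInDiagram T) i x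
    rw [toLT_ι, SuppGamma.ιT_eq_zero_iff] at hx
    obtain ⟨J', h, hm⟩ := hx
    rw [LocCoh.ι_eq_zero_iff.{u, u}]
    refine ⟨J', SuppGamma.homLE h, (stage T i M J').injective ?_⟩
    rw [stage_qmap T i M (SuppGamma.homLE h), hm, map_zero]
  · intro y
    obtain ⟨J, d, rfl⟩ := SuppGamma.exists_rep y
    exact ⟨LocCoh.ι.{u, u} (Dual2.idealsInDiagram T) i J (ModuleCat.of A M) ((stage T i M J).symm d),
      (toLT_ι T i M J _).trans (by rw [LinearEquiv.apply_symm_apply])⟩

/-- `HT T i M = colim Hom(A/J, M[i])` -/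
noncomputable def equiv : Dual2.HT T i M ≃ₗ[A] LT T ((Dual.inD A M)⟦(i : ℤ)⟧) :=
  LinearEquiv.ofBijective _ (bijective_toLT T i M)

theorem subsingleton_HD_inD (j : ℤ) (hj : j ≠ 0) : Subsingleton (Dual.HD A (Dual.inD A M) j) :=
  (DRing.DBasic.subsingleton_HD_iff_isZero _ j).mpr (by
    rcases lt_or_gt_of_ne hj with h | h
    · exact DerivedCategory.isZero_of_isGE _ 0 j h
    · exact DerivedCategory.isZero_of_isLE _ 0 j h)

end Groth.Agent.LocCoh.HTBridge
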