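import Groth.Agent.LocCoh.SuppModel
import Groth.Agent.LocCoh.HTBridge
import Groth.Agent.LocCoh.BootStrata

/-!
# Classes with supports as cycles of injective models, compatibly with maps

* `exists_hom`: maps of models;
* `exists_germ`: a torsion cycle at a prime as a class in `TorsColim.L`;
* `exists_cycle`: a class in `HT` as a cycle with supports.
-/

universe u

open CategoryTheory CategoryTheory.Limits DerivedCategory HomologicalComplex

attribute [local instance] HasDerivedCategory.standard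

namespace Groth.Agent.LocCoh.BootModel

open Groth.Agent.DRing Groth.Agent.DRing.Homology
open Groth.Agent.DualCx
open SuppTors SuppModel
open SuppGamma (LT Idx ιT qT)
open BootStrata (Bd)

variable {A : Type u} [CommRing A]

/-- compatibility of a chain map with a map in `D(A)` -/
def Lifts {X Y : Dual.D A} (M : Model X) (M' : Model Y) (g : X ⟶ Y) (φ : M.E ⟶ M'.E) : Prop :=
  Q.map φ ≫ M'.iso.hom = M.iso.hom ≫ g

theorem exists_hom {X Y : Dual.D A} (M : Model X) (M' : Model Y) (g : X ⟶ Y) :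
    ∃ φ : M.E ⟶ M'.E, Lifts M M' g φ := by
  have := M'.strictlyGE
  have := M'.injective
  have := CochainComplex.isKInjective_of_injective M'.E M'.lo
  obtain ⟨φ, hφ⟩ := InjAmp.exists_Q_map_eq_inj (K := M.E) (L := M'.E) (M.iso.hom ≫ g ≫ M'.iso.inv)
  exact ⟨φ, by rw [Lifts, hφ, Category.assoc, Category.assoc, Iso.inv_hom_id, Category.comp_id]⟩

theorem Lifts.comp {X Y Z : Dual.D A} {M : Model X} {M' : Model Y} {M'' : Model Z} {g : X ⟶ Y} {g' : Y ⟶ Z}
    {φ : M.E ⟶ M'.E} {φ' : M'.E ⟶ M''.E} (h : Lifts M M' g φ) (h' : Lifts M' M'' g' φ') :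
    Lifts M M'' (g ≫ g') (φ ≫ φ') := by
  rw [Lifts, Q.map_comp, Category.assoc, h', ← Category.assoc, h, Category.assoc]

theorem Lifts.homotopy {X Y : Dual.D A} {M : Model X} {M' : Model Y} {g : X ⟶ Y} {φ φ' : M.E ⟶ M'.E}
    (h : Lifts M M' g φ) (h' : Lifts M M' g φ') : Nonempty (Homotopy φ φ') := by
  have := M'.strictlyGE
  have := M'.injective
  have := CochainComplex.isKInjective_of_injective M'.E M'.lo
  exact (InjAmp.Q_map_eq_iff_inj _ _).1 ((cancel_mono M'.iso.hom).1 (h.trans h'.symm))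

theorem Lifts.shift {X Y : Dual.D A} {M : Model X} {M' : Model Y} {g : X ⟶ Y} {φ : M.E ⟶ M'.E}
    (h : Lifts M M' g φ) (i : ℤ) :
    Q.map (φ⟦i⟧') ≫ (M'.shiftIso i).hom = (M.shiftIso i).hom ≫ g⟦i⟧' := by
  simp only [Model.shiftIso, Iso.trans_hom, Iso.app_hom, Functor.mapIso_hom, Category.assoc]
  refine (Category.assoc _ _ _).symm.trans ?_
  refine (congrArg (fun t => t ≫ _) (((Q (C := ModuleCat.{u} A)).commShiftIso i).hom.naturality φ)).trans ?_
  refine (Category.assoc _ _ _).trans ?_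
  congr 1
  exact ((shiftFunctor (Dual.D A) i).map_comp _ _).symm.trans
    ((congrArg _ h).trans ((shiftFunctor (Dual.D A) i).map_comp _ _))

theorem equiv_ι (I : Ideal A) {L : DRing.Cx A} [L.IsKInjective] {X : Dual.D A} (θ : DRing.toD L ≅ X) {n : ℕ}
    (f : DRing.PC.sgl 0 (HDIGamma.qm I n) ⟶ L) :
    HDIGamma.equiv I θ (TorsColim.ι I n X (Q.map f ≫ θ.hom)) = HDIGamma.kls I L f := by
  rw [HDIGamma.equiv, LinearEquiv.trans_apply, LinearEquiv.ofBijective_apply, HDIGamma.Φ_ι]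
  exact HDIGamma.kls_lift I θ _ f rfl

theorem equivT_ι {T : Set (PrimeSpectrum A)} {L : DRing.Cx A} [L.IsKInjective] {X : Dual.D A}
    (θ : DRing.toD L ≅ X) {J : Idx T} (f : DRing.PC.sgl 0 (SuppGamma.qm J.obj) ⟶ L) :
    SuppGamma.equiv T θ (ιT J X (Q.map f ≫ θ.hom)) = SuppGamma.kls L f := by
  rw [SuppGamma.equiv, LinearEquiv.trans_apply, LinearEquiv.ofBijective_apply, SuppGamma.Φ_ι]
  exact SuppGamma.kls_lift θ _ f rfl

variable [IsNoetherianRing A]

omit [IsNoetherianRing A] in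
theorem bd_iff_shift (E : DRing.Cx A) (S : Set (PrimeSpectrum A)) (i : ℤ) (z : E.X (0 + i)) :
    (∃ w : (E⟦i⟧ : DRing.Cx A).X (-1), w ∈ tors S ((E⟦i⟧ : DRing.Cx A).X (-1)) ∧
      ((E⟦i⟧ : DRing.Cx A).d (-1) 0).hom w = z) ↔ Bd S E (-1 + i) (0 + i) z := by
  constructor
  · rintro ⟨w, hw, hd⟩
    refine ⟨((i.negOnePow : ℤˣ) • (w : E.X (-1 + i))), ?_, ?_⟩
    · rw [Units.smul_def]; exact zsmul_mem hw _
    · refine Eq.trans (LinearMap.map_smul_of_tower _ _ (w : E.X (-1 + i))) ?_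
      exact hd
  · rintro ⟨w, hw, hd⟩
    refine ⟨((i.negOnePow : ℤˣ) • (w : E.X (-1 + i))), ?_, ?_⟩
    · rw [Units.smul_def]; exact zsmul_mem hw _
    · change (((i.negOnePow : ℤˣ) • E.d (-1 + i) (0 + i)).hom) _ = _
      rw [ModuleCat.hom_smul, LinearMap.smul_apply, LinearMap.map_smul_of_tower, smul_smul,
        Int.units_mul_self, one_smul]
      exact hd

/-- a torsion cycle at `q` as a class -/
theorem exists_germ {X : Dual.D A} (M : Model X) (q : Ideal A) (i : ℤ) (z : M.E.X (0 + i))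
    (hz : z ∈ DRing.torsionSub q (M.E.X (0 + i))) (hc : IsCyc M.E (0 + i) z) :
    ∃ x : TorsColim.L q (X⟦i⟧), ∀ {Y : Dual.D A} (M' : Model Y) (g : X ⟶ Y) (φ : M.E ⟶ M'.E),
      Lifts M M' g φ → ∀ u : A,
        u • TorsColim.map q (g⟦i⟧') x = 0 ↔ ∃ w ∈ DRing.torsionSub q (M'.E.X (-1 + i)),
          (M'.E.d (-1 + i) (0 + i)).hom w = u • (φ.f (0 + i)).hom z := by
  obtain ⟨r, hr⟩ := hz
  obtain ⟨f, hf⟩ := HDIGamma.exists_map q (M.E⟦i⟧) (n := r) z
    ((isCyc_shift M.E i z).2 hc) hr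
  have := M.isKInjective_shift i
  refine ⟨TorsColim.ι q r _ (Q.map f ≫ (M.shiftIso i).hom), fun {Y} M' g φ hφ u => ?_⟩
  have := M'.isKInjective_shift i
  have h0 : TorsColim.map q (g⟦i⟧') (TorsColim.ι q r _ (Q.map f ≫ (M.shiftIso i).hom)) =
      TorsColim.ι q r _ (Q.map (f ≫ φ⟦i⟧') ≫ (M'.shiftIso i).hom) :=
    (TorsColim.map_ι q (g⟦i⟧') r _).trans (congrArg (TorsColim.ι q r _) ((Category.assoc _ _ _).trans
      ((congrArg (fun t => Q.map f ≫ t) (hφ.shift i).symm).trans ((Category.assoc _ _ _).symm.trans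
        (congrArg (fun t => t ≫ _) (Q.map_comp f _).symm)))))
  rw [h0, ← (HDIGamma.equiv q (M'.shiftIso i)).map_eq_zero_iff, map_smul, equiv_ι, HDIGamma.kls,
    ← cls_smul, cls_eq_zero_iff (-1) (by norm_num)]
  have he : HDIGamma.elem q (M'.E⟦i⟧) (f ≫ φ⟦i⟧') = (φ.f (0 + i)).hom z := by
    rw [← hf]; rfl
  have h1 := bd_iff_shift M'.E (PrimeSpectrum.zeroLocus (q : Set A)) i (u • (φ.f (0 + i)).hom z)
  rw [Bd, tors_zeroLocus, tors_zeroLocus] at h1
  refine Iff.trans ?_ h1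
  constructor
  · rintro ⟨⟨w, hw⟩, hd⟩
    exact ⟨w, hw, (congrArg Subtype.val hd).trans (congrArg (u • ·) he)⟩
  · rintro ⟨w, hw, hd⟩
    refine ⟨⟨w, hw⟩, Subtype.ext ?_⟩
    change ((M'.E⟦i⟧ : DRing.Cx A).d (-1) 0).hom w = u • HDIGamma.elem q (M'.E⟦i⟧) (f ≫ φ⟦i⟧')
    rw [he]
    exact hd

omit [IsNoetherianRing A] in
theorem stage_comp {T : Set (PrimeSpectrum A)} {i : ℕ} {V V' : Type u} [AddCommGroup V] [Module A V]
    [AddCommGroup V'] [Module A V'] (g : V →ₗ[A] V') (J : Idx T)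
    (e : Abelian.Ext.{u} (quotMod.{u, u} ((Dual2.idealsInDiagram T).obj J)) (ModuleCat.of A V) i) :
    HTBridge.stage T i V' J (e.comp (Abelian.Ext.mk₀ (ModuleCat.ofHom g)) (add_zero i)) =
      HTBridge.stage T i V J e ≫
        ((DerivedCategory.singleFunctor (ModuleCat.{u} A) 0).map (ModuleCat.ofHom g))⟦(i : ℤ)⟧' := by
  change (e.comp (Abelian.Ext.mk₀ (ModuleCat.ofHom g)) (add_zero i)).hom = _
  rw [Abelian.Ext.comp_hom, Abelian.Ext.mk₀_hom, ShiftedHom.comp_mk₀]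
  rfl

omit [IsNoetherianRing A] in
/-- a class in `HT` as a cycle with supports -/
theorem exists_cycle {T : Set (PrimeSpectrum A)} {i : ℕ} {V : Type u} [AddCommGroup V] [Module A V]
    (M : Model (Dual.inD A V)) (x : Dual2.HT T i V) :
    ∃ z ∈ tors T (M.E.X (0 + (i : ℤ))), IsCyc M.E (0 + (i : ℤ)) z ∧
      ∀ {V' : Type u} [AddCommGroup V'] [Module A V'] (g : V →ₗ[A] V') (M' : Model (Dual.inD A V'))
        (φ : M.E ⟶ M'.E), Lifts M M' ((DerivedCategory.singleFunctor (ModuleCat.{u} A) 0).map (ModuleCat.ofHom g)) φ →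
          ((localCohomology.ofDiagram.{u, u} (Dual2.idealsInDiagram T) i).map (ModuleCat.ofHom g) x = 0 ↔
            Bd T M'.E (-1 + (i : ℤ)) (0 + (i : ℤ)) ((φ.f (0 + (i : ℤ))).hom z)) := by
  obtain ⟨J, e, rfl⟩ := LocCoh.exists_rep.{u, u} (Dual2.idealsInDiagram T) i x
  have := M.isKInjective_shift (i : ℤ)
  obtain ⟨f, hf⟩ := SuppGamma.exists_lift (M.shiftIso (i : ℤ)) (HTBridge.stage T i V J e)
  refine ⟨SuppGamma.elem (M.E⟦(i : ℤ)⟧) f, ⟨J.obj, J.property, fun c hc => SuppGamma.smul_elem _ f hc⟩,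
    (isCyc_shift M.E _ _).1 ((isCyc_GT_iff T _ _ _).1 (SuppGamma.isCyc_telem (J := J) _ f)), ?_⟩
  intro V' _ _ g M' φ hφ
  have := M'.isKInjective_shift (i : ℤ)
  have h1 : HTBridge.toLT T i V' ((localCohomology.ofDiagram.{u, u} (Dual2.idealsInDiagram T) i).map
      (ModuleCat.ofHom g) (LocCoh.ι.{u, u} (Dual2.idealsInDiagram T) i J (ModuleCat.of A V) e)) =
      ιT J _ (Q.map (f ≫ φ⟦(i : ℤ)⟧') ≫ (M'.shiftIso (i : ℤ)).hom) := by
    rw [LocCoh.ι_naturality.{u, u}, HTBridge.toLT_ι]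
    refine congrArg (ιT J _) ((stage_comp g J e).trans ?_)
    exact (congrArg (fun t => t ≫ _) hf.symm).trans ((Category.assoc _ _ _).trans
      ((congrArg (fun t => Q.map f ≫ t) (hφ.shift (i : ℤ)).symm).trans ((Category.assoc _ _ _).symm.trans
        (congrArg (fun t => t ≫ _) (Q.map_comp f _).symm))))
  rw [← (injective_iff_map_eq_zero' _).1 (HTBridge.bijective_toLT T i V').1, h1,
    ← (SuppGamma.equiv T (M'.shiftIso (i : ℤ))).map_eq_zero_iff, equivT_ι, SuppGamma.kls,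
    cls_eq_zero_iff (-1) (by norm_num)]
  refine Iff.trans ?_ (bd_iff_shift M'.E T (i : ℤ) _)
  constructor
  · rintro ⟨⟨w, hw⟩, hd⟩
    exact ⟨w, hw, congrArg Subtype.val hd⟩
  · rintro ⟨w, hw, hd⟩
    exact ⟨⟨w, hw⟩, Subtype.ext hd⟩

end Groth.Agent.LocCoh.BootModel
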