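import Groth.Agent.LocCoh.BootPoint
import Groth.Agent.LocCoh.BootModel

/-!
# `HT T i (I^n M)` is pro-zero for `i ≤ s`, with a uniform bound in degree `s + 1`
-/

universe u

open CategoryTheory CategoryTheory.Limits

attribute [local instance] HasDerivedCategory.standard

namespace Groth.Agent.LocCoh.BootGlobal

open Groth.Agent.DualCx
open Dimfun (deg)
open BootBC (inM)
open BootLocal (Sn sub)
open CompRlim (inc)
open SuppModel (Model)
open BootModel (Lifts)
open BootStrata (Sys Bd up)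
open Groth.Agent.DRing.Homology (IsCyc)

variable {A : Type u} [CommRing A]

/-- a model concentrated in degrees `≥ a` -/
theorem exists_model {X : Dual.D A} (a : ℤ) [X.IsGE a] : ∃ M : Model X, M.lo = a := by
  obtain ⟨K, _, ⟨e⟩⟩ := X.exists_iso_Q_obj_of_isGE a
  obtain ⟨L, i, hi, hL, hL'⟩ := CochainComplex.Plus.modelCategoryQuillen.exists_quasiIso_injective K a
  exact ⟨⟨L, a, hL, hL', (asIso (DerivedCategory.Q.map i)).symm ≪≫ e.symm⟩, rfl⟩

theorem exists_mdl (V : ModuleCat.{u} A) : ∃ M : Model (Dual.inD A V), M.lo = 0 :=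
  haveI : (Dual.inD A V).IsGE 0 :=
    inferInstanceAs (((DerivedCategory.singleFunctor (ModuleCat.{u} A) 0).obj _).IsGE 0)
  exists_model 0

/-- a chosen model of a module -/
noncomputable def mdl (V : ModuleCat.{u} A) : Model (Dual.inD A V) := (exists_mdl V).choose

theorem mdl_lo (V : ModuleCat.{u} A) : (mdl V).lo = 0 := (exists_mdl V).choose_spec

/-- a chosen lift -/
noncomputable def lift {V V' : ModuleCat.{u} A} (g : V ⟶ V') : (mdl V).E ⟶ (mdl V').E :=
  (BootModel.exists_hom (mdl V) (mdl V') (inM g)).choose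

theorem lifts {V V' : ModuleCat.{u} A} (g : V ⟶ V') : Lifts (mdl V) (mdl V') (inM g) (lift g) :=
  (BootModel.exists_hom (mdl V) (mdl V') (inM g)).choose_spec

theorem lift_comp {V V' V'' : ModuleCat.{u} A} {g : V ⟶ V'} {g' : V' ⟶ V''} {g'' : V ⟶ V''}
    (h : g ≫ g' = g'') : Nonempty (Homotopy (lift g ≫ lift g') (lift g'')) := by
  have := (lifts g).comp (lifts g')
  rw [inM, inM, ← Functor.map_comp, h] at this
  exact this.homotopy (lifts g'')

variable (I : Ideal A) (M : Type u) [AddCommGroup M] [Module A M]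

/-- the models of `I^n M` over that of `M` -/
noncomputable def sys : Sys (A := A) where
  E n := (mdl (Sn I M n)).E
  injective n := (mdl (Sn I M n)).injective
  φ h := lift (inc I M h)
  comp h h' := lift_comp (CompRlim.inc_comp I h h')
  Einf := (mdl (ModuleCat.of A M)).E
  γ n := lift (sub I M n)
  compγ _ := lift_comp rfl

variable {M} [IsNoetherianRing A] [Module.Finite A M] {ω : Dual.D A} (hω : Dual.IsDualizing A ω) {d : ℕ}
  (hcd : _root_.LocCoh.CdLE A I d) {T : Set (PrimeSpectrum A)}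
  (hTI : T ⊆ PrimeSpectrum.zeroLocus (I : Set A)) (hT : StableUnderSpecialization T) (s : ℕ)
  (h4 : ∀ p r q : PrimeSpectrum A, p ≤ r → r ≤ q → ¬ I ≤ p.asIdeal → I ≤ r.asIdeal → r ∉ T → q ∈ T → (s : ℕ∞) ≤ LocCoh.depth (Localization.AtPrime p.asIdeal) (LocalizedModule p.asIdeal.primeCompl M) ∨ ((d + s : ℕ) : WithBot ℕ∞) < (LocCoh.depth (Localization.AtPrime p.asIdeal) (LocalizedModule p.asIdeal.primeCompl M) : WithBot ℕ∞) + Formal2.dimBetween A p.asIdeal q.asIdeal)
  (h6 : ∀ q : PrimeSpectrum A, q ∈ T → ∀ p' : PrimeSpectrum (AdicCompletion (I.map (algebraMap A (Localization.AtPrime q.asIdeal))) (Localization.AtPrime q.asIdeal)), ¬ (I.map (algebraMap A (AdicCompletion (I.map (algebraMap A (Localization.AtPrime q.asIdeal))) (Localization.AtPrime q.asIdeal)))) ≤ p'.asIdeal → (∀ q' : PrimeSpectrum (AdicCompletion (I.map (algebraMap A (Localization.AtPrime q.asIdeal))) (Localization.AtPrime q.asIdeal)), p' ≤ q' → (I.map (algebraMap A (AdicCompletion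 (I.map (algebraMap A (Localization.AtPrime q.asIdeal))) (Localization.AtPrime q.asIdeal)))) ≤ q'.asIdeal → q'.asIdeal.IsMaximal) → (s : ℕ∞) < LocCoh.depth (Localization.AtPrime p'.asIdeal) (LocalizedModule p'.asIdeal.primeCompl (AdicCompletion (I.map (algebraMap A (Localization.AtPrime q.asIdeal))) (LocalizedModule q.asIdeal.primeCompl M))))

include hω hcd hTI hT h4 h6

theorem pointZero {j i : ℤ} (hj : j + 1 = i) (hi : i ≤ (s : ℤ)) : (sys I M).PointZero T j i := by
  suffices h : (sys I M).PointZero T (-1 + i) (0 + i) by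
    rwa [show -1 + i = j by omega, zero_add] at h
  intro n
  obtain ⟨k, h, hk⟩ := BootPoint.point_zero hω I hcd hTI hT s h4 h6 i hi n
  refine ⟨k, h, fun q hq z hz hc => ?_⟩
  obtain ⟨x, hx⟩ := BootModel.exists_germ (mdl (Sn I M k)) q.asIdeal i z hz hc
  obtain ⟨u, hu, hux⟩ := hk q hq x
  exact ⟨u, hu, (hx _ _ _ (lifts (inc I M h)) u).1 hux⟩

theorem pointKer {j i : ℤ} (hj : j + 1 = i) (hi : i ≤ (s : ℤ) + 1) : (sys I M).PointKer T j i := by
  suffices h : (sys I M).PointKer T (-1 + i) (0 + i) by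
    rwa [show -1 + i = j by omega, zero_add] at h
  intro n
  obtain ⟨k, h, hk⟩ := BootPoint.point_ker hω I hcd hTI hT s h4 h6 i hi n
  refine ⟨k, h, fun q hq z hz hc ⟨v, hv, hvz⟩ => ?_⟩
  obtain ⟨x, hx⟩ := BootModel.exists_germ (mdl (Sn I M k)) q.asIdeal i z hz hc
  obtain ⟨u, hu, hux⟩ := hk q hq x ⟨v, hv, (hx _ _ _ (lifts (sub I M k)) v).2 hvz⟩
  exact ⟨u, hu, (hx _ _ _ (lifts (inc I M h)) u).1 hux⟩

omit hcd hTI hT h4 h6 in
theorem exists_bounds : ∃ (lo : ℤ) (k : ℕ), (∀ p ∈ T, deg hω p < lo + k) ∧ up T (deg hω) lo = T := by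
  obtain ⟨lo, hi, h⟩ := Dimfun.deg_bounds hω
  refine ⟨lo, (hi + 1 - lo).toNat, fun p _ => ?_, Set.inter_eq_left.2 fun p _ => (h p).1⟩
  have := h p
  omega

/-- pro-zero -/
theorem zero {j i : ℤ} (hj : j + 1 = i) (hi : i ≤ (s : ℤ)) (n : ℕ) :
    ∃ m, ∀ m' (h : n ≤ m'), m ≤ m' → ∀ z ∈ SuppTors.tors T (((sys I M).E m').X i),
      IsCyc ((sys I M).E m') i z → Bd T ((sys I M).E n) j i ((sys I M).app h i z) := by
  obtain ⟨lo, k, hb, hup⟩ := exists_bounds (T := T) hω
  have := (sys I M).zero (fun _ _ h => Dimfun.deg_lt hω h) hj (pointZero I hω hcd hTI hT s h4 h6 hj hi) k lo hb n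
  rwa [hup] at this

/-- the uniform bound -/
theorem ker {j i : ℤ} (hj : j + 1 = i) (hi : i ≤ (s : ℤ) + 1) :
    ∃ b, ∀ n, ∃ m, ∀ m' (h : n ≤ m') (hb : b ≤ m'), m ≤ m' → ∀ z ∈ SuppTors.tors T (((sys I M).E m').X i),
      IsCyc ((sys I M).E m') i z → Bd T ((sys I M).E b) j i ((sys I M).app hb i z) →
        Bd T ((sys I M).E n) j i ((sys I M).app h i z) := by
  obtain ⟨lo, k, hb, hup⟩ := exists_bounds (T := T) hω
  have := (sys I M).ker (fun _ _ h => Dimfun.deg_lt hω h) (show (j - 1) + 1 = j by omega) hj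
    (pointKer I hω hcd hTI hT s h4 h6 hj hi) (pointZero I hω hcd hTI hT s h4 h6 (by omega) (by omega)) k lo hb
  rwa [hup] at this

end Groth.Agent.LocCoh.BootGlobal
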