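import Groth.Agent.LocCoh.BootGlobal
import Groth.Agent.LocCoh.CompletionRlim

/-!
# The kernel of `HT T i (I^k M) → HT T i M` is pro-zero for `i ≤ s + 1`

* `Sys.split`: linear homotopies on cycles in pro-zero degrees;
* `Sys.descend`: a class killed by an ideal is represented by a cycle killed by it, deeper;
* `kerZero`: the result.
-/

universe u

open CategoryTheory CategoryTheory.Limits

attribute [local instance] HasDerivedCategory.standard

namespace Groth.Agent.LocCoh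

open Groth.Agent.DRing.Homology
open SuppTors
open BootStrata

variable {A : Type u} [CommRing A] [IsNoetherianRing A]

namespace BootStrata.Sys

variable (S : Sys.{u} (A := A)) {T : Set (PrimeSpectrum A)}

/-- a map of the system on supports -/
noncomputable abbrev appT {n k : ℕ} (h : n ≤ k) (i : ℤ) :
    tors T ((S.E k).X i) →ₗ[A] tors T ((S.E n).X i) :=
  ((S.φ h).f i).hom.restrict fun _ hz => map_mem_tors _ hz

/-- differential on supports -/
noncomputable abbrev dT (n : ℕ) (j i : ℤ) : tors T ((S.E n).X j) →ₗ[A] tors T ((S.E n).X i) :=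
  ((S.E n).d j i).hom.restrict fun _ hz => map_mem_tors _ hz

variable {lo : ℤ} (hlo : ∀ n i, i < lo → Subsingleton ((S.E n).X i)) {t : ℤ}
  (hz : ∀ j i : ℤ, j + 1 = i → i ≤ t → ∀ n, ∃ m, ∀ m' (h : n ≤ m'), m ≤ m' →
    ∀ z ∈ tors T ((S.E m').X i), IsCyc (S.E m') i z → Bd T (S.E n) j i (S.app h i z))

include hlo hz in
/-- a linear null homotopy on cycles -/
theorem split : ∀ (k : ℕ) (j i : ℤ), j + 1 = i → i < lo + k → i ≤ t → ∀ n, ∃ m, ∀ m' (h : n ≤ m'), m ≤ m' →
    ∃ g : tors T ((S.E m').X i) →ₗ[A] tors T ((S.E n).X j),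
      ∀ z, IsCyc (S.E m') i z.1 → S.dT n j i (g z) = S.appT h i z
  | 0, j, i, hj, hi, _ => fun n => ⟨n, fun m' h _ => ⟨0, fun z _ => by
      have := hlo m' i (by simpa using hi)
      rw [Subsingleton.elim z 0, map_zero, map_zero, map_zero]⟩⟩
  | k + 1, j, i, hj, hi, hit => fun n => by
    obtain ⟨m₁, hm₁⟩ := split k (j - 1) j (by omega) (by push_cast at hi; omega) (by omega) n
    let N := max n m₁
    have hN : n ≤ N := le_max_left _ _
    obtain ⟨h', hh'⟩ := hm₁ N hN (le_max_right _ _)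
    obtain ⟨m, hm⟩ := hz j i hj hit N
    refine ⟨max m N, fun m' h hm' => ?_⟩
    have hNm : N ≤ m' := (le_max_right _ _).trans hm'
    let π : tors T ((S.E N).X j) →ₗ[A] tors T ((S.E n).X j) := S.appT hN j - (S.dT n (j - 1) j).comp h'
    have hπ : LinearMap.ker (S.dT N j i) ≤ LinearMap.ker π := fun y hy =>
      sub_eq_zero.2 (hh' y ((isCyc_iff hj _).2 (congrArg Subtype.val hy))).symm
    have hdπ : ∀ y, S.dT n j i (π y) = S.appT hN i (S.dT N j i y) := fun y => Subtype.ext (by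
      change ((S.E n).d j i).hom (S.app hN j y.1 - ((S.E n).d (j - 1) j).hom (h' y).1) = _
      rw [map_sub, d_d, sub_zero, d_app]; rfl)
    let Z : Submodule A (tors T ((S.E m').X i)) :=
      LinearMap.ker (((S.E m').d i (i + 1)).hom.comp (tors T ((S.E m').X i)).subtype)
    let ρ : Z →ₗ[A] LinearMap.range (S.dT (T := T) N j i) :=
      ((S.appT hNm i).comp Z.subtype).codRestrict _ fun z => by
        obtain ⟨w, hw, hd⟩ := hm m' hNm ((le_max_left _ _).trans hm') z.1.1 z.1.2 z.2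
        exact ⟨⟨w, hw⟩, Subtype.ext hd⟩
    let g : Z →ₗ[A] tors T ((S.E n).X j) :=
      ((LinearMap.ker (S.dT N j i)).liftQ π hπ).comp ((S.dT N j i).quotKerEquivRange.symm.toLinearMap.comp ρ)
    have := S.injective n j
    have := S.injective n (j - 1)
    obtain ⟨g', hg'⟩ := (injective_tors T ((S.E n).X j)).out Z.subtype (Submodule.injective_subtype Z) g
    -- the homotopy between the composite and the map
    let H := (S.comp hN hNm).some
    let Hl : tors T ((S.E m').X i) →ₗ[A] tors T ((S.E n).X j) :=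
      (H.hom i j).hom.restrict fun _ hz => map_mem_tors _ hz
    refine ⟨g' - Hl, fun z hzc => ?_⟩
    have hg : g' z = g ⟨z, hzc⟩ := hg' ⟨z, hzc⟩
    obtain ⟨y, hy⟩ := (ρ ⟨z, hzc⟩).2
    have hρ : (S.dT N j i).quotKerEquivRange.symm (ρ ⟨z, hzc⟩) = Submodule.Quotient.mk y := by
      rw [LinearEquiv.symm_apply_eq]; exact Subtype.ext hy.symm
    have hgy : g ⟨z, hzc⟩ = π y := by
      change (LinearMap.ker (S.dT N j i)).liftQ π hπ ((S.dT N j i).quotKerEquivRange.symm (ρ ⟨z, hzc⟩)) = _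
      rw [hρ, Submodule.liftQ_apply]
    have h1 : S.dT n j i (g' z) = S.appT hN i (S.appT hNm i z) := by
      rw [hg, hgy, hdπ, hy]; rfl
    rw [LinearMap.sub_apply, map_sub, h1]
    refine Subtype.ext ?_
    change S.app hN i (S.app hNm i z.1) - ((S.E n).d j i).hom ((H.hom i j).hom z.1) = S.app h i z.1
    have hH := ConcreteCategory.congr_hom (H.comm i) z.1
    rw [dNext_eq _ (show (ComplexShape.up ℤ).Rel i (i + 1) from rfl),
      prevD_eq _ (show (ComplexShape.up ℤ).Rel j i from hj)] at hH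
    change S.app hN i (S.app hNm i z.1) = (H.hom (i + 1) i).hom (((S.E m').d i (i + 1)).hom z.1) +
      ((S.E n).d j i).hom ((H.hom i j).hom z.1) + S.app (hN.trans hNm) i z.1 at hH
    rw [(isCyc_iff rfl z.1).1 hzc, map_zero, zero_add] at hH
    rw [hH, add_sub_cancel_left]

include hlo hz in
/-- a class killed by `𝔞` is represented by a cycle killed by `𝔞`, deeper -/
theorem descend (𝔞 : Ideal A) {j i : ℤ} (hj : j + 1 = i) (hit : j ≤ t) (n : ℕ) :
    ∃ m, ∀ m' (h : n ≤ m'), m ≤ m' → ∀ z ∈ tors T ((S.E m').X i), IsCyc (S.E m') i z →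
      (∀ a ∈ 𝔞, Bd T (S.E m') j i (a • z)) →
        ∃ v ∈ tors T ((S.E n).X j), ∀ a ∈ 𝔞, a • (S.app h i z - ((S.E n).d j i).hom v) = 0 := by
  obtain ⟨r, a, ha⟩ := Submodule.fg_iff_exists_fin_generating_family.1 (IsNoetherian.noetherian 𝔞)
  obtain ⟨m, hm⟩ := S.split hlo hz ((j - lo).toNat + 1) (j - 1) j (by omega) (by omega) hit n
  refine ⟨m, fun m' h hm' z hzT hc hkill => ?_⟩
  obtain ⟨g, hg⟩ := hm m' h hm'
  choose w hwT hdw using fun k : Fin r => hkill (a k) (ha ▸ Submodule.subset_span ⟨k, rfl⟩)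
  let w₀ : (Fin r → A) →ₗ[A] tors T ((S.E m').X j) := Fintype.linearCombination A fun k => ⟨w k, hwT k⟩
  let π : (Fin r → A) →ₗ[A] 𝔞 :=
    (Fintype.linearCombination A a).codRestrict 𝔞 fun v =>
      ha ▸ (Fintype.range_linearCombination A (v := a)) ▸ LinearMap.mem_range_self _ v
  have hπ : Function.Surjective π := fun x => by
    have hx : (x : A) ∈ LinearMap.range (Fintype.linearCombination A a) := by
      rw [Fintype.range_linearCombination, ha]; exact x.2
    obtain ⟨v, hv⟩ := hx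
    exact ⟨v, Subtype.ext hv⟩
  have hdw₀ : ∀ v, (S.dT m' j i (w₀ v)).1 = (π v : A) • z := fun v => by
    rw [show (π v : A) = ∑ k, v k • a k from Fintype.linearCombination_apply A a v,
      show w₀ v = ∑ k, v k • ⟨w k, hwT k⟩ from Fintype.linearCombination_apply A _ v, map_sum,
      AddSubmonoidClass.coe_finsetSum, Finset.sum_smul]
    refine Finset.sum_congr rfl fun k _ => ?_
    rw [map_smul, smul_eq_mul, mul_smul]
    exact congrArg (v k • ·) (hdw k)
  let w₁ : (Fin r → A) →ₗ[A] tors T ((S.E n).X j) :=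
    (S.appT h j).comp w₀ - (S.dT n (j - 1) j).comp (g.comp w₀)
  have hw₁ : LinearMap.ker π ≤ LinearMap.ker w₁ := fun v hv => by
    refine sub_eq_zero.2 (hg (w₀ v) ((isCyc_iff hj _).2 ?_)).symm
    change (S.dT m' j i (w₀ v)).1 = 0
    rw [hdw₀, show π v = 0 from hv, Submodule.coe_zero, zero_smul]
  let G : 𝔞 →ₗ[A] tors T ((S.E n).X j) :=
    ((LinearMap.ker π).liftQ w₁ hw₁).comp (π.quotKerEquivOfSurjective hπ).symm.toLinearMap
  have hG : ∀ v, G (π v) = w₁ v := fun v => by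
    change (LinearMap.ker π).liftQ w₁ hw₁ ((π.quotKerEquivOfSurjective hπ).symm (π v)) = _
    rw [show (π.quotKerEquivOfSurjective hπ).symm (π v) = Submodule.Quotient.mk v from
      (LinearEquiv.symm_apply_eq _).2 rfl, Submodule.liftQ_apply]
  have := S.injective n j
  obtain ⟨G', hG'⟩ := (injective_tors T ((S.E n).X j)).out 𝔞.subtype (Submodule.injective_subtype 𝔞) G
  refine ⟨(G' 1).1, (G' 1).2, fun b hb => ?_⟩
  obtain ⟨v, hv⟩ := hπ ⟨b, hb⟩
  have hb1 : b • (G' 1).1 = (w₁ v).1 := by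
    rw [← Submodule.coe_smul, ← map_smul, smul_eq_mul, mul_one, ← hG, hv]
    exact congrArg Subtype.val (hG' ⟨b, hb⟩)
  rw [smul_sub, ← map_smul ((S.E n).d j i).hom, hb1]
  have h3 : ((S.E n).d j i).hom (w₁ v).1 = b • S.app h i z := by
    change ((S.E n).d j i).hom (S.app h j (w₀ v).1 - ((S.E n).d (j - 1) j).hom (g (w₀ v)).1) = _
    rw [map_sub, d_d, sub_zero, d_app, show ((S.E m').d j i).hom (w₀ v).1 = (π v : A) • z from hdw₀ v, hv,
      app, map_smul]
  rw [h3, sub_self]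

end BootStrata.Sys

namespace BootGlobal

open Groth.Agent.DualCx
open BootBC (inM)
open BootLocal (Sn sub)
open CompRlim (inc)
open BootModel (Lifts)

variable (I : Ideal A) (M : Type u) [AddCommGroup M] [Module A M]

/-- multiplication `M → I^n M` by an element of `I^n` -/
noncomputable def smulTo (n : ℕ) {f : A} (hf : f ∈ I ^ n) : ModuleCat.of A M ⟶ Sn I M n :=
  ModuleCat.ofHom ((LinearMap.lsmul A M f).codRestrict _ fun _ =>
    Submodule.smul_mem_smul hf Submodule.mem_top)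

omit [IsNoetherianRing A] in
theorem lifts_smul {V V' : ModuleCat.{u} A} (g : V ⟶ V') (c : A) :
    Lifts (mdl V) (mdl V') (inM (c • g)) (c • lift g) := by
  rw [Lifts, DerivedCategory.Q.map_smul, Linear.smul_comp, lifts g, inM, inM, Functor.map_smul,
    Linear.comp_smul]

theorem smul_app {b k : ℕ} (h : b ≤ k) {f : A} (hf : f ∈ I ^ b) {T : Set (PrimeSpectrum A)} {j i : ℤ}
    (hj : j + 1 = i) {z : ((sys I M).E k).X i} (hz : z ∈ tors T (((sys I M).E k).X i))
    (hc : IsCyc ((sys I M).E k) i z) (h0 : Bd T (sys I M).Einf j i ((sys I M).appγ k i z)) :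
    Bd T ((sys I M).E b) j i (f • (sys I M).app h i z) := by
  have hco : sub I M k ≫ smulTo I M b hf = f • inc I M h :=
    ModuleCat.hom_ext (LinearMap.ext fun x => Subtype.ext rfl)
  have h1 : Lifts (mdl (Sn I M k)) (mdl (Sn I M b)) (inM (f • inc I M h))
      (lift (sub I M k) ≫ lift (smulTo I M b hf)) := by
    have := (lifts (sub I M k)).comp (lifts (smulTo I M b hf))
    rwa [inM, inM, ← Functor.map_comp, hco] at this
  have h2 := Bd.of_homotopy (h1.homotopy (lifts_smul (inc I M h) f)).some hj hz hc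
  have h3 : Bd T (mdl (Sn I M b)).E j i (((lift (smulTo I M b hf)).f i).hom (((lift (sub I M k)).f i).hom z)) :=
    h0.map (lift (smulTo I M b hf))
  have := h3.sub h2
  rw [HomologicalComplex.comp_f, ModuleCat.hom_comp, LinearMap.comp_apply, sub_sub_cancel] at this
  exact this

/-- cycles killed by a power of `I` die deeper -/
theorem killed [Module.Finite A M] {T : Set (PrimeSpectrum A)} (b : ℕ) (hb : 1 ≤ b) (i : ℤ) (n : ℕ) :
    ∃ m, ∀ m' (h : n ≤ m'), m ≤ m' → ∀ z ∈ tors T (((sys I M).E m').X (0 + i)),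
      IsCyc ((sys I M).E m') (0 + i) z → (∀ a ∈ I ^ b, a • z = 0) →
        Bd T ((sys I M).E n) (-1 + i) (0 + i) ((sys I M).app h (0 + i) z) := by
  obtain ⟨m₁, hm₁, hW⟩ := CompRlim.exists_uniform (I ^ b) M i n
  refine ⟨b * m₁, fun m' h hm' z ⟨J, hJ, hJz⟩ hc hkill => ?_⟩
  let J' : SuppGamma.Idx T := ⟨J ⊔ I ^ b,
    (PrimeSpectrum.zeroLocus_anti_mono (SetLike.coe_subset_coe.2 le_sup_left)).trans hJ⟩
  have hJ'z : ∀ c ∈ J'.obj, c • z = 0 := fun c hc' => by
    obtain ⟨x, hx, y, hy, rfl⟩ := Submodule.mem_sup.1 hc'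
    rw [add_smul, hJz x hx, hkill y hy, add_zero]
  let E := (mdl (Sn I M m')).E
  obtain ⟨f, hf⟩ := SuppGamma.exists_map (E⟦i⟧) (J := J'.obj) z ((SuppModel.isCyc_shift E i z).2 hc) hJ'z
  let V₁ := Sn (I ^ b) M m₁
  let ι₁ : Sn I M m' ⟶ V₁ := ModuleCat.ofHom (Submodule.inclusion
    (Submodule.smul_mono_left (by rw [← pow_mul]; exact Ideal.pow_le_pow_right hm')))
  let ι₂ : Sn (I ^ b) M n ⟶ Sn I M n := ModuleCat.ofHom (Submodule.inclusion
    (Submodule.smul_mono_left (by rw [← pow_mul]; exact Ideal.pow_le_pow_right (Nat.le_mul_of_pos_left n hb))))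
  let e : Dual.inD A (A ⧸ J'.obj) ⟶ (Dual.inD A (Sn I M m'))⟦i⟧ :=
    DerivedCategory.Q.map f ≫ ((mdl (Sn I M m')).shiftIso i).hom
  have h0 := hW (A ⧸ J'.obj) (fun c hc' w => by
    obtain ⟨a, rfl⟩ := Submodule.mkQ_surjective J'.obj w
    rw [Submodule.mkQ_apply, ← Submodule.Quotient.mk_smul, Submodule.Quotient.mk_eq_zero]
    exact J'.obj.mul_mem_right a (Submodule.mem_sup_right hc')) (e ≫ (inM ι₁)⟦i⟧')
  have h1 : e ≫ (inM (inc I M h))⟦i⟧' = 0 := by
    rw [show inc I M h = ι₁ ≫ inc (I ^ b) M hm₁ ≫ ι₂ from rfl, inM, Functor.map_comp, Functor.map_comp,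
      Functor.map_comp, Functor.map_comp, ← Category.assoc, ← Category.assoc]
    exact (congrArg (fun t => t ≫ _) h0).trans zero_comp
  have hl := (lifts (inc I M h)).shift i
  have := (mdl (Sn I M n)).isKInjective_shift i
  have h2 : DerivedCategory.Q.map (f ≫ (lift (inc I M h))⟦i⟧') = 0 := by
    rw [← cancel_mono ((mdl (Sn I M n)).shiftIso i).hom, zero_comp]
    refine Eq.trans ?_ h1
    exact (congrArg (fun t => t ≫ _) (DerivedCategory.Q.map_comp _ _)).trans ((Category.assoc _ _ _).trans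
      ((congrArg (fun t => _ ≫ t) hl).trans (Category.assoc _ _ _).symm))
  obtain ⟨hh⟩ := (DRing.InjAmp.Q_map_eq_iff_inj _ _).1 (h2.trans (DerivedCategory.Q.map_zero _ _).symm)
  obtain ⟨w, hw, hdw⟩ := SuppGamma.exists_primitive ((mdl (Sn I M n)).E⟦i⟧) hh
  refine (BootModel.bd_iff_shift (mdl (Sn I M n)).E T i _).1 ⟨w, ⟨J'.obj, J'.property, hw⟩, ?_⟩
  rw [hdw, Sys.app, ← hf]
  rfl

variable {M} [Module.Finite A M] {ω : Dual.D A} (hω : Dual.IsDualizing A ω) {d : ℕ}
  (hcd : _root_.LocCoh.CdLE A I d) {T : Set (PrimeSpectrum A)}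
  (hTI : T ⊆ PrimeSpectrum.zeroLocus (I : Set A)) (hT : StableUnderSpecialization T) (s : ℕ)
  (h4 : ∀ p r q : PrimeSpectrum A, p ≤ r → r ≤ q → ¬ I ≤ p.asIdeal → I ≤ r.asIdeal → r ∉ T → q ∈ T → (s : ℕ∞) ≤ LocCoh.depth (Localization.AtPrime p.asIdeal) (LocalizedModule p.asIdeal.primeCompl M) ∨ ((d + s : ℕ) : WithBot ℕ∞) < (LocCoh.depth (Localization.AtPrime p.asIdeal) (LocalizedModule p.asIdeal.primeCompl M) : WithBot ℕ∞) + Formal2.dimBetween A p.asIdeal q.asIdeal)
  (h6 : ∀ q : PrimeSpectrum A, q ∈ T → ∀ p' : PrimeSpectrum (AdicCompletion (I.map (algebraMap A (Localization.AtPrime q.asIdeal))) (Localization.AtPrime q.asIdeal)), ¬ (I.map (algebraMap A (AdicCompletion (I.map (algebraMap A (Localization.AtPrime q.asIdeal))) (Localization.AtPrime q.asIdeal)))) ≤ p'.asIdeal → (∀ q' : PrimeSpectrum (AdicCompletion (I.map (algebraMap A (Localization.AtPrime q.asIdeal))) (Localization.AtPrime q.asIdeal)), p' ≤ q' → (I.map (algebraMap A (AdicCompletion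 (I.map (algebraMap A (Localization.AtPrime q.asIdeal))) (Localization.AtPrime q.asIdeal)))) ≤ q'.asIdeal → q'.asIdeal.IsMaximal) → (s : ℕ∞) < LocCoh.depth (Localization.AtPrime p'.asIdeal) (LocalizedModule p'.asIdeal.primeCompl (AdicCompletion (I.map (algebraMap A (Localization.AtPrime q.asIdeal))) (LocalizedModule q.asIdeal.primeCompl M))))

include hω hcd hTI hT h4 h6 in
/-- the kernel to `M` is pro-zero -/
theorem kerZero {i : ℤ} (hi : i ≤ (s : ℤ) + 1) (n : ℕ) :
    ∃ m, ∀ m' (h : n ≤ m'), m ≤ m' → ∀ z ∈ tors T (((sys I M).E m').X (0 + i)),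
      IsCyc ((sys I M).E m') (0 + i) z → Bd T (sys I M).Einf (-1 + i) (0 + i) ((sys I M).appγ m' (0 + i) z) →
        Bd T ((sys I M).E n) (-1 + i) (0 + i) ((sys I M).app h (0 + i) z) := by
  obtain ⟨b, hb⟩ := ker I hω hcd hTI hT s h4 h6 (j := -1 + i) (i := 0 + i) (by omega) (by omega)
  obtain ⟨m₂, hm₂⟩ := killed I M (T := T) (b + 1) (by omega) i n
  let N₂ := max n m₂
  obtain ⟨m₃, hm₃⟩ := (sys I M).descend (T := T) (lo := 0) (t := s)
    (fun k l hl => (mdl (Sn I M k)).subsingleton_X l (by rw [mdl_lo]; exact hl))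
    (fun j l hj hl => zero I hω hcd hTI hT s h4 h6 hj hl) (I ^ (b + 1))
    (show -1 + i + 1 = 0 + i by omega) (by omega) N₂
  let N₃ := max N₂ m₃
  obtain ⟨m₄, hm₄⟩ := hb N₃
  refine ⟨max (max m₄ N₃) b, fun m' h hm' z hz hc hγ => ?_⟩
  have hb' : b ≤ m' := (le_max_right _ _).trans hm'
  have h₃ : N₃ ≤ m' := ((le_max_right _ _).trans (le_max_left _ _)).trans hm'
  have h₂₃ : N₂ ≤ N₃ := le_max_left _ _
  have hn₂ : n ≤ N₂ := le_max_left _ _
  have hkill : ∀ f ∈ I ^ (b + 1), Bd T ((sys I M).E N₃) (-1 + i) (0 + i) (f • (sys I M).app h₃ (0 + i) z) := by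
    intro f hf
    have h1 := smul_app I M hb' (Ideal.pow_le_pow_right (Nat.le_succ b) hf) (show -1 + i + 1 = 0 + i by omega)
      hz hc hγ
    have h2 := hm₄ m' h₃ hb' (((le_max_left _ _).trans (le_max_left _ _)).trans hm') (f • z)
      (Submodule.smul_mem _ _ hz) (hc.smul f) (by rwa [Sys.app, map_smul])
    rwa [Sys.app, map_smul] at h2
  obtain ⟨v, hv, hvk⟩ := hm₃ N₃ h₂₃ (le_max_right _ _) _ (map_mem_tors _ hz)
    ((sys I M).isCyc_app h₃ hc) hkill
  have h5 := hm₂ N₂ hn₂ (le_max_right _ _)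
    ((sys I M).app h₂₃ (0 + i) ((sys I M).app h₃ (0 + i) z) - (((sys I M).E N₂).d (-1 + i) (0 + i)).hom v)
    (sub_mem (map_mem_tors _ (map_mem_tors _ hz)) (map_mem_tors _ hv))
    (((sys I M).isCyc_app h₂₃ ((sys I M).isCyc_app h₃ hc)).sub (isCyc_d _ _ _)) hvk
  have hj : -1 + i + 1 = 0 + i := by omega
  have h6' : Bd T ((sys I M).E n) (-1 + i) (0 + i)
      ((((sys I M).E n).d (-1 + i) (0 + i)).hom ((sys I M).app hn₂ (-1 + i) v)) :=
    ⟨_, map_mem_tors _ hv, rfl⟩
  have h7 := ((sys I M).bd_comp h₂₃ h₃ hj hz hc).map ((sys I M).φ hn₂)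
  rw [map_sub] at h7
  have h8 := (sys I M).bd_comp hn₂ (h₂₃.trans h₃) hj hz hc
  have := ((h5.add h6').sub h7).sub h8
  convert this using 1
  simp only [Sys.d_app, Sys.app, map_sub]
  abel

end BootGlobal

end Groth.Agent.LocCoh
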