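import Groth.Agent.LocCoh.CompBij
import Groth.Agent.LocCoh.TopDegree
import Groth.Agent.LocCoh.BaseChange
import Mathlib.RingTheory.Ideal.MinimalPrime.Localization

/-!
# The ideal `J₀` for algebraization
-/

universe u

open CategoryTheory

attribute [local instance] HasDerivedCategory.standard

namespace Groth.Agent.LocCoh.CompIdeal

open Groth.Agent.DualCx.Dimfun (deg)

variable {A : Type u} [CommRing A] [IsNoetherianRing A]

local notation "V(" J ")" => PrimeSpectrum.zeroLocus (SetLike.coe (J : Ideal A))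

/-- `dim (A/p)_q ≤ cd(A, I)` for `q` minimal over `p + I` -/
theorem dimBetween_le_cd {ω : Dual.D A} (hω : Dual.IsDualizing A ω) {I : Ideal A} {d : ℕ}
    (hd : _root_.LocCoh.CdLE A I d) {p q : PrimeSpectrum A}
    (hq : q.asIdeal ∈ (p.asIdeal ⊔ I).minimalPrimes) :
    Formal2.dimBetween A p.asIdeal q.asIdeal ≤ ((d : ℕ∞) : WithBot ℕ∞) := by
  have hpq : p ≤ q := le_sup_left.trans hq.1.2
  rw [SuppHm.dimBetween_eq_deg hω hpq, WithBot.coe_le_coe, Nat.cast_le]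
  by_contra hlt
  let B := Localization.AtPrime q.asIdeal
  let P := p.asIdeal.map (algebraMap A B)
  have hdisj : Disjoint (q.asIdeal.primeCompl : Set A) p.asIdeal :=
    Set.disjoint_left.2 fun c hc hcp => hc (hpq hcp)
  have : P.IsPrime := IsLocalization.isPrime_of_isPrime_disjoint q.asIdeal.primeCompl B p.asIdeal p.2 hdisj
  have hrad : (P ⊔ I.map (algebraMap A B)).radical = IsLocalRing.maximalIdeal B := by
    rw [← Ideal.map_sup, IsLocalization.AtPrime.radical_map_of_mem_minimalPrimes (A := B) q.asIdeal _ hq,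
      IsLocalization.AtPrime.map_eq_maximalIdeal q.asIdeal B]
  refine not_cdLE_of_prime (I.map (algebraMap A B)) P hrad _
    ((SuppHm.dimBetween_eq_deg hω hpq).trans rfl) (by omega) fun M _ _ i hi => ?_
  exact cdLE_map (B := B) hd M i (by omega)

variable {M : Type u} [AddCommGroup M] [Module A M] [Module.Finite A M] {ω : Dual.D A}

open Classical in
/-- the ideal and the bijections -/
theorem exists_ideal (hω : Dual.IsDualizing A ω) (I J : Ideal A) [IsAdicComplete I A]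
    [DRing.HasDerivedCompletion I] {d : ℕ} (hd : _root_.LocCoh.CdLE A I d) (s : ℕ) (T : Set (PrimeSpectrum A))
    (hT : ∀ p : PrimeSpectrum A, p ∈ T ↔ ∀ q : PrimeSpectrum A, p ≤ q → I ≤ q.asIdeal → J ≤ q.asIdeal)
    (h4 : ∀ p : PrimeSpectrum A, ¬ I ≤ p.asIdeal → p ∉ T → ∀ q : PrimeSpectrum A, p ≤ q → J ≤ q.asIdeal →
      I ≤ q.asIdeal → (s : ℕ∞) ≤ _root_.LocCoh.depth (Localization.AtPrime p.asIdeal)
        (LocalizedModule p.asIdeal.primeCompl M) ∨ (((d + s : ℕ) : ℕ∞) : WithBot ℕ∞) <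
        ((_root_.LocCoh.depth (Localization.AtPrime p.asIdeal) (LocalizedModule p.asIdeal.primeCompl M) : ℕ∞)
          : WithBot ℕ∞) + Formal2.dimBetween A p.asIdeal q.asIdeal) :
    ∃ J₀ : Ideal A, J₀ ≤ J ∧ V(J₀) ∩ V(I) = V(J) ∩ V(I) ∧
      ∀ (J' : Ideal A) [DRing.HasRgammaI J'], J' ≤ J₀ → V(J') ∩ V(I) = V(J) ∩ V(I) → ∀ i : ℤ, i ≤ s →
        Function.Bijective ((DerivedCategory.homologyFunctor (ModuleCat.{u} A) i).map
          (DRing.toDerivedCompletion I ((DRing.RgammaI J').obj (Dual.inD A M)))).hom := by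
  have := CompVanish.hasRgammaI I
  have hs := SuppHm.stable I J T hT
  have h3 : ∀ p : PrimeSpectrum A, ¬ I ≤ p.asIdeal → p ∈ T → ∃ q : PrimeSpectrum A, p ≤ q ∧ J ≤ q.asIdeal ∧
      I ≤ q.asIdeal ∧ Formal2.dimBetween A p.asIdeal q.asIdeal ≤ ((d : ℕ∞) : WithBot ℕ∞) := by
    intro p _ hpT
    obtain ⟨m, hm, hpm⟩ := Ideal.exists_le_maximal p.asIdeal p.2.ne_top
    have hIm : I ≤ m := (IsAdicComplete.le_jacobson_bot I).trans (sInf_le ⟨bot_le, hm⟩)
    obtain ⟨Q, hQ, -⟩ := Ideal.exists_minimalPrimes_le (sup_le hpm hIm)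
    have hpQ : p ≤ (⟨Q, hQ.1.1⟩ : PrimeSpectrum A) := le_sup_left.trans hQ.1.2
    exact ⟨⟨Q, hQ.1.1⟩, hpQ, (hT p).1 hpT _ hpQ (le_sup_right.trans hQ.1.2), le_sup_right.trans hQ.1.2,
      dimBetween_le_cd hω hd (q := ⟨Q, hQ.1.1⟩) hQ⟩
  have hsU : StableUnderSpecialization (T ∪ V(I)) := fun x y hxy hx => hx.imp (hs hxy)
    ((PrimeSpectrum.isClosed_zeroLocus (I : Set A)).stableUnderSpecialization hxy)
  obtain ⟨J₁, hJ₁, hk₁⟩ := (AnnModule.annihilator_iff (M := M) hω hs hsU s).2 fun p q hp hq hpq =>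
    SuppHm.cond_away hω I J s d T hT h3 h4 (fun h => hp (Or.inr h)) (fun h => hp (Or.inl h)) hq hpq
  have hfwd := (AnnModule.annihilator_iff (M := M) hω hs
    (PrimeSpectrum.isClosed_zeroLocus (J₁ : Set A)).stableUnderSpecialization s).1 ⟨J₁, subset_rfl, hk₁⟩
  let S : Finset (Ideal A) := (J₁.finite_minimalPrimes_of_isNoetherianRing A).toFinset.filter
    fun P => ∃ h : P.IsPrime, (⟨P, h⟩ : PrimeSpectrum A) ∈ T
  let J₀ : Ideal A := J ⊓ S.inf id
  have hJT : V(J) ⊆ T := fun p hp => (hT p).2 fun q hq _ => hp.trans hq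
  have hJ₀T : V(J₀) ⊆ T := by
    intro p hp
    rcases p.2.inf_le.1 (show J ⊓ S.inf id ≤ p.asIdeal from hp) with h | h
    · exact hJT h
    · obtain ⟨P, hP, hPp⟩ := (Ideal.IsPrime.inf_le' p.2).1 h
      obtain ⟨-, hP', hPT⟩ := Finset.mem_filter.1 hP
      exact hs ((PrimeSpectrum.le_iff_specializes ⟨P, hP'⟩ p).1 hPp) hPT
  refine ⟨J₀, inf_le_left, Set.Subset.antisymm (fun p hp => ⟨(hT p).1 (hJ₀T hp.1) p le_rfl hp.2, hp.2⟩)
    (fun p hp => ⟨(inf_le_left : J₀ ≤ J).trans hp.1, hp.2⟩), fun J' _ hJ' hV i hi => ?_⟩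
  refine CompBij.bijective hω hd s (fun p hpI hpJ => ?_) i hi
  by_cases hpT : p ∈ T
  · refine Or.inr (Or.inl ?_)
    have hp₁ : p ∉ V(J₁) := fun h => by
      obtain ⟨P, hP, hPp⟩ := Ideal.exists_minimalPrimes_le (show J₁ ≤ p.asIdeal from h)
      rcases hJ₁ (show (⟨P, hP.1.1⟩ : PrimeSpectrum A) ∈ V(J₁) from hP.1.2) with hPT | hPI
      · exact hpJ ((hJ'.trans (inf_le_right.trans (Finset.inf_le (f := id) (Finset.mem_filter.2
          ⟨(J₁.finite_minimalPrimes_of_isNoetherianRing A).mem_toFinset.2 hP, hP.1.1, hPT⟩)))).trans hPp)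
      · exact hpI ((show I ≤ P from hPI).trans hPp)
    have h := hfwd p p hp₁ hpT le_rfl
    rw [← SuppHm.dimBetween_eq, SuppHm.dimBetween_eq_deg hω le_rfl, ← WithBot.coe_add,
      show (s : WithBot ℕ∞) = ((s : ℕ∞) : WithBot ℕ∞) from rfl, WithBot.coe_lt_coe] at h
    simpa using h
  · by_cases hδ : (s : ℕ∞) ≤ _root_.LocCoh.depth (Localization.AtPrime p.asIdeal)
        (LocalizedModule p.asIdeal.primeCompl M)
    · rw [hT] at hpT
      push Not at hpT
      obtain ⟨q, hpq, hqI, hqJ⟩ := hpT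
      exact Or.inr (Or.inr ⟨hδ, q, hpq, hqI, fun h => hqJ (hV.subset ⟨h, hqI⟩).1⟩)
    · refine Or.inl fun q hpq hqJ hqI => ?_
      have h := (h4 p hpI hpT q hpq (hV.subset ⟨hqJ, hqI⟩).1 hqI).resolve_left hδ
      rwa [SuppHm.dimBetween_eq] at h

end Groth.Agent.LocCoh.CompIdeal
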