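import Mathlib.RingTheory.Artinian.Module
import Mathlib.Algebra.Category.ModuleCat.Basic
import Groth.Prelude.Def_DerCA

/-!
# Inverse systems of Artinian modules with a bijective map to the limit are essentially constant
-/

universe v u

open CategoryTheory Opposite

namespace Groth.Agent.LocCoh.EssArtin

variable {A : Type u} [CommRing A]

/-- the transition map as a linear map -/
private noncomputable abbrev t (X : ARSys.PS (ModuleCat.{v} A)) {n m : ℕ} (h : n ≤ m) :
    X.obj (op m) →ₗ[A] X.obj (op n) := (ARSys.tr X h).hom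

private theorem t_t (X : ARSys.PS (ModuleCat.{v} A)) {a b c : ℕ} (h : a ≤ b) (h' : b ≤ c) (x : X.obj (op c)) :
    t X h (t X h' x) = t X (h.trans h') x := by
  change (X.map (homOfLE h).op).hom ((X.map (homOfLE h').op).hom x) = (X.map (homOfLE (h.trans h')).op).hom x
  rw [← LinearMap.comp_apply, ← ModuleCat.hom_comp, ← X.map_comp]
  rfl

theorem isEssConstant (X : ARSys.PS (ModuleCat.{v} A)) (H : ModuleCat.{v} A)
    (c : (Functor.const ℕᵒᵖ).obj H ⟶ X) (hX : ∀ n : ℕ, IsArtinian A (X.obj (op n))) (hH : IsArtinian A H)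
    (hinj : ∀ x : H, (∀ n : ℕᵒᵖ, (c.app n) x = 0) → x = 0)
    (hsurj : ∀ y : ∀ n : ℕ, X.obj (op n), (∀ (n m : ℕ) (h : n ≤ m), (X.map (homOfLE h).op) (y m) = y n) →
      ∃ x : H, ∀ n : ℕ, (c.app (op n)) x = y n) : DerCA.IsEssConstant X H c := by
  let C : ∀ n : ℕ, H →ₗ[A] X.obj (op n) := fun n => (c.app (op n)).hom
  have hC : ∀ {n m : ℕ} (h : n ≤ m) (x : H), t X h (C m x) = C n x := fun h x =>
    (ConcreteCategory.congr_hom (c.naturality (homOfLE h).op) x).symm
  -- stable images
  have hst : ∀ n : ℕ, ∃ k, ∃ hk : n ≤ k, ∀ l (hl : k ≤ l), LinearMap.range (t X (hk.trans hl)) = LinearMap.range (t X hk) := by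
    intro n
    have := hX n
    obtain ⟨k, hk⟩ := IsArtinian.monotone_stabilizes
      ⟨fun l : ℕ => OrderDual.toDual (LinearMap.range (t X (Nat.le_add_right n l))), fun a b hab => by
        change LinearMap.range (t X (Nat.le_add_right n b)) ≤ LinearMap.range (t X (Nat.le_add_right n a))
        rintro _ ⟨x, rfl⟩
        exact ⟨t X (by omega) x, t_t X _ _ x⟩⟩
    refine ⟨n + k, Nat.le_add_right n k, fun l hl => ?_⟩
    obtain ⟨j, rfl⟩ := Nat.exists_eq_add_of_le hl
    have h := congrArg OrderDual.ofDual (hk (k + j) (Nat.le_add_right k j))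
    refine Eq.trans ?_ h.symm
    refine le_antisymm ?_ ?_
    · rintro _ ⟨x, rfl⟩
      exact ⟨t X (by omega) x, t_t X _ _ x⟩
    · rintro _ ⟨x, rfl⟩
      exact ⟨t X (by omega) x, t_t X _ _ x⟩
  choose f hf hst using hst
  let S := fun n => LinearMap.range (t X (hf n))
  have hS : ∀ {n l : ℕ} (h : n ≤ l) (_ : f n ≤ l) (x : X.obj (op l)), t X h x ∈ S n := fun {n l} h hl x =>
    (hst n l hl).le ⟨x, rfl⟩
  have hstep : ∀ (n : ℕ) (a : X.obj (op n)), a ∈ S n →
      ∃ b : X.obj (op (n + 1)), b ∈ S (n + 1) ∧ t X (Nat.le_succ n) b = a := by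
    intro n a ha
    obtain ⟨z, hz⟩ := (hst n (max (f n) (f (n + 1))) (le_max_left _ _)).ge ha
    exact ⟨_, hS ((hf (n + 1)).trans (le_max_right (f n) _)) (le_max_right _ _) z, (t_t X _ _ z).trans hz⟩
  -- the stable image comes from the cone
  have hmem : ∀ n, ∀ a ∈ S n, ∃ x, C n x = a := by
    intro n a ha
    choose g hg hg' using hstep
    let y : ∀ d, {b : X.obj (op (n + d)) // b ∈ S (n + d)} := fun d =>
      Nat.rec (motive := fun d => {b : X.obj (op (n + d)) // b ∈ S (n + d)}) ⟨a, ha⟩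
        (fun d b => ⟨g (n + d) b.1 b.2, hg _ _ _⟩) d
    have hy : ∀ d m, d ≤ m → ∀ h : n + d ≤ n + m, t X h (y m).1 = (y d).1 := by
      intro d m hdm
      induction m, hdm using Nat.le_induction with
      | base => exact fun h => by simp [t, ARSys.tr]
      | succ m hdm ih =>
        intro h
        rw [← ih (by omega)]
        exact (t_t X (by omega) (Nat.le_succ (n + m)) _).symm.trans (congrArg _ (hg' _ _ _))
    obtain ⟨x, hx⟩ := hsurj (fun m => t X (Nat.le_add_left m n) (y m).1) fun p q h => by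
      obtain ⟨e, rfl⟩ := Nat.exists_eq_add_of_le h
      change t X h (t X _ (y (p + e)).1) = t X _ (y p).1
      rw [← hy p (p + e) (by omega) (by omega), t_t, t_t]
    refine ⟨x, ?_⟩
    exact (hx n).trans (hy 0 n (Nat.zero_le _) (by omega))
  -- eventual injectivity
  obtain ⟨i₀, hi₀⟩ := IsArtinian.monotone_stabilizes
    ⟨fun n : ℕ => OrderDual.toDual (LinearMap.ker (C n)), fun a b hab => fun x hx => by
      change C a x = 0
      rw [← hC hab, show C b x = 0 from hx, map_zero]⟩
  have hker : Function.Injective (C i₀) := by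
    rw [injective_iff_map_eq_zero]
    intro x hx
    refine hinj x fun n => ?_
    rcases le_total n.unop i₀ with h | h
    · change C n.unop x = 0
      rw [← hC h, hx, map_zero]
    · exact (congrArg OrderDual.ofDual (hi₀ n.unop h)).le (show x ∈ LinearMap.ker (C i₀) from hx)
  let k := f i₀
  have hr : LinearMap.range (t X (hf i₀)) ≤ LinearMap.range (C i₀) := fun a ha => hmem i₀ a ha
  let e := LinearEquiv.ofInjective (C i₀) hker
  let s : X.obj (op k) →ₗ[A] H :=
    e.symm.toLinearMap.comp ((t X (hf i₀)).codRestrict _ fun x => hr ⟨x, rfl⟩)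
  have hs : ∀ z x, t X (hf i₀) z = C i₀ x → s z = x := fun z x h =>
    e.symm_apply_eq.2 (Subtype.ext h)
  refine ⟨k, ModuleCat.ofHom s, ModuleCat.hom_ext (LinearMap.ext fun x => hs _ _ (hC _ x)), fun j => ?_⟩
  refine ⟨max k (max j (f (max i₀ j))), le_max_left _ _, (le_max_left _ _).trans (le_max_right _ _),
    ModuleCat.hom_ext (LinearMap.ext fun z => ?_)⟩
  obtain ⟨x, hx⟩ := hmem _ _ (hS ((hf (max i₀ j)).trans ((le_max_right j _).trans (le_max_right k _)))
    ((le_max_right j _).trans (le_max_right k _)) z)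
  have h1 : t X (le_max_left k (max j (f (max i₀ j)))) z ∈ (⊤ : Submodule A _) := trivial
  have h2 : s (t X (le_max_left k (max j (f (max i₀ j)))) z) = x := hs _ _ (by
    rw [t_t, ← hC (le_max_left i₀ j), hx, t_t])
  change t X _ z = C j (s (t X _ z))
  rw [h2, ← hC (le_max_right i₀ j), hx, t_t]

end Groth.Agent.LocCoh.EssArtin
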