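import Groth.Agent.LocCoh.BootBeta
import Groth.Agent.LocCoh.CompIdeal
import Groth.Agent.LocCoh.EssArtin
import Groth.Agent.LocCoh.NonVanishing
import Groth.Agent.DualCx.LocalDuality
import Groth.Agent.DRing.DerivedCompletion

/-!
# `H^i_𝔪` along `I^n M` over a complete local ring

* `deep_ker`: classes of `H^i_𝔪(I^k M)` dying in `M` die in `I^n M` for `i ≤ s + 1`;
* `deep_zero`: all classes die for `i ≤ s`.
-/

universe u

open CategoryTheory CategoryTheory.Limits CategoryTheory.Pretriangulated DerivedCategory Opposite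

attribute [local instance] HasDerivedCategory.standard

namespace Groth.Agent.LocCoh.BootLocal

open Groth.Agent.DRing Groth.Agent.DualCx
open Groth.Agent.DualCx.Dimfun (deg)
open RGHom (inMap)
open CompRlim (π₀ T₀ inc)

variable {A : Type u} [CommRing A]

/-- evaluation at a shift is natural -/
theorem homUnitEquivShift_natural {X Y : Dual.D A} (g : X ⟶ Y) (i : ℤ)
    (f : Dual.inD A A ⟶ X⟦i⟧) :
    Cx.homUnitEquivShift Y i (f ≫ g⟦i⟧') =
      ((DBasic.HF i).map g).hom (Cx.homUnitEquivShift X i f) := by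
  change ((DBasic.HFShiftIso Y i 0 i (add_zero i)).hom).hom (Cx.evalA _ (f ≫ g⟦i⟧')) =
    ((DBasic.HF i).map g).hom (((DBasic.HFShiftIso X i 0 i (add_zero i)).hom).hom (Cx.evalA _ f))
  rw [Cx.evalA_apply, Cx.evalA_apply, Functor.map_comp, ModuleCat.hom_comp, LinearMap.comp_apply]
  exact ConcreteCategory.congr_hom
    (((DerivedCategory.homologyFunctor (ModuleCat.{u} A) 0).shiftIso i 0 i (add_zero i)).hom.naturality g) _

theorem qD_qD (J : Ideal A) {a b c : ℕ} (h : a ≤ b) (h' : b ≤ c) :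
    TorsColim.qD J h' ≫ TorsColim.qD J h = TorsColim.qD J (h.trans h') :=
  ((DerivedCategory.singleFunctor (ModuleCat.{u} A) 0).map_comp _ _).symm.trans
    (congrArg (DerivedCategory.singleFunctor (ModuleCat.{u} A) 0).map
      (ModuleCat.hom_ext (Submodule.linearMap_qext _ (LinearMap.ext fun x => by
        simp only [ModuleCat.hom_comp, ModuleCat.hom_ofHom, LinearMap.comp_apply, Submodule.mkQ_apply,
          Submodule.mapQ_apply, LinearMap.id_apply]))))

theorem chase {C : Type*} [Category C] [HasZeroMorphisms C] {R₃ R' R₂ R₁ U V W Z : C} {a : R₃ ⟶ R'}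
    {b₁ : R' ⟶ R₂} {b₂ : R' ⟶ R₁} {f : R₂ ⟶ U} {π : U ⟶ W} {e : R₁ ⟶ V} {t : V ⟶ W} {δ : W ⟶ Z}
    {ab : R₃ ⟶ R₁} (hz : a ≫ b₁ ≫ f ≫ π = a ≫ b₂ ≫ e ≫ t) (h0 : π ≫ δ = 0) (hab : ab = a ≫ b₂) :
    ab ≫ e ≫ t ≫ δ = 0 := by
  have h := congrArg (· ≫ δ) hz
  simp only [Category.assoc, h0, comp_zero] at h
  rw [hab, Category.assoc, ← h]

variable [IsNoetherianRing A] [IsLocalRing A]

local notation "𝔪" => IsLocalRing.maximalIdeal A
local notation "V(" J ")" => PrimeSpectrum.zeroLocus (SetLike.coe (J : Ideal A))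

/-- `colim Hom(A/𝔪^k, V[i])` -/
noncomputable abbrev Ls (i : ℤ) (V : ModuleCat.{u} A) : ModuleCat.{u + 1} A :=
  TorsColim.L (IsLocalRing.maximalIdeal A) ((shiftFunctor (Dual.D A) i).obj (Dual.inD A V))

/-- functoriality -/
noncomputable abbrev lmap (i : ℤ) {V V' : ModuleCat.{u} A} (g : V ⟶ V') : Ls i V →ₗ[A] Ls i V' :=
  TorsColim.map 𝔪 ((shiftFunctor (Dual.D A) i).map (inMap g))

omit [IsNoetherianRing A] in
theorem lmap_comp (i : ℤ) {V V' V'' : ModuleCat.{u} A} (g : V ⟶ V') (h : V' ⟶ V'') (x : Ls i V) :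
    lmap i h (lmap i g x) = lmap i (g ≫ h) x := by
  change _ = TorsColim.map 𝔪 ((shiftFunctor (Dual.D A) i).map (inMap (g ≫ h))) x
  rw [show inMap (g ≫ h) = inMap g ≫ inMap h from Functor.map_comp _ _ _, Functor.map_comp, TorsColim.map_comp]
  rfl

omit [IsNoetherianRing A] in
theorem lmap_zero (i : ℤ) (V V' : ModuleCat.{u} A) (x : Ls i V) : lmap i (0 : V ⟶ V') x = 0 := by
  obtain ⟨n, e, rfl⟩ := TorsColim.exists_rep _ x
  rw [lmap, TorsColim.map_ι, show inMap (0 : V ⟶ V') = 0 from Functor.map_zero _ _ _, Functor.map_zero, comp_zero,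
    map_zero]

theorem isArtinian_L (i : ℤ) (V : ModuleCat.{u} A) [Module.Finite A V] : IsArtinian A (Ls i V) := by
  rcases lt_or_ge i 0 with h | h
  · have := LocalDuality.subsingleton_L_neg (A := A) 𝔪 V i h
    infer_instance
  · lift i to ℕ using h
    have := isArtinian_H_maximalIdeal i (ModuleCat.of A V)
    exact isArtinian_of_linearEquiv (LocCompare.equiv 𝔪 i V)

/-- `V(𝔪) ⊆ V(J)` compares bijectively on modules killed by a power of `I` -/
theorem bijective_incl_torsion {I J : Ideal A} (hV : V(J) ∩ V(I) ⊆ V(𝔪)) (hJ : V(𝔪) ⊆ V(J)) (n : ℕ)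
    (V : ModuleCat.{u} A) (hn : ∀ c ∈ I ^ n, ∀ v : V, c • v = 0) (i : ℤ) :
    Function.Bijective (SuppCompare.incl hJ ((shiftFunctor (Dual.D A) i).obj (Dual.inD A V))) := by
  obtain ⟨Mo⟩ := SuppModel.nonempty_model (AnnModule.bdd_below (A := A) (M := V))
  refine SuppCompare.bijective_incl Mo (I ^ n) (fun j _ c hc x => ?_)
    (fun p hp => hV ⟨hp.1, SuppHm.pow_mem I n hp.2⟩) hJ (le_refl i)
  obtain ⟨K, e, rfl⟩ := SuppGamma.exists_rep x
  have h0 : c • 𝟙 ((shiftFunctor (Dual.D A) j).obj (Dual.inD A V)) = 0 := by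
    rw [← CategoryTheory.Functor.map_id, ← Functor.map_smul, CompRlim.smul_hom_eq_zero (fun v => hn c hc v),
      Functor.map_zero]
  rw [← map_smul, ← Category.comp_id e, ← Linear.comp_smul, h0, comp_zero, map_zero]

variable (I : Ideal A) [IsAdicComplete I A] {ω : Dual.D A} (hω : Dual.IsDualizing A ω) {d : ℕ}
  (hd : _root_.LocCoh.CdLE A I d) {M : Type u} [AddCommGroup M] [Module A M] [Module.Finite A M] (s : ℕ)
  (h4 : ∀ p : PrimeSpectrum A, ¬ I ≤ p.asIdeal →
    (s : ℕ∞) ≤ _root_.LocCoh.depth (Localization.AtPrime p.asIdeal) (LocalizedModule p.asIdeal.primeCompl M) ∨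
    (((d + s : ℕ) : ℕ∞) : WithBot ℕ∞) < ((_root_.LocCoh.depth (Localization.AtPrime p.asIdeal)
      (LocalizedModule p.asIdeal.primeCompl M) : ℕ∞) : WithBot ℕ∞) + Formal2.dimBetween A p.asIdeal (IsLocalRing.maximalIdeal A))
  (h6 : ∀ p : PrimeSpectrum A, ¬ I ≤ p.asIdeal → (∀ q : PrimeSpectrum A, p ≤ q → I ≤ q.asIdeal → IsLocalRing.maximalIdeal A ≤ q.asIdeal) →
    (s : ℕ∞) < _root_.LocCoh.depth (Localization.AtPrime p.asIdeal) (LocalizedModule p.asIdeal.primeCompl M))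

/-- the quotient system -/
noncomputable abbrev Qn (M : Type u) [AddCommGroup M] [Module A M] (n : ℕ) : ModuleCat.{u} A :=
  ModuleCat.of A (M ⧸ (I ^ n • ⊤ : Submodule A M))

include hω hd h4 h6 in
/-- `H^i_𝔪(M) → lim H^i_𝔪(M/I^n M)` is bijective -/
theorem limit (i : ℤ) (hi : i ≤ s) :
    (∀ x : Ls i (ModuleCat.of A M), (∀ n, lmap i (π₀ I M n) x = 0) → x = 0) ∧
    ∀ y : (∀ n, Ls i (Qn I M n)), (∀ n m (h : n ≤ m), lmap i (T₀ I M h) (y m) = y n) →
      ∃ x : Ls i (ModuleCat.of A M), ∀ n, lmap i (π₀ I M n) x = y n := by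
  have := CompVanish.hasRgammaI I
  have : DRing.HasDerivedCompletion I := Completion.hasDerivedCompletion (IsNoetherian.noetherian I)
  have := CompLocal.hasProduct (A := A)
  let T : Set (PrimeSpectrum A) := {p | ∀ q : PrimeSpectrum A, p ≤ q → I ≤ q.asIdeal → 𝔪 ≤ q.asIdeal}
  have hmax : ∀ q : PrimeSpectrum A, 𝔪 ≤ q.asIdeal → q = IsLocalRing.closedPoint A := fun q hq =>
    PrimeSpectrum.ext (le_antisymm (IsLocalRing.le_maximalIdeal q.2.ne_top) hq)
  have hI : I ≤ 𝔪 := (IsAdicComplete.le_jacobson_bot I).trans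
    (IsLocalRing.jacobson_eq_maximalIdeal (⊥ : Ideal A) bot_ne_top).le
  have h4' : ∀ p : PrimeSpectrum A, ¬ I ≤ p.asIdeal → p ∉ T → ∀ q : PrimeSpectrum A, p ≤ q → 𝔪 ≤ q.asIdeal →
      I ≤ q.asIdeal → (s : ℕ∞) ≤ _root_.LocCoh.depth (Localization.AtPrime p.asIdeal)
        (LocalizedModule p.asIdeal.primeCompl M) ∨ (((d + s : ℕ) : ℕ∞) : WithBot ℕ∞) <
        ((_root_.LocCoh.depth (Localization.AtPrime p.asIdeal) (LocalizedModule p.asIdeal.primeCompl M) : ℕ∞)
          : WithBot ℕ∞) + Formal2.dimBetween A p.asIdeal q.asIdeal := fun p hp _ q _ hq _ => by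
    obtain rfl := hmax q hq
    exact h4 p hp
  have h3 : ∀ p : PrimeSpectrum A, ¬ I ≤ p.asIdeal → p ∈ T → ∃ q : PrimeSpectrum A, p ≤ q ∧ 𝔪 ≤ q.asIdeal ∧
      I ≤ q.asIdeal ∧ Formal2.dimBetween A p.asIdeal q.asIdeal ≤ ((d : ℕ∞) : WithBot ℕ∞) := by
    intro p _ hpT
    obtain ⟨Q, hQ, -⟩ := Ideal.exists_minimalPrimes_le (sup_le (IsLocalRing.le_maximalIdeal p.2.ne_top) hI)
    let Q' : PrimeSpectrum A := ⟨Q, hQ.1.1⟩
    have hpQ : p ≤ Q' := le_sup_left.trans hQ.1.2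
    exact ⟨Q', hpQ, hpT Q' hpQ (le_sup_right.trans hQ.1.2), le_sup_right.trans hQ.1.2,
      CompIdeal.dimBetween_le_cd hω hd (q := Q') hQ⟩
  -- a power of `I` kills on `T`
  have hs : StableUnderSpecialization T := SuppHm.stable I 𝔪 T fun _ => Iff.rfl
  have hsI : StableUnderSpecialization V(I) :=
    (PrimeSpectrum.isClosed_zeroLocus (I : Set A)).stableUnderSpecialization
  obtain ⟨J₁, hJ₁, hk₁⟩ := (AnnModule.annihilator_iff (M := M) hω hs hsI s).2 fun p q hp hq hpq => by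
    by_cases hpT : p ∈ T
    · rw [← SuppHm.dimBetween_eq, SuppHm.dimBetween_eq_deg hω hpq, ← WithBot.coe_add,
        show (s : WithBot ℕ∞) = ((s : ℕ∞) : WithBot ℕ∞) from rfl, WithBot.coe_lt_coe]
      exact (h6 p hp hpT).trans_le le_self_add
    · exact SuppHm.cond_away hω I 𝔪 s d T (fun _ => Iff.rfl) h3 h4' hp hpT hq hpq
  obtain ⟨J₀, hJ₀, hV, hb⟩ := CompIdeal.exists_ideal (M := M) hω I 𝔪 hd s T (fun _ => Iff.rfl) h4'
  have := CompVanish.hasRgammaI J₀
  have hη := hb J₀ le_rfl hV i hi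
  have hVm : V(𝔪) ⊆ V(J₀) := fun _ hp => hJ₀.trans hp
  have hJT : V(J₀) ⊆ T := fun p hp q hpq hqI =>
    (hV.subset (show q ∈ V(J₀) ∩ V(I) from ⟨le_trans (show J₀ ≤ p.asIdeal from hp) hpq, hqI⟩)).1
  have hmT : V(𝔪) ⊆ T := hVm.trans hJT
  have hk : ∀ j : ℤ, j ≤ s → ∀ c ∈ J₁, ∀ x : SuppGamma.LT T ((Dual.inD A M)⟦j⟧), c • x = 0 :=
    (AnnModule.kills_HT_iff T s J₁).1 hk₁
  have hcap : T ∩ V(J₁) ⊆ V(𝔪) := fun p hp => hp.1 p le_rfl (hJ₁ hp.2)
  have hinclN : Function.Bijective (SuppCompare.incl hVm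
      ((shiftFunctor (Dual.D A) i).obj (Dual.inD A M))) := by
    obtain ⟨Mo⟩ := SuppModel.nonempty_model (AnnModule.bdd_below (A := A) (M := M))
    have b1 := SuppCompare.bijective_incl Mo J₁ hk hcap hmT hi
    have b2 := SuppCompare.bijective_incl Mo J₁ hk (hcap.trans hVm) hJT hi
    refine (Function.Bijective.of_comp_iff' b2 _).1 ?_
    convert b1 using 1
    exact funext fun x => SuppCompare.incl_incl hVm hJT _ x
  let β := BootBeta.β (A := A) hJ₀
  have hβM : Function.Bijective (β i (ModuleCat.of A M)) := BootBeta.bijective_β hJ₀ i _ hinclN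
  have hβQ : ∀ j n, Function.Bijective (β j (Qn I M n)) := fun j n => BootBeta.bijective_β hJ₀ j _
    (bijective_incl_torsion (I := I) (fun p hp => (hV.subset hp).1) hVm n _ (fun c hc v => by
      obtain ⟨v, rfl⟩ := Submodule.Quotient.mk_surjective _ v
      rw [← Submodule.Quotient.mk_smul, Submodule.Quotient.mk_eq_zero]
      exact Submodule.smul_mem_smul hc Submodule.mem_top) j)
  obtain ⟨⟨a, c, hT, hcomp⟩, -⟩ := CompRlim.main_compat I J₀ M
  let N := (DRing.RgammaI J₀).obj (Dual.inD A M)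
  let η := DRing.toDerivedCompletion I N
  have hηi : Function.Bijective fun f : Dual.inD A A ⟶ N⟦i⟧ => f ≫ η⟦i⟧' := by
    have h1 := (Cx.homUnitEquivShift _ i).symm.bijective.comp (hη.comp (Cx.homUnitEquivShift N i).bijective)
    convert h1 using 1
    funext f
    exact ((LinearEquiv.symm_apply_eq _).2 (homUnitEquivShift_natural η i f).symm).symm
  let e₁ := Milnor.homEq (C := Dual.D A) (-i) i (neg_add_cancel i) (Dual.inD A A)
  constructor
  · intro x hx
    apply hβM.1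
    rw [map_zero]
    refine hηi.1 (Eq.trans ?_ zero_comp.symm)
    refine (e₁ _).symm.injective (Eq.trans ?_ ((Equiv.symm_apply_eq _).2 (Milnor.homEq_zero _ _ _ _ _).symm).symm)
    refine Milnor.eq_zero_of_comp_π hT (fun y => ?_) _ (fun n => ?_)
    · have hart : ∀ n, IsArtinian A (Dual.inD A A ⟶ BootBeta.R J₀ (i - 1) (Qn I M n)) := fun n =>
        have := isArtinian_L (i - 1) (Qn I M n)
        isArtinian_of_linearEquiv (LinearEquiv.ofBijective _ (hβQ (i - 1) n))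
      let sh := (shiftFunctorAdd' (Dual.D A) (-i) 1 (-i + 1) rfl).app (Dual.inD A A)
      let e₂ := fun n => (Iso.homCongr sh (Iso.refl (CompRlim.X I J₀ M n))).symm.trans
        (Milnor.homEq (-i + 1) (i - 1) (by omega) (Dual.inD A A) (CompRlim.X I J₀ M n))
      obtain ⟨z, hz⟩ := BootBeta.exists_sub_eq _ (fun n => CategoryTheory.Linear.rightComp A (Dual.inD A A)
        ((shiftFunctor (Dual.D A) (i - 1)).map (CompRlim.T I J₀ M n (n + 1) (Nat.le_succ n))))
        (fun n => e₂ n (y n))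
      refine ⟨fun n => (e₂ n).symm (z n), fun n => ?_⟩
      have key : (e₂ n).symm (z (n + 1) ≫ (shiftFunctor (Dual.D A) (i - 1)).map
          (CompRlim.T I J₀ M n (n + 1) (Nat.le_succ n))) =
          (e₂ (n + 1)).symm (z (n + 1)) ≫ CompRlim.T I J₀ M n (n + 1) (Nat.le_succ n) := by
        simp only [e₂, Equiv.symm_trans_apply, Equiv.symm_symm, Milnor.homEq_symm_comp, Iso.homCongr_apply,
          Iso.refl_hom, Category.comp_id, Category.assoc]
      have hadd : ∀ p q, (e₂ n).symm (p - q) = (e₂ n).symm p - (e₂ n).symm q := fun p q => by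
        have : ∀ p q, (e₂ n).symm (p + q) = (e₂ n).symm p + (e₂ n).symm q := fun p q => by
          simp only [e₂, Equiv.symm_trans_apply, Equiv.symm_symm, Iso.homCongr_apply, Iso.refl_hom,
            Category.comp_id]
          rw [← Preadditive.comp_add]
          refine congrArg _ ?_
          simp only [Milnor.homEq, Adjunction.homEquiv_counit]
          exact ((congrArg (fun t => t ≫ _) ((shiftFunctor (Dual.D A) (-i + 1)).map_add (f := p) (g := q)))).trans
            (Preadditive.add_comp _ _ _ _ _ _)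
        rw [eq_sub_iff_add_eq, ← this, sub_add_cancel]
      rw [← key, ← hadd, Equiv.symm_apply_eq]
      exact hz n
    · rw [← Milnor.homEq_symm_comp, Equiv.symm_apply_eq, Milnor.homEq_zero, Category.assoc, ← Functor.map_comp]
      refine (congrArg (fun t => β i (ModuleCat.of A M) x ≫ t⟦i⟧') (hcomp n)).trans ?_
      exact (BootBeta.β_natural hJ₀ i (π₀ I M n) x).symm.trans
        ((congrArg (β i (Qn I M n)) (hx n)).trans (map_zero _))
  · intro y hy
    let Y := fun n => (e₁ (CompRlim.X I J₀ M n)).symm (β i (Qn I M n) (y n))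
    have hY : ∀ n, Y (n + 1) ≫ CompRlim.T I J₀ M n (n + 1) (Nat.le_succ n) = Y n := fun n => by
      simp only [Y, e₁, ← Milnor.homEq_symm_comp]
      refine congrArg _ ?_
      rw [← hy n (n + 1) (Nat.le_succ n)]
      exact (BootBeta.β_natural hJ₀ i _ _).symm
    have h0 : Pi.lift Y ≫ (Pi.lift fun n => Pi.π (CompRlim.X I J₀ M) n -
        Pi.π (CompRlim.X I J₀ M) (n + 1) ≫ CompRlim.T I J₀ M n (n + 1) (Nat.le_succ n)) = 0 :=
      Pi.hom_ext _ _ fun n => by
        rw [Category.assoc, Pi.lift_π, Preadditive.comp_sub, Pi.lift_π, ← Category.assoc, Pi.lift_π, hY,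
          sub_self, zero_comp]
    obtain ⟨g, hg⟩ := Triangle.coyoneda_exact₂ _ hT (Pi.lift Y) h0
    have hg' : ∀ n, g ≫ a ≫ Pi.π (CompRlim.X I J₀ M) n = Y n := fun n => by
      have := congrArg (fun t => t ≫ Pi.π (CompRlim.X I J₀ M) n) hg
      simp only [Pi.lift_π, Triangle.mk_mor₁] at this
      exact ((Category.assoc _ _ _).symm.trans this.symm)
    obtain ⟨w, hw⟩ := hηi.2 (e₁ _ g)
    obtain ⟨x, rfl⟩ := hβM.2 w
    refine ⟨x, fun n => (hβQ i n).1 ((e₁ _).symm.injective ?_)⟩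
    change (e₁ _).symm _ = Y n
    rw [← hg' n, show lmap i (π₀ I M n) x = _ from rfl]
    refine (congrArg (e₁ _).symm (BootBeta.β_natural hJ₀ i (π₀ I M n) x)).trans ?_
    rw [show (DRing.RgammaI J₀).map (inMap (π₀ I M n)) = η ≫ a ≫ Pi.π (CompRlim.X I J₀ M) n from (hcomp n).symm,
      Functor.map_comp, ← Category.assoc]
    refine (congrArg (fun t => (e₁ _).symm (t ≫ _)) hw).trans ?_
    rw [Milnor.homEq_symm_comp, Equiv.symm_apply_apply]
    rfl

omit [IsAdicComplete I A] [Module.Finite A M] in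
theorem lmap_T₀_refl (i : ℤ) (n : ℕ) :
    ModuleCat.ofHom (lmap i (T₀ I M (le_refl n))) = 𝟙 (Ls i (Qn I M n)) := by
  have h : T₀ I M (le_refl n) = 𝟙 _ := ModuleCat.hom_ext (Submodule.linearMap_qext _ rfl)
  refine ModuleCat.hom_ext ?_
  rw [ModuleCat.hom_ofHom, ModuleCat.hom_id, lmap, h]
  exact (congrArg (TorsColim.map 𝔪) ((congrArg (shiftFunctor (Dual.D A) i).map
    (CategoryTheory.Functor.map_id (DerivedCategory.singleFunctor (ModuleCat.{u} A) 0) (Qn I M n))).trans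
    (CategoryTheory.Functor.map_id (shiftFunctor (Dual.D A) i) _))).trans (TorsColim.map_id _ _)

omit [IsAdicComplete I A] [Module.Finite A M] in
theorem lmap_T₀_comp (i : ℤ) (a b c : ℕ) (h : a ≤ b) (h' : b ≤ c) :
    ModuleCat.ofHom (lmap i (T₀ I M (h.trans h'))) =
      ModuleCat.ofHom (lmap i (T₀ I M h')) ≫ ModuleCat.ofHom (lmap i (T₀ I M h)) := by
  have e : T₀ I M h' ≫ T₀ I M h = T₀ I M (h.trans h') := by
    refine ModuleCat.hom_ext (Submodule.linearMap_qext _ (LinearMap.ext fun x => ?_))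
    simp only [T₀, ModuleCat.hom_comp, ModuleCat.hom_ofHom, LinearMap.comp_apply, Submodule.mkQ_apply,
      Submodule.mapQ_apply, LinearMap.id_apply]
  refine ModuleCat.hom_ext (LinearMap.ext fun x => ?_)
  rw [ModuleCat.hom_ofHom, ModuleCat.hom_comp, ModuleCat.hom_ofHom, ModuleCat.hom_ofHom, LinearMap.comp_apply,
    lmap_comp, e]

/-- the system of local cohomology modules -/
noncomputable def sys (i : ℤ) : ARSys.PS (ModuleCat.{u + 1} A) where
  obj n := Ls i (Qn I M n.unop)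
  map f := ModuleCat.ofHom (lmap i (T₀ I M (leOfHom f.unop)))
  map_id n := lmap_T₀_refl I i n.unop
  map_comp f g := lmap_T₀_comp I i _ _ _ (leOfHom g.unop) (leOfHom f.unop)

include hω hd h4 h6 in
/-- essential constancy -/
theorem ess (i : ℤ) (hi : i ≤ s) :
    (∃ n₀, ∀ x : Ls i (ModuleCat.of A M), lmap i (π₀ I M n₀) x = 0 → x = 0) ∧
      ∀ n, ∃ (k : ℕ) (h : n ≤ k), ∀ y : Ls i (Qn I M k), ∃ x : Ls i (ModuleCat.of A M),
        lmap i (π₀ I M n) x = lmap i (T₀ I M h) y := by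
  obtain ⟨hinj, hsurj⟩ := limit I hω hd s h4 h6 i hi
  let c : (Functor.const ℕᵒᵖ).obj (Ls i (ModuleCat.of A M)) ⟶ sys I (M := M) i :=
    { app := fun n => ModuleCat.ofHom (lmap i (π₀ I M n.unop))
      naturality := fun a b f => ModuleCat.hom_ext (LinearMap.ext fun x => by
        change lmap i (π₀ I M b.unop) x = lmap i (T₀ I M _) (lmap i (π₀ I M a.unop) x)
        rw [lmap_comp]
        rfl) }
  obtain ⟨n₀, σ, hσ, h⟩ := EssArtin.isEssConstant (sys I (M := M) i) _ c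
    (fun n => isArtinian_L i _) (isArtinian_L i _) (fun x hx => hinj x fun n => hx (op n)) hsurj
  refine ⟨⟨n₀, fun x hx => ?_⟩, fun n => ?_⟩
  · have h0 := (ConcreteCategory.congr_hom hσ x).symm
    change x = σ.hom (lmap i (π₀ I M n₀) x) at h0
    exact h0.trans ((congrArg σ.hom hx).trans (map_zero σ.hom))
  · obtain ⟨k, hk₀, hk, e⟩ := h n
    exact ⟨k, hk, fun y => ⟨σ.hom (lmap i (T₀ I M hk₀) y), (ConcreteCategory.congr_hom e y).symm⟩⟩

omit [IsAdicComplete I A] in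
/-- `I^n M` -/
noncomputable abbrev Sn (M : Type u) [AddCommGroup M] [Module A M] (n : ℕ) : ModuleCat.{u} A :=
  ModuleCat.of A ↥(I ^ n • ⊤ : Submodule A M)

/-- `I^n M → M` -/
noncomputable abbrev sub (M : Type u) [AddCommGroup M] [Module A M] (n : ℕ) :
    Sn I M n ⟶ ModuleCat.of A M :=
  ModuleCat.ofHom (I ^ n • ⊤ : Submodule A M).subtype

include hω hd h4 h6 in
/-- classes dying in `M` die at finite depth -/
theorem deep_ker (i : ℤ) (hi : i ≤ (s : ℤ) + 1) (n : ℕ) : ∃ (k : ℕ) (h : n ≤ k),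
    ∀ x : Ls i (Sn I M k), lmap i (sub I M k) x = 0 → lmap i (inc I M h) x = 0 := by
  obtain ⟨-, hess⟩ := ess I hω hd s h4 h6 (i - 1) (by omega)
  obtain ⟨k, hk, hy⟩ := hess n
  refine ⟨k, hk, fun x hx => ?_⟩
  obtain ⟨r, e₀, rfl⟩ := TorsColim.exists_rep _ x
  rw [lmap, TorsColim.map_ι, TorsColim.ι_eq_zero_iff] at hx
  obtain ⟨r₁, hr, he⟩ := hx
  rw [← Category.assoc] at he
  rw [← TorsColim.ι_qD 𝔪 hr e₀]
  generalize TorsColim.qD 𝔪 hr ≫ e₀ = e at he ⊢
  let tk := ExtAR.sesQ_shortExact (I ^ k • ⊤ : Submodule A M)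
  let tn := ExtAR.sesQ_shortExact (I ^ n • ⊤ : Submodule A M)
  let c := shiftFunctorAdd' (Dual.D A) 1 (i - 1) i (by omega)
  obtain ⟨e', he'⟩ := ExtAR.exact₃_shift _ (rot_of_distTriang _ tk.singleTriangle_distinguished) (i - 1)
    (e ≫ c.hom.app _) (by
      change (e ≫ c.hom.app _) ≫ (shiftFunctor (Dual.D A) (i - 1)).map
        (-((shiftFunctor (Dual.D A) (1 : ℤ)).map (inMap (sub I M k)))) = 0
      rw [Functor.map_neg, Preadditive.comp_neg, neg_eq_zero, Category.assoc]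
      refine (congrArg (e ≫ ·) (c.hom.naturality (inMap (sub I M k))).symm).trans ?_
      exact (Category.assoc _ _ _).symm.trans ((congrArg (· ≫ _) he).trans zero_comp))
  obtain ⟨z, hz⟩ := hy (TorsColim.ι 𝔪 r₁ _ e')
  obtain ⟨r₂, f, rfl⟩ := TorsColim.exists_rep _ z
  rw [lmap, lmap, TorsColim.map_ι, TorsColim.map_ι, ← TorsColim.ι_qD 𝔪 (le_max_left r₂ r₁),
    ← TorsColim.ι_qD 𝔪 (le_max_right r₂ r₁), ← sub_eq_zero, ← map_sub, TorsColim.ι_eq_zero_iff] at hz
  obtain ⟨r₃, hr₃, hz⟩ := hz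
  rw [lmap, TorsColim.map_ι, TorsColim.ι_eq_zero_iff]
  refine ⟨r₃, (le_max_right r₂ r₁).trans hr₃, ?_⟩
  rw [Preadditive.comp_sub, sub_eq_zero] at hz
  have hnat : inMap (T₀ I M hk) ≫ tn.singleTriangle.mor₃ =
      tk.singleTriangle.mor₃ ≫ (shiftFunctor (Dual.D A) (1 : ℤ)).map (inMap (inc I M hk)) :=
    (ShortComplex.ShortExact.singleTriangle.map tk tn
      (ExtAR.sesQMap (Submodule.smul_mono (Ideal.pow_le_pow_right hk) le_rfl))).comm₃.symm
  have hzero : inMap (π₀ I M n) ≫ tn.singleTriangle.mor₃ = 0 :=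
    comp_distTriang_mor_zero₂₃ _ tn.singleTriangle_distinguished
  rw [← cancel_mono (c.hom.app _), zero_comp, Category.assoc, Category.assoc]
  refine (congrArg (fun t => TorsColim.qD 𝔪 _ ≫ e ≫ t) (c.hom.naturality (inMap (inc I M hk)))).trans ?_
  refine (congrArg (fun t => TorsColim.qD 𝔪 _ ≫ t) ((Category.assoc e _ _).symm.trans
    (congrArg (fun t => t ≫ _) he'))).trans ?_
  change TorsColim.qD 𝔪 _ ≫ (e' ≫ (shiftFunctor (Dual.D A) (i - 1)).map tk.singleTriangle.mor₃) ≫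
    (shiftFunctor (Dual.D A) (i - 1)).map ((shiftFunctor (Dual.D A) (1 : ℤ)).map (inMap (inc I M hk))) = 0
  rw [Category.assoc, ← Functor.map_comp]
  refine (congrArg (fun t => TorsColim.qD 𝔪 _ ≫ e' ≫ (shiftFunctor (Dual.D A) (i - 1)).map t) hnat.symm).trans ?_
  have hq : TorsColim.qD 𝔪 ((le_max_right r₂ r₁).trans hr₃) =
      TorsColim.qD 𝔪 hr₃ ≫ TorsColim.qD 𝔪 (le_max_right r₂ r₁) :=
    (qD_qD 𝔪 (le_max_right r₂ r₁) hr₃).symm
  refine (congrArg (fun t => TorsColim.qD 𝔪 _ ≫ e' ≫ t) ((shiftFunctor (Dual.D A) (i - 1)).map_comp _ _)).trans ?_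
  exact chase hz ((((shiftFunctor (Dual.D A) (i - 1)).map_comp _ _).symm.trans
    (congrArg (shiftFunctor (Dual.D A) (i - 1)).map hzero)).trans (Functor.map_zero _ _ _)) hq

include hω hd h4 h6 in
/-- all classes die -/
theorem deep_zero (i : ℤ) (hi : i ≤ s) (n : ℕ) : ∃ (k : ℕ) (h : n ≤ k),
    ∀ x : Ls i (Sn I M k), lmap i (inc I M h) x = 0 := by
  obtain ⟨⟨n₀, hn₀⟩, -⟩ := ess I hω hd s h4 h6 i hi
  obtain ⟨k, hk, hx⟩ := deep_ker I hω hd s h4 h6 i (by omega) (max n n₀)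
  refine ⟨k, (le_max_left n n₀).trans hk, fun x => ?_⟩
  have h0 : lmap i (sub I M k) x = 0 := hn₀ _ (by
    rw [lmap_comp]
    refine Eq.trans (congrArg (fun t => lmap i t x) ?_) (lmap_zero i _ _ x)
    exact ModuleCat.hom_ext (LinearMap.ext fun v => (Submodule.Quotient.mk_eq_zero _).2
      ((Submodule.smul_mono (Ideal.pow_le_pow_right ((le_max_right n n₀).trans hk)) le_rfl) v.2)))
  have h1 := congrArg (lmap i (inc I M (le_max_left n n₀))) (hx x h0)
  rwa [map_zero, lmap_comp] at h1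

end Groth.Agent.LocCoh.BootLocal
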