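import Groth.Agent.LocCoh.BootGerm
import Groth.Agent.LocCoh.BootLocal
import Groth.Agent.LocCoh.FlatFibre.Completion
import Groth.Agent.S8796
import Mathlib.RingTheory.Localization.BaseChange

/-!
# `H^i_q` along `I^n M` for `q ∈ T`, uniformly in `q`

* `point_ker`: germs at `q` dying in `M` die in `I^n M` from a depth independent of `q`, `i ≤ s + 1`;
* `point_zero`: all germs die for `i ≤ s`.
-/

universe u

open CategoryTheory CategoryTheory.Limits IsLocalRing
open scoped TensorProduct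

attribute [local instance] HasDerivedCategory.standard

namespace Groth.Agent.LocCoh.BootPoint

open Groth.Agent.DualCx
open BaseChange (FD BijAt)
open Dimfun (deg)
open BootBC (inM)
open BootLocal (Sn sub)
open CompRlim (inc)

variable {A : Type u} [CommRing A]

/-- `x` dies at `q` -/
def Germ (q : PrimeSpectrum A) {X : Dual.D A} (x : TorsColim.L q.asIdeal X) : Prop :=
  ∃ u ∉ q.asIdeal, u • x = 0

/-- the completed local ring -/
abbrev Bq (I : Ideal A) (q : PrimeSpectrum A) : Type u :=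
  AdicCompletion (I.map (algebraMap A (Localization.AtPrime q.asIdeal))) (Localization.AtPrime q.asIdeal)

variable [IsNoetherianRing A]

/-- the completed local ring is flat, Noetherian, local, complete, with maximal ideal extended from `q` -/
theorem facts (I : Ideal A) {q : PrimeSpectrum A} (hIq : I ≤ q.asIdeal) :
    Module.Flat A (Bq I q) ∧ IsNoetherianRing (Bq I q) ∧
      IsAdicComplete (I.map (algebraMap A (Bq I q))) (Bq I q) ∧
      ∃ _ : IsLocalRing (Bq I q), q.asIdeal.map (algebraMap A (Bq I q)) = maximalIdeal (Bq I q) ∧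
        (maximalIdeal (Bq I q)).comap (algebraMap A (Bq I q)) = q.asIdeal := by
  let R := Localization.AtPrime q.asIdeal
  let I' := I.map (algebraMap A R)
  let f := algebraMap R (Bq I q)
  have hne : I' ≠ ⊤ := fun h => (maximalIdeal.isMaximal R).ne_top (top_le_iff.1
    (h ▸ (Ideal.map_mono (f := algebraMap A R) hIq).trans (Localization.AtPrime.map_eq_maximalIdeal (I := q.asIdeal)).le))
  have : IsNoetherianRing (Bq I q) := RegLoc.Completion.isNoetherianRing_adicCompletion' I'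
  have hff := FlatFibre.faithfullyFlat_adicCompletion I' hne
  have : Module.Flat A R := IsLocalization.flat R q.asIdeal.primeCompl
  have hc := AdicCompletion.isAdicComplete_self (I := I') (IsNoetherian.noetherian I')
  have hflat : Module.Flat A (Bq I q) := Module.Flat.trans A R (Bq I q)
  have hmap : ∀ J : Ideal A, J.map (algebraMap A (Bq I q)) = (J.map (algebraMap A R)).map f := fun J => by
    rw [Ideal.map_map]
    exact congrArg (fun g => J.map g) (IsScalarTower.algebraMap_eq A R (Bq I q))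
  have hQ : ∀ Q : Ideal (Bq I q), Q.IsMaximal → Q = (maximalIdeal R).map f := fun Q hQ => by
    have h1 : I'.map f ≤ Q := (IsAdicComplete.le_jacobson_bot _).trans (sInf_le ⟨bot_le, hQ⟩)
    have h2 : Q ≤ (maximalIdeal R).map f := by
      rw [← CompletionDeg.map_comap_completion I' Q h1]
      exact Ideal.map_mono (IsLocalRing.le_maximalIdeal (Ideal.IsPrime.comap f (hK := hQ.isPrime)).ne_top)
    refine hQ.eq_of_le (fun h => ?_) h2
    refine hff.submodule_ne_top (maximalIdeal.isMaximal R) ?_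
    rw [Ideal.smul_top_eq_map]
    exact Submodule.restrictScalars_eq_top_iff _ _ _ |>.2 h
  have : Nontrivial (Bq I q) := by
    by_contra h
    rw [not_nontrivial_iff_subsingleton] at h
    exact hff.submodule_ne_top (maximalIdeal.isMaximal R) (Subsingleton.elim _ _)
  obtain ⟨Q₀, hQ₀⟩ := Ideal.exists_maximal (Bq I q)
  have hloc : IsLocalRing (Bq I q) :=
    IsLocalRing.of_unique_max_ideal ⟨Q₀, hQ₀, fun Q hQ' => (hQ Q hQ').trans (hQ Q₀ hQ₀).symm⟩
  refine ⟨hflat, inferInstance, by rw [hmap]; exact hc, hloc, ?_, ?_⟩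
  · rw [hmap, hQ _ (maximalIdeal.isMaximal _)]
    exact congrArg (Ideal.map f) (Localization.AtPrime.map_eq_maximalIdeal (I := q.asIdeal))
  · have h1 : (maximalIdeal (Bq I q)).comap f = maximalIdeal R := by
      refine ((maximalIdeal.isMaximal R).eq_of_le (Ideal.IsPrime.comap f).ne_top ?_).symm
      rw [← Ideal.map_le_iff_le_comap, ← hQ _ (maximalIdeal.isMaximal _)]
    rw [IsScalarTower.algebraMap_eq A R (Bq I q), ← Ideal.comap_comap, show
      (maximalIdeal (Bq I q)).comap (algebraMap R (Bq I q)) = maximalIdeal R from h1]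
    exact IsLocalization.AtPrime.under_maximalIdeal R q.asIdeal

variable {ω : Dual.D A} (hω : Dual.IsDualizing A ω) (I : Ideal A) {d : ℕ} (hcd : _root_.LocCoh.CdLE A I d)
  {M : Type u} [AddCommGroup M] [Module A M] [Module.Finite A M] {T : Set (PrimeSpectrum A)}
  (hTI : T ⊆ PrimeSpectrum.zeroLocus (I : Set A)) (hT : StableUnderSpecialization T) (s : ℕ)
  (h4 : ∀ p r q : PrimeSpectrum A, p ≤ r → r ≤ q → ¬ I ≤ p.asIdeal → I ≤ r.asIdeal → r ∉ T → q ∈ T → (s : ℕ∞) ≤ LocCoh.depth (Localization.AtPrime p.asIdeal) (LocalizedModule p.asIdeal.primeCompl M) ∨ ((d + s : ℕ) : WithBot ℕ∞) < (LocCoh.depth (Localization.AtPrime p.asIdeal) (LocalizedModule p.asIdeal.primeCompl M) : WithBot ℕ∞) + Formal2.dimBetween A p.asIdeal q.asIdeal)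
  (h6 : ∀ q : PrimeSpectrum A, q ∈ T → ∀ p' : PrimeSpectrum (AdicCompletion (I.map (algebraMap A (Localization.AtPrime q.asIdeal))) (Localization.AtPrime q.asIdeal)), ¬ (I.map (algebraMap A (AdicCompletion (I.map (algebraMap A (Localization.AtPrime q.asIdeal))) (Localization.AtPrime q.asIdeal)))) ≤ p'.asIdeal → (∀ q' : PrimeSpectrum (AdicCompletion (I.map (algebraMap A (Localization.AtPrime q.asIdeal))) (Localization.AtPrime q.asIdeal)), p' ≤ q' → (I.map (algebraMap A (AdicCompletion (I.map (algebraMap A (Localization.AtPrime q.asIdeal))) (Localization.AtPrime q.asIdeal)))) ≤ q'.asIdeal → q'.asIdeal.IsMaximal) → (s : ℕ∞) < LocCoh.depth (Localization.AtPrime p'.asIdeal) (LocalizedModule p'.asIdeal.primeCompl (AdicCompletion (I.map (algebraMap A (Localization.AtPrime q.asIdeal))) (LocalizedModule q.asIdeal.primeCompl M))))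

/-- `H^i(RΓ_q)` of `V` after base change -/
noncomputable abbrev LB (B : Type u) [CommRing B] [IsLocalRing B] [Algebra A B] [Module.Flat A B] (i : ℤ)
    (V : ModuleCat.{u} A) : ModuleCat.{u + 1} B :=
  TorsColim.L (maximalIdeal B) ((FD A B).obj ((Dual.inD A V)⟦i⟧))

/-- functoriality after base change -/
noncomputable abbrev bmap (B : Type u) [CommRing B] [IsLocalRing B] [Algebra A B] [Module.Flat A B] (i : ℤ)
    {V V' : ModuleCat.{u} A} (g : V ⟶ V') : LB B i V →ₗ[B] LB B i V' :=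
  TorsColim.map (maximalIdeal B) ((FD A B).map ((inM g)⟦i⟧'))

include hω hcd hTI hT h4 h6 in
/-- the local statement at `q`, over the completed local ring -/
theorem local_at {q : PrimeSpectrum A} (hq : q ∈ T) :
    letI := (facts I (hTI hq)).1
    letI := (facts I (hTI hq)).2.2.2.choose
    ∀ (i : ℤ) (n : ℕ),
      (i ≤ (s : ℤ) + 1 → ∃ (k : ℕ) (h : n ≤ k), ∀ x : LB (Bq I q) i (Sn I M k),
        bmap (Bq I q) i (sub I M k) x = 0 → bmap (Bq I q) i (inc I M h) x = 0) ∧
      (i ≤ (s : ℤ) → ∃ (k : ℕ) (h : n ≤ k), ∀ x : LB (Bq I q) i (Sn I M k),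
        bmap (Bq I q) i (inc I M h) x = 0) := by
  obtain ⟨hflat, hnoe, hcompl, hex⟩ := facts I (hTI hq)
  let hloc := hex.choose
  obtain ⟨hqmax, hqc⟩ := hex.choose_spec
  let B := Bq I q
  let IB := I.map (algebraMap A B)
  let N := B ⊗[A] M
  have hωB : Dual.IsDualizing B ((FD A B).obj ω) := Extended.isDualizing hω fun Q hQ => by
    obtain rfl := IsLocalRing.eq_maximalIdeal hQ
    rw [hqc, hqmax]
  let m : PrimeSpectrum B := IsLocalRing.closedPoint B
  let R := Localization.AtPrime q.asIdeal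
  let Mq := LocalizedModule q.asIdeal.primeCompl M
  let eN : N ≃ₗ[B] AdicCompletion (I.map (algebraMap A R)) Mq :=
    ((TensorProduct.AlgebraTensorModule.cancelBaseChange A R B B M).symm.trans
      (TensorProduct.AlgebraTensorModule.congr (LinearEquiv.refl B B)
        (LocalizedModule.equivTensorProduct q.asIdeal.primeCompl M).symm)).trans
      (AdicCompletion.ofTensorProductEquivOfFiniteNoetherian _ Mq)
  have hle : ∀ p' : PrimeSpectrum B, p' ≤ m := fun p' => IsLocalRing.le_maximalIdeal p'.2.ne_top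
  have H6 : ∀ p' : PrimeSpectrum B, ¬ IB ≤ p'.asIdeal →
      (∀ q' : PrimeSpectrum B, p' ≤ q' → IB ≤ q'.asIdeal → maximalIdeal B ≤ q'.asIdeal) →
      (s : ℕ∞) < _root_.LocCoh.depth (Localization.AtPrime p'.asIdeal) (LocalizedModule p'.asIdeal.primeCompl N) := by
    intro p' hp' hall
    have := h6 q hq p' hp' fun q' h1 h2 =>
      (IsLocalRing.le_maximalIdeal q'.2.ne_top).antisymm (hall q' h1 h2) ▸ maximalIdeal.isMaximal B
    refine this.trans_eq (EGA4Lib.depth_supportDim_congr (L := Localization.AtPrime p'.asIdeal)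
      (IsLocalizedModule.mapEquiv p'.asIdeal.primeCompl (LocalizedModule.mkLinearMap _ _)
        (LocalizedModule.mkLinearMap _ _) (Localization.AtPrime p'.asIdeal) eN)).1.symm
  have H4 : ∀ p' : PrimeSpectrum B, ¬ IB ≤ p'.asIdeal →
      (s : ℕ∞) ≤ _root_.LocCoh.depth (Localization.AtPrime p'.asIdeal) (LocalizedModule p'.asIdeal.primeCompl N) ∨
      (((d + s : ℕ) : ℕ∞) : WithBot ℕ∞) < ((_root_.LocCoh.depth (Localization.AtPrime p'.asIdeal)
        (LocalizedModule p'.asIdeal.primeCompl N) : ℕ∞) : WithBot ℕ∞) +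
        Formal2.dimBetween B p'.asIdeal (maximalIdeal B) := by
    intro p' hp'
    let p : PrimeSpectrum A := PrimeSpectrum.comap (algebraMap A B) p'
    have hp : p'.asIdeal.comap (algebraMap A B) = p.asIdeal := rfl
    have hpI : ¬ I ≤ p.asIdeal := fun h => hp' (Ideal.map_le_iff_le_comap.2 h)
    have hpq : p ≤ q := (Ideal.comap_mono (IsLocalRing.le_maximalIdeal p'.2.ne_top)).trans hqc.le
    have hdep := CompletionDeg.depth_le hω hp hωB M N (LinearEquiv.refl B N)
    by_cases hr : ∀ r : PrimeSpectrum A, p ≤ r → r ≤ q → I ≤ r.asIdeal → r ∈ T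
    · exact Or.inl ((S8796.result A ⟨ω, hω⟩ I d hcd M T hTI hT s h4 h6 p q hpq hpI hq hr).le.trans hdep)
    · push Not at hr
      obtain ⟨r, hr1, hr2, hr3, hr4⟩ := hr
      refine (h4 p r q hr1 hr2 hpI hr3 hr4 hq).imp (fun h => h.trans hdep) fun h => ?_
      refine lt_of_lt_of_eq h ?_
      rw [SuppHm.dimBetween_eq p q, show Formal2.dimBetween B p'.asIdeal (maximalIdeal B) =
        Order.krullDim (Set.Icc p' m) from SuppHm.dimBetween_eq p' m]
      exact (CompletionDeg.depth_add_eq hω hp hωB M N (LinearEquiv.refl B N) hpq (hle p')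
        (CompletionDeg.deg_eq hω hqc hωB hqmax)).symm
  have hd' : _root_.LocCoh.CdLE B IB d := cdLE_map hcd
  choose e he using BootBC.exists_powEquiv B I M
  let κ : ∀ (i : ℤ) (k : ℕ), (FD A B).obj ((Dual.inD A (Sn I M k))⟦i⟧) ≅
      (Dual.inD B (Sn IB N k))⟦i⟧ := fun i k =>
    BootBC.τ B i (Sn I M k) ≪≫ (shiftFunctor (Dual.D B) i).mapIso
      ((DerivedCategory.singleFunctor (ModuleCat.{u} B) 0).mapIso (e k).toModuleIso)
  have hsub : ∀ i k, (FD A B).map ((inM (sub I M k))⟦i⟧') ≫ (BootBC.τ B i (ModuleCat.of A M)).hom =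
      (κ i k).hom ≫ (inM (sub IB N k))⟦i⟧' := fun i k => by
    have h1 : BootBC.bc B (sub I M k) = (e k).toModuleIso.hom ≫ sub IB N k :=
      ModuleCat.hom_ext (LinearMap.ext fun x => (he k x).symm)
    rw [BootBC.τ_natural, h1]
    simp only [κ, Iso.trans_hom, Functor.mapIso_hom, Category.assoc, inM, Functor.map_comp]
  have hinc : ∀ i n k (h : n ≤ k), (FD A B).map ((inM (inc I M h))⟦i⟧') ≫ (κ i n).hom =
      (κ i k).hom ≫ (inM (inc IB N h))⟦i⟧' := fun i n k h => by
    have h1 : BootBC.bc B (inc I M h) ≫ (e n).toModuleIso.hom = (e k).toModuleIso.hom ≫ inc IB N h :=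
      ModuleCat.hom_ext (LinearMap.ext fun x => Subtype.ext (by
        refine (he n _).trans (Eq.trans ?_ (he k x).symm)
        induction x using TensorProduct.induction_on with
        | zero => rw [map_zero, map_zero, map_zero]
        | tmul c v => rfl
        | add x y hx hy => rw [map_add, map_add, map_add, hx, hy]))
    refine (Category.assoc _ _ _).symm.trans ?_
    refine (congrArg (fun t => t ≫ _) (BootBC.τ_natural B i (inc I M h))).trans ?_
    simp only [κ, Iso.trans_hom, Functor.mapIso_hom, Category.assoc, inM, ← Functor.map_comp, h1]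
  intro i n
  let K := fun k => TorsColim.congr (maximalIdeal B) (κ i k)
  have hmsub : ∀ k x, bmap B i (sub I M k) x = 0 → BootLocal.lmap i (sub IB N k) (K k x) = 0 := fun k x hx => by
    have h1 : BootLocal.lmap i (sub IB N k) (K k x) =
        TorsColim.map (maximalIdeal B) (BootBC.τ B i (ModuleCat.of A M)).hom (bmap B i (sub I M k) x) := by
      change TorsColim.map _ _ (TorsColim.map _ (κ i k).hom x) = TorsColim.map _ _ (TorsColim.map _ _ x)
      rw [← LinearMap.comp_apply, ← TorsColim.map_comp, ← LinearMap.comp_apply, ← TorsColim.map_comp, hsub]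
    rw [h1, hx, map_zero]
  have hminc : ∀ k (h : n ≤ k) x, BootLocal.lmap i (inc IB N h) (K k x) = 0 → bmap B i (inc I M h) x = 0 := by
    intro k h x hx
    refine (K n).injective (Eq.trans ?_ (map_zero (K n)).symm)
    refine Eq.trans ?_ hx
    change TorsColim.map _ _ (TorsColim.map _ _ x) = TorsColim.map _ _ (TorsColim.map _ (κ i k).hom x)
    rw [← LinearMap.comp_apply, ← TorsColim.map_comp, ← LinearMap.comp_apply, ← TorsColim.map_comp, hinc]
  constructor
  · intro hi
    obtain ⟨k, h, hk⟩ := BootLocal.deep_ker IB hωB hd' s H4 H6 i hi n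
    exact ⟨k, h, fun x hx => hminc k h x (hk _ (hmsub k x hx))⟩
  · intro hi
    obtain ⟨k, h, hk⟩ := BootLocal.deep_zero IB hωB hd' s H4 H6 i hi n
    exact ⟨k, h, fun x => hminc k h x (hk _)⟩

omit [IsNoetherianRing A] in
theorem finite_HD (V : ModuleCat.{u} A) [Module.Finite A V] (i j : ℤ) :
    Module.Finite A (Dual.HD A ((Dual.inD A V)⟦i⟧) j) :=
  have := AnnModule.finite_HD (A := A) (M := V) (i + j)
  Module.Finite.equiv ((DRing.DBasic.HFShiftIso (Dual.inD A V) i j (i + j) rfl).toLinearEquiv.symm)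

include hω in
/-- uniformity in `q` -/
theorem uniform (hTI : T ⊆ PrimeSpectrum.zeroLocus (I : Set A)) (i : ℤ) (n : ℕ)
    (g : ∀ k, Sn I M k ⟶ ModuleCat.of A M) (hg : ∀ k k' (h : k ≤ k'), inc I M h ≫ g k = g k')
    (H : ∀ q (hq : q ∈ T), letI := (facts I (hTI hq)).1; letI := (facts I (hTI hq)).2.2.2.choose;
      ∃ (k : ℕ) (h : n ≤ k), ∀ x : LB (Bq I q) i (Sn I M k),
        bmap (Bq I q) i (g k) x = 0 → bmap (Bq I q) i (inc I M h) x = 0) :
    ∃ (K : ℕ) (h : n ≤ K), ∀ q ∈ T, ∀ x : TorsColim.L q.asIdeal ((Dual.inD A (Sn I M K))⟦i⟧),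
      Germ q (TorsColim.map q.asIdeal ((inM (g K))⟦i⟧') x) →
        Germ q (TorsColim.map q.asIdeal ((inM (inc I M h))⟦i⟧') x) := by
  classical
  let φ := fun k => if h : n ≤ k then (inM (inc I M h))⟦i⟧' else (0 : (Dual.inD A (Sn I M k))⟦i⟧ ⟶ (Dual.inD A (Sn I M n))⟦i⟧)
  have hφ : ∀ k (h : n ≤ k), φ k = (inM (inc I M h))⟦i⟧' := fun k h => dif_pos h
  have hcomp : ∀ k k' (h : n ≤ k) (h' : k ≤ k'), (inM (inc I M h'))⟦i⟧' ≫ φ k = φ k' ∧
      (inM (inc I M h'))⟦i⟧' ≫ (inM (g k))⟦i⟧' = (inM (g k'))⟦i⟧' := fun k k' h h' => by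
    constructor
    · rw [hφ k h, hφ k' (h.trans h'), ← Functor.map_comp, inM, inM, inM, ← Functor.map_comp, CompRlim.inc_comp]
    · rw [← Functor.map_comp, inM, inM, inM, ← Functor.map_comp, hg]
  let S : ∀ (D : ℤ) (k : ℕ), Submodule A ((Dual.inD A (Sn I M n))⟦i⟧ ⟶ ω⟦D⟧) := fun D k =>
    (LinearMap.range (CategoryTheory.Linear.leftComp A (ω⟦D⟧) ((inM (g k))⟦i⟧'))).comap
      (CategoryTheory.Linear.leftComp A (ω⟦D⟧) (φ k))
  have hmono : ∀ D k k', n ≤ k → k ≤ k' → S D k ≤ S D k' := by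
    rintro D k k' h h' y ⟨z, hz⟩
    refine ⟨z, ?_⟩
    change (inM (g k'))⟦i⟧' ≫ z = φ k' ≫ y
    rw [← (hcomp k k' h h').1, ← (hcomp k k' h h').2, Category.assoc, Category.assoc]
    exact congrArg ((inM (inc I M h'))⟦i⟧' ≫ ·) hz
  have hstab : ∀ D, ∃ K, n ≤ K ∧ ∀ k, n ≤ k → S D k ≤ S D K := fun D => by
    have : Module.Finite A ((Dual.inD A (Sn I M n))⟦i⟧ ⟶ ω⟦D⟧) :=
      AnnDual.finite_F hω _ (finite_HD (Sn I M n) i) D
    obtain ⟨K, hK⟩ := monotone_stabilizes_iff_noetherian.2 inferInstance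
      ⟨fun j => S D (n + j), fun a b hab => hmono D _ _ (Nat.le_add_right n a) (by omega)⟩
    refine ⟨n + K, Nat.le_add_right n K, fun k hk => ?_⟩
    refine (hmono D k (n + max K (k - n)) hk (by omega)).trans ?_
    exact (hK (max K (k - n)) (le_max_left _ _)).ge
  choose KD hKD hKD' using hstab
  obtain ⟨lo, hi, hdeg⟩ := Dimfun.deg_bounds hω
  let K := max n ((Finset.Icc lo hi).sup KD)
  refine ⟨K, le_max_left _ _, fun q hq x hx => ?_⟩
  obtain ⟨hflat, hnoe, -, hex⟩ := facts I (hTI hq)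
  let hloc := hex.choose
  obtain ⟨hqmax, hqc⟩ := hex.choose_spec
  have hωB : Dual.IsDualizing (Bq I q) ((FD A (Bq I q)).obj ω) := Extended.isDualizing hω fun Q hQ => by
    obtain rfl := IsLocalRing.eq_maximalIdeal hQ
    rw [hqc, hqmax]
  let D := deg hω q
  obtain ⟨a, ha⟩ := Dimfun.exists_isGE hω
  have hbij : ∀ (V : ModuleCat.{u} A) [Module.Finite A V],
      LinBaseChange.Bij A (Bq I q) (FD A (Bq I q)) ((Dual.inD A V)⟦i⟧) (ω⟦D⟧) := fun V _ =>
    (BaseChange.bijAt_shift i D (D - i) (by omega)).2 (BaseChange.bijAt_finite ω a (D - i) V)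
  have key := fun k => BootGerm.iff_range (Bq I q) hqmax hqc hω hωB (φ k) ((inM (g k))⟦i⟧')
    (finite_HD (Sn I M k) i) (finite_HD (Sn I M n) i) (finite_HD (ModuleCat.of A M) i)
    (hbij (Sn I M k)) (hbij (Sn I M n)) (hbij (ModuleCat.of A M))
  obtain ⟨k₀, h₀, hk₀⟩ := H q hq
  have hrange := (key k₀).1 (by rw [hφ k₀ h₀]; exact hk₀)
  have hK : ∀ x, _ := (key K).2 fun y => by
    obtain ⟨u, hu, z, hz⟩ := hrange y
    have h1 : u • y ∈ S D k₀ := ⟨z, by
      change (inM (g k₀))⟦i⟧' ≫ z = φ k₀ ≫ (u • y)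
      rw [Linear.comp_smul]; exact hz⟩
    have hD : D ∈ Finset.Icc lo hi := Finset.mem_Icc.2 (hdeg q)
    obtain ⟨z', hz'⟩ := hmono D (KD D) K (hKD D) ((Finset.le_sup hD).trans (le_max_right _ _)) (hKD' D k₀ h₀ h1)
    exact ⟨u, hu, z', hz'.trans (map_smul _ u y)⟩
  obtain ⟨r, e, rfl⟩ := TorsColim.exists_rep q.asIdeal x
  rw [Germ, TorsColim.map_ι, ← BootGerm.cl_eq_zero_iff (Bq I q) hqmax hqc, ← BootGerm.map_cl] at hx
  rw [Germ, TorsColim.map_ι, ← BootGerm.cl_eq_zero_iff (Bq I q) hqmax hqc, ← BootGerm.map_cl,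
    ← hφ K (le_max_left _ _)]
  exact hK _ hx

include hω hcd hTI hT h4 h6 in
/-- germs dying in `M` die from a uniform depth -/
theorem point_ker (i : ℤ) (hi : i ≤ (s : ℤ) + 1) (n : ℕ) : ∃ (k : ℕ) (h : n ≤ k), ∀ q ∈ T,
    ∀ x : TorsColim.L q.asIdeal ((Dual.inD A (Sn I M k))⟦i⟧),
      Germ q (TorsColim.map q.asIdeal ((inM (sub I M k))⟦i⟧') x) →
        Germ q (TorsColim.map q.asIdeal ((inM (inc I M h))⟦i⟧') x) :=
  uniform hω I hTI i n (sub I M) (fun _ _ _ => rfl) fun _ hq =>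
    (local_at hω I hcd hTI hT s h4 h6 hq i n).1 hi

include hω hcd hTI hT h4 h6 in
/-- all germs die from a uniform depth -/
theorem point_zero (i : ℤ) (hi : i ≤ s) (n : ℕ) : ∃ (k : ℕ) (h : n ≤ k), ∀ q ∈ T,
    ∀ x : TorsColim.L q.asIdeal ((Dual.inD A (Sn I M k))⟦i⟧),
      Germ q (TorsColim.map q.asIdeal ((inM (inc I M h))⟦i⟧') x) := by
  obtain ⟨k, h, hk⟩ := uniform hω I hTI i n (fun _ => 0) (fun _ _ _ => comp_zero) fun q hq => by
    obtain ⟨k, h, hk⟩ := (local_at hω I hcd hTI hT s h4 h6 hq i n).2 hi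
    exact ⟨k, h, fun x _ => hk x⟩
  refine ⟨k, h, fun q hq x => hk q hq x ⟨1, fun h1 => q.2.ne_top ((Ideal.eq_top_iff_one _).2 h1), ?_⟩⟩
  obtain ⟨r, e, rfl⟩ := TorsColim.exists_rep q.asIdeal x
  rw [one_smul, TorsColim.map_ι, inM, Functor.map_zero, Functor.map_zero, comp_zero, map_zero]

end Groth.Agent.LocCoh.BootPoint
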