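import Groth.Agent.LocCoh.BootGlobal
import Groth.Agent.LocCoh.BootGerm
import Groth.Agent.LocCoh.BootPoint
import Groth.Agent.DualCx.LocCompare
import Groth.Agent.DualCx.LocalDualityGen
import Mathlib.RingTheory.Localization.BaseChange

/-!
# Systems of modules: pointwise hypotheses in local cohomology of stalks

* `sys`: models of a system of modules;
* `pointZero`, `pointKer`, `pointZero_neg`;
* `zero_iterate`: pro-zero with explicit bound;
* `negCoheight`: the stratification by `-dim A/p`.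
-/

universe u

open CategoryTheory CategoryTheory.Limits IsLocalRing
open scoped TensorProduct

attribute [local instance] HasDerivedCategory.standard

namespace Groth.Agent.LocCoh.BootPointwise

open Groth.Agent.DualCx
open BootBC (inM)
open BootGlobal (mdl lift lifts lift_comp)
open BootStrata
open SuppTors
open Groth.Agent.DRing.Homology

variable {A : Type u} [CommRing A]

section Sys

variable (V : ℕ → Type u) [∀ n, AddCommGroup (V n)] [∀ n, Module A (V n)]
  (φ : ∀ k m : ℕ, m ≤ k → (V k →ₗ[A] V m))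
  (hφ : ∀ (k l m : ℕ) (h₁ : m ≤ l) (h₂ : l ≤ k), φ k m (h₁.trans h₂) = φ l m h₁ ∘ₗ φ k l h₂)

/-- the models over that of `V 0` -/
noncomputable def sys : Sys (A := A) where
  E n := (mdl (ModuleCat.of A (V n))).E
  injective n := (mdl (ModuleCat.of A (V n))).injective
  φ {n k} h := lift (ModuleCat.ofHom (φ k n h))
  comp {n k l} h h' := lift_comp (by rw [← ModuleCat.ofHom_comp, ← hφ])
  Einf := (mdl (ModuleCat.of A (V 0))).E
  γ n := lift (ModuleCat.ofHom (φ n 0 (Nat.zero_le n)))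
  compγ {n k} h := lift_comp (by rw [← ModuleCat.ofHom_comp, ← hφ])

theorem subsingleton_X (n : ℕ) (i : ℤ) (hi : i < 0) : Subsingleton (((sys V φ hφ).E n).X i) :=
  (mdl (ModuleCat.of A (V n))).subsingleton_X i (by rw [BootGlobal.mdl_lo]; exact hi)

end Sys

variable [IsNoetherianRing A]

section Germ

variable (q : PrimeSpectrum A) (i : ℕ)

/-- the local ring -/
local notation "Aq" => Localization.AtPrime (PrimeSpectrum.asIdeal q)

variable {P Q : Type u} [AddCommGroup P] [Module A P] [AddCommGroup Q] [Module A Q]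

/-- local cohomology of stalks -/
noncomputable abbrev hloc (g : P →ₗ[A] Q) :=
  (localCohomology (maximalIdeal Aq) i).map (ModuleCat.ofHom (LocalizedModule.map q.asIdeal.primeCompl g))

omit [IsNoetherianRing A] in
/-- the base change of a map is the localised map -/
theorem bc_conj (g : P →ₗ[A] Q) :
    BootBC.bc Aq (ModuleCat.ofHom g) ≫ (LocalizedModule.equivTensorProduct q.asIdeal.primeCompl Q).symm.toModuleIso.hom =
      (LocalizedModule.equivTensorProduct q.asIdeal.primeCompl P).symm.toModuleIso.hom ≫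
        ModuleCat.ofHom (LocalizedModule.map q.asIdeal.primeCompl g) := by
  refine ModuleCat.hom_ext (LinearMap.ext fun x => ?_)
  change (LocalizedModule.equivTensorProduct q.asIdeal.primeCompl Q).symm (g.baseChange Aq x) =
    LocalizedModule.map q.asIdeal.primeCompl g ((LocalizedModule.equivTensorProduct q.asIdeal.primeCompl P).symm x)
  induction x using TensorProduct.induction_on with
  | zero => simp only [map_zero]
  | add x y hx hy => simp only [map_add, hx, hy]
  | tmul b v =>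
    induction b using Localization.induction_on with
    | _ y =>
      rw [LinearMap.baseChange_tmul, LocalizedModule.equivTensorProduct_symm_apply_tmul,
        LocalizedModule.equivTensorProduct_symm_apply_tmul, LocalizedModule.smul'_mk,
        LocalizedModule.smul'_mk, LocalizedModule.map_mk, map_smul]

/-- `H^i` at `q` of a module -/
noncomputable abbrev toH (P : Type u) [AddCommGroup P] [Module A P] :
    _root_.LocCoh.H (maximalIdeal Aq) i (LocalizedModule q.asIdeal.primeCompl P) ≃ₗ[Aq]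
      TorsColim.L (maximalIdeal Aq) ((BaseChange.FD A Aq).obj ((Dual.inD A P)⟦(i : ℤ)⟧)) :=
  haveI : Module.Flat A Aq := IsLocalization.flat _ q.asIdeal.primeCompl
  (LocCompare.equiv (maximalIdeal Aq) i (LocalizedModule q.asIdeal.primeCompl P)).trans
    (TorsColim.congr (maximalIdeal Aq) ((BootBC.τ Aq (i : ℤ) (ModuleCat.of A P)) ≪≫
      (shiftFunctor (Dual.D Aq) (i : ℤ)).mapIso ((DerivedCategory.singleFunctor (ModuleCat.{u} Aq) 0).mapIso
        (LocalizedModule.equivTensorProduct q.asIdeal.primeCompl P).symm.toModuleIso))).symm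

omit [IsNoetherianRing A] in
theorem toH_map (g : P →ₗ[A] Q) (x : _root_.LocCoh.H (maximalIdeal Aq) i (LocalizedModule q.asIdeal.primeCompl P)) :
    haveI : Module.Flat A Aq := IsLocalization.flat _ q.asIdeal.primeCompl
    toH q i Q ((hloc q i g) x) =
      TorsColim.map (maximalIdeal Aq) ((BaseChange.FD A Aq).map ((inM (ModuleCat.ofHom g))⟦(i : ℤ)⟧')) (toH q i P x) := by
  have : Module.Flat A Aq := IsLocalization.flat _ q.asIdeal.primeCompl
  let κ := fun (R : Type u) (_ : AddCommGroup R) (_ : Module A R) =>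
    (BootBC.τ Aq (i : ℤ) (ModuleCat.of A R)) ≪≫
      (shiftFunctor (Dual.D Aq) (i : ℤ)).mapIso ((DerivedCategory.singleFunctor (ModuleCat.{u} Aq) 0).mapIso
        (LocalizedModule.equivTensorProduct q.asIdeal.primeCompl R).symm.toModuleIso)
  let gq : ModuleCat.of Aq (LocalizedModule q.asIdeal.primeCompl P) ⟶
      ModuleCat.of Aq (LocalizedModule q.asIdeal.primeCompl Q) :=
    ModuleCat.ofHom (LocalizedModule.map q.asIdeal.primeCompl g)
  have h1 : (BaseChange.FD A Aq).map ((inM (ModuleCat.ofHom g))⟦(i : ℤ)⟧') ≫ (κ Q _ _).hom =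
      (κ P _ _).hom ≫ (inM gq)⟦(i : ℤ)⟧' := by
    refine (Category.assoc _ _ _).symm.trans ?_
    refine (congrArg (fun t => t ≫ _) (BootBC.τ_natural Aq (i : ℤ) (ModuleCat.ofHom g))).trans ?_
    simp only [κ, Iso.trans_hom, Functor.mapIso_hom, Category.assoc, inM, ← Functor.map_comp, bc_conj q g, gq]
  have h2 : LocCompare.toL (maximalIdeal Aq) i (LocalizedModule q.asIdeal.primeCompl Q) (hloc q i g x) =
      TorsColim.map (maximalIdeal Aq) ((inM gq)⟦(i : ℤ)⟧') (LocCompare.toL (maximalIdeal Aq) i (LocalizedModule q.asIdeal.primeCompl P) x) := by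
    obtain ⟨n, e, rfl⟩ := LocCoh.exists_ιH x
    rw [hloc, LocCoh.ιH_naturality, LocCompare.toL_ι, LocCompare.toL_ι, TorsColim.map_ι]
    congr 1
    change (e.comp (Abelian.Ext.mk₀ gq) (add_zero i)).hom = _
    rw [Abelian.Ext.comp_hom, Abelian.Ext.mk₀_hom, ShiftedHom.comp_mk₀]
    rfl
  refine (TorsColim.congr (maximalIdeal Aq) (κ Q _ _)).injective ?_
  refine ((TorsColim.congr (maximalIdeal Aq) (κ Q _ _)).apply_symm_apply _).trans (h2.trans ?_)
  change _ = TorsColim.map _ (κ Q _ _).hom (TorsColim.map _ _ (toH q i P x))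
  exact (congrArg (TorsColim.map (maximalIdeal Aq) ((inM gq)⟦(i : ℤ)⟧'))
    ((TorsColim.congr (maximalIdeal Aq) (κ P _ _)).apply_symm_apply _).symm).trans
      (LinearMap.congr_fun (((TorsColim.map_comp (maximalIdeal Aq) _ _).symm.trans
        (congrArg (TorsColim.map (maximalIdeal Aq)) h1.symm)).trans (TorsColim.map_comp (maximalIdeal Aq) _ _)) (toH q i P x))

/-- germs against local cohomology of stalks -/
theorem exists_class (x : TorsColim.L q.asIdeal ((Dual.inD A P)⟦(i : ℤ)⟧)) :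
    ∃ y : _root_.LocCoh.H (maximalIdeal Aq) i (LocalizedModule q.asIdeal.primeCompl P),
      ∀ {Q : Type u} [AddCommGroup Q] [Module A Q] (g : P →ₗ[A] Q),
        BootPoint.Germ q (TorsColim.map q.asIdeal ((inM (ModuleCat.ofHom g))⟦(i : ℤ)⟧') x) ↔ hloc q i g y = 0 := by
  have : Module.Flat A Aq := IsLocalization.flat _ q.asIdeal.primeCompl
  have hq : q.asIdeal.map (algebraMap A Aq) = maximalIdeal Aq := Localization.AtPrime.map_eq_maximalIdeal
  have hc : (maximalIdeal Aq).comap (algebraMap A Aq) = q.asIdeal := IsLocalization.AtPrime.under_maximalIdeal Aq q.asIdeal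
  obtain ⟨r, e, rfl⟩ := TorsColim.exists_rep q.asIdeal x
  refine ⟨(toH q i P).symm (BootGerm.cl Aq hq r e), fun {Q} _ _ g => ?_⟩
  rw [TorsColim.map_ι, BootPoint.Germ, ← BootGerm.cl_eq_zero_iff Aq hq hc, ← (toH q i Q).map_eq_zero_iff,
    toH_map, LinearEquiv.apply_symm_apply, ← BootGerm.map_cl]

end Germ

variable {V : ℕ → Type u} [∀ n, AddCommGroup (V n)] [∀ n, Module A (V n)]
  {φ : ∀ k m : ℕ, m ≤ k → (V k →ₗ[A] V m)}
  (hφ : ∀ (k l m : ℕ) (h₁ : m ≤ l) (h₂ : l ≤ k), φ k m (h₁.trans h₂) = φ l m h₁ ∘ₗ φ k l h₂)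
  {T : Set (PrimeSpectrum A)}

/-- vanishing of local cohomology of the stalks gives vanishing at points -/
theorem pointZero (i : ℕ) {k n : ℕ} (h : n ≤ k) (h0 : ∀ q ∈ T, hloc q i (φ k n h) = 0) :
    ∀ q ∈ T, ∀ z ∈ DRing.torsionSub q.asIdeal (((sys V φ hφ).E k).X (0 + (i : ℤ))),
      IsCyc ((sys V φ hφ).E k) (0 + (i : ℤ)) z →
        ∃ u ∉ q.asIdeal, ∃ w ∈ DRing.torsionSub q.asIdeal (((sys V φ hφ).E n).X (-1 + (i : ℤ))),
          (((sys V φ hφ).E n).d (-1 + (i : ℤ)) (0 + (i : ℤ))).hom w = u • (sys V φ hφ).app h (0 + (i : ℤ)) z := by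
  intro q hq z hz hc
  obtain ⟨x, hx⟩ := BootModel.exists_germ (mdl (ModuleCat.of A (V k))) q.asIdeal (i : ℤ) z hz hc
  obtain ⟨y, hy⟩ := exists_class q i x
  obtain ⟨u, hu, hux⟩ := (hy (φ k n h)).2 (by rw [h0 q hq]; rfl)
  exact ⟨u, hu, (hx _ _ _ (lifts _) u).1 hux⟩

/-- control of the kernel to `V 0` at points -/
theorem pointKer (i : ℕ) {k n : ℕ} (h : n ≤ k)
    (h0 : ∀ q ∈ T, ∀ y, hloc q i (φ k 0 (Nat.zero_le k)) y = 0 → hloc q i (φ k n h) y = 0) :
    ∀ q ∈ T, ∀ z ∈ DRing.torsionSub q.asIdeal (((sys V φ hφ).E k).X (0 + (i : ℤ))),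
      IsCyc ((sys V φ hφ).E k) (0 + (i : ℤ)) z →
      (∃ u ∉ q.asIdeal, ∃ w ∈ DRing.torsionSub q.asIdeal ((sys V φ hφ).Einf.X (-1 + (i : ℤ))),
        ((sys V φ hφ).Einf.d (-1 + (i : ℤ)) (0 + (i : ℤ))).hom w = u • (sys V φ hφ).appγ k (0 + (i : ℤ)) z) →
        ∃ u ∉ q.asIdeal, ∃ w ∈ DRing.torsionSub q.asIdeal (((sys V φ hφ).E n).X (-1 + (i : ℤ))),
          (((sys V φ hφ).E n).d (-1 + (i : ℤ)) (0 + (i : ℤ))).hom w = u • (sys V φ hφ).app h (0 + (i : ℤ)) z := by
  rintro q hq z hz hc ⟨v, hv, hvz⟩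
  obtain ⟨x, hx⟩ := BootModel.exists_germ (mdl (ModuleCat.of A (V k))) q.asIdeal (i : ℤ) z hz hc
  obtain ⟨y, hy⟩ := exists_class q i x
  obtain ⟨u, hu, hux⟩ := (hy (φ k n h)).2 (h0 q hq y ((hy _).1 ⟨v, hv, (hx _ _ _ (lifts _) v).2 hvz⟩))
  exact ⟨u, hu, (hx _ _ _ (lifts _) u).1 hux⟩

omit [IsNoetherianRing A] in
theorem iterate_le {f : ℕ → ℕ} (hf : ∀ m, m ≤ f m) (n : ℕ) {a b : ℕ} (h : a ≤ b) : f^[a] n ≤ f^[b] n := by
  induction h with
  | refl => exact le_rfl
  | step _ ih => exact ih.trans ((hf _).trans (Function.iterate_succ_apply' f _ n).symm.le)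

/-- pointwise pro-zero with an explicit function gives pro-zero with its iterates -/
theorem zero_iterate (S : Sys (A := A)) {d : PrimeSpectrum A → ℤ} (hd : ∀ p q, p < q → d p < d q)
    {j i : ℤ} (hj : j + 1 = i) (f : ℕ → ℕ) (hf : ∀ m, m ≤ f m)
    (hp : ∀ n k (h : n ≤ k), f n ≤ k → ∀ q ∈ T, ∀ z ∈ DRing.torsionSub q.asIdeal ((S.E k).X i), IsCyc (S.E k) i z →
      ∃ u ∉ q.asIdeal, ∃ w ∈ DRing.torsionSub q.asIdeal ((S.E n).X j), ((S.E n).d j i).hom w = u • S.app h i z) :
    ∀ (k : ℕ) (lo : ℤ), (∀ p ∈ T, d p < lo + k) → ∀ n m' (h : n ≤ m'), f^[k] n ≤ m' →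
      ∀ z : (S.E m').X i, z ∈ tors (up T d lo) ((S.E m').X i) → IsCyc (S.E m') i z →
        Bd (up T d lo) (S.E n) j i (S.app h i z)
  | 0, lo, hb => fun n m' h _ z hz _ => by
      refine ⟨0, Submodule.zero_mem _, ?_⟩
      rw [eq_zero_of_mem_tors_empty ?_ hz, Sys.app, map_zero, map_zero]
      refine Set.eq_empty_of_forall_notMem fun p hp => ?_
      have := hb p hp.1
      have hlo : lo ≤ d p := hp.2
      omega
  | k + 1, lo, hb => fun n m' h hm' z hz hc => by
    have hN : n ≤ f^[k] n := iterate_le hf n (Nat.zero_le k)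
    rw [Function.iterate_succ_apply'] at hm'
    have hNm : f^[k] n ≤ m' := (hf _).trans hm'
    have := S.injective (f^[k] n) j
    obtain ⟨J, hJ, hJz⟩ := id hz
    obtain ⟨w, hw, hhigh⟩ := stratum hd ((S.E (f^[k] n)).d j i).hom hJ (S.app hNm i z)
      (fun c hc' => by rw [Sys.app, ← map_smul, hJz c hc', map_zero]) fun q hqT hq _ => by
        obtain ⟨v, hv, hvz⟩ := exists_isolate hq
        obtain ⟨u, hu, w, hw, hdw⟩ := hp _ _ hNm hm' q hqT (v • z) (hvz _ z hJz) (hc.smul v)
        refine ⟨u * v, fun h' => (q.2.mem_or_mem h').elim hu hv, w, hw, ?_⟩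
        rw [hdw, Sys.app, map_smul, smul_smul]
    have hcyc : IsCyc (S.E (f^[k] n)) i (S.app hNm i z - ((S.E (f^[k] n)).d j i).hom w) :=
      (S.isCyc_app hNm hc).sub (isCyc_d _ _ _)
    have h1 := (zero_iterate S hd hj f hf hp k (lo + 1)
      (fun p hp' => by have := hb p hp'; push_cast at this; omega) n _ hN le_rfl _ hhigh hcyc).mono
      (show up T d (lo + 1) ⊆ up T d lo from fun p hp' => ⟨hp'.1, by have := hp'.2; simp only [Set.mem_ofPred_eq] at *; omega⟩)
    have h2 : Bd (up T d lo) (S.E n) j i (((S.E n).d j i).hom (S.app hN j w)) := ⟨_, map_mem_tors _ hw, rfl⟩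
    have := (h1.add h2).sub (S.bd_comp hN hNm hj hz hc)
    convert this using 1
    simp only [Sys.d_app, Sys.app, map_sub]
    abel

omit [IsNoetherianRing A] in
/-- the stratification by minus the dimension of `A/p` -/
theorem negCoheight {D : ℕ} (hA : ringKrullDim A ≤ (D : WithBot ℕ∞)) :
    (∀ p q : PrimeSpectrum A, p < q → -((Order.coheight p).toNat : ℤ) < -((Order.coheight q).toNat : ℤ)) ∧
      ∀ p : PrimeSpectrum A, (Order.coheight p).toNat ≤ D := by
  have hle : ∀ p : PrimeSpectrum A, Order.coheight p ≤ (D : ℕ∞) := fun p =>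
    WithBot.coe_le_coe.1 ((Order.coheight_le_krullDim p).trans hA)
  refine ⟨fun p q h => ?_, fun p => ENat.toNat_le_of_le_natCast (hle p)⟩
  have h1 := Order.coheight_strictAnti h ((hle q).trans_lt (ENat.natCast_lt_top D))
  obtain ⟨a, ha⟩ := ENat.ne_top_iff_exists.1 ((hle p).trans_lt (ENat.natCast_lt_top D)).ne
  obtain ⟨b, hb⟩ := ENat.ne_top_iff_exists.1 ((hle q).trans_lt (ENat.natCast_lt_top D)).ne
  rw [← ha, ← hb] at h1 ⊢
  rw [ENat.toNat_natCast, ENat.toNat_natCast]
  have := Nat.cast_lt.1 h1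
  omega

omit [IsNoetherianRing A] in
/-- a finite bound for a finite dimension -/
theorem exists_dim (hA : ringKrullDim A < ⊤) : ∃ D : ℕ, ringKrullDim A ≤ (D : WithBot ℕ∞) := by
  rcases h : ringKrullDim A with _ | e
  · exact ⟨0, bot_le⟩
  · rcases e with _ | n
    · rw [h] at hA
      exact absurd hA (lt_irrefl _)
    · exact ⟨n, le_rfl⟩

omit [IsNoetherianRing A] in
/-- composites of localised maps -/
theorem map_comp_eq (q : PrimeSpectrum A) {P Q R : Type u} [AddCommGroup P] [Module A P] [AddCommGroup Q]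
    [Module A Q] [AddCommGroup R] [Module A R] (f : P →ₗ[A] Q) (g : Q →ₗ[A] R) :
    LocalizedModule.map q.asIdeal.primeCompl g ∘ₗ LocalizedModule.map q.asIdeal.primeCompl f =
      LocalizedModule.map q.asIdeal.primeCompl (g ∘ₗ f) := by
  refine LinearMap.ext fun x => ?_
  induction x using LocalizedModule.induction_on with
  | h m t => rw [LinearMap.comp_apply, LocalizedModule.map_mk, LocalizedModule.map_mk, LocalizedModule.map_mk]; rfl

end Groth.Agent.LocCoh.BootPointwise
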