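import Groth.Agent.LocCoh.SuppCompare
import Groth.Agent.LocCoh.AnnModule
import Groth.Agent.LocCoh.Support
import Groth.Prelude.Def_Formal2
import Mathlib.RingTheory.KrullDimension.NonZeroDivisors

/-!
# `H^i_I` and the comparison maps as cohomology with supports

* `toLT`, `incl_toLT`: `H^i_I(M) ≅ LT V(I) (M[i])`, compatibly with `hm`;
* `exists_equiv`, `hm_bijective`: consequences of annihilation on a larger support;
* `dimBetween_eq`, `core`: the degrees of primes and the ideal `J₀`.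
-/

universe u

open CategoryTheory CategoryTheory.Limits

attribute [local instance] HasDerivedCategory.standard

namespace Groth.Agent.LocCoh.SuppHm

open Groth.Agent.DualCx (LocCompare.stage)
open Groth.Agent.DualCx.Dimfun (deg deg_lt)
open SuppGamma (LT Idx ιT qT)
open SuppCompare (incl incl_incl incl_ι)

variable {A : Type u} [CommRing A] {M : Type u} [AddCommGroup M] [Module A M]

local notation "V(" J ")" => PrimeSpectrum.zeroLocus (SetLike.coe (J : Ideal A))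

theorem pow_mem (I : Ideal A) (n : ℕ) : V(I ^ n) ⊆ V(I) := fun _ hp =>
  Ideal.IsPrime.le_of_pow_le hp

/-- a power as an index -/
abbrev powIdx (I : Ideal A) (n : ℕ) : Idx (V(I)) := ⟨I ^ n, pow_mem I n⟩

/-- `H^i_I(M) → LT V(I) (M[i])` -/
noncomputable def toLT (I : Ideal A) (i : ℕ) (M : Type u) [AddCommGroup M] [Module A M] :
    _root_.LocCoh.H I i M →ₗ[A] LT V(I) ((Dual.inD A M)⟦(i : ℤ)⟧) :=
  LocCoh.descH (fun n => (ιT (powIdx I n) _).comp (LocCompare.stage I i M n).toLinearMap)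
    fun n m h e => by
      change ιT (powIdx I m) _ (LocCompare.stage I i M m _) = ιT (powIdx I n) _ (LocCompare.stage I i M n e)
      rw [DualCx.LocCompare.stage_qpow]
      exact SuppGamma.ιT_qT (J := powIdx I m) (J' := powIdx I n) (Ideal.pow_le_pow_right h) _

theorem toLT_ι (I : Ideal A) (i : ℕ) (n : ℕ)
    (e : Abelian.Ext.{u} (LocCoh.quotPow I n) (ModuleCat.of A M) i) :
    toLT I i M (LocCoh.ιH I i n (ModuleCat.of A M) e) = ιT (powIdx I n) _ (LocCompare.stage I i M n e) :=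
  LocCoh.descH_ι _ _ n e

theorem bijective_toLT [IsNoetherianRing A] (I : Ideal A) (i : ℕ) : Function.Bijective (toLT I i M) := by
  constructor
  · rw [injective_iff_map_eq_zero]
    intro x hx
    obtain ⟨n, e, rfl⟩ := LocCoh.exists_ιH x
    rw [toLT_ι, SuppGamma.ιT_eq_zero_iff] at hx
    obtain ⟨J', h, hm⟩ := hx
    obtain ⟨m, hm'⟩ : ∃ m : ℕ, I ^ m ≤ J'.obj := Ideal.exists_pow_le_of_le_radical_of_fg_radical
      (PrimeSpectrum.zeroLocus_subset_zeroLocus_iff _ _ |>.1 J'.property) (IsNoetherian.noetherian _)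
    rw [LocCoh.ιH_eq_zero_iff]
    refine ⟨max n m, le_max_left n m, (LocCompare.stage I i M (max n m)).injective ?_⟩
    rw [DualCx.LocCompare.stage_qpow, map_zero, AnnDual.qD_eq,
      ← AnnDual.qT_comp ((Ideal.pow_le_pow_right (le_max_right n m)).trans hm') h, Category.assoc, hm,
      comp_zero]
  · intro y
    obtain ⟨J, d, rfl⟩ := SuppGamma.exists_rep y
    obtain ⟨m, hm⟩ : ∃ m : ℕ, I ^ m ≤ J.obj := Ideal.exists_pow_le_of_le_radical_of_fg_radical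
      (PrimeSpectrum.zeroLocus_subset_zeroLocus_iff _ _ |>.1 J.property) (IsNoetherian.noetherian _)
    refine ⟨LocCoh.ιH I i m _ ((LocCompare.stage I i M m).symm (qT hm ≫ d)), ?_⟩
    rw [toLT_ι, LinearEquiv.apply_symm_apply]
    exact SuppGamma.ιT_qT (J := powIdx I m) (J' := J) hm d

theorem incl_toLT {I I' : Ideal A} (h : I ≤ I') (hV : V(I') ⊆ V(I)) (i : ℕ)
    (x : _root_.LocCoh.H I' i M) :
    incl hV _ (toLT I' i M x) = toLT I i M (((Dual2.HmapOfLE h i).app (ModuleCat.of A M)).hom x) := by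
  obtain ⟨n, e, rfl⟩ := LocCoh.exists_ιH x
  rw [toLT_ι, incl_ι]
  refine Eq.trans ?_ (congrArg (toLT I i M) (LocCoh.hm_ι h i n e)).symm
  rw [toLT_ι]
  refine (SuppGamma.ιT_qT (J := powIdx I n)
    (J' := (⟨I' ^ n, (pow_mem I' n).trans hV⟩ : Idx (V(I)))) (Ideal.pow_right_mono h n) _).symm.trans
    (congrArg (ιT (powIdx I n) _) ?_)
  change _ = ((Abelian.Ext.mk₀ _).comp e (zero_add i)).hom
  rw [Abelian.Ext.comp_hom, Abelian.Ext.mk₀_hom, ShiftedHom.mk₀_comp]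
  rfl

variable [IsNoetherianRing A] {T : Set (PrimeSpectrum A)} {s : ℕ} {𝔞 : Ideal A}

theorem bijective_incl (hk : ∀ i : ℤ, i ≤ s → ∀ c ∈ 𝔞, ∀ x : LT T ((Dual.inD A M)⟦i⟧), c • x = 0)
    {T₁ : Set (PrimeSpectrum A)} (h₀ : T ∩ V(𝔞) ⊆ T₁) (h₁ : T₁ ⊆ T) {i : ℕ} (hi : i ≤ s) :
    Function.Bijective (incl h₁ ((Dual.inD A M)⟦(i : ℤ)⟧)) := by
  obtain ⟨Mo⟩ := SuppModel.nonempty_model (AnnModule.bdd_below (A := A) (M := M))
  exact SuppCompare.bijective_incl Mo 𝔞 hk h₀ h₁ (by omega)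

/-- `H^i_K(M)` is the cohomology on the larger support -/
theorem exists_equiv (hk : ∀ i : ℤ, i ≤ s → ∀ c ∈ 𝔞, ∀ x : LT T ((Dual.inD A M)⟦i⟧), c • x = 0)
    {K : Ideal A} (h₀ : T ∩ V(𝔞) ⊆ V(K)) (h₁ : V(K) ⊆ T) {i : ℕ} (hi : i ≤ s) :
    Nonempty (_root_.LocCoh.H K i M ≃ₗ[A] LT T ((Dual.inD A M)⟦(i : ℤ)⟧)) :=
  ⟨LinearEquiv.ofBijective ((incl h₁ _).comp (toLT K i M))
    ((bijective_incl hk h₀ h₁ hi).comp (bijective_toLT K i))⟩

theorem smul_eq_zero (hk : ∀ i : ℤ, i ≤ s → ∀ c ∈ 𝔞, ∀ x : LT T ((Dual.inD A M)⟦i⟧), c • x = 0)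
    {K : Ideal A} (h₀ : T ∩ V(𝔞) ⊆ V(K)) (h₁ : V(K) ⊆ T) {i : ℕ} (hi : i ≤ s) {c : A} (hc : c ∈ 𝔞)
    (x : _root_.LocCoh.H K i M) : c • x = 0 := by
  obtain ⟨e⟩ := exists_equiv hk h₀ h₁ hi
  exact e.injective (by rw [map_smul, hk i (by omega) c hc, map_zero])

/-- the comparison map between intermediate supports -/
theorem hm_bijective (hk : ∀ i : ℤ, i ≤ s → ∀ c ∈ 𝔞, ∀ x : LT T ((Dual.inD A M)⟦i⟧), c • x = 0)
    {K K' : Ideal A} (h : K ≤ K') (h₀ : T ∩ V(𝔞) ⊆ V(K')) (h₁ : V(K) ⊆ T) {i : ℕ} (hi : i ≤ s) :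
    Function.Bijective ((Dual2.HmapOfLE h i).app (ModuleCat.of A M)).hom := by
  have hV : V(K') ⊆ V(K) := fun p hp => h.trans hp
  have e : ⇑((incl h₁ _).comp (toLT K i M)) ∘ ⇑(((Dual2.HmapOfLE h i).app (ModuleCat.of A M)).hom) =
      ⇑((incl (hV.trans h₁) _).comp (toLT K' i M)) := funext fun x => by
    change incl h₁ _ (toLT K i M _) = incl (hV.trans h₁) _ (toLT K' i M x)
    rw [← incl_toLT h hV, incl_incl]
  have hb : Function.Bijective ⇑((incl h₁ _).comp (toLT K i M)) :=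
    (bijective_incl hk (h₀.trans hV) h₁ hi).comp (bijective_toLT K i)
  refine (Function.Bijective.of_comp_iff' hb _).1 ?_
  rw [e]
  exact (bijective_incl hk h₀ (hV.trans h₁) hi).comp (bijective_toLT K' i)

omit [IsNoetherianRing A] in
/-- `dim (A/p)_q` -/
theorem dimBetween_eq (p q : PrimeSpectrum A) :
    Formal2.dimBetween A p.asIdeal q.asIdeal = Order.krullDim (Set.Icc p q) := by
  refine (ringKrullDim_quotient _).trans (Order.krullDim_eq_of_orderIso ?_)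
  let e := IsLocalization.AtPrime.primeSpectrumOrderIso (Localization.AtPrime q.asIdeal) q.asIdeal
  exact
    { toFun := fun x => ⟨(e x.1).1, Ideal.map_le_iff_le_comap.1 x.2, (e x.1).2⟩
      invFun := fun r => ⟨e.symm ⟨r.1, r.2.2⟩, Ideal.map_le_iff_le_comap.2
        (r.2.1.trans (congrArg Subtype.val (e.apply_symm_apply ⟨r.1, r.2.2⟩)).ge)⟩
      left_inv := fun x => Subtype.ext (e.symm_apply_apply x.1)
      right_inv := fun r => Subtype.ext (congrArg Subtype.val (e.apply_symm_apply ⟨r.1, r.2.2⟩) :)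
      map_rel_iff' := fun {a b} => e.map_rel_iff }

theorem dimBetween_eq_deg {ω : Dual.D A} (hω : Dual.IsDualizing A ω) {p q : PrimeSpectrum A} (hpq : p ≤ q) :
    Formal2.dimBetween A p.asIdeal q.asIdeal = (((deg hω q - deg hω p).toNat : ℕ∞) : WithBot ℕ∞) := by
  rw [dimBetween_eq, AnnModule.krullDim_Icc hpq, AnnThm.height_Ici hω hpq]

variable [Module.Finite A M] {ω : Dual.D A}

omit [Module.Finite A M] in
/-- primes outside `T ∪ V(I)` -/
theorem cond_away (hω : Dual.IsDualizing A ω) (I J : Ideal A) (s d : ℕ) (T : Set (PrimeSpectrum A))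
    (hT : ∀ p : PrimeSpectrum A, p ∈ T ↔ ∀ q : PrimeSpectrum A, p ≤ q → I ≤ q.asIdeal → J ≤ q.asIdeal)
    (h3 : ∀ p : PrimeSpectrum A, ¬ I ≤ p.asIdeal → p ∈ T → ∃ q : PrimeSpectrum A, p ≤ q ∧ J ≤ q.asIdeal ∧
      I ≤ q.asIdeal ∧ Formal2.dimBetween A p.asIdeal q.asIdeal ≤ ((d : ℕ∞) : WithBot ℕ∞))
    (h4 : ∀ p : PrimeSpectrum A, ¬ I ≤ p.asIdeal → p ∉ T → ∀ q : PrimeSpectrum A, p ≤ q → J ≤ q.asIdeal →
      I ≤ q.asIdeal → (s : ℕ∞) ≤ _root_.LocCoh.depth (Localization.AtPrime p.asIdeal)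
        (LocalizedModule p.asIdeal.primeCompl M) ∨ (((d + s : ℕ) : ℕ∞) : WithBot ℕ∞) <
        ((_root_.LocCoh.depth (Localization.AtPrime p.asIdeal) (LocalizedModule p.asIdeal.primeCompl M) : ℕ∞)
          : WithBot ℕ∞) + Formal2.dimBetween A p.asIdeal q.asIdeal)
    {p q : PrimeSpectrum A} (hpI : ¬ I ≤ p.asIdeal) (hpT : p ∉ T) (hq : q ∈ T) (hpq : p ≤ q) :
    (s : WithBot ℕ∞) < ((_root_.LocCoh.depth (Localization.AtPrime p.asIdeal)
      (LocalizedModule p.asIdeal.primeCompl M) : ℕ∞) : WithBot ℕ∞) + Order.krullDim (Set.Icc p q) := by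
  set δ := _root_.LocCoh.depth (Localization.AtPrime p.asIdeal) (LocalizedModule p.asIdeal.primeCompl M)
  have hne : p < q := lt_of_le_of_ne hpq fun h => hpT (h ▸ hq)
  have hlt := deg_lt hω hne
  obtain ⟨q', hqq', hJq', hIq', hd⟩ : ∃ q' : PrimeSpectrum A, q ≤ q' ∧ J ≤ q'.asIdeal ∧ I ≤ q'.asIdeal ∧
      (deg hω q' - deg hω q).toNat ≤ d := by
    by_cases hI : I ≤ q.asIdeal
    · exact ⟨q, le_rfl, (hT q).1 hq q le_rfl hI, hI, by simp⟩
    · obtain ⟨q', h1, h2, h3', h4'⟩ := h3 q hI hq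
      rw [dimBetween_eq_deg hω h1, WithBot.coe_le_coe, Nat.cast_le] at h4'
      exact ⟨q', h1, h2, h3', h4'⟩
  have hle : deg hω q ≤ deg hω q' := by
    rcases eq_or_lt_of_le hqq' with rfl | h
    · rfl
    · exact (deg_lt hω h).le
  rw [← dimBetween_eq, dimBetween_eq_deg hω hpq, ← WithBot.coe_add,
    show (s : WithBot ℕ∞) = ((s : ℕ∞) : WithBot ℕ∞) from rfl, WithBot.coe_lt_coe]
  have h := h4 p hpI hpT q' (hpq.trans hqq') hJq' hIq'
  rw [dimBetween_eq_deg hω (hpq.trans hqq'), ← WithBot.coe_add, WithBot.coe_lt_coe] at h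
  cases hδ : δ with
  | top => simp
  | coe n =>
    change (s : ℕ∞) ≤ δ ∨ ((d + s : ℕ) : ℕ∞) < δ + _ at h
    rw [hδ] at h
    change (s : ℕ∞) ≤ (n : ℕ∞) ∨ ((d + s : ℕ) : ℕ∞) < (n : ℕ∞) + _ at h
    change (s : ℕ∞) < (n : ℕ∞) + _
    norm_cast at h ⊢
    omega

omit [IsNoetherianRing A] in
theorem stable (I J : Ideal A) (T : Set (PrimeSpectrum A))
    (hT : ∀ p : PrimeSpectrum A, p ∈ T ↔ ∀ q : PrimeSpectrum A, p ≤ q → I ≤ q.asIdeal → J ≤ q.asIdeal) :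
    StableUnderSpecialization T := fun x y hxy hx =>
  (hT y).2 fun q hq => (hT x).1 hx q (((PrimeSpectrum.le_iff_specializes x y).2 hxy).trans hq)

omit [Module.Finite A M] in
/-- the ideal `J₀` -/
theorem core (I J : Ideal A) (s : ℕ) (T : Set (PrimeSpectrum A))
    (hT : ∀ p : PrimeSpectrum A, p ∈ T ↔ ∀ q : PrimeSpectrum A, p ≤ q → I ≤ q.asIdeal → J ≤ q.asIdeal)
    {J₁ : Ideal A} (hJ₁ : V(J₁) ⊆ T ∪ V(I))
    (hk₁ : ∀ i : ℕ, i ≤ s → ∀ c ∈ J₁, ∀ x : Dual2.HT T i M, c • x = 0) :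
    ∃ J₀ : Ideal A, (J₀ ≤ J ∧ V(J₀) ∩ V(I) = V(J) ∩ V(I) ∧
      (∀ (J' : Ideal A) (hJ' : J' ≤ J₀), V(J') ∩ V(I) = V(J) ∩ V(I) → ∀ i : ℕ, i ≤ s →
        Function.Bijective ((Dual2.HmapOfLE hJ' i).app (ModuleCat.of A M)).hom) ∧
      ∃ n : ℕ, ∀ a ∈ (J₀ * I) ^ n, ∀ i : ℕ, i ≤ s → ∀ x : _root_.LocCoh.H J₀ i M, a • x = 0) ∧
      V(J₀) ⊆ T ∧ ∀ i : ℕ, i ≤ s →
        Nonempty (_root_.LocCoh.H J₀ i M ≃ₗ[A] LT T ((Dual.inD A M)⟦(i : ℤ)⟧)) := by
  classical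
  let S : Finset (Ideal A) := (J₁.finite_minimalPrimes_of_isNoetherianRing A).toFinset.filter
    fun P => ∃ h : P.IsPrime, (⟨P, h⟩ : PrimeSpectrum A) ∈ T
  let J₀ : Ideal A := J ⊓ S.inf id
  have hJT : V(J) ⊆ T := fun p hp => (hT p).2 fun q hq _ => hp.trans hq
  have hJ₀T : V(J₀) ⊆ T := by
    intro p hp
    rcases p.2.inf_le.1 (show J ⊓ S.inf id ≤ p.asIdeal from hp) with h | h
    · exact hJT h
    · obtain ⟨P, hP, hPp⟩ := (Ideal.IsPrime.inf_le' p.2).1 h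
      obtain ⟨-, hP', hPT⟩ := Finset.mem_filter.1 hP
      exact stable I J T hT ((PrimeSpectrum.le_iff_specializes ⟨P, hP'⟩ p).1 hPp) hPT
  have hsub : ∀ {K : Ideal A}, V(K) ⊆ T → V(K) ∩ V(I) ⊆ V(J) := fun hK p hp =>
    (hT p).1 (hK hp.1) p le_rfl hp.2
  have hrad : J₀ * I ≤ J₁.radical := by
    rw [← Ideal.sInf_minimalPrimes]
    refine le_sInf fun P hP => ?_
    have hPp : P.IsPrime := hP.1.1
    rcases hJ₁ (show (⟨P, hPp⟩ : PrimeSpectrum A) ∈ V(J₁) from hP.1.2) with h | h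
    · refine Ideal.mul_le_left.trans (inf_le_right.trans ?_)
      exact Finset.inf_le (f := id)
        (Finset.mem_filter.2 ⟨(J₁.finite_minimalPrimes_of_isNoetherianRing A).mem_toFinset.2 hP, hPp, h⟩)
    · exact Ideal.mul_le_right.trans h
  obtain ⟨n, hn⟩ := Ideal.exists_pow_le_of_le_radical_of_fg_radical hrad (IsNoetherian.noetherian _)
  have hn' : (J₀ * I) ^ (n + 1) ≤ J₁ := (Ideal.pow_le_pow_right n.le_succ).trans hn
  have hk : ∀ i : ℤ, i ≤ s → ∀ c ∈ (J₀ * I) ^ (n + 1), ∀ x : LT T ((Dual.inD A M)⟦i⟧), c • x = 0 :=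
    fun i hi c hc x => (AnnModule.kills_HT_iff T s J₁).1 hk₁ i hi c (hn' hc) x
  have hcap : T ∩ V((J₀ * I) ^ (n + 1)) ⊆ V(J₀) := fun p hp => by
    rcases p.2.mul_le.1 (Ideal.IsPrime.le_of_pow_le hp.2) with h | h
    · exact h
    · exact (inf_le_left : J₀ ≤ J).trans ((hT p).1 hp.1 p le_rfl h)
  refine ⟨J₀, ⟨inf_le_left, Set.Subset.antisymm (fun p hp => ⟨hsub hJ₀T hp, hp.2⟩)
    (fun p hp => ⟨(inf_le_left : J₀ ≤ J).trans hp.1, hp.2⟩), fun J' hJ' hJ'I i hi => ?_, n + 1,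
    fun a ha i hi x => smul_eq_zero hk hcap hJ₀T hi ha x⟩, hJ₀T,
    fun i hi => exists_equiv hk hcap hJ₀T hi⟩
  refine hm_bijective hk hJ' hcap (fun p hp => (hT p).2 fun q hpq hq => ?_) hi
  exact (hJ'I.subset (show q ∈ V(J') ∩ V(I) from ⟨le_trans (show J' ≤ p.asIdeal from hp) hpq, hq⟩)).1

end Groth.Agent.LocCoh.SuppHm
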