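import Groth.Agent.LocCoh.CompVanish
import Groth.Agent.LocCoh.SuppHm

/-!
# Annihilators of the completed local cohomology
-/

universe u

open CategoryTheory CategoryTheory.Limits

attribute [local instance] HasDerivedCategory.standard

namespace Groth.Agent.LocCoh.CompAnn

variable {A : Type u} [CommRing A] [IsNoetherianRing A] {M : Type u} [AddCommGroup M] [Module A M]

/-- an element outside `p` killing `H^i_K(M)` -/
theorem exists_kills [Module.Finite A M] {ω : Dual.D A} (hω : Dual.IsDualizing A ω) (K : Ideal A)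
    (p : PrimeSpectrum A) (s : ℕ)
    (h : ∀ p' q : PrimeSpectrum A, p' ≤ p → K ≤ q.asIdeal → p' ≤ q →
      (s : WithBot ℕ∞) < ((_root_.LocCoh.depth (Localization.AtPrime p'.asIdeal)
        (LocalizedModule p'.asIdeal.primeCompl M) : ℕ∞) : WithBot ℕ∞) + Order.krullDim (Set.Icc p' q)) :
    ∃ f : A, f ∉ p.asIdeal ∧ ∀ i : ℕ, i ≤ s → ∀ x : _root_.LocCoh.H K i M, f • x = 0 := by
  have hT' : StableUnderSpecialization {r : PrimeSpectrum A | ¬ r ≤ p} := fun x y hxy hx hy =>
    hx (((PrimeSpectrum.le_iff_specializes x y).2 hxy).trans hy)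
  obtain ⟨J, hJ, hk⟩ := (AnnModule.annihilator_iff (M := M) hω
    (PrimeSpectrum.isClosed_zeroLocus (K : Set A)).stableUnderSpecialization hT' s).2
    fun p' q hp' hq hpq => h p' q (not_not.1 hp') hq hpq
  obtain ⟨f, hfJ, hfp⟩ := SetLike.not_le_iff_exists.1 fun hle : J ≤ p.asIdeal => hJ hle le_rfl
  refine ⟨f, hfp, fun i hi x => (SuppHm.bijective_toLT K i).1 ?_⟩
  rw [map_smul, map_zero]
  exact (AnnModule.kills_HT_iff _ s J).1 hk i (by omega) f hfJ _

/-- `f ∉ p` killing the completion of `RΓ_J M` -/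
theorem exists_kills_completion [Module.Finite A M] {ω : Dual.D A} (hω : Dual.IsDualizing A ω) (I J : Ideal A)
    [DRing.HasRgammaI J] [DRing.HasDerivedCompletion I] (p : PrimeSpectrum A) (s d : ℕ)
    (hd : _root_.LocCoh.CdLE A I d)
    (h : ∀ p' q : PrimeSpectrum A, p' ≤ p → J ≤ q.asIdeal → I ≤ q.asIdeal → p' ≤ q →
      ((d + s : ℕ) : WithBot ℕ∞) < ((_root_.LocCoh.depth (Localization.AtPrime p'.asIdeal)
        (LocalizedModule p'.asIdeal.primeCompl M) : ℕ∞) : WithBot ℕ∞) + Order.krullDim (Set.Icc p' q)) :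
    ∃ f : A, f ∉ p.asIdeal ∧ ∀ i : ℤ, i ≤ s → ∀ x : Dual.HD A
      ((DRing.derivedCompletion I).obj ((DRing.RgammaI J).obj (Dual.inD A M))).obj i, f • x = 0 := by
  have := CompVanish.hasRgammaI I
  have := CompVanish.hasRgammaI (J ⊔ I)
  obtain ⟨f, hfp, hf⟩ := exists_kills (M := M) hω (J ⊔ I) p (d + s) fun p' q hp' hq hpq =>
    h p' q hp' (le_sup_left.trans hq) (le_sup_right.trans hq) hpq
  let X := (DRing.RgammaI J).obj (Dual.inD A M)
  obtain ⟨e⟩ := RGamma.nonempty_gamma_comp J I (Dual.inD A M)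
  let eH := fun j : ℤ => ((DRing.DBasic.HF j).mapIso e).toLinearEquiv
  obtain ⟨k, hk⟩ := CompVanish.exists_pow_kill_completion I hd ((DRing.RgammaI I).obj X) 0 (s : ℤ) (f := f)
    (fun j hj =>
      have := CompVanish.subsingleton_RgammaI_neg (J ⊔ I) j hj M
      (eH j).toEquiv.subsingleton)
    (fun j hj x => by
      rcases lt_or_ge j 0 with hn | hn
      · have := CompVanish.subsingleton_RgammaI_neg (J ⊔ I) j hn M
        exact (eH j).injective (Subsingleton.elim _ _)
      · lift j to ℕ using hn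
        obtain ⟨e'⟩ := CompVanish.RgammaI_H (J ⊔ I) j M
        exact ((eH j).trans e').injective (by rw [map_smul, hf j (by omega), map_zero]))
  have := GM.isIso_completion_map_ε I X
  let c := (asIso ((DRing.derivedCompletion I).map ((DRing.RgammaIε I).app X)))
  refine ⟨f ^ k, fun hp => hfp (p.2.mem_of_pow_mem k hp), fun i hi x => ?_⟩
  let eC := ((DRing.DBasic.HF i).mapIso ((ObjectProperty.ι (DRing.IsDerivedComplete I)).mapIso c)).toLinearEquiv
  exact eC.symm.injective (by rw [map_smul, map_zero]; exact hk i hi (eC.symm x))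

end Groth.Agent.LocCoh.CompAnn
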