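import Groth.Agent.LocCoh.CompDepth
import Groth.Agent.DualCx.Cx
import Groth.Agent.DRing.DerivedComplete
import Mathlib.Algebra.Homology.DerivedCategory.HomologySequence

/-!
# `RΓ_J(M) → RΓ_J(M)^∧` in degrees `≤ s`
-/

universe u

open CategoryTheory CategoryTheory.Limits CategoryTheory.Pretriangulated DerivedCategory

attribute [local instance] HasDerivedCategory.standard

namespace Groth.Agent.LocCoh.CompBij

open Groth.Agent.DRing DBasic
open CompCore

variable {A : Type u} [CommRing A]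

/-- a class killed by `p` in a complex in degrees `≥ 0` comes from `A/p` -/
theorem exists_lift (X : Dual.D A) [X.IsGE 0] (p : Ideal A) (x : Dual.inD A A ⟶ X)
    (h : ∀ c ∈ p, c • x = 0) :
    ∃ φ : W₀ p ⟶ X, (singleFunctor (ModuleCat.{u} A) 0).map (ModuleCat.ofHom p.mkQ) ≫ φ = x := by
  obtain ⟨X', Y', hX', hY', f, g, δ, mem⟩ := TStructure.t.exists_triangle X 0 1 rfl
  have : TStructure.t.IsLE X' 0 := ⟨hX'⟩
  have : TStructure.t.IsGE Y' 1 := ⟨hY'⟩
  have hY2 : TStructure.t.IsGE (Y'⟦(-1 : ℤ)⟧) 2 := TStructure.t.isGE_shift Y' 1 (-1) 2 (by omega)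
  have : X'.IsGE 0 := TStructure.t.isGE₂ _ (inv_rot_of_distTriang _ mem) 0
    (TStructure.t.isGE_of_ge (Y'⟦(-1 : ℤ)⟧) 0 2 (by omega)) ‹X.IsGE 0›
  obtain ⟨V, ⟨e⟩⟩ := DerivedCategory.exists_iso_singleFunctor_obj_of_isGE_of_isLE X' 0
  obtain ⟨x', hx'⟩ := Triangle.coyoneda_exact₂ _ mem x (TStructure.t.zero (x ≫ g) 0 1 (by omega))
  have hc : ∀ c ∈ p, c • x' = 0 := fun c hc => by
    obtain ⟨y, hy⟩ := Triangle.coyoneda_exact₂ _ (inv_rot_of_distTriang _ mem) (c • x')
      ((Linear.smul_comp _ _ _ _ _ _).trans ((congrArg (c • ·) hx'.symm).trans (h c hc)))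
    have : TStructure.t.IsGE ((Triangle.mk f g δ).invRotate.obj₁) 2 := hY2
    rw [hy, TStructure.t.zero y 0 2 (by omega), zero_comp]
    rfl
  obtain ⟨ψ, hψ⟩ := (singleFunctor (ModuleCat.{u} A) 0).map_surjective (x' ≫ e.hom)
  let ψ' : ModuleCat.of A (A ⧸ p) ⟶ V := ModuleCat.ofHom (p.liftQ ψ.hom fun c hcp => by
    have h0 : c • ψ = 0 := by
      apply (singleFunctor (ModuleCat.{u} A) 0).map_injective
      rw [Functor.map_smul, hψ, ← Linear.smul_comp, hc c hcp, zero_comp, Functor.map_zero]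
    rw [LinearMap.mem_ker, show ψ.hom c = c • ψ.hom (1 : A) by rw [← map_smul, smul_eq_mul, mul_one]]
    exact ConcreteCategory.congr_hom h0 (1 : A))
  refine ⟨(singleFunctor (ModuleCat.{u} A) 0).map ψ' ≫ e.inv ≫ f, ?_⟩
  rw [← Category.assoc, ← Functor.map_comp, show ModuleCat.ofHom p.mkQ ≫ ψ' = ψ from rfl, hψ]
  exact (Category.assoc _ _ _).trans ((congrArg (x' ≫ ·) (e.hom_inv_id_assoc f)).trans hx'.symm)

variable [IsNoetherianRing A] {I J : Ideal A} [DRing.HasRgammaI I] [DRing.HasDerivedCompletion I]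
  [DRing.HasRgammaI J] {M : Type u} [AddCommGroup M] [Module A M] {ω : Dual.D A}

omit [DRing.HasRgammaI I] [DRing.HasDerivedCompletion I] in
theorem isDerivedComplete_inD [IsAdicComplete I A] [Module.Finite A M] :
    DRing.IsDerivedComplete I (Dual.inD A M) := by
  have := Adic.isAdicComplete_of_finite (I := I) (M := M)
  exact (DerComplete.isDerivedComplete_inD_iff_le I M).2 fun f hf => (DerComplete.tel_of_isAdicComplete I hf)

/-- `η : N → N^∧` is bijective in degrees `≤ s` -/
theorem bijective [IsAdicComplete I A] [Module.Finite A M] (hω : Dual.IsDualizing A ω) {d : ℕ}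
    (hd : _root_.LocCoh.CdLE A I d) (s : ℕ)
    (h : ∀ p : PrimeSpectrum A, ¬ I ≤ p.asIdeal → ¬ J ≤ p.asIdeal →
      (∀ q : PrimeSpectrum A, p ≤ q → J ≤ q.asIdeal → I ≤ q.asIdeal →
        ((d + s : ℕ) : WithBot ℕ∞) < ((_root_.LocCoh.depth (Localization.AtPrime p.asIdeal)
          (LocalizedModule p.asIdeal.primeCompl M) : ℕ∞) : WithBot ℕ∞) + Order.krullDim (Set.Icc p q)) ∨
      (s : ℕ∞) < _root_.LocCoh.depth (Localization.AtPrime p.asIdeal) (LocalizedModule p.asIdeal.primeCompl M) ∨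
      ((s : ℕ∞) ≤ _root_.LocCoh.depth (Localization.AtPrime p.asIdeal) (LocalizedModule p.asIdeal.primeCompl M) ∧
        ∃ q : PrimeSpectrum A, p ≤ q ∧ I ≤ q.asIdeal ∧ ¬ J ≤ q.asIdeal))
    (i : ℤ) (hi : i ≤ s) :
    Function.Bijective ((HF i).map (DRing.toDerivedCompletion I (N J M))).hom := by
  have := CompLocal.hasProduct (A := A)
  obtain ⟨C, g, δ, hT⟩ := distinguished_cocone_triangle (DRing.toDerivedCompletion I (N J M))
  have : TStructure.t.IsGE (N J M) 0 := (DerivedCategory.isGE_iff _ _).mpr fun m hm =>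
    (DBasic.subsingleton_HD_iff_isZero _ m).mp (CompVanish.subsingleton_RgammaI_neg J m hm M)
  have hY : TStructure.t.IsGE (Y I J M) 0 := (DerivedCategory.isGE_iff _ _).mpr fun m hm =>
    (DBasic.subsingleton_HD_iff_isZero _ m).mp ((CompRlim.main I J M).2 m hm)
  -- the cone
  have key : ∀ k : ℕ, (k : ℤ) ≤ s + 2 → C.IsGE ((k : ℤ) - 1) := by
    intro k
    induction k with
    | zero =>
      exact fun _ => TStructure.t.isGE₂ _ (rot_of_distTriang _ hT) (-1)
        (show TStructure.t.IsGE (Y I J M) (-1) from TStructure.t.isGE_of_ge (Y I J M) (-1) 0 (by omega))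
        (show TStructure.t.IsGE ((N J M)⟦(1 : ℤ)⟧) (-1) from TStructure.t.isGE_shift (N J M) 0 1 (-1) (by omega))
    | succ k ih =>
      intro hk
      have hC := ih (by omega)
      let j : ℤ := (k : ℤ) - 1
      have hCj : (C⟦j⟧).IsGE 0 := TStructure.t.isGE_shift C j j 0 (by omega)
      suffices hH : Subsingleton (Dual.inD A A ⟶ C⟦j⟧) by
        refine (DerivedCategory.isGE_iff C _).mpr fun m hm => ?_
        rcases lt_or_eq_of_le (show m ≤ j by omega) with hlt | rfl
        · exact (DerivedCategory.isGE_iff C _).mp hC m hlt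
        · exact (DBasic.subsingleton_HD_iff_isZero C _).mp
            ((DualCx.Cx.homUnitEquivShift C j).toEquiv.subsingleton_congr.1 hH)
      by_contra hH
      rw [not_subsingleton_iff_nontrivial] at hH
      obtain ⟨P, hP⟩ := associatedPrimes.nonempty A (Dual.inD A A ⟶ C⟦j⟧)
      obtain ⟨hPp, x, hx⟩ := (isAssociatedPrime_iff).1 hP
      have hmem : ∀ c : A, c ∈ P ↔ c • x = 0 := fun c => by
        rw [hx, Submodule.mem_colon_singleton, Submodule.mem_bot]
      obtain ⟨φ, hφ⟩ := exists_lift (C⟦j⟧) P x fun c hc => (hmem c).1 hc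
      suffices hK : Killed P φ by
        obtain ⟨c, hc, hc'⟩ := hK
        refine hc ((hmem c).2 ?_)
        rw [← hφ, ← Linear.comp_smul, hc', comp_zero]
      let e := shiftFunctorAdd' (Dual.D A) 1 j (1 + j) rfl
      have hδη : φ ≫ δ⟦j⟧' ≫ ((DRing.toDerivedCompletion I (N J M))⟦(1 : ℤ)⟧')⟦j⟧' = 0 := by
        rw [← Functor.map_comp]
        exact (congrArg (fun t => φ ≫ (shiftFunctor (Dual.D A) j).map t)
          (comp_distTriang_mor_zero₃₁ _ hT)).trans ((congrArg (φ ≫ ·) (Functor.map_zero _ _ _)).trans comp_zero)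
      -- no difference in front of `J`- and `I`-torsion
      have hzero : (∀ m : ℤ, Function.Bijective fun f : W₀ P ⟶ (N J M)⟦m⟧ =>
          f ≫ (shiftFunctor (Dual.D A) m).map (DRing.toDerivedCompletion I (N J M))) → φ = 0 := by
        intro hb
        have h0 : φ ≫ δ⟦j⟧' = 0 := by
          rw [← cancel_mono (e.inv.app (N J M))]
          refine (hb (1 + j)).1 (Eq.trans ?_ ((congrArg (· ≫ (shiftFunctor (Dual.D A) (1 + j)).map
            (DRing.toDerivedCompletion I (N J M))) (zero_comp (f := e.inv.app (N J M)))).trans zero_comp).symm)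
          change ((φ ≫ δ⟦j⟧') ≫ e.inv.app (N J M)) ≫ _ = 0
          rw [Category.assoc, ← e.inv.naturality, ← Category.assoc]
          exact (congrArg (· ≫ _) ((Category.assoc _ _ _).trans hδη)).trans zero_comp
        obtain ⟨y, hy⟩ := ExtAR.exact₃_shift _ hT j φ h0
        obtain ⟨z, hz⟩ := (hb j).2 y
        rw [hy, ← hz]
        exact (Category.assoc _ _ _).trans ((congrArg (z ≫ ·) ((((shiftFunctor (Dual.D A) j).map_comp _ _).symm.trans
          (congrArg _ (comp_distTriang_mor_zero₁₂ _ hT))).trans (Functor.map_zero _ _ _))).trans comp_zero)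
      have hne1 : (1 : A) ∉ P := fun h => hPp.ne_top ((Ideal.eq_top_iff_one _).2 h)
      by_cases hI : I ≤ P
      · exact ⟨1, hne1, (one_smul A φ).trans (hzero fun m => bij_η I
          (RGHom.HD_inD_torsion I 1 fun c hc w => by
            rw [pow_one] at hc
            obtain ⟨v, rfl⟩ := Submodule.Quotient.mk_surjective _ w
            rw [← Submodule.Quotient.mk_smul, Submodule.Quotient.mk_eq_zero]
            exact P.mul_mem_right v (hI hc)) (N J M) m)⟩
      by_cases hJ : J ≤ P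
      · exact ⟨1, hne1, (one_smul A φ).trans (hzero fun m =>
          bij_of_torsion I J M isDerivedComplete_inD hJ m)⟩
      let p : PrimeSpectrum A := ⟨P, hPp⟩
      obtain ⟨c₁, hc₁, hc₁'⟩ : Killed P (φ ≫ δ⟦j⟧') :=
        Killed.of_map (f := CategoryTheory.Linear.rightComp A _ (e.inv.app (N J M)))
          (fun a b hab => (cancel_mono (e.inv.app (N J M))).1 hab) (killed_of_not_le J M hJ (1 + j) _)
      obtain ⟨y, hy⟩ := ExtAR.exact₃_shift _ hT j (c₁ • φ) ((Linear.smul_comp _ _ _ _ _ _).trans hc₁')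
      obtain ⟨c₂, hc₂, hc₂'⟩ : Killed P y := by
        rcases h p hI hJ with hA | hB | ⟨hB, hq⟩
        · obtain ⟨c, hc, hc'⟩ := CompAnn.exists_kills (M := M) hω (J ⊔ I ⊔ P) p (d + s) fun p' q hp' hq hp'q => by
            have hpq : p ≤ q := le_sup_right.trans hq
            exact (AnnModule.cond_depth_iff hω hp'q (d + s)).1 fun m hm => DualCx.Dimfun.Z_mono
              (show p'.1 ≤ p.1 from hp') ((AnnModule.cond_depth_iff hω hpq (d + s)).2
                (hA q hpq (le_sup_left.trans (le_sup_left.trans hq)) (le_sup_right.trans (le_sup_left.trans hq))) m hm)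
          exact CompLocal.killed_high I J M hd p s hc hc' j (by omega) y
        · exact CompDepth.killed_depth J I hω p M (s + 1)
            (by rwa [Nat.cast_succ, ENat.add_one_le_iff (ENat.natCast_ne_top s)]) j (Or.inl (by omega)) y
        · refine CompDepth.killed_depth J I hω p M s hB j ?_ y
          rcases lt_or_eq_of_le (show j ≤ (s : ℤ) by omega) with hlt | heq
          exacts [Or.inl hlt, Or.inr ⟨heq, hq⟩]
      refine ⟨c₂ * c₁, fun hm => (hPp.mem_or_mem hm).elim hc₂ hc₁, ?_⟩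
      rw [mul_smul, hy]
      exact (Linear.smul_comp _ _ _ _ _ _).symm.trans ((congrArg (· ≫ _) hc₂').trans zero_comp)
  have hC : C.IsGE ((s : ℤ) + 1) := by
    have h' := key (s + 2) (by simp)
    rwa [show ((s + 2 : ℕ) : ℤ) - 1 = (s : ℤ) + 1 by omega] at h'
  have hz : ∀ m : ℤ, m ≤ s → IsZero ((HF m).obj C) := fun m hm =>
    (DerivedCategory.isGE_iff C _).mp hC m (by omega)
  have hm : Mono ((HF i).map (DRing.toDerivedCompletion I (N J M))) :=
    (DerivedCategory.HomologySequence.mono_homologyMap_mor₁_iff _ hT (i - 1) i (by omega)).2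
      ((hz (i - 1) (by omega)).eq_of_src _ _)
  have : Epi ((HF i).map (DRing.toDerivedCompletion I (N J M))) :=
    (DerivedCategory.HomologySequence.epi_homologyMap_mor₁_iff _ hT i).2 ((hz i hi).eq_of_tgt _ _)
  exact ⟨(ModuleCat.mono_iff_injective _).1 hm, (ModuleCat.epi_iff_surjective _).1 this⟩

end Groth.Agent.LocCoh.CompBij
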