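import Groth.Agent.LocCoh.CompVanish
import Groth.Agent.LocCoh.CompletionRlim

/-!
# Maps out of `A/p` into `RΓ_J(M)` and its completion

* `killed p φ`: an element outside `p` kills `φ`;
* `bij_ε`, `bij_η`, `bij_S`: reduction to the torsion object `RΓ_I(W)`;
* `bij_of_torsion`: no difference in front of `J`-torsion modules;
* `killed_of_not_le`: maps `A/p → RΓ_J(M)[j]` are killed outside `p` when `J ⊄ p`.
-/

universe u

open CategoryTheory CategoryTheory.Limits CategoryTheory.Pretriangulated DerivedCategory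

attribute [local instance] HasDerivedCategory.standard

namespace Groth.Agent.LocCoh.CompCore

open Groth.Agent.DRing DBasic

variable {A : Type u} [CommRing A]

/-- killed by an element outside `p` -/
def Killed (p : Ideal A) {X : Type*} [AddCommGroup X] [Module A X] (x : X) : Prop := ∃ g ∉ p, g • x = 0

theorem Killed.map {p : Ideal A} {X Y : Type*} [AddCommGroup X] [Module A X] [AddCommGroup Y] [Module A Y]
    {x : X} (h : Killed p x) (f : X →ₗ[A] Y) : Killed p (f x) :=
  h.imp fun g hg => ⟨hg.1, by rw [← map_smul, hg.2, map_zero]⟩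

theorem Killed.of_map {p : Ideal A} {X Y : Type*} [AddCommGroup X] [Module A X] [AddCommGroup Y] [Module A Y]
    {x : X} {f : X →ₗ[A] Y} (hf : Function.Injective f) (h : Killed p (f x)) : Killed p x :=
  h.imp fun g hg => ⟨hg.1, hf (by rw [map_smul, hg.2, map_zero])⟩

theorem Killed.of_smul {p : Ideal A} [p.IsPrime] {X : Type*} [AddCommGroup X] [Module A X] {x : X} {c : A}
    (hc : c ∉ p) (h : Killed p (c • x)) : Killed p x := by
  obtain ⟨g, hg, hx⟩ := h
  exact ⟨g * c, fun hm => (Ideal.IsPrime.mem_or_mem ‹_› hm).elim hg hc, by rw [mul_smul, hx]⟩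

/-- `(A/K)[0]` -/
noncomputable abbrev W₀ (K : Ideal A) : Dual.D A := Dual.inD A (A ⧸ K)

variable [IsNoetherianRing A]

theorem bijective_comp_ε_shift (K : Ideal A) [DRing.HasRgammaI K] {S : Dual.D A}
    (hS : ∀ i, _root_.LocCoh.IsPowerTorsion K (Dual.HD A S i)) (X : Dual.D A) (p : ℤ) :
    Function.Bijective fun f : S ⟶ (shiftFunctor (Dual.D A) p).obj ((DRing.RgammaI K).obj X) =>
      f ≫ (shiftFunctor (Dual.D A) p).map ((DRing.RgammaIε K).app X) := by
  have hb := RGHom.bijective_comp_ε K (RGHom.torsion_shift K hS (-p)) X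
  have h2 := ((Milnor.homEq (-p) p (neg_add_cancel p) S X).bijective.comp hb).comp
    (Milnor.homEq (-p) p (neg_add_cancel p) S ((DRing.RgammaI K).obj X)).symm.bijective
  convert h2 using 1
  funext f
  simp [Milnor.homEq_comp]

variable (I : Ideal A) [DRing.HasRgammaI I] [DRing.HasDerivedCompletion I]

/-- postcomposition with the completion -/
theorem bij_η {S : Dual.D A} (hS : ∀ i, _root_.LocCoh.IsPowerTorsion I (Dual.HD A S i)) (X : Dual.D A) (p : ℤ) :
    Function.Bijective fun f : S ⟶ (shiftFunctor (Dual.D A) p).obj X =>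
      f ≫ (shiftFunctor (Dual.D A) p).map (DRing.toDerivedCompletion I X) := by
  let S' := (shiftFunctor (Dual.D A) (-p)).obj S
  have hS' := RGHom.torsion_shift I hS (-p)
  have := GM.isIso_map_toDerivedCompletion I (IsNoetherian.noetherian I) X
  have e1 := (RGHom.bijective_comp_ε I hS' ((DRing.derivedCompletion I).obj X).obj).comp
    ((asIso ((DRing.RgammaI I).map (DRing.toDerivedCompletion I X))).homToEquiv (Z := S')).bijective
  have h1 : Function.Bijective fun f : S' ⟶ X => f ≫ DRing.toDerivedCompletion I X := by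
    refine (Function.Bijective.of_comp_iff _ (RGHom.bijective_comp_ε I hS' X)).1 ?_
    convert e1 using 1
    funext f
    change (f ≫ _) ≫ _ = (f ≫ (DRing.RgammaI I).map _) ≫ _
    rw [Category.assoc, Category.assoc, (DRing.RgammaIε I).naturality]
    rfl
  have h2 := ((Milnor.homEq (-p) p (neg_add_cancel p) S _).bijective.comp h1).comp
    (Milnor.homEq (-p) p (neg_add_cancel p) S X).symm.bijective
  convert h2 using 1
  funext f
  simp [Milnor.homEq_comp]

/-- precomposition with `RΓ_I W → W` into a complete object -/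
theorem bij_ε (W C : Dual.D A) (hC : DRing.IsDerivedComplete I C) :
    Function.Bijective fun v : W ⟶ C => (DRing.RgammaIε I).app W ≫ v := by
  have := GM.isIso_completion_map_ε I W
  let L : DRing.DComp I := ⟨C, hC⟩
  let adj := DRing.derivedCompletionAdj I
  have h := ((adj.homEquiv _ L).bijective.comp
    ((asIso ((DRing.derivedCompletion I).map ((DRing.RgammaIε I).app W))).symm.homFromEquiv (Z := L)).bijective).comp
    (adj.homEquiv W L).symm.bijective
  convert h using 1
  funext v
  exact ((adj.homEquiv_naturality_left _ _).trans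
    (congrArg (_ ≫ ·) ((adj.homEquiv W L).apply_symm_apply v))).symm

omit [DRing.HasDerivedCompletion I] in
/-- what kills `W` kills `RΓ_I W` -/
theorem smul_id_eq_zero {W : Dual.D A} {c : A} (h : c • 𝟙 W = 0) :
    c • 𝟙 ((DRing.RgammaI I).obj W) = 0 := by
  refine (RGHom.bijective_comp_ε I (RGamma.HD_RgammaI_torsion I W) W).1 ?_
  change (c • 𝟙 _) ≫ _ = (0 : (DRing.RgammaI I).obj W ⟶ _) ≫ _
  rw [zero_comp, Linear.smul_comp, Category.id_comp,
    ← Category.comp_id ((DRing.RgammaIε I).app W)]
  exact (Linear.comp_smul _ _ _ _ _ _).symm.trans ((congrArg (_ ≫ ·) h).trans comp_zero)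

omit [DRing.HasDerivedCompletion I] in
/-- so `RΓ_I W` is torsion for what kills `W` -/
theorem torsion_of_killed {W : Dual.D A} (K : Ideal A) (h : ∀ c ∈ K, c • 𝟙 W = 0) (i : ℤ) :
    _root_.LocCoh.IsPowerTorsion K (Dual.HD A ((DRing.RgammaI I).obj W) i) := fun x => ⟨1, fun c hc => by
  rw [pow_one] at hc
  have := congrArg (fun φ => ((HF i).map φ).hom x) (smul_id_eq_zero I (h c hc))
  simp only [Functor.map_smul, CategoryTheory.Functor.map_id, Functor.map_zero, ModuleCat.hom_smul,
    ModuleCat.hom_id, ModuleCat.hom_zero, LinearMap.smul_apply, LinearMap.id_apply, LinearMap.zero_apply] at this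
  exact this⟩

omit [IsNoetherianRing A] in
theorem smul_id_quotient {K : Ideal A} {c : A} (hc : c ∈ K) : c • 𝟙 (W₀ K) = 0 :=
  CompRlim.smul_hom_eq_zero (A := A) (W := A ⧸ K) (fun w => by
    obtain ⟨v, rfl⟩ := Submodule.Quotient.mk_surjective _ w
    rw [← Submodule.Quotient.mk_smul, Submodule.Quotient.mk_eq_zero]
    exact K.mul_mem_right v hc) _

variable (J : Ideal A) [DRing.HasRgammaI J] (M : Type u) [AddCommGroup M] [Module A M]

/-- `RΓ_J(M)` -/
noncomputable abbrev N : Dual.D A := (DRing.RgammaI J).obj (Dual.inD A M)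

/-- its completion -/
noncomputable abbrev Y : Dual.D A := ((DRing.derivedCompletion I).obj (N J M)).obj

/-- `Hom(W, Y[i])` as `Hom(RΓ_I W, N[i])` -/
noncomputable def eqv (W : Ideal A) (i : ℤ) :
    (W₀ W ⟶ (Y I J M)⟦i⟧) ≃ₗ[A] ((DRing.RgammaI I).obj (W₀ W) ⟶ (N J M)⟦i⟧) :=
  (LinearEquiv.ofBijective (CategoryTheory.Linear.leftComp A _ ((DRing.RgammaIε I).app (W₀ W)))
    (bij_ε I (W₀ W) _ (Completion.complete_shift I ((DRing.derivedCompletion I).obj (N J M)).property i))).trans
  (LinearEquiv.ofBijective (CategoryTheory.Linear.rightComp A _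
      ((shiftFunctor (Dual.D A) i).map (DRing.toDerivedCompletion I (N J M))))
    (bij_η I (RGamma.HD_RgammaI_torsion I _) (N J M) i)).symm

/-- no difference in front of `J`-torsion -/
theorem bij_of_torsion (hM : DRing.IsDerivedComplete I (Dual.inD A M)) {K : Ideal A} (hK : J ≤ K) (i : ℤ) :
    Function.Bijective fun f : W₀ K ⟶ (N J M)⟦i⟧ =>
      f ≫ (shiftFunctor (Dual.D A) i).map (DRing.toDerivedCompletion I (N J M)) := by
  have hW : ∀ j, _root_.LocCoh.IsPowerTorsion J (Dual.HD A (W₀ K) j) :=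
    RGHom.HD_inD_torsion J 1 fun c hc w => by
      rw [pow_one] at hc
      obtain ⟨v, rfl⟩ := Submodule.Quotient.mk_surjective _ w
      rw [← Submodule.Quotient.mk_smul, Submodule.Quotient.mk_eq_zero]
      exact K.mul_mem_right v (hK hc)
  have hS := torsion_of_killed I J fun c hc => smul_id_quotient (hK hc)
  let a := (DRing.RgammaIε I).app (W₀ K)
  -- precomposition with `a` is bijective on `N`
  have h1 : Function.Bijective fun f : W₀ K ⟶ (N J M)⟦i⟧ => a ≫ f := by
    refine (Function.Bijective.of_comp_iff' (bijective_comp_ε_shift J hS (Dual.inD A M) i) _).1 ?_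
    have h := (bij_ε I (W₀ K) _ (Completion.complete_shift I hM i)).comp
      (bijective_comp_ε_shift J hW (Dual.inD A M) i)
    convert h using 1
    funext f
    exact Category.assoc _ _ _
  refine (Function.Bijective.of_comp_iff'
    (bij_ε I (W₀ K) _ (Completion.complete_shift I ((DRing.derivedCompletion I).obj (N J M)).property i)) _).1 ?_
  have h := (bij_η I (RGamma.HD_RgammaI_torsion I (W₀ K)) (N J M) i).comp h1
  convert h using 1
  funext f
  exact (Category.assoc _ _ _).symm

omit [DRing.HasDerivedCompletion I] [DRing.HasRgammaI I] in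
/-- maps into `RΓ_J` -/
theorem killed_of_not_le {p : Ideal A} [p.IsPrime] (hp : ¬ J ≤ p) (j : ℤ)
    (x : W₀ p ⟶ (N J M)⟦j⟧) : Killed p x := by
  obtain ⟨c, hcJ, hcp⟩ := SetLike.not_le_iff_exists.1 hp
  obtain ⟨k, x', rfl⟩ := RGHom.exists_factor_RgammaI J M j x
  refine ⟨c ^ k, fun h => hcp (Ideal.IsPrime.mem_of_pow_mem ‹_› k h), ?_⟩
  have h0 : c ^ k • RGHom.inMap (RGHom.qJ J (A ⧸ p) k) = 0 := by
    rw [← Category.comp_id (RGHom.inMap (RGHom.qJ J (A ⧸ p) k)), ← Linear.comp_smul,
      CompRlim.smul_hom_eq_zero (fun w => ?_) (𝟙 _), comp_zero]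
    obtain ⟨v, rfl⟩ := Submodule.Quotient.mk_surjective _ w
    rw [← Submodule.Quotient.mk_smul, Submodule.Quotient.mk_eq_zero]
    exact Submodule.smul_mem_smul (Ideal.pow_mem_pow hcJ k) Submodule.mem_top
  rw [← Linear.smul_comp, h0, zero_comp]

end Groth.Agent.LocCoh.CompCore
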