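import Groth.Agent.LocCoh.CompLocal
import Groth.Agent.LocCoh.CompAnn
import Groth.Agent.ExtAR.Exact
import Groth.Agent.DRing.DerivedCompletion

/-!
# Maps `A/p → RΓ_J(M)^∧[i]` below the depth of `M_p`
-/

universe u

open CategoryTheory CategoryTheory.Limits CategoryTheory.Pretriangulated DerivedCategory

attribute [local instance] HasDerivedCategory.standard

namespace Groth.Agent.LocCoh.CompDepth

open Groth.Agent.DRing DBasic Groth.Agent.DRing.Homology Groth.Agent.DRing.PC
open CompCore HomologicalComplex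

variable {A : Type u} [CommRing A] [IsNoetherianRing A] (J : Ideal A) [DRing.HasRgammaI J]

omit [IsNoetherianRing A] in
/-- `M →a M → M/aM` after `RΓ_J` -/
theorem exists_triangle {M : Type u} [AddCommGroup M] [Module A M] {a : A} (ha : IsSMulRegular M a) :
    ∃ (g : N J M ⟶ N J (QuotSMulTop a M)) (h : N J (QuotSMulTop a M) ⟶ (N J M)⟦(1 : ℤ)⟧),
      Triangle.mk (a • 𝟙 (N J M)) g h ∈ distTriang (Dual.D A) := by
  have : CochainComplex.IsStrictlyGE (sgl 0 (ModuleCat.of A M)) 0 :=
    (CochainComplex.isStrictlyGE_iff _ _).2 fun i hi =>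
      isZero_single_obj_X (ComplexShape.up ℤ) 0 _ i (by omega)
  obtain ⟨L, α, hL, hinj, -, hα⟩ := DHA.Horseshoe.exists_injRes (sgl 0 (ModuleCat.of A M)) 0
  have := CochainComplex.isKInjective_of_injective L 0
  let φ : L ⟶ L := a • 𝟙 L
  let C := CochainComplex.mappingCone φ
  have : C.IsKInjective := Completion.isKInjective_mappingCone φ
  have := RGamma.isIso_unitQ J L
  have := RGamma.isIso_unitQ J C
  let e : DRing.toD L ≅ Dual.inD A M := (asIso (Q.map α)).symm
  have hT₂ := DerivedCategory.mappingCone_triangle_distinguished φ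
  have hf : Function.Injective (a • LinearMap.id : M →ₗ[A] M) := ha
  have hS := Groth.Agent.DualCx.Devissage.sc_shortExact hf
    (Submodule.mkQ_surjective (open Pointwise in a • ⊤ : Submodule A M)) (LinearMap.exact_iff.2 (by
      open Pointwise in rw [Submodule.ker_mkQ, Submodule.pointwise_smul_def, Submodule.map_top]
      rfl))
  let τ := isoTriangleOfIso₁₂ _ _ hT₂ hS.singleTriangle_distinguished e e (by
    change Q.map φ ≫ e.hom = e.hom ≫ (singleFunctor (ModuleCat.{u} A) 0).map (ModuleCat.ofHom _)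
    rw [show ModuleCat.ofHom (a • LinearMap.id : M →ₗ[A] M) = a • 𝟙 (ModuleCat.of A M) from rfl,
      Functor.map_smul, Functor.map_smul, CategoryTheory.Functor.map_id, CategoryTheory.Functor.map_id, Linear.comp_smul, Linear.smul_comp]
    exact congrArg (a • ·) ((Category.id_comp _).trans (Category.comp_id _).symm))
  have hφ : (RGamma.GC J).map φ = a • 𝟙 ((RGamma.GC J).obj L) := by
    ext i x
    rfl
  let φ' : (RGamma.GC J).obj L ⟶ (RGamma.GC J).obj L := (RGamma.GC J).map φ
  have hT₁ := DerivedCategory.mappingCone_triangle_distinguished φ'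
  let eN : DRing.toD ((RGamma.GC J).obj L) ≅ N J M := asIso (RGamma.unitQ J L) ≪≫ (DRing.RgammaI J).mapIso e
  let e₃ : DRing.toD (CochainComplex.mappingCone φ') ≅ N J (QuotSMulTop a M) :=
    (Q.mapIso (CochainComplex.mappingCone.mapHomologicalComplexIso φ (DRing.gammaI J))).symm ≪≫
      asIso (RGamma.unitQ J C) ≪≫ (DRing.RgammaI J).mapIso (Triangle.π₃.mapIso τ)
  let T₁ := Q.mapTriangle.obj (CochainComplex.mappingCone.triangle φ')
  refine ⟨eN.inv ≫ T₁.mor₂ ≫ e₃.hom, e₃.inv ≫ T₁.mor₃ ≫ eN.hom⟦(1 : ℤ)⟧', isomorphic_distinguished _ hT₁ _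
    (Triangle.isoMk _ T₁ eN.symm eN.symm e₃.symm ?_ ?_ ?_)⟩
  · change (a • 𝟙 (N J M)) ≫ eN.inv = eN.inv ≫ Q.map φ'
    rw [show φ' = _ from hφ, Functor.map_smul, CategoryTheory.Functor.map_id, Linear.comp_smul, Linear.smul_comp]
    exact congrArg (a • ·) ((Category.id_comp _).trans (Category.comp_id _).symm)
  · change (eN.inv ≫ T₁.mor₂ ≫ e₃.hom) ≫ e₃.inv = eN.inv ≫ T₁.mor₂
    exact (Category.assoc _ _ _).trans
      (congrArg _ ((Category.assoc _ _ _).trans ((congrArg _ e₃.hom_inv_id).trans (Category.comp_id _))))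
  · change (e₃.inv ≫ T₁.mor₃ ≫ eN.hom⟦(1 : ℤ)⟧') ≫ eN.inv⟦(1 : ℤ)⟧' = e₃.inv ≫ T₁.mor₃
    exact (Category.assoc _ _ _).trans (congrArg _ ((Category.assoc _ _ _).trans
      ((congrArg _ ((shiftFunctor (Dual.D A) (1 : ℤ)).mapIso eN).hom_inv_id).trans (Category.comp_id _))))


open Groth.Agent.DualCx.Dimfun (Z deg)
open Groth.Agent.DualCx.Devissage (E pre)

variable {ω : Dual.D A}

/-- `depth M_p ≥ n`, through `Ext(M, ω)` -/
def D (hω : Dual.IsDualizing A ω) (p : PrimeSpectrum A) (n : ℕ) (M : Type u) [AddCommGroup M] [Module A M] : Prop :=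
  ∀ j, deg hω p - n < j → Z p (E M ω j)

theorem D_of_le_depth (hω : Dual.IsDualizing A ω) (p : PrimeSpectrum A) (M : Type u) [AddCommGroup M]
    [Module A M] [Module.Finite A M] (n : ℕ) (h : (n : ℕ∞) ≤ _root_.LocCoh.depth
      (Localization.AtPrime p.asIdeal) (LocalizedModule p.asIdeal.primeCompl M)) : D hω p n M := fun j hj => by
  rcases subsingleton_or_nontrivial (LocalizedModule p.asIdeal.primeCompl M) with hM | hM
  · rw [DualCx.Normalized.Z_E_iff hω]
    exact DualCx.Devissage.subsingleton_of_subsingleton _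
  · obtain ⟨k, hk, h1, -⟩ := DualCx.Normalized.depth_spec hω p M
    have hnk : (n : ℕ∞) ≤ (k : ℕ∞) := h.trans hk.le
    rw [Nat.cast_le] at hnk
    exact h1 j (by omega)

omit [IsNoetherianRing A] in
/-- a finite module vanishing at `p` is killed outside `p` -/
theorem exists_kill (p : PrimeSpectrum A) {K : Type u} [AddCommGroup K] [Module A K] [Module.Finite A K]
    (h : Z p K) : ∃ g ∉ p.asIdeal, ∀ x : K, g • x = 0 := by
  have hs : p ∉ Module.support A K := Module.notMem_support_iff.2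
    ((DualCx.Dimfun.Z_iff_localized p K).1 h)
  rw [Module.mem_support_iff_of_finite] at hs
  obtain ⟨g, hg, hgp⟩ := SetLike.not_le_iff_exists.1 hs
  exact ⟨g, hgp, fun x => Module.mem_annihilator.1 hg x⟩

variable (I : Ideal A) [DRing.HasRgammaI I] [DRing.HasDerivedCompletion I] [IsAdicComplete I A]

/-- maps `RΓ_I(A/p) → RΓ_J(M)[i]` below the depth -/
theorem killed_depth_N (hω : Dual.IsDualizing A ω) (p : PrimeSpectrum A) : ∀ (n : ℕ) (M : Type u)
    [AddCommGroup M] [Module A M] [Module.Finite A M], D hω p n M → ∀ i : ℤ,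
    (i < n ∨ i = n ∧ ∃ q : PrimeSpectrum A, p ≤ q ∧ I ≤ q.asIdeal ∧ ¬ J ≤ q.asIdeal) →
    ∀ f : (DRing.RgammaI I).obj (W₀ p.asIdeal) ⟶ (N J M)⟦i⟧, Killed p.asIdeal f := by
  intro n
  induction n with
  | zero =>
    intro M _ _ _ _ i hi f
    have := Adic.isAdicComplete_of_finite (I := I) (M := M)
    obtain ⟨φ, rfl⟩ := (eqv I J M p.asIdeal i).surjective f
    refine Killed.map ?_ (eqv I J M p.asIdeal i).toLinearMap
    rcases hi with hi | ⟨rfl, q, hq, hqI, hqJ⟩
    · exact CompLocal.killed_neg I J M p i (by exact_mod_cast hi) φ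
    · exact CompLocal.killed_zero I J M p q hq hqI hqJ φ
  | succ n ih =>
    intro M _ _ _ hD i hi f
    let K := LinearMap.ker (LocalizedModule.mkLinearMap p.asIdeal.primeCompl M)
    obtain ⟨g₀, hg₀, hK⟩ := exists_kill p (K := K) fun x => by
      obtain ⟨⟨c, hc⟩, hcx⟩ :=
        (IsLocalizedModule.eq_zero_iff p.asIdeal.primeCompl (LocalizedModule.mkLinearMap _ M)).1 x.2
      exact ⟨c, hc, Subtype.ext hcx⟩
    have hreg : ∀ c ∉ p.asIdeal, IsSMulRegular (M ⧸ K) c := fun c hc =>
      .of_right_eq_zero_of_smul fun x hx => by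
        obtain ⟨x, rfl⟩ := Submodule.Quotient.mk_surjective _ x
        rw [← Submodule.Quotient.mk_smul, Submodule.Quotient.mk_eq_zero, LinearMap.mem_ker, map_smul] at hx
        rw [Submodule.Quotient.mk_eq_zero, LinearMap.mem_ker]
        obtain ⟨u, hu⟩ := IsLocalization.map_units (Localization.AtPrime p.asIdeal)
          (⟨c, hc⟩ : p.asIdeal.primeCompl)
        rw [← algebraMap_smul (Localization.AtPrime p.asIdeal), ← hu] at hx
        exact (IsUnit.smul_eq_zero u.isUnit).1 hx
    have hD' : D hω p (n + 1) (M ⧸ K) := fun j hj => by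
      refine DualCx.Dimfun.Z_mid (DualCx.Hom.exact_cδ_pre A ω (DualCx.Devissage.sc_shortExact
        K.injective_subtype (Submodule.mkQ_surjective K) (LinearMap.exact_subtype_mkQ K)).singleTriangle_distinguished
        (j - 1) j (by omega)) (show Z p (E K ω (j - 1)) from fun e => ⟨g₀, hg₀, ?_⟩) (hD j hj)
      have h0 : g₀ • (LinearMap.id : K →ₗ[A] K) = (0 : A) • LinearMap.id := LinearMap.ext fun x => by simp [hK x]
      calc g₀ • e = g₀ • pre LinearMap.id ω (j - 1) e := by rw [DualCx.Devissage.pre_id]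
        _ = pre (g₀ • LinearMap.id) ω (j - 1) e := (DualCx.Devissage.pre_smul _ _ _ _).symm
        _ = (0 : A) • pre LinearMap.id ω (j - 1) e := by rw [h0]; exact DualCx.Devissage.pre_smul _ _ _ _
        _ = 0 := zero_smul A _
    -- a regular element in `p`
    obtain ⟨a, hap, ha⟩ : ∃ a ∈ p.asIdeal, IsSMulRegular (M ⧸ K) a := by
      by_contra hcon
      push Not at hcon
      have hsub : (p.asIdeal : Set A) ⊆ ⋃ P ∈ associatedPrimes A (M ⧸ K), (P : Set A) :=
        (biUnion_associatedPrimes_eq_compl_regular A (M ⧸ K)).symm ▸ fun c hc => hcon c hc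
      obtain ⟨P, hP, hpP⟩ := (Ideal.subset_union_prime (s := (associatedPrimes.finite A (M ⧸ K)).toFinset)
        (f := fun P : Ideal A => P) ⊥ ⊥ fun P hP _ _ => ((Set.Finite.mem_toFinset _).1 hP).isPrime).1
          (by simpa using hsub)
      rw [Set.Finite.mem_toFinset] at hP
      obtain rfl : p.asIdeal = P := le_antisymm hpP fun c hc => by_contra fun hcp => by
        have := biUnion_associatedPrimes_eq_compl_regular A (M ⧸ K)
        exact (this.subset (Set.mem_biUnion hP hc)) (hreg c hcp)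
      obtain ⟨-, x, hx⟩ := (isAssociatedPrime_iff_exists_injective_linearMap _ _).1 hP
      refine DualCx.Dimfun.not_Z_deg hω p (DualCx.Dimfun.Z_mid (DualCx.Hom.exact_pre_cδ A ω
        (DualCx.Devissage.sc_shortExact hx (Submodule.mkQ_surjective _)
          (LinearMap.exact_map_mkQ_range x)).singleTriangle_distinguished
        (deg hω p) (deg hω p + 1) rfl) (hD' _ (by omega))
        (DualCx.Normalized.Z_E_of_deg hω p _ _ (by omega)))
    have hDQ : D hω p n (QuotSMulTop a (M ⧸ K)) := fun j hj => by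
      open Pointwise in
      exact DualCx.Dimfun.Z_mid (DualCx.Hom.exact_cδ_pre A ω (DualCx.Devissage.sc_shortExact
        (f := a • (LinearMap.id : (M ⧸ K) →ₗ[A] M ⧸ K)) ha
        (Submodule.mkQ_surjective (a • ⊤ : Submodule A (M ⧸ K))) (LinearMap.exact_iff.2 (by
          rw [Submodule.ker_mkQ, Submodule.pointwise_smul_def, Submodule.map_top]
          rfl))).singleTriangle_distinguished (j - 1) j (by omega))
        (hD' (j - 1) (by omega)) (hD' j (by omega))
    -- the maps into `N(M/K)`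
    have hQ : ∀ f' : (DRing.RgammaI I).obj (W₀ p.asIdeal) ⟶ (N J (M ⧸ K))⟦i⟧, Killed p.asIdeal f' := by
      intro f'
      obtain ⟨g, h, hT⟩ := exists_triangle J ha
      have h0 : f' ≫ (shiftFunctor (Dual.D A) i).map (a • 𝟙 (N J (M ⧸ K))) = 0 := by
        rw [Functor.map_smul, Linear.comp_smul]
        refine (congrArg (a • ·) ((congrArg (f' ≫ ·) ((shiftFunctor (Dual.D A) i).map_id _)).trans
          (Category.comp_id f'))).trans ?_
        rw [← Category.id_comp f', ← Linear.smul_comp, smul_id_eq_zero I (smul_id_quotient hap), zero_comp]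
      obtain ⟨ψ, hψ⟩ := ExtAR.exact₂_shift _ (inv_rot_of_distTriang _ hT) i f' h0
      let c := (shiftFunctorAdd' (Dual.D A) (-1) i (i - 1) (by omega)).app (N J (QuotSMulTop a (M ⧸ K)))
      obtain ⟨r, hr, hr'⟩ := ih (QuotSMulTop a (M ⧸ K)) hDQ (i - 1) (hi.imp (by omega) fun h' =>
        ⟨by have := h'.1; omega, h'.2⟩) (ψ ≫ c.inv)
      refine ⟨r, hr, ?_⟩
      rw [hψ]
      exact ((Linear.smul_comp _ _ _ _ _ _).symm).trans ((congrArg (· ≫ _)
        ((cancel_mono c.inv).1 ((Linear.smul_comp _ _ _ _ _ _).trans (hr'.trans zero_comp.symm)))).trans zero_comp)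
    -- back to `M`
    let π := ModuleCat.ofHom K.mkQ
    let σ : ModuleCat.of A (M ⧸ K) ⟶ ModuleCat.of A M := ModuleCat.ofHom (K.liftQ (g₀ • LinearMap.id) fun x hx =>
      (LinearMap.mem_ker).2 (congrArg Subtype.val (hK ⟨x, hx⟩)))
    let iD := singleFunctor (ModuleCat.{u} A) 0
    have hfac : g₀ • 𝟙 (N J M) = (DRing.RgammaI J).map (iD.map π) ≫ (DRing.RgammaI J).map (iD.map σ) := by
      refine (RGHom.bijective_comp_ε J (RGamma.HD_RgammaI_torsion J _) _).1 ?_
      change (g₀ • 𝟙 _) ≫ _ = (_ ≫ _) ≫ _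
      rw [Linear.smul_comp, Category.id_comp, ← Functor.map_comp, ← Functor.map_comp, (DRing.RgammaIε J).naturality,
        Functor.id_map, show π ≫ σ = g₀ • 𝟙 (ModuleCat.of A M) from rfl, Functor.map_smul,
        CategoryTheory.Functor.map_id, Linear.comp_smul]
      exact (congrArg (g₀ • ·) (Category.comp_id _)).symm
    obtain ⟨r, hr, hr'⟩ := hQ (f ≫ (shiftFunctor (Dual.D A) i).map ((DRing.RgammaI J).map (iD.map π)))
    refine Killed.of_smul hg₀ ⟨r, hr, ?_⟩
    have h := congrArg (fun t => f ≫ (shiftFunctor (Dual.D A) i).map t) hfac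
    simp only [Functor.map_smul, Linear.comp_smul, Functor.map_comp] at h
    rw [show g₀ • f = _ from (congrArg (g₀ • ·) ((congrArg (f ≫ ·)
      ((shiftFunctor (Dual.D A) i).map_id (N J M))).trans (Category.comp_id f)).symm).trans h,
      ← Category.assoc, ← Linear.smul_comp]
    exact (congrArg (· ≫ _) hr').trans zero_comp

/-- maps `A/p → RΓ_J(M)^∧[i]` below the depth -/
theorem killed_depth (hω : Dual.IsDualizing A ω) (p : PrimeSpectrum A) (M : Type u) [AddCommGroup M]
    [Module A M] [Module.Finite A M] (n : ℕ) (h : (n : ℕ∞) ≤ _root_.LocCoh.depth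
      (Localization.AtPrime p.asIdeal) (LocalizedModule p.asIdeal.primeCompl M)) (i : ℤ)
    (hi : i < n ∨ i = n ∧ ∃ q : PrimeSpectrum A, p ≤ q ∧ I ≤ q.asIdeal ∧ ¬ J ≤ q.asIdeal)
    (φ : W₀ p.asIdeal ⟶ (Y I J M)⟦i⟧) : Killed p.asIdeal φ :=
  Killed.of_map (eqv I J M p.asIdeal i).injective (f := (eqv I J M p.asIdeal i).toLinearMap)
    (killed_depth_N J I hω p n M (D_of_le_depth hω p M n h) i hi _)

end Groth.Agent.LocCoh.CompDepth
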