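import Groth.Agent.LocCoh.CompCore
import Groth.Agent.DHA.KInj.Products
import Groth.Agent.DRing.DerivedComplete
import Groth.Agent.Adic.Basic

/-!
# The completion of `RΓ_J(M)` near a prime

* `killed_high`: maps `A/p → Y[i]` killed outside `p` for `i ≤ s` when `H^b_{(J+I)+p}(M)` is killed for `b ≤ s + d`;
* `killed_neg`, `killed_zero`: the same for `i < 0`, and `i = 0` when `V(p)` meets `V(I) ∖ V(J)`.
-/

universe u

open CategoryTheory CategoryTheory.Limits CategoryTheory.Pretriangulated DerivedCategory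

attribute [local instance] HasDerivedCategory.standard

namespace Groth.Agent.LocCoh.CompLocal

open Groth.Agent.DRing DBasic
open CompCore

variable {A : Type u} [CommRing A] [IsNoetherianRing A] (I J : Ideal A) [DRing.HasRgammaI I]
  [DRing.HasDerivedCompletion I] [DRing.HasRgammaI J] (M : Type u) [AddCommGroup M] [Module A M]

/-- the range where the local cohomology is killed -/
theorem killed_high {d : ℕ} (hd : _root_.LocCoh.CdLE A I d) (p : PrimeSpectrum A) (s : ℕ) {g : A}
    (hg : g ∉ p.asIdeal)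
    (hk : ∀ b : ℕ, b ≤ d + s → ∀ x : _root_.LocCoh.H (J ⊔ I ⊔ p.asIdeal) b M, g • x = 0)
    (i : ℤ) (hi : i ≤ s) (φ : W₀ p.asIdeal ⟶ (Y I J M)⟦i⟧) : Killed p.asIdeal φ := by
  refine Killed.of_map (eqv I J M p.asIdeal i).injective (f := (eqv I J M p.asIdeal i).toLinearMap) ?_
  generalize (eqv I J M p.asIdeal i).toLinearMap φ = f
  have := CompVanish.hasRgammaI p.asIdeal
  have := CompVanish.hasRgammaI (J ⊔ I)
  have := CompVanish.hasRgammaI (J ⊔ I ⊔ p.asIdeal)
  let K := J ⊔ I ⊔ p.asIdeal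
  let X₁ := (DRing.RgammaI I).obj (N J M)
  let X₂ := (DRing.RgammaI p.asIdeal).obj X₁
  obtain ⟨e₁⟩ := RGamma.nonempty_gamma_comp J I (Dual.inD A M)
  obtain ⟨e₂⟩ := RGamma.nonempty_gamma_comp (J ⊔ I) p.asIdeal (Dual.inD A M)
  let e : X₂ ≅ (DRing.RgammaI K).obj (Dual.inD A M) := (DRing.RgammaI p.asIdeal).mapIso e₁ ≪≫ e₂
  let eH := fun j : ℤ => ((HF j).mapIso e).toLinearEquiv
  obtain ⟨k, Y', a, b, hY', hfac⟩ := CompVanish.exists_pow_factor (f := g) X₂ 0 ((d + s : ℕ) : ℤ)
    (fun j hj =>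
      have := CompVanish.subsingleton_RgammaI_neg K j hj M
      (eH j).toEquiv.subsingleton)
    (fun j hj x => by
      rcases lt_or_ge j 0 with hn | hn
      · have := CompVanish.subsingleton_RgammaI_neg K j hn M
        exact (eH j).injective (Subsingleton.elim _ _)
      · lift j to ℕ using hn
        obtain ⟨e'⟩ := CompVanish.RgammaI_H K j M
        exact ((eH j).trans e').injective (by rw [map_smul, hk j (by omega), map_zero]))
  let S := (DRing.RgammaI I).obj (W₀ p.asIdeal)
  have hSp := torsion_of_killed I (W := W₀ p.asIdeal) p.asIdeal fun c hc => smul_id_quotient hc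
  obtain ⟨f₁, rfl⟩ := (bijective_comp_ε_shift I (RGamma.HD_RgammaI_torsion I (W₀ p.asIdeal)) (N J M) i).2 f
  obtain ⟨f₂, rfl⟩ := (bijective_comp_ε_shift p.asIdeal hSp X₁ i).2 f₁
  refine ⟨g ^ k, fun h => hg (p.2.mem_of_pow_mem k h), ?_⟩
  have : S.IsLE (d : ℤ) := (DBasic.isLE_iff_subsingleton S _).mpr fun j hj => by
    lift j to ℕ using (by omega)
    obtain ⟨e'⟩ := CompVanish.RgammaI_H I j (A ⧸ p.asIdeal)
    have := hd (A ⧸ p.asIdeal) j (by omega)
    exact e'.toEquiv.subsingleton
  have : Y'.IsGE ((d + s : ℕ) + 1 : ℤ) := (DerivedCategory.isGE_iff Y' _).mpr fun m hm =>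
    (DBasic.subsingleton_HD_iff_isZero Y' m).mp (hY' m (by omega))
  have : (Y'⟦i⟧).IsGE ((d : ℤ) + 1) := by
    have := DerivedCategory.TStructure.t.isGE_of_ge Y' ((d : ℤ) + 1 + i) ((d + s : ℕ) + 1) (by push_cast; omega)
    exact DerivedCategory.TStructure.t.isGE_shift Y' ((d : ℤ) + 1 + i) i ((d : ℤ) + 1) (by omega)
  have h0 : g ^ k • f₂ = 0 := by
    have h := congrArg (fun t => f₂ ≫ (shiftFunctor (Dual.D A) i).map t) hfac
    simp only [Functor.map_smul, Linear.comp_smul, Functor.map_comp] at h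
    refine Eq.trans (congrArg (g ^ k • ·) ((congrArg (f₂ ≫ ·)
      ((shiftFunctor (Dual.D A) i).map_id X₂)).trans (Category.comp_id f₂)).symm) (h.trans ?_)
    rw [← Category.assoc, DerivedCategory.TStructure.t.zero (f₂ ≫ (shiftFunctor (Dual.D A) i).map a)
      (d : ℤ) ((d : ℤ) + 1) (by omega), zero_comp]
  change g ^ k • ((f₂ ≫ _) ≫ _) = 0
  rw [← Linear.smul_comp, ← Linear.smul_comp, h0, zero_comp, zero_comp]

omit [IsNoetherianRing A] [DRing.HasRgammaI I] [DRing.HasDerivedCompletion I] [DRing.HasRgammaI J] in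
theorem hasProduct (K : ℕ → Dual.D A) : HasProduct K := by
  choose E hE e using fun n => Completion.exists_kinj (K n)
  have := DHA.KInj.hasProduct_of_isKInjective E
  exact hasLimit_of_iso (Discrete.natIso (fun n => (e n.as).some) :
    Discrete.functor (fun n => Q.obj (E n)) ≅ Discrete.functor K)

omit [DRing.HasRgammaI I] in
/-- negative degrees -/
theorem killed_neg [Module.Finite A M] (p : PrimeSpectrum A) (i : ℤ) (hi : i < 0)
    (φ : W₀ p.asIdeal ⟶ (Y I J M)⟦i⟧) : Killed p.asIdeal φ := by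
  have := hasProduct (A := A)
  have : (Y I J M).IsGE 0 := (DerivedCategory.isGE_iff _ _).mpr fun m hm =>
    (DBasic.subsingleton_HD_iff_isZero _ m).mp ((CompRlim.main I J M).2 m hm)
  have : ((Y I J M)⟦i⟧).IsGE (-i) := DerivedCategory.TStructure.t.isGE_shift _ 0 i (-i) (by omega)
  exact ⟨1, fun h => p.2.ne_top ((Ideal.eq_top_iff_one _).2 h),
    by rw [one_smul]; exact DerivedCategory.TStructure.t.zero φ 0 (-i) (by omega)⟩

omit [DRing.HasRgammaI I] [DRing.HasDerivedCompletion I] in
/-- a map into a module killed after mapping to it -/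
theorem eq_zero_of_comp_ε {W : Ideal A} {V : Type u} [AddCommGroup V] [Module A V]
    (x : W₀ W ⟶ (DRing.RgammaI J).obj (Dual.inD A V))
    (hx : x ≫ (DRing.RgammaIε J).app (Dual.inD A V) = 0) : x = 0 := by
  obtain ⟨k, x', hx'⟩ := RGHom.exists_factor_RgammaI J V 0
    (x ≫ (shiftFunctorZero (Dual.D A) ℤ).inv.app _)
  let y := x' ≫ (shiftFunctorZero (Dual.D A) ℤ).hom.app _
  have hxy : RGHom.inMap (RGHom.qJ J (A ⧸ W) k) ≫ y = x := by
    simp only [y]
    rw [← Category.assoc]
    exact (congrArg (fun t => t ≫ (shiftFunctorZero (Dual.D A) ℤ).hom.app _) hx').trans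
      ((Category.assoc _ _ _).trans (by simp))
  have hy : y = 0 := by
    refine (RGHom.bijective_comp_ε J (RGHom.HD_inD_torsion J k fun c hc w => ?_) _).1 ?_
    · obtain ⟨v, rfl⟩ := Submodule.Quotient.mk_surjective _ w
      rw [← Submodule.Quotient.mk_smul, Submodule.Quotient.mk_eq_zero]
      exact Submodule.smul_mem_smul hc Submodule.mem_top
    · obtain ⟨ψ, hψ⟩ := (DerivedCategory.singleFunctor (ModuleCat.{u} A) 0).map_surjective
        (y ≫ (DRing.RgammaIε J).app (Dual.inD A V))
      change y ≫ _ = 0 ≫ _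
      rw [zero_comp, ← hψ]
      have h0 : RGHom.qJ J (A ⧸ W) k ≫ ψ = 0 := by
        apply (DerivedCategory.singleFunctor (ModuleCat.{u} A) 0).map_injective
        rw [Functor.map_comp, Functor.map_zero, hψ, ← Category.assoc]
        exact (congrArg (· ≫ _) hxy).trans hx
      rw [show ψ = 0 from ModuleCat.hom_ext (LinearMap.ext fun w => by
        obtain ⟨v, rfl⟩ := Submodule.Quotient.mk_surjective _ w
        exact ConcreteCategory.congr_hom h0 v), Functor.map_zero]
  rw [← hxy, hy, comp_zero]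

omit [DRing.HasRgammaI I] in
/-- degree zero, by Krull's intersection theorem -/
theorem killed_zero [Module.Finite A M] [IsAdicComplete I M] (p : PrimeSpectrum A) (q : PrimeSpectrum A)
    (hpq : p ≤ q) (hI : I ≤ q.asIdeal) (hJ : ¬ J ≤ q.asIdeal)
    (φ : W₀ p.asIdeal ⟶ (Y I J M)⟦(0 : ℤ)⟧) : Killed p.asIdeal φ := by
  have := hasProduct (A := A)
  obtain ⟨⟨a, c, hT⟩, -⟩ := CompRlim.main I J M
  let ψ := φ ≫ (shiftFunctorZero (Dual.D A) ℤ).hom.app _
  suffices h : Killed p.asIdeal ψ by
    obtain ⟨g, hg, hg'⟩ := h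
    refine ⟨g, hg, ?_⟩
    rw [← cancel_mono ((shiftFunctorZero (Dual.D A) ℤ).hom.app (Y I J M)), zero_comp, Linear.smul_comp]
    exact hg'
  let x : ∀ n, W₀ p.asIdeal ⟶ CompRlim.X I J M n := fun n => ψ ≫ a ≫ Pi.π _ n
  have hx : ∀ n, x (n + 1) ≫ CompRlim.T I J M n (n + 1) (Nat.le_succ n) = x n := fun n => by
    have h0 : a ≫ (Pi.lift fun n => Pi.π (CompRlim.X I J M) n -
        Pi.π (CompRlim.X I J M) (n + 1) ≫ CompRlim.T I J M n (n + 1) (Nat.le_succ n)) = 0 :=
      comp_distTriang_mor_zero₁₂ _ hT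
    have h1 := congrArg (fun t => ψ ≫ t ≫ Pi.π _ n) h0
    simp only [Category.assoc, Pi.lift_π, Preadditive.comp_sub, zero_comp, comp_zero] at h1
    simp only [x, Category.assoc]
    exact (sub_eq_zero.1 h1).symm
  choose ξ hξ using fun n => (DerivedCategory.singleFunctor (ModuleCat.{u} A) 0).map_surjective
    (x n ≫ (DRing.RgammaIε J).app (Dual.inD A (M ⧸ (I ^ n • ⊤ : Submodule A M))))
  let mn : ∀ n, M ⧸ (I ^ n • ⊤ : Submodule A M) := fun n => (ξ n).hom (Submodule.Quotient.mk 1)
  have hstep : ∀ n, (CompRlim.T₀ I M (Nat.le_succ n)).hom (mn (n + 1)) = mn n := fun n => by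
    have h : ξ (n + 1) ≫ CompRlim.T₀ I M (Nat.le_succ n) = ξ n := by
      apply (DerivedCategory.singleFunctor (ModuleCat.{u} A) 0).map_injective
      rw [Functor.map_comp, hξ, hξ, ← hx n]
      refine (Category.assoc _ _ _).trans (Eq.trans ?_ (Category.assoc _ _ _).symm)
      exact congrArg (x (n + 1) ≫ ·) ((DRing.RgammaIε J).naturality _).symm
    exact ConcreteCategory.congr_hom h _
  choose f hf using fun n => Submodule.Quotient.mk_surjective _ (mn n)
  have hcomp : ∀ {n m : ℕ}, n ≤ m → f n ≡ f m [SMOD (I ^ n • ⊤ : Submodule A M)] := by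
    intro n m h
    induction h with
    | refl => exact SModEq.refl _
    | @step m h ih =>
      refine ih.trans ((SModEq.mono (Submodule.smul_mono (Ideal.pow_le_pow_right h) le_rfl)) ?_)
      rw [SModEq.def, hf m, ← hstep m, ← hf (m + 1)]
      rfl
  obtain ⟨m, hm⟩ := IsPrecomplete.prec' f hcomp
  have hmn : ∀ n, (Submodule.Quotient.mk m : M ⧸ (I ^ n • ⊤ : Submodule A M)) = mn n := fun n => by
    rw [← hf n]; exact (SModEq.def.1 (hm n)).symm
  obtain ⟨c₀, hc₀J, hc₀q⟩ := SetLike.not_le_iff_exists.1 hJ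
  let l := LocalizedModule.mkLinearMap q.asIdeal.primeCompl M
  have hl : l m = 0 := by
    have hmem : l m ∈ (⨅ n : ℕ, (I.map (algebraMap A (Localization.AtPrime q.asIdeal))) ^ n •
        (⊤ : Submodule (Localization.AtPrime q.asIdeal) (LocalizedModule q.asIdeal.primeCompl M))) := by
      rw [Submodule.mem_iInf]
      intro n
      obtain ⟨k, x', hk⟩ := RGHom.exists_factor_RgammaI J (M ⧸ (I ^ n • ⊤ : Submodule A M)) 0
        (x n ≫ (shiftFunctorZero (Dual.D A) ℤ).inv.app _)
      have hkill : c₀ ^ k • x n = 0 := by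
        rw [← cancel_mono ((shiftFunctorZero (Dual.D A) ℤ).inv.app (CompRlim.X I J M n)), zero_comp,
          Linear.smul_comp]
        refine (congrArg (fun t => c₀ ^ k • t) hk.symm).trans ?_
        have h0 : c₀ ^ k • RGHom.inMap (RGHom.qJ J (A ⧸ p.asIdeal) k) = 0 := by
          rw [← Category.comp_id (RGHom.inMap (RGHom.qJ J (A ⧸ p.asIdeal) k)), ← Linear.comp_smul,
            CompRlim.smul_hom_eq_zero (fun w => ?_) (𝟙 _), comp_zero]
          obtain ⟨v, rfl⟩ := Submodule.Quotient.mk_surjective _ w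
          rw [← Submodule.Quotient.mk_smul, Submodule.Quotient.mk_eq_zero]
          exact Submodule.smul_mem_smul (Ideal.pow_mem_pow hc₀J k) Submodule.mem_top
        exact (Linear.smul_comp _ _ _ _ _ _).symm.trans ((congrArg (· ≫ x') h0).trans zero_comp)
      have hξ0 : c₀ ^ k • ξ n = 0 := by
        apply (DerivedCategory.singleFunctor (ModuleCat.{u} A) 0).map_injective
        rw [Functor.map_smul, hξ, ← Linear.smul_comp, hkill, zero_comp, Functor.map_zero]
      have hmem0 : c₀ ^ k • m ∈ (I ^ n • ⊤ : Submodule A M) := by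
        rw [← Submodule.Quotient.mk_eq_zero, Submodule.Quotient.mk_smul, hmn]
        exact ConcreteCategory.congr_hom hξ0 _
      obtain ⟨u, hu⟩ := IsLocalization.map_units (Localization.AtPrime q.asIdeal)
        (⟨c₀ ^ k, fun h => hc₀q (q.2.mem_of_pow_mem k h)⟩ : q.asIdeal.primeCompl)
      have hsub : (I ^ n • ⊤ : Submodule A M) ≤
          (((I.map (algebraMap A (Localization.AtPrime q.asIdeal))) ^ n •
            (⊤ : Submodule (Localization.AtPrime q.asIdeal) (LocalizedModule q.asIdeal.primeCompl M))).restrictScalars A).comap l :=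
        Submodule.smul_le.2 fun r hr v _ => by
          rw [Submodule.mem_comap, Submodule.restrictScalars_mem, map_smul, ← algebraMap_smul (Localization.AtPrime q.asIdeal) r (l v)]
          exact Submodule.smul_mem_smul (by rw [← Ideal.map_pow]; exact Ideal.mem_map_of_mem _ hr) Submodule.mem_top
      have h3 := hsub hmem0
      rw [Submodule.mem_comap, Submodule.restrictScalars_mem, map_smul,
        ← algebraMap_smul (Localization.AtPrime q.asIdeal), ← hu] at h3
      exact (Submodule.smul_mem_iff' _ u).1 h3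
    have hne : I.map (algebraMap A (Localization.AtPrime q.asIdeal)) ≠ ⊤ := fun h =>
      IsLocalRing.maximalIdeal.isMaximal (Localization.AtPrime q.asIdeal) |>.ne_top (top_le_iff.1
        (h.symm.le.trans ((Ideal.map_mono hI).trans
          (IsLocalization.AtPrime.map_eq_maximalIdeal q.asIdeal (Localization.AtPrime q.asIdeal)).le)))
    have : Module.Finite (Localization.AtPrime q.asIdeal) (LocalizedModule q.asIdeal.primeCompl M) :=
      Module.Finite.of_isLocalizedModule q.asIdeal.primeCompl l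
    rw [Ideal.iInf_pow_smul_eq_bot_of_isLocalRing _ hne] at hmem
    exact (Submodule.mem_bot _).1 hmem
  obtain ⟨⟨v, hv⟩, hvm⟩ := (IsLocalizedModule.eq_zero_iff q.asIdeal.primeCompl l).1 hl
  refine ⟨v, fun h => hv (hpq h), Milnor.eq_zero_of_comp_π hT (fun _ => ⟨fun _ => 0, fun n => ?_⟩) _ fun n => ?_⟩
  · exact ((CompRlim.subsingleton_shifted (W := A ⧸ p.asIdeal) _ 1 (-1) (by norm_num)
      (subsingleton_of_forall_eq 0 (RGHom.eq_zero_of_neg J _ (-1) (by norm_num)))).elim _ _)
  · rw [Linear.smul_comp]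
    refine eq_zero_of_comp_ε J _ ?_
    rw [Linear.smul_comp, ← hξ, ← Functor.map_smul, show v • ξ n = 0 from ?_, Functor.map_zero]
    refine ModuleCat.hom_ext (Submodule.linearMap_qext _ (LinearMap.ext_ring ?_))
    change v • mn n = 0
    rw [← hmn, ← Submodule.Quotient.mk_smul, show v • m = 0 from hvm, Submodule.Quotient.mk_zero]

end Groth.Agent.LocCoh.CompLocal
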