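import Groth.Agent.LocCoh.GreenleesMay
import Groth.Agent.LocCoh.RGammaHom
import Groth.Agent.LocCoh.HDIGamma
import Groth.Agent.DRing.CompletionAmp
import Groth.Agent.DualCx.Devissage
import Groth.Agent.DualCx.LocCompare
import Groth.Agent.DualCx.Cx
import Groth.Agent.S1812

/-!
# Vanishing and annihilation of the cohomology of derived completions

* `exists_pow_factor`: a power of `f` factors through high degrees if `f` kills the low cohomology;
* `hasRgammaI`, `RgammaI_H`: `H^j(RΓ_J M) ≅ H^j_J(M)`;
* `subsingleton_HD_completion`: `H^i(Y^∧) = 0` for `Y` in degrees `> i + cd(A, I)`;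
* `exists_pow_kill_completion`: annihilation of the completion.
-/

universe u

open CategoryTheory CategoryTheory.Limits CategoryTheory.Pretriangulated DerivedCategory

attribute [local instance] HasDerivedCategory.standard

namespace Groth.Agent.LocCoh.CompVanish

open Groth.Agent.DRing DBasic
open Groth.Agent.DualCx

variable {A : Type u} [CommRing A]

/-- bounded with killed cohomology -/
theorem pow_smul_id_eq_zero {f : A} : ∀ (n : ℕ) (a : ℤ) (Y : Dual.D A),
    (∀ j, j < a → Subsingleton (Dual.HD A Y j)) → (∀ j, a + n ≤ j → Subsingleton (Dual.HD A Y j)) →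
    (∀ j, ∀ x : Dual.HD A Y j, f • x = 0) → f ^ n • 𝟙 Y = 0 := by
  intro n
  induction n with
  | zero =>
    intro a Y hl hr _
    have : Y.IsLE (a - 1) := (DBasic.isLE_iff_subsingleton Y _).mpr fun i hi => hr i (by push_cast; omega)
    have : Y.IsGE a := (DerivedCategory.isGE_iff Y a).mpr fun i hi =>
      (DBasic.subsingleton_HD_iff_isZero Y i).mp (hl i hi)
    rw [DerivedCategory.TStructure.t.zero (𝟙 Y) (a - 1) a (by omega), smul_zero]
  | succ n ih =>
    intro a Y hl hr hk
    obtain ⟨T, hT, rfl, h1, h3, e1, e3⟩ := Devissage.exists_split Y a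
    have hz : f • 𝟙 T.obj₁ = 0 := by
      obtain ⟨e⟩ := Devissage.nonempty_single T.obj₁ a fun m hm => by
        rcases lt_or_gt_of_ne hm with hm | hm
        · obtain ⟨e⟩ := e1 m hm.le
          have := hl m hm
          exact e.toEquiv.subsingleton
        · exact h1 m hm
      have hH : f • 𝟙 (ModuleCat.of A (Dual.HD A T.obj₁ a)) = 0 := by
        obtain ⟨e⟩ := e1 a le_rfl
        refine ModuleCat.hom_ext (LinearMap.ext fun x => e.injective ?_)
        change e (f • x) = e 0
        rw [map_smul, hk a (e x), map_zero]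
      have hS : f • 𝟙 ((Dual.inD A (Dual.HD A T.obj₁ a))⟦-a⟧) = 0 := by
        have := congrArg (DerivedCategory.singleFunctor (ModuleCat.{u} A) 0).map hH
        rw [Functor.map_smul, Functor.map_zero, CategoryTheory.Functor.map_id] at this
        have h2 := congrArg (shiftFunctor (Dual.D A) (-a)).map this
        rwa [Functor.map_smul, Functor.map_zero, CategoryTheory.Functor.map_id] at h2
      rw [← e.hom_inv_id, ← Category.comp_id e.hom, Category.assoc, ← Linear.comp_smul, ← Linear.smul_comp,
        hS, zero_comp, comp_zero]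
    have h3' : f ^ n • 𝟙 T.obj₃ = 0 := ih (a + 1) T.obj₃ (fun j hj => h3 j (by omega))
      (fun j hj => by
        obtain ⟨e⟩ := e3 j (by omega)
        have := hr j (by push_cast; omega)
        exact e.symm.toEquiv.subsingleton)
      (fun j x => by
        by_cases hj : a < j
        · obtain ⟨e⟩ := e3 j hj
          exact e.symm.injective (by rw [map_smul, hk, map_zero])
        · have := h3 j (by omega)
          exact Subsingleton.elim _ _)
    obtain ⟨h, hh⟩ := Triangle.coyoneda_exact₂ _ hT (f ^ n • 𝟙 T.obj₂) (by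
      rw [Linear.smul_comp, Category.id_comp, ← Category.comp_id T.mor₂, ← Linear.comp_smul, h3', comp_zero])
    calc f ^ (n + 1) • 𝟙 T.obj₂ = f • (f ^ n • 𝟙 T.obj₂) := by rw [smul_smul, pow_succ']
      _ = h ≫ (f • 𝟙 T.obj₁) ≫ T.mor₁ := by
        rw [hh, Linear.smul_comp, Category.id_comp, ← Linear.comp_smul]
      _ = 0 := by rw [hz, zero_comp, comp_zero]

/-- a power factors through the high degrees -/
theorem exists_pow_factor {f : A} (Y : Dual.D A) (a N : ℤ) (hl : ∀ j, j < a → Subsingleton (Dual.HD A Y j))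
    (hk : ∀ j, j ≤ N → ∀ x : Dual.HD A Y j, f • x = 0) :
    ∃ (k : ℕ) (Y' : Dual.D A) (p : Y ⟶ Y') (g : Y' ⟶ Y),
      (∀ j, j ≤ N → Subsingleton (Dual.HD A Y' j)) ∧ f ^ k • 𝟙 Y = p ≫ g := by
  obtain ⟨T, hT, rfl, h1, h3, e1, -⟩ := Devissage.exists_split Y N
  refine ⟨(N + 1 - a).toNat, T.obj₃, T.mor₂, ?_⟩
  have hz : f ^ (N + 1 - a).toNat • 𝟙 T.obj₁ = 0 := pow_smul_id_eq_zero _ a T.obj₁
    (fun j hj => by
      by_cases hj' : j ≤ N
      · obtain ⟨e⟩ := e1 j hj'
        have := hl j hj
        exact e.toEquiv.subsingleton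
      · exact h1 j (by omega))
    (fun j hj => h1 j (by omega))
    (fun j x => by
      by_cases hj : j ≤ N
      · obtain ⟨e⟩ := e1 j hj
        exact e.injective (by rw [map_smul, hk j hj, map_zero])
      · have := h1 j (by omega)
        exact Subsingleton.elim _ _)
  obtain ⟨g, hg⟩ := Triangle.yoneda_exact₂ _ hT (f ^ (N + 1 - a).toNat • 𝟙 T.obj₂) (by
    rw [Linear.comp_smul, Category.comp_id, ← Category.id_comp T.mor₁, ← Linear.smul_comp, hz, zero_comp])
  exact ⟨g, h3, hg⟩

variable [IsNoetherianRing A]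

omit [IsNoetherianRing A] in
theorem hasRgammaI (J : Ideal A) : DRing.HasRgammaI J :=
  (DTrunc.RightDerived.hasEnough (A := ModuleCat.{u} A) (DRing.gammaIKh J)).hasRightDerivedFunctor _

/-- `H^j(RΓ_J M) ≅ H^j_J(M)` -/
theorem RgammaI_H (J : Ideal A) [DRing.HasRgammaI J] (j : ℕ) (M : Type u) [AddCommGroup M] [Module A M] :
    Nonempty (Dual.HD A ((DRing.RgammaI J).obj (Dual.inD A M)) j ≃ₗ[A] _root_.LocCoh.H J j M) := by
  obtain ⟨e⟩ := S1812.result A J (IsNoetherian.noetherian J) (Dual.inD A M) (j : ℤ)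
  exact ⟨e.trans (LocCompare.equiv J j M).symm⟩

theorem subsingleton_RgammaI_neg (J : Ideal A) [DRing.HasRgammaI J] (j : ℤ) (hj : j < 0) (M : Type u)
    [AddCommGroup M] [Module A M] :
    Subsingleton (Dual.HD A ((DRing.RgammaI J).obj (Dual.inD A M)) j) := by
  obtain ⟨e⟩ := S1812.result A J (IsNoetherian.noetherian J) (Dual.inD A M) j
  have : Subsingleton (Dual2.HDI A J (Dual.inD A M) j) := subsingleton_of_forall_eq 0 fun x => by
    obtain ⟨n, d, rfl⟩ := TorsColim.exists_rep J x
    have : ((Dual.inD A M)⟦j⟧).IsGE (-j) :=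
      DerivedCategory.TStructure.t.isGE_shift (Dual.inD A M) 0 j (-j) (by omega)
    exact (congrArg (TorsColim.ι J n _) (DerivedCategory.TStructure.t.zero d 0 (-j) (by omega))).trans
      (map_zero _)
  exact e.toEquiv.subsingleton

variable (I : Ideal A) [DRing.HasDerivedCompletion I]

omit [IsNoetherianRing A] in
/-- completion is linear -/
theorem completion_map_smul {K L : Dual.D A} (c : A) (φ : K ⟶ L) :
    ((DRing.derivedCompletion I).map (c • φ)).hom = c • ((DRing.derivedCompletion I).map φ).hom := by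
  refine ((Completion.isUniversal_unit I K).2 _ ((DRing.derivedCompletion I).obj L).property).1 ?_
  have hn : ∀ ψ : K ⟶ L, DRing.toDerivedCompletion I K ≫ ((DRing.derivedCompletion I).map ψ).hom =
      ψ ≫ DRing.toDerivedCompletion I L := fun ψ =>
    ((DRing.derivedCompletionAdj I).unit.naturality ψ).symm
  dsimp only
  rw [hn, Linear.comp_smul, hn, Linear.smul_comp]

/-- vanishing below the degrees of `Y` minus the cohomological dimension -/
theorem subsingleton_HD_completion {d : ℕ} (hd : _root_.LocCoh.CdLE A I d) (Y : Dual.D A) (i : ℤ)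
    (hY : ∀ j, j ≤ i + d → Subsingleton (Dual.HD A Y j)) :
    Subsingleton (Dual.HD A ((DRing.derivedCompletion I).obj Y).obj i) := by
  have := hasRgammaI I
  let G := (DRing.RgammaI I).obj (Dual.inD A A)
  let C := ((DRing.derivedCompletion I).obj Y).obj
  let η := DRing.toDerivedCompletion I Y
  have hG : G.IsLE (d : ℤ) := (DBasic.isLE_iff_subsingleton G _).mpr fun j hj => by
    lift j to ℕ using (by omega)
    obtain ⟨e⟩ := RgammaI_H I j A
    have := hd A j (by omega)
    exact e.toEquiv.subsingleton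
  have : Y.IsGE (i + d + 1) := (DerivedCategory.isGE_iff Y _).mpr fun m hm =>
    (DBasic.subsingleton_HD_iff_isZero Y m).mp (hY m (by omega))
  have : (Y⟦i⟧).IsGE ((d : ℤ) + 1) :=
    DerivedCategory.TStructure.t.isGE_shift Y (i + d + 1) i ((d : ℤ) + 1) (by omega)
  have h1 : Subsingleton (G ⟶ Y⟦i⟧) :=
    subsingleton_of_forall_eq 0 fun f => DerivedCategory.TStructure.t.zero f (d : ℤ) ((d : ℤ) + 1) (by omega)
  -- move the shift to the torsion object
  let S := G⟦-i⟧
  have hS : ∀ m, _root_.LocCoh.IsPowerTorsion I (Dual.HD A S m) :=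
    RGHom.torsion_shift I (fun m => RGamma.HD_RgammaI_torsion I _ m) (-i)
  have h2 : Subsingleton (S ⟶ Y) := (Milnor.homEq (-i) i (neg_add_cancel i) G Y).subsingleton
  have := GM.isIso_map_toDerivedCompletion I (IsNoetherian.noetherian I) Y
  have h3 : Subsingleton (S ⟶ C) := by
    have e1 := (RGHom.bijective_comp_ε I hS C).comp
      ((asIso ((DRing.RgammaI I).map η)).homToEquiv (Z := S)).bijective
    have e2 := RGHom.bijective_comp_ε I hS Y
    have : Subsingleton (S ⟶ (𝟭 (Dual.D A)).obj Y) := h2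
    have : Subsingleton (S ⟶ (DRing.RgammaI I).obj Y) := e2.1.subsingleton
    exact e1.2.subsingleton
  have h4 : Subsingleton (G ⟶ C⟦i⟧) := (Milnor.homEq (-i) i (neg_add_cancel i) G C).symm.subsingleton
  -- remove the torsion
  have := GM.isIso_completion_map_ε I (Dual.inD A A)
  have hu : Function.Injective fun v : Dual.inD A A ⟶ C⟦i⟧ =>
      (DRing.RgammaIε I).app (Dual.inD A A) ≫ v := by
    intro v w hvw
    let L : DRing.DComp I := ⟨C⟦i⟧, Completion.complete_shift I ((DRing.derivedCompletion I).obj Y).property i⟩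
    let adj := DRing.derivedCompletionAdj I
    have key : ∀ v : Dual.inD A A ⟶ C⟦i⟧,
        (adj.homEquiv _ L).symm ((DRing.RgammaIε I).app (Dual.inD A A) ≫ v) =
          (DRing.derivedCompletion I).map ((DRing.RgammaIε I).app (Dual.inD A A)) ≫ (adj.homEquiv _ L).symm v :=
      fun v => adj.homEquiv_naturality_left_symm _ _
    exact (adj.homEquiv _ L).symm.injective ((cancel_epi _).1
      ((key v).symm.trans ((congrArg (adj.homEquiv _ L).symm hvw).trans (key w))))
  have : Subsingleton (Dual.inD A A ⟶ C⟦i⟧) := hu.subsingleton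
  exact (Cx.homUnitEquivShift C i).symm.toEquiv.subsingleton

/-- annihilation of the completion -/
theorem exists_pow_kill_completion {d : ℕ} (hd : _root_.LocCoh.CdLE A I d) (Y : Dual.D A) (a s : ℤ) {f : A}
    (hl : ∀ j, j < a → Subsingleton (Dual.HD A Y j))
    (hk : ∀ j, j ≤ s + d → ∀ x : Dual.HD A Y j, f • x = 0) :
    ∃ k : ℕ, ∀ i, i ≤ s → ∀ x : Dual.HD A ((DRing.derivedCompletion I).obj Y).obj i, f ^ k • x = 0 := by
  obtain ⟨k, Y', p, g, hY', hfac⟩ := exists_pow_factor Y a (s + d) hl hk
  refine ⟨k, fun i hi x => ?_⟩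
  have := subsingleton_HD_completion I hd Y' i fun j hj => hY' j (by omega)
  have h := congrArg (fun φ => ((HF i).map φ).hom x) (completion_map_smul I (f ^ k) (𝟙 Y))
  simp only [CategoryTheory.Functor.map_id, ObjectProperty.FullSubcategory.id_hom, Functor.map_smul,
    ModuleCat.hom_smul, LinearMap.smul_apply, ModuleCat.hom_id, LinearMap.id_apply] at h
  rw [hfac, Functor.map_comp, ObjectProperty.FullSubcategory.comp_hom, Functor.map_comp] at h
  change ((HF i).map ((DRing.derivedCompletion I).map g).hom).hom _ = _ at h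
  exact h.symm.trans ((congrArg _ (Subsingleton.elim _ 0)).trans (map_zero _))

end Groth.Agent.LocCoh.CompVanish
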