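import Groth.Agent.LocCoh.CutoffFinite
import Mathlib.RingTheory.AdicCompletion.AsTensorProduct

/-!
# The cutoff under completion
-/

universe u

open IsLocalRing
open scoped TensorProduct

namespace Groth.Agent.LocCoh.CutoffCompletion

open Groth.Agent.EGA4Lib

/-- domains are equidimensional -/
theorem isEquidim_domain (D : Type u) [CommRing D] [IsDomain D] : EGA4.IsEquidim D := by
  intro p hp
  rw [IsDomain.minimalPrimes_eq_singleton_bot] at hp
  obtain rfl : p = ⊥ := hp
  exact ringKrullDim_eq_of_ringEquiv (RingEquiv.quotientBot D)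

/-- dimensions in a catenary local ring: `ht (q/p) + dim R/q = dim R/p` -/
theorem exists_height_Ici_add (R : Type u) [CommRing R] [IsNoetherianRing R] [IsLocalRing R]
    (hcat : CAlg.IsCatenary R) {p q : PrimeSpectrum R} (hpq : p ≤ q) :
    ∃ h a b : ℕ, Order.height (⟨q, hpq⟩ : Set.Ici p) = h ∧ ringKrullDim (R ⧸ q.asIdeal) = a ∧
      ringKrullDim (R ⧸ p.asIdeal) = b ∧ h + a = b := by
  have : IsLocalRing (R ⧸ p.asIdeal) := IsLocalRing.of_surjective' _ Ideal.Quotient.mk_surjective
  have : (q.asIdeal.map (Ideal.Quotient.mk p.asIdeal)).IsPrime :=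
    Ideal.map_isPrime_of_surjective Ideal.Quotient.mk_surjective (by rw [Ideal.mk_ker]; exact hpq)
  have h1 := height_add_ringKrullDim_quotient
    (PtTop.Catenary.isCatenary_of_surjective (Ideal.Quotient.mk p.asIdeal) Ideal.Quotient.mk_surjective hcat)
    (isEquidim_domain (R ⧸ p.asIdeal)) (q.asIdeal.map (Ideal.Quotient.mk p.asIdeal))
  rw [ringKrullDim_eq_of_ringEquiv (DoubleQuot.quotQuotEquivQuotOfLE (show p.asIdeal ≤ q.asIdeal from hpq))] at h1
  let e := p.asIdeal.primeSpectrumQuotientOrderIsoZeroLocus.trans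
    (OrderIso.setCongr _ (Set.Ici p) (Set.ext fun r => PrimeSpectrum.mem_zeroLocus r _))
  let q' : PrimeSpectrum (R ⧸ p.asIdeal) := ⟨q.asIdeal.map (Ideal.Quotient.mk p.asIdeal), inferInstance⟩
  have hh : Order.height (⟨q, hpq⟩ : Set.Ici p) = (q.asIdeal.map (Ideal.Quotient.mk p.asIdeal)).height := by
    rw [show (⟨q, hpq⟩ : Set.Ici p) = e q' from ?_, Order.height_orderIso, ← PrimeSpectrum.height_eq_orderHeight]
    apply Subtype.ext
    apply PrimeSpectrum.ext
    show q.asIdeal = (q.asIdeal.map (Ideal.Quotient.mk p.asIdeal)).comap (Ideal.Quotient.mk p.asIdeal)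
    rw [Ideal.comap_map_of_surjective' _ Ideal.Quotient.mk_surjective, Ideal.mk_ker, sup_eq_left.2 hpq]
  obtain ⟨h, hh'⟩ := exists_nat_height (q.asIdeal.map (Ideal.Quotient.mk p.asIdeal))
  obtain ⟨a, ha⟩ := exists_nat_ringKrullDim_quotient q.asIdeal q.2.ne_top
  obtain ⟨b, hb⟩ := exists_nat_ringKrullDim_quotient p.asIdeal p.2.ne_top
  rw [hh', ha, hb] at h1
  exact ⟨h, a, b, hh.trans hh', ha, hb, by exact_mod_cast h1⟩

variable {A : Type u} [CommRing A] [IsNoetherianRing A] [IsLocalRing A]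

local notation "Bh" => AdicCompletion (maximalIdeal A) A

/-- depths along the completion, with the fibre dimension -/
theorem exists_fibre (hA : CAlg.IsUniversallyCatenary A) (M : Type u) [AddCommGroup M] [Module A M] [Module.Finite A M]
    (P : Ideal Bh) [P.IsPrime] :
    ∃ (f c b : ℕ) (d : ℕ∞), LocCoh.depth (Localization.AtPrime P) (LocalizedModule P.primeCompl (AdicCompletion (maximalIdeal A) M)) =
        LocCoh.depth (Localization.AtPrime (P.comap (algebraMap A Bh))) (LocalizedModule (P.comap (algebraMap A Bh)).primeCompl M) + d ∧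
      Module.supportDim (Localization.AtPrime P) (stalkFib A P Bh) = f ∧
      LocCoh.depth (Localization.AtPrime P) (stalkFib A P Bh) = d ∧ d ≤ f ∧
      ringKrullDim (Bh ⧸ P) = c ∧ ringKrullDim (A ⧸ P.comap (algebraMap A Bh)) = b ∧ f + c = b := by
  have : IsNoetherianRing Bh := RegLoc.Completion.isNoetherianRing_adicCompletion' _
  obtain ⟨hd, -⟩ := depth_supportDim_stalk A P M Bh
  obtain ⟨he, -⟩ := depth_supportDim_congr (L := Localization.AtPrime P)
    (IsLocalizedModule.mapEquiv P.primeCompl (LocalizedModule.mkLinearMap P.primeCompl _)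
      (LocalizedModule.mkLinearMap P.primeCompl _) (Localization.AtPrime P)
      (AdicCompletion.ofTensorProductEquivOfFiniteNoetherian (maximalIdeal A) M))
  have h3 := CutoffFinite.supportDim_stalkFib_add_dim A hA P
  obtain ⟨b, hb⟩ := exists_nat_ringKrullDim_quotient (P.comap (algebraMap A Bh)) (Ideal.comap_ne_top _ (Ideal.IsPrime.ne_top ‹_›))
  obtain ⟨c, hc⟩ := exists_nat_ringKrullDim_quotient P (Ideal.IsPrime.ne_top ‹_›)
  rw [hb, hc] at h3
  have : Nontrivial (LocalizedModule P.primeCompl Bh) := (Depth.localizedModuleSelfEquiv P.primeCompl).toEquiv.nontrivial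
  have : Nontrivial (stalkFib A P Bh) := Submodule.Quotient.nontrivial_iff.2
    (Depth.smul_top_ne_top_of_le_maximalIdeal (map_le_maximalIdeal A P))
  have hle := Depth.depth_le_supportDim (R := Localization.AtPrime P) (M := stalkFib A P Bh)
  generalize hf : Module.supportDim (Localization.AtPrime P) (stalkFib A P Bh) = f at h3 hle
  cases f with
  | bot => simp at h3
  | coe f =>
  cases f with
  | top =>
    rw [show ((c : ℕ) : WithBot ℕ∞) = ((c : ℕ∞) : WithBot ℕ∞) from rfl,
      show ((b : ℕ) : WithBot ℕ∞) = ((b : ℕ∞) : WithBot ℕ∞) from rfl, ← WithBot.coe_add, WithBot.coe_inj, top_add] at h3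
    exact absurd h3.symm (ENat.natCast_ne_top b)
  | coe f =>
    refine ⟨f, c, b, _, he.symm.trans hd, rfl, rfl, ?_, hc, hb, by exact_mod_cast h3⟩
    exact WithBot.coe_le_coe.1 hle

omit [IsLocalRing A] in
/-- a prime minimal over the extension of a prime has a zero-dimensional fibre -/
theorem fibre_eq_zero {C : Type u} [CommRing C] [IsNoetherianRing C] [Algebra A C] [Module.Flat A C]
    (p : Ideal A) [p.IsPrime] {P : Ideal C} [P.IsPrime] (hP : P ∈ (p.map (algebraMap A C)).minimalPrimes)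
    {f : ℕ} (hf : Module.supportDim (Localization.AtPrime P) (stalkFib A P C) = f) : f = 0 := by
  obtain ⟨-, h2⟩ := depth_supportDim_stalk_ring (A := A) (B := C) P
  have h : (P.comap (algebraMap A C)).height = P.height := by
    rw [comap_eq_of_mem_minimalPrimes_map (A := A) p hP, height_eq_of_mem_minimalPrimes_map (A := A) p hP]
  rw [(depth_supportDim_congr (L := Localization.AtPrime P) (Depth.localizedModuleSelfEquiv P.primeCompl)).2,
    (depth_supportDim_congr (L := Localization.AtPrime (P.comap (algebraMap A C)))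
      (Depth.localizedModuleSelfEquiv (P.comap (algebraMap A C)).primeCompl)).2,
    Module.supportDim_self_eq_ringKrullDim, Module.supportDim_self_eq_ringKrullDim,
    IsLocalization.AtPrime.ringKrullDim_eq_height P,
    IsLocalization.AtPrime.ringKrullDim_eq_height (P.comap (algebraMap A C)), h, hf] at h2
  obtain ⟨n, hn⟩ : ∃ n : ℕ, P.height = n := ⟨_, (ENat.natCast_toNat (Ideal.height_ne_top Ideal.IsPrime.ne_top')).symm⟩
  rw [hn] at h2
  have h4 : n = n + f := by exact_mod_cast h2
  omega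

/-- the cutoff of the completion -/
theorem cutoff_completion (hA : CAlg.IsUniversallyCatenary A) (I : Ideal A) (M : Type u) [AddCommGroup M] [Module A M]
    [Module.Finite A M] (n : ℕ) :
    Dual2.cutoff Bh (I.map (algebraMap A Bh)) (AdicCompletion (maximalIdeal A) M) ≤ Dual2.cutoff A I M ∧
      (EGA4.HasSnFormalFibres n A → min ((n : ℕ∞) + 1) (Dual2.cutoff A I M) ≤
        Dual2.cutoff Bh (I.map (algebraMap A Bh)) (AdicCompletion (maximalIdeal A) M)) := by
  have : IsNoetherianRing Bh := RegLoc.Completion.isNoetherianRing_adicCompletion' _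
  have hcatA : CAlg.IsCatenary A := hA.2 A inferInstance
  have hcatB : CAlg.IsCatenary Bh := isCatenary_cpl A
  constructor
  · refine le_iInf fun p => le_iInf fun q => le_iInf fun hpq => le_iInf fun hIp => le_iInf fun hIq => ?_
    obtain ⟨Q, hQ⟩ := Ideal.nonempty_minimalPrimes
      (map_ne_top_of_ne_top (A := A) (B := Bh) q.asIdeal q.2.ne_top)
    have := hQ.1.1
    have hQq : Q.comap (algebraMap A Bh) = q.asIdeal := comap_eq_of_mem_minimalPrimes_map (A := A) q.asIdeal hQ
    have hpQ : p.asIdeal.map (algebraMap A Bh) ≤ Q := (Ideal.map_mono hpq).trans hQ.1.2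
    obtain ⟨P, hP, hPQ⟩ := Ideal.exists_minimalPrimes_le hpQ
    have := hP.1.1
    have hPp : P.comap (algebraMap A Bh) = p.asIdeal := comap_eq_of_mem_minimalPrimes_map (A := A) p.asIdeal hP
    obtain ⟨f, c, b, d, hd, hf, -, hdf, hc, hb, hsum⟩ := exists_fibre hA M P
    obtain ⟨g, c', b', -, -, hg, -, -, hc', hb', hsum'⟩ := exists_fibre hA M Q
    obtain rfl := fibre_eq_zero p.asIdeal hP hf
    obtain rfl := fibre_eq_zero q.asIdeal hQ hg
    obtain ⟨h, a₁, a₂, hh, ha₁, ha₂, hadd⟩ := exists_height_Ici_add A hcatA hpq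
    obtain ⟨k, c₁, c₂, hk, hc₁, hc₂, hadd'⟩ := exists_height_Ici_add Bh hcatB
      (p := (⟨P, this⟩ : PrimeSpectrum Bh)) (q := ⟨Q, inferInstance⟩) hPQ
    obtain rfl : d = 0 := nonpos_iff_eq_zero.1 hdf
    have hsp : (⟨P.comap (algebraMap A Bh), inferInstance⟩ : PrimeSpectrum A) = p := PrimeSpectrum.ext hPp
    rw [add_zero] at hd
    subst hsp
    refine iInf_le_of_le (⟨P, this⟩ : PrimeSpectrum Bh) (iInf_le_of_le ⟨Q, inferInstance⟩ (iInf_le_of_le hPQ
      (iInf_le_of_le (fun hle => hIp (Ideal.map_le_iff_le_comap.1 hle)) (iInf_le_of_le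
        ((Ideal.map_mono hIq).trans hQ.1.2) ?_))))
    rw [hd, hh, hk]
    refine add_le_add le_rfl (Nat.cast_le.2 ?_)
    have e1 : c = c₂ := by exact_mod_cast hc.symm.trans hc₂
    have e2 : c' = c₁ := by exact_mod_cast hc'.symm.trans hc₁
    have e3 : b = a₂ := by exact_mod_cast hb.symm.trans ha₂
    have e4 : b' = a₁ := by
      rw [hQq] at hb'
      exact_mod_cast hb'.symm.trans ha₁
    omega
  · intro hS
    refine le_iInf fun P => le_iInf fun Q => le_iInf fun hPQ => le_iInf fun hIP => le_iInf fun hIQ => ?_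
    have hne : P ≠ Q := fun h => hIP (h ▸ hIQ)
    obtain ⟨f, c, b, d, hd, hf, hdd, -, hc, hb, hsum⟩ := exists_fibre hA M P.asIdeal
    obtain ⟨g, c', b', -, -, -, -, -, hc', hb', hsum'⟩ := exists_fibre hA M Q.asIdeal
    let p : PrimeSpectrum A := PrimeSpectrum.comap (algebraMap A Bh) P
    let q : PrimeSpectrum A := PrimeSpectrum.comap (algebraMap A Bh) Q
    have hpq : p ≤ q := Ideal.comap_mono (show P.asIdeal ≤ Q.asIdeal from hPQ)
    obtain ⟨h, a₁, a₂, hh, ha₁, ha₂, hadd⟩ := exists_height_Ici_add A hcatA hpq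
    obtain ⟨k, c₁, c₂, hk, hc₁, hc₂, hadd'⟩ := exists_height_Ici_add Bh hcatB hPQ
    have hpos : 1 ≤ Order.height (⟨Q, hPQ⟩ : Set.Ici P) :=
      le_trans le_add_self (Order.height_add_one_le (show (⟨P, le_refl P⟩ : Set.Ici P) < ⟨Q, hPQ⟩ from lt_of_le_of_ne (show (⟨P, le_refl P⟩ : Set.Ici P) ≤ ⟨Q, hPQ⟩ from hPQ) (fun h => hne (congrArg Subtype.val h))))
    have hs := (forall_hasSk_fiber_iff A (B := Bh) n).1 (fun p _ => hS p) P.asIdeal
    rw [hf, hdd, show ((n : ℕ) : WithBot ℕ∞) = ((n : ℕ∞) : WithBot ℕ∞) from rfl,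
      show ((f : ℕ) : WithBot ℕ∞) = ((f : ℕ∞) : WithBot ℕ∞) from rfl, ← WithBot.coe_min, WithBot.coe_le_coe] at hs
    rw [hd, hk]
    rw [hk] at hpos
    rcases min_le_iff.1 hs with hn | hn
    · refine (min_le_left _ _).trans ?_
      exact add_le_add (hn.trans le_add_self) hpos
    · refine (min_le_right _ _).trans ((iInf_le_of_le p (iInf_le_of_le q (iInf_le_of_le hpq
        (iInf_le_of_le (fun hle => hIP (Ideal.map_le_iff_le_comap.2 hle))
          (iInf_le _ (Ideal.map_le_iff_le_comap.1 hIQ)))))).trans ?_)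
      rw [hh, add_assoc]
      refine add_le_add le_rfl (le_trans ?_ (add_le_add hn le_rfl))
      rw [← Nat.cast_add]
      refine Nat.cast_le.2 ?_
      have e1 : c = c₂ := by exact_mod_cast hc.symm.trans hc₂
      have e2 : c' = c₁ := by exact_mod_cast hc'.symm.trans hc₁
      have e3 : b = a₂ := by exact_mod_cast hb.symm.trans ha₂
      have e4 : b' = a₁ := by exact_mod_cast hb'.symm.trans ha₁
      omega

end Groth.Agent.LocCoh.CutoffCompletion
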