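import Groth.Agent.LocCoh.KollarCrit
import Groth.Agent.EGA4Lib.StrictlyCatenary
import Groth.Agent.EGA4Lib.SkFibers
import Groth.Agent.EGA4Lib.EquidimFlat
import Groth.Agent.EGA4Lib.Ratliff
import Groth.Agent.S9126
import Groth.Prelude.Def_DualLC

/-!
# Finiteness of local cohomology below the cutoff

* `supportDim_stalkFib_add_dim`: dimensions along a completion of a universally catenary local ring;
* `finite_H_of_lt_cutoff`, `not_finite_H_of_cutoff_eq`.
-/

universe u

open CategoryTheory IsLocalRing
open scoped TensorProduct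

attribute [local instance] HasDerivedCategory.standard

namespace Groth.Agent.LocCoh.CutoffFinite

open Groth.Agent.DualCx Groth.Agent.EGA4Lib

/-- `dim (B_P / p B_P) + dim B/P = dim R/p` for the completion `B` of `R` -/
theorem supportDim_stalkFib_add_dim (R : Type u) [CommRing R] [IsNoetherianRing R] [IsLocalRing R]
    (hR : CAlg.IsUniversallyCatenary R) (P : Ideal (AdicCompletion (maximalIdeal R) R)) [P.IsPrime] :
    Module.supportDim (Localization.AtPrime P) (stalkFib R P (AdicCompletion (maximalIdeal R) R)) +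
        ringKrullDim (AdicCompletion (maximalIdeal R) R ⧸ P) =
      ringKrullDim (R ⧸ P.comap (algebraMap R (AdicCompletion (maximalIdeal R) R))) := by
  let B := AdicCompletion (maximalIdeal R) R
  have : IsNoetherianRing B := RegLoc.Completion.isNoetherianRing_adicCompletion' _
  let p := P.comap (algebraMap R B)
  let J := p.map (algebraMap R B)
  have hJP : J ≤ P := Ideal.map_comap_le
  have hJ : J ≠ ⊤ := ne_top_of_le_ne_top (Ideal.IsPrime.ne_top ‹_›) hJP
  have : Nontrivial (B ⧸ J) := Ideal.Quotient.nontrivial_iff.2 hJ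
  have : IsLocalRing (B ⧸ J) := IsLocalRing.of_surjective' _ Ideal.Quotient.mk_surjective
  have : IsLocalRing (R ⧸ p) := IsLocalRing.of_surjective' _ Ideal.Quotient.mk_surjective
  have : (P.map (Ideal.Quotient.mk J)).IsPrime :=
    Ideal.map_isPrime_of_surjective Ideal.Quotient.mk_surjective (by rw [Ideal.mk_ker]; exact hJP)
  obtain ⟨e⟩ := Hensel.nonempty_quotient_completion_equiv R p
  have heq : EGA4.IsEquidim (B ⧸ J) :=
    EGA4Lib.isEquidim_of_ringEquiv e (isFormallyCatenary_of_isUniversallyCatenary R hR p)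
  have hcat : CAlg.IsCatenary (B ⧸ J) :=
    PtTop.Catenary.isCatenary_of_surjective (Ideal.Quotient.mk J) Ideal.Quotient.mk_surjective (isCatenary_cpl R)
  have h1 := height_add_ringKrullDim_quotient hcat heq (P.map (Ideal.Quotient.mk J))
  have hq : ringKrullDim ((B ⧸ J) ⧸ P.map (Ideal.Quotient.mk J)) = ringKrullDim (B ⧸ P) :=
    ringKrullDim_eq_of_ringEquiv (DoubleQuot.quotQuotEquivQuotOfLE hJP)
  have hdim : ringKrullDim (B ⧸ J) = ringKrullDim (R ⧸ p) := by
    rw [← ringKrullDim_eq_of_ringEquiv e, RegLoc.Completion.ringKrullDim_completion]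
  rw [hq, hdim] at h1
  rw [← h1]
  congr 1
  have : P.LiesOver p := ⟨rfl⟩
  have hh := Ideal.height_eq_height_add_of_liesOver_of_hasGoingDown p P
  obtain ⟨-, h2⟩ := depth_supportDim_stalk_ring (A := R) (B := B) P
  rw [(depth_supportDim_congr (L := Localization.AtPrime P) (Depth.localizedModuleSelfEquiv P.primeCompl)).2,
    (depth_supportDim_congr (L := Localization.AtPrime p) (Depth.localizedModuleSelfEquiv p.primeCompl)).2,
    Module.supportDim_self_eq_ringKrullDim, Module.supportDim_self_eq_ringKrullDim,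
    IsLocalization.AtPrime.ringKrullDim_eq_height P, IsLocalization.AtPrime.ringKrullDim_eq_height p, hh] at h2
  obtain ⟨n, hn⟩ := exists_nat_height p
  rw [hn] at h2
  generalize hf : Module.supportDim (Localization.AtPrime P) (stalkFib R P B) = f at h2 ⊢
  cases f with
  | bot => simp at h2
  | coe f =>
    rw [← WithBot.coe_add, WithBot.coe_inj] at h2
    exact congrArg _ (WithTop.add_left_cancel (ENat.natCast_ne_top n) h2).symm

variable {A : Type u} [CommRing A] [IsNoetherianRing A] (I : Ideal A) (M : Type u) [AddCommGroup M] [Module A M]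
  [Module.Finite A M]

section Sum

variable (hA : CAlg.IsUniversallyCatenary A) (hF : ∀ q : PrimeSpectrum A, EGA4.HasCMFormalFibres (Localization.AtPrime q.asIdeal))
include hA hF

/-- depth plus dimension in the completion -/
theorem depth_add_dim_eq (q : PrimeSpectrum A)
    (P : Ideal (AdicCompletion (maximalIdeal (Localization.AtPrime q.asIdeal)) (Localization.AtPrime q.asIdeal))) [P.IsPrime]
    (p : PrimeSpectrum A)
    (hp : P.comap (algebraMap A (AdicCompletion (maximalIdeal (Localization.AtPrime q.asIdeal)) (Localization.AtPrime q.asIdeal))) = p.asIdeal) :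
    ∃ hpq : p ≤ q,
      ((_root_.LocCoh.depth (Localization.AtPrime P) (LocalizedModule P.primeCompl
          (AdicCompletion (maximalIdeal (Localization.AtPrime q.asIdeal)) (Localization.AtPrime q.asIdeal) ⊗[A] M)) : ℕ∞) : WithBot ℕ∞) +
        ringKrullDim (AdicCompletion (maximalIdeal (Localization.AtPrime q.asIdeal)) (Localization.AtPrime q.asIdeal) ⧸ P) =
      ((_root_.LocCoh.depth (Localization.AtPrime p.asIdeal) (LocalizedModule p.asIdeal.primeCompl M) +
        Order.height (⟨q, hpq⟩ : Set.Ici p) : ℕ∞) : WithBot ℕ∞) := by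
  obtain ⟨p, hpp⟩ := p
  simp only at hp
  subst hp
  let R := Localization.AtPrime q.asIdeal
  let B := AdicCompletion (maximalIdeal R) R
  have : IsNoetherianRing B := RegLoc.Completion.isNoetherianRing_adicCompletion' _
  have : Module.Flat A R := IsLocalization.flat R q.asIdeal.primeCompl
  have : Module.Flat A B := Module.Flat.trans A R B
  have : Algebra.EssFiniteType A R := Algebra.EssFiniteType.of_isLocalization _ q.asIdeal.primeCompl
  let P' := P.comap (algebraMap R B)
  have hc : P.comap (algebraMap A B) = P'.comap (algebraMap A R) := by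
    rw [Ideal.comap_comap, ← IsScalarTower.algebraMap_eq]
  have hpq : (⟨P.comap (algebraMap A B), hpp⟩ : PrimeSpectrum A) ≤ q := by
    show P.comap (algebraMap A B) ≤ q.asIdeal
    rw [hc]
    exact (Ideal.comap_mono (le_maximalIdeal (Ideal.IsPrime.comap (algebraMap R B)).ne_top)).trans
      (IsLocalization.AtPrime.under_maximalIdeal R q.asIdeal).le
  refine ⟨hpq, ?_⟩
  have hP' : (P.comap (algebraMap A B)).map (algebraMap A R) = P' := by
    rw [hc]; exact IsLocalization.map_under q.asIdeal.primeCompl R P'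
  obtain ⟨hd, -⟩ := depth_supportDim_stalk A P M B
  have hI : ((P.comap (algebraMap A B)).map (algebraMap A (Localization.AtPrime P))) •
        (⊤ : Submodule (Localization.AtPrime P) (LocalizedModule P.primeCompl B)) =
      (P'.map (algebraMap R (Localization.AtPrime P))) • ⊤ := by
    rw [← hP', Ideal.map_map, ← IsScalarTower.algebraMap_eq]
  obtain ⟨h1, -⟩ := depth_supportDim_congr (L := Localization.AtPrime P)
    (Submodule.quotEquivOfEq _ _ hI : stalkFib A P B ≃ₗ[Localization.AtPrime P] stalkFib R P B)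
  have hcm := (forall_isCohenMacaulayRing_fiber_iff R (B := B)).1 (fun p _ => hF q p) P
  have h3 := supportDim_stalkFib_add_dim R (S9126.result A R hA) P
  rw [hcm] at h3
  have h4 : ringKrullDim (R ⧸ P') = ringKrullDim (R ⧸ (P.comap (algebraMap A B)).map (algebraMap A R)) := by rw [hP']
  rw [hd, h1, WithBot.coe_add, add_assoc, h3, h4, KollarH1.ringKrullDim_localization_quotient hpq, ← WithBot.coe_add]

end Sum

variable (n : ℕ)

/-- killed by a power of `I` at `q`, in degrees `≤ n` -/
def Killed (q : PrimeSpectrum A) : Prop :=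
  ∃ k : ℕ, ∀ i ≤ n, ∀ a ∈ I ^ k, ∀ x : _root_.LocCoh.H I i M, ∃ u ∉ q.asIdeal, u • a • x = 0

/-- finiteness from killing at every prime -/
theorem finite_of_killed (h : ∀ q, Killed I M n q) : ∀ i ≤ n, Module.Finite A (_root_.LocCoh.H I i M) := by
  refine finite_H_of_isLocFinite n (ModuleCat.of A M) fun i hi => isLocFinite_of_finite_localized _ fun p _ => ?_
  let C := Localization.AtPrime p
  have : Module.Flat A C := IsLocalization.flat C p.primeCompl
  obtain ⟨k, hk⟩ := h ⟨p, ‹_›⟩
  have hfin := (finite_H_iff_annihilated (I := I.map (algebraMap A C)) n (ModuleCat.of C (C ⊗[A] M))).2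
    ⟨(I.map (algebraMap A C)) ^ k, fun a ha => ⟨k, Ideal.pow_mem_pow ha k⟩, fun j hj => KollarH1.kill_map I C
      (q := ⟨p, ‹_›⟩) (fun u hu => IsLocalization.map_units C (⟨u, hu⟩ : p.primeCompl)) (hk j hj)⟩
  obtain ⟨e⟩ := KollarH1.nonempty_baseChange C I i M
  have : Module.Finite C (_root_.LocCoh.H (I.map (algebraMap A C)) i (C ⊗[A] M)) := hfin i hi
  exact Module.Finite.equiv (e.symm.trans (LocalizedModule.equivTensorProduct p.primeCompl _).symm)

omit [IsNoetherianRing A] [Module.Finite A M] in
/-- the annihilator criterion on a ring with a dualizing complex -/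
theorem cond_of_kill {B : Type u} [CommRing B] [IsNoetherianRing B] {ω : Dual.D B}
    (hω : Dual.IsDualizing B ω) {N : Type u} [AddCommGroup N] [Module B N] [Module.Finite B N] (J : Ideal B) :
    (∃ k : ℕ, ∀ i ≤ n, ∀ c ∈ J ^ k, ∀ x : _root_.LocCoh.H J i N, c • x = 0) ↔
      ∀ P Q : PrimeSpectrum B, ¬ J ≤ P.asIdeal → J ≤ Q.asIdeal → P ≤ Q →
        (n : WithBot ℕ∞) < ((_root_.LocCoh.depth (Localization.AtPrime P.asIdeal)
          (LocalizedModule P.asIdeal.primeCompl N) : ℕ∞) : WithBot ℕ∞) + Order.krullDim (Set.Icc P Q) := by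
  let V : Set (PrimeSpectrum B) := PrimeSpectrum.zeroLocus (J : Set B)
  have hV : StableUnderSpecialization V := (PrimeSpectrum.isClosed_zeroLocus _).stableUnderSpecialization
  refine Iff.trans ?_ (AnnModule.annihilator_iff (M := N) hω hV hV n)
  constructor
  · rintro ⟨k, hk⟩
    refine ⟨J ^ (k + 1), (PrimeSpectrum.zeroLocus_pow J k.succ_ne_zero).subset, (AnnModule.kills_HT_iff V n _).2
      fun i hi c hc x => ?_⟩
    rcases lt_or_ge i 0 with hn' | hn'
    · have := AnnModule.subsingleton_LT_neg (M := N) V i hn'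
      exact Subsingleton.elim _ _
    lift i to ℕ using hn'
    obtain ⟨y, rfl⟩ := (SuppHm.bijective_toLT (M := N) J i).2 x
    rw [← map_smul, hk i (by omega) c (Ideal.pow_le_pow_right (Nat.le_succ k) hc) y, map_zero]
  · rintro ⟨J', hJ', hk⟩
    obtain ⟨k, hk'⟩ := Ideal.exists_pow_le_of_le_radical_of_fg_radical
      ((PrimeSpectrum.zeroLocus_subset_zeroLocus_iff _ _).1 hJ') (IsNoetherian.noetherian _)
    refine ⟨k, fun i hi c hc x => (SuppHm.bijective_toLT (M := N) J i).1 ?_⟩
    rw [map_smul, map_zero]
    exact (AnnModule.kills_HT_iff V n J').1 hk i (by omega) c (hk' hc) _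

section Main

variable (hA : CAlg.IsUniversallyCatenary A) (hF : ∀ q : PrimeSpectrum A, EGA4.HasCMFormalFibres (Localization.AtPrime q.asIdeal))
include hA hF

/-- finiteness below the cutoff -/
theorem finite_H_of_lt_cutoff (hn : (n : ℕ∞) < Dual2.cutoff A I M) : Module.Finite A (_root_.LocCoh.H I n M) := by
  refine finite_of_killed I M n (fun q => ?_) n le_rfl
  have : WellFoundedLT (PrimeSpectrum A) :=
    StrictMono.wellFoundedLT (f := fun p : PrimeSpectrum A => p.asIdeal.height) fun p p' hpp' =>
      Ideal.height_strict_mono_of_isPrime_of_isPrime (show p.asIdeal < p'.asIdeal from hpp')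
  induction q using WellFoundedLT.induction with
  | _ q ih =>
  by_cases hIq : I ≤ q.asIdeal
  swap
  · obtain ⟨f, hf, hfq⟩ := SetLike.not_le_iff_exists.1 hIq
    refine ⟨0, fun i _ a _ x => ?_⟩
    obtain ⟨m, hm⟩ := isPowerTorsion_H (I := I) (i := i) (ModuleCat.of A M) x
    exact ⟨f ^ m, fun h' => hfq (q.2.mem_of_pow_mem m h'), by
      rw [smul_comm, hm _ (Ideal.pow_mem_pow hf m), smul_zero]⟩
  let R := Localization.AtPrime q.asIdeal
  let B := AdicCompletion (maximalIdeal R) R
  have : IsNoetherianRing B := RegLoc.Completion.isNoetherianRing_adicCompletion' _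
  have : IsAdicComplete (maximalIdeal B) B := by
    rw [AdicCompletion.maximalIdeal_eq_map]
    exact AdicCompletion.isAdicComplete_self (maximalIdeal R) (IsNoetherian.noetherian _)
  have : Module.Flat A R := IsLocalization.flat R q.asIdeal.primeCompl
  have : Module.Flat A B := Module.Flat.trans A R B
  have hmap : q.asIdeal.map (algebraMap A B) = maximalIdeal B := by
    rw [IsScalarTower.algebraMap_eq A R B, ← Ideal.map_map, Localization.AtPrime.map_eq_maximalIdeal,
      ← AdicCompletion.maximalIdeal_eq_map]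
  have hcomap : (maximalIdeal B).comap (algebraMap A B) = q.asIdeal := by
    have h1 : (maximalIdeal B).comap (algebraMap R B) = maximalIdeal R :=
      ((maximalIdeal.isMaximal R).eq_of_le (Ideal.IsPrime.comap (algebraMap R B)).ne_top (by
        rw [← Ideal.map_le_iff_le_comap, ← AdicCompletion.maximalIdeal_eq_map])).symm
    rw [IsScalarTower.algebraMap_eq A R B, ← Ideal.comap_comap, h1]
    exact IsLocalization.AtPrime.under_maximalIdeal R q.asIdeal
  obtain ⟨ω, hω⟩ := S0376.result B
  let IB := I.map (algebraMap A B)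
  have hcond : ∀ P Q : PrimeSpectrum B, ¬ IB ≤ P.asIdeal → IB ≤ Q.asIdeal → P ≤ Q →
      (n : WithBot ℕ∞) < ((_root_.LocCoh.depth (Localization.AtPrime P.asIdeal)
        (LocalizedModule P.asIdeal.primeCompl (B ⊗[A] M)) : ℕ∞) : WithBot ℕ∞) + Order.krullDim (Set.Icc P Q) := by
    intro P Q hP hQ hPQ
    by_cases hmax : Q.asIdeal = maximalIdeal B
    · let p : PrimeSpectrum A := PrimeSpectrum.comap (algebraMap A B) P
      obtain ⟨hpq, hsum⟩ := depth_add_dim_eq M hA hF q P.asIdeal p rfl
      have h3 : Order.krullDim (Set.Icc P Q) = ringKrullDim (B ⧸ P.asIdeal) := by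
        rw [ringKrullDim_quotient]
        exact Order.krullDim_eq_of_orderIso
          { toFun := fun r => ⟨r.1, r.2.1⟩
            invFun := fun r => ⟨r.1, r.2, (IsLocalRing.le_maximalIdeal r.1.2.ne_top).trans hmax.ge⟩
            left_inv := fun _ => rfl
            right_inv := fun _ => rfl
            map_rel_iff' := Iff.rfl }
      rw [h3, hsum]
      refine WithBot.coe_lt_coe.2 (lt_of_lt_of_le hn ?_)
      exact iInf_le_of_le p (iInf_le_of_le q (iInf_le_of_le hpq
        (iInf_le_of_le (fun hle => hP (Ideal.map_le_iff_le_comap.2 hle)) (iInf_le _ hIq))))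
    · let q' : PrimeSpectrum A := PrimeSpectrum.comap (algebraMap A B) Q
      have hq' : q' < q := by
        refine lt_of_le_of_ne ((Ideal.comap_mono (IsLocalRing.le_maximalIdeal Q.2.ne_top)).trans hcomap.le) fun he => hmax ?_
        refine le_antisymm (IsLocalRing.le_maximalIdeal Q.2.ne_top) ?_
        exact hmap.symm.le.trans (Ideal.map_le_iff_le_comap.2 (congrArg PrimeSpectrum.asIdeal he).ge)
      obtain ⟨k, hk⟩ := ih q' hq'
      let C := Localization.AtPrime Q.asIdeal
      have : Module.Flat B C := IsLocalization.flat C Q.asIdeal.primeCompl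
      have : Module.Flat A C := Module.Flat.trans A B C
      have hmQ : Q.asIdeal.map (algebraMap B C) = maximalIdeal C := Localization.AtPrime.map_eq_maximalIdeal
      have hcQ : (maximalIdeal C).comap (algebraMap B C) = Q.asIdeal :=
        IsLocalization.AtPrime.under_maximalIdeal C Q.asIdeal
      have hωC : Dual.IsDualizing C ((BaseChange.FD B C).obj ω) := Extended.isDualizing hω fun m hm => by
        obtain rfl := IsLocalRing.eq_maximalIdeal hm
        rw [hcQ, hmQ]
      have hkill : ∀ i ≤ n, ∀ c ∈ (I.map (algebraMap A C)) ^ k,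
          ∀ x : _root_.LocCoh.H (I.map (algebraMap A C)) i (C ⊗[A] M), c • x = 0 := fun i hi =>
        KollarH1.kill_map I C (q := q') (fun u hu => by
          rw [IsScalarTower.algebraMap_apply A B C]
          exact IsLocalization.map_units C (⟨algebraMap A B u, hu⟩ : Q.asIdeal.primeCompl)) (hk i hi)
      have hdisj : Disjoint (Q.asIdeal.primeCompl : Set B) P.asIdeal :=
        Set.disjoint_left.2 fun c hc hcp => hc (hPQ hcp)
      let P' : PrimeSpectrum C := ⟨P.asIdeal.map (algebraMap B C),
        IsLocalization.isPrime_of_isPrime_disjoint Q.asIdeal.primeCompl C P.asIdeal P.2 hdisj⟩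
      let m : PrimeSpectrum C := IsLocalRing.closedPoint C
      have hP' : P'.asIdeal.comap (algebraMap B C) = P.asIdeal :=
        IsLocalization.under_map_of_isPrime_disjoint Q.asIdeal.primeCompl C P.2 hdisj
      have hPm : P' ≤ m := IsLocalRing.le_maximalIdeal P'.2.ne_top
      have h1 := (cond_of_kill n hωC (N := C ⊗[A] M) (I.map (algebraMap A C))).1 ⟨k, hkill⟩ P' m
        (fun hle => hP (by
          rw [← hP', ← Ideal.map_le_iff_le_comap, Ideal.map_map, ← IsScalarTower.algebraMap_eq]
          exact hle))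
        (by
          rw [IsScalarTower.algebraMap_eq A B C, ← Ideal.map_map]
          exact (Ideal.map_mono hQ).trans hmQ.le) hPm
      rwa [CompletionDeg.depth_add_eq hω hP' hωC (B ⊗[A] M) (C ⊗[A] M)
        (TensorProduct.AlgebraTensorModule.cancelBaseChange A B C C M) hPQ hPm
        (CompletionDeg.deg_eq hω hcQ hωC hmQ)] at h1
  obtain ⟨k, hk⟩ := (cond_of_kill n hω (N := B ⊗[A] M) IB).2 hcond
  exact ⟨k, fun i hi a ha x => KollarH1.exists_unit_of_kill I B hcomap (hk i hi _ (by
    rw [← Ideal.map_pow]; exact Ideal.mem_map_of_mem _ ha)) x⟩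

/-- no finiteness at the cutoff -/
theorem not_finite_H_of_cutoff_eq (hn : Dual2.cutoff A I M = n) : ¬ Module.Finite A (_root_.LocCoh.H I n M) := by
  intro hfin
  obtain ⟨k, hk⟩ := exists_pow_kill_H (I := I) n (ModuleCat.of A M) fun i hi => by
    rcases hi.lt_or_eq with h | rfl
    · exact finite_H_of_lt_cutoff I M i hA hF (hn ▸ Nat.cast_lt.2 h)
    · exact hfin
  have key : ((n : ℕ∞) + 1) ≤ Dual2.cutoff A I M := by
    refine le_iInf fun p => le_iInf fun q => le_iInf fun hpq => le_iInf fun hIp => le_iInf fun hIq => ?_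
    rw [ENat.add_one_le_iff (ENat.natCast_ne_top n)]
    let R := Localization.AtPrime q.asIdeal
    let B := AdicCompletion (maximalIdeal R) R
    have : IsNoetherianRing B := RegLoc.Completion.isNoetherianRing_adicCompletion' _
    have : IsAdicComplete (maximalIdeal B) B := by
      rw [AdicCompletion.maximalIdeal_eq_map]
      exact AdicCompletion.isAdicComplete_self (maximalIdeal R) (IsNoetherian.noetherian _)
    have : Module.Flat A R := IsLocalization.flat R q.asIdeal.primeCompl
    have : Module.Flat A B := Module.Flat.trans A R B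
    have hmap : q.asIdeal.map (algebraMap A B) = maximalIdeal B := by
      rw [IsScalarTower.algebraMap_eq A R B, ← Ideal.map_map, Localization.AtPrime.map_eq_maximalIdeal,
        ← AdicCompletion.maximalIdeal_eq_map]
    have hne : p.asIdeal.map (algebraMap A B) ≠ ⊤ := ne_top_of_le_ne_top (maximalIdeal.isMaximal B).ne_top
      ((Ideal.map_mono hpq).trans hmap.le)
    obtain ⟨P, hP⟩ := Ideal.nonempty_minimalPrimes hne
    have := hP.1.1
    have hPp : P.comap (algebraMap A B) = p.asIdeal := comap_eq_of_mem_minimalPrimes_map (A := A) p.asIdeal hP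
    obtain ⟨ω, hω⟩ := S0376.result B
    let Q : PrimeSpectrum B := IsLocalRing.closedPoint B
    have hPQ : (⟨P, this⟩ : PrimeSpectrum B) ≤ Q := IsLocalRing.le_maximalIdeal Ideal.IsPrime.ne_top'
    have h1 := (cond_of_kill n hω (N := B ⊗[A] M) (I.map (algebraMap A B))).1
      ⟨k, fun i hi => KollarH1.kill_map I B (q := q) (fun u hu => by
        rw [IsScalarTower.algebraMap_apply A R B]
        exact (IsLocalization.map_units R (⟨u, hu⟩ : q.asIdeal.primeCompl)).map _)
        fun a ha x => ⟨1, fun h => q.2.ne_top ((Ideal.eq_top_iff_one _).2 h), by rw [one_smul]; exact hk i hi a ha x⟩⟩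
      ⟨P, this⟩ Q (fun hle => hIp (by rw [← hPp, ← Ideal.map_le_iff_le_comap]; exact hle))
      ((Ideal.map_mono hIq).trans hmap.le) hPQ
    obtain ⟨hpq', hsum⟩ := depth_add_dim_eq M hA hF q P p hPp
    have h3 : Order.krullDim (Set.Icc (⟨P, this⟩ : PrimeSpectrum B) Q) = ringKrullDim (B ⧸ P) := by
      rw [ringKrullDim_quotient]
      exact Order.krullDim_eq_of_orderIso
        { toFun := fun r => ⟨r.1, r.2.1⟩
          invFun := fun r => ⟨r.1, r.2, IsLocalRing.le_maximalIdeal r.1.2.ne_top⟩
          left_inv := fun _ => rfl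
          right_inv := fun _ => rfl
          map_rel_iff' := Iff.rfl }
    rw [h3, hsum] at h1
    exact WithBot.coe_lt_coe.1 h1
  rw [hn, ENat.add_one_le_iff (ENat.natCast_ne_top n)] at key
  exact lt_irrefl _ key

end Main

end Groth.Agent.LocCoh.CutoffFinite
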