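import Groth.Agent.LocCoh.KoszulLim
import Mathlib.RingTheory.Derivation.Basic
import Mathlib.Tactic.Module

/-!
# A derivation of `A` acts on the local cohomology of `A`
-/

universe u

open CategoryTheory

namespace Groth.Agent.LocCoh.DerOp

open KoszulCech (L loc res C cdM aug tp tp_dvd cdM_apply HomAt)

variable {A : Type u} [CommRing A] (θ : Derivation ℤ A A)

/-- `D` is compatible with `θ`. -/
def IsOp {M : Type u} [AddCommGroup M] [Module A M] (D : M →+ M) : Prop :=
  ∀ (a : A) (x : M), D (a • x) = θ a • x + a • D x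

variable {θ}

theorem exists_of_equiv {M N : Type u} [AddCommGroup M] [Module A M] [AddCommGroup N] [Module A N]
    (e : N ≃ₗ[A] M) (h : ∃ D : M →+ M, IsOp θ D) : ∃ D : N →+ N, IsOp θ D := by
  obtain ⟨D, hD⟩ := h
  refine ⟨e.symm.toLinearMap.toAddMonoidHom.comp (D.comp e.toLinearMap.toAddMonoidHom), fun a x => ?_⟩
  show e.symm (D (e (a • x))) = θ a • x + a • e.symm (D (e x))
  rw [map_smul, hD, map_add, map_smul, map_smul, e.symm_apply_apply]

theorem exists_homAt {M₀ M₁ M₂ : Type u} [AddCommGroup M₀] [Module A M₀] [AddCommGroup M₁] [Module A M₁]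
    [AddCommGroup M₂] [Module A M₂] (d₀ : M₀ →ₗ[A] M₁) (d₁ : M₁ →ₗ[A] M₂) {D₀ : M₀ → M₀} {D₁ : M₁ →+ M₁}
    {D₂ : M₂ → M₂} (h₁ : IsOp θ D₁) (c₀ : ∀ x, d₀ (D₀ x) = D₁ (d₀ x)) (c₁ : ∀ x, d₁ (D₁ x) = D₂ (d₁ x))
    (h₂ : D₂ 0 = 0) : ∃ D : HomAt d₀ d₁ →+ HomAt d₀ d₁, IsOp θ D := by
  let Z := LinearMap.ker d₁
  let B : Submodule A Z := (LinearMap.range d₀).comap Z.subtype
  let DZ : Z →+ Z :=
    { toFun := fun z => ⟨D₁ z.1, by rw [LinearMap.mem_ker, c₁, LinearMap.mem_ker.mp z.2, h₂]⟩
      map_zero' := Subtype.ext (map_zero D₁)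
      map_add' := fun a b => Subtype.ext (map_add D₁ _ _) }
  let F : Z →+ Z ⧸ B := B.mkQ.toAddMonoidHom.comp DZ
  have hF : B.toAddSubgroup ≤ F.ker := fun z hz => by
    obtain ⟨x, hx⟩ := hz
    exact (Submodule.Quotient.mk_eq_zero B).mpr ⟨D₀ x, (c₀ x).trans (congrArg D₁ hx)⟩
  refine ⟨QuotientAddGroup.lift B.toAddSubgroup F hF, fun a x => ?_⟩
  obtain ⟨z, rfl⟩ := Submodule.Quotient.mk_surjective B x
  show B.mkQ (DZ (a • z)) = θ a • B.mkQ z + a • B.mkQ (DZ z)
  rw [← map_smul, ← map_smul, ← map_add]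
  exact congrArg B.mkQ (Subtype.ext (h₁ a z.1))

section Loc

variable (θ)

theorem wd (g : A) (p p' : A × Submonoid.powers g) (h : p ≈ p') :
    LocalizedModule.mk ((p.2 : A) • θ p.1 - θ p.2 • p.1) (p.2 * p.2) =
      (LocalizedModule.mk ((p'.2 : A) • θ p'.1 - θ p'.2 • p'.1) (p'.2 * p'.2) : L g A) := by
  obtain ⟨m, s⟩ := p
  obtain ⟨m', s'⟩ := p'
  obtain ⟨u, hu⟩ := h
  simp only [Submonoid.smul_def, smul_eq_mul] at hu
  have hd := congrArg θ hu
  simp only [Derivation.leibniz, smul_eq_mul] at hd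
  refine LocalizedModule.mk_eq.mpr ⟨u * u, ?_⟩
  simp only [Submonoid.smul_def, Submonoid.coe_mul, smul_eq_mul]
  linear_combination (s : A) * (s' : A) * (u : A) * hd
    - ((s : A) * (s' : A) * θ u + (s : A) * (u : A) * θ s' + (s' : A) * (u : A) * θ s) * hu

/-- the extension of `θ` to `A_g` -/
noncomputable def DL (g : A) : L g A →+ L g A where
  toFun x := LocalizedModule.liftOn x
    (fun p => LocalizedModule.mk ((p.2 : A) • θ p.1 - θ p.2 • p.1) (p.2 * p.2)) (wd θ g)
  map_zero' := by
    rw [← LocalizedModule.zero_mk (1 : Submonoid.powers g), LocalizedModule.liftOn_mk]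
    simp
  map_add' x y := by
    induction x using LocalizedModule.induction_on with
    | h m s =>
      induction y using LocalizedModule.induction_on with
      | h m' t =>
        rw [LocalizedModule.mk_add_mk, LocalizedModule.liftOn_mk, LocalizedModule.liftOn_mk,
          LocalizedModule.liftOn_mk, LocalizedModule.mk_add_mk, LocalizedModule.mk_eq]
        refine ⟨1, ?_⟩
        simp only [Submonoid.smul_def, Submonoid.coe_mul, smul_eq_mul, Submonoid.coe_one, map_add,
          Derivation.leibniz]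
        ring

theorem DL_mk (g m : A) (s : Submonoid.powers g) : DL θ g (LocalizedModule.mk m s) =
    LocalizedModule.mk ((s : A) • θ m - θ s • m) (s * s) :=
  LocalizedModule.liftOn_mk (wd θ g) m s

theorem isOp_DL (g : A) : IsOp θ (DL θ g) := fun a x => by
  induction x using LocalizedModule.induction_on with
  | h m s =>
    rw [LocalizedModule.smul'_mk, DL_mk, DL_mk, LocalizedModule.smul'_mk, LocalizedModule.smul'_mk,
      LocalizedModule.mk_add_mk, LocalizedModule.mk_eq]
    refine ⟨1, ?_⟩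
    simp only [Submonoid.smul_def, Submonoid.coe_mul, smul_eq_mul, Submonoid.coe_one, Derivation.leibniz]
    ring

theorem DL_loc (g : A) (m : A) : DL θ g (loc (A := A) g A m) = loc (A := A) g A (θ m) := by
  show DL θ g (LocalizedModule.mk m 1) = LocalizedModule.mk (θ m) 1
  rw [DL_mk]
  simp

theorem res_DL {g g' : A} (h : g ∣ g') (x : L g A) : res h A (DL θ g x) = DL θ g' (res h A x) := by
  let E : L g A →ₗ[A] L g' A :=
    { toFun := fun x => res h A (DL θ g x) - DL θ g' (res h A x)
      map_add' := fun a b => by simp only [map_add]; abel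
      map_smul' := fun a x => by
        simp only [RingHom.id_apply]
        rw [isOp_DL, map_smul (res h A), isOp_DL, map_add, map_smul, map_smul]
        module }
  have hE : E = 0 := KoszulCech.ext_loc h fun m => by
    show res h A (DL θ g (loc g A m)) - DL θ g' (res h A (loc g A m)) = 0
    rw [DL_loc, KoszulCech.res_loc, KoszulCech.res_loc, DL_loc, sub_self]
  exact sub_eq_zero.mp (LinearMap.congr_fun hE x)

variable {ι : Type u} (f : ι → A)

/-- the operator on cochains -/
noncomputable def DC (q : ℕ) : C f q A →+ C f q A where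
  toFun s x := DL θ (tp f x) (s x)
  map_zero' := funext fun x => map_zero (DL θ (tp f x))
  map_add' a b := funext fun x => map_add (DL θ (tp f x)) (a x) (b x)

theorem isOp_DC (q : ℕ) : IsOp θ (DC θ f q) := fun a s => funext fun x => isOp_DL θ (tp f x) a (s x)

theorem cdM_DC (q : ℕ) (s : C f q A) : cdM f A q (DC θ f q s) = DC θ f (q + 1) (cdM f A q s) := by
  funext x
  show _ = DL θ (tp f x) (cdM f A q s x)
  rw [cdM_apply, cdM_apply, map_sum]
  refine Finset.sum_congr rfl fun j _ => ?_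
  rw [map_zsmul, ← res_DL]
  rfl

theorem aug_DC (m : A) : aug f A (θ m) = DC θ f 0 (aug f A m) :=
  funext fun x => (DL_loc θ (tp f x) m).symm

end Loc

variable [IsNoetherianRing A] (θ)

theorem exists_op_H (I : Ideal A) (i : ℕ) : ∃ D : _root_.LocCoh.H I i A →+ _root_.LocCoh.H I i A, IsOp θ D := by
  classical
  obtain ⟨s, hs⟩ := IsNoetherian.noetherian I
  let fs := s.toList
  have hI : Ideal.span {a : A | a ∈ fs} = I := by simp [fs, ← hs]
  subst hI
  let f : {a // a ∈ fs} → A := Subtype.val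
  have hf : ∀ a, a ∈ fs ↔ ∃ j, f j = a := fun a => ⟨fun h => ⟨⟨a, h⟩, rfl⟩, fun ⟨j, hj⟩ => hj ▸ j.2⟩
  obtain ⟨e⟩ := nonempty_H_equiv_limH fs i A
  refine exists_of_equiv e ?_
  match i with
  | 0 =>
    obtain ⟨e'⟩ := KoszulCech.limH_bot fs (ModuleCat.of A A) (((0 : ℕ) : ℤ) - fs.length) (by simp)
    refine exists_of_equiv e' ⟨{ toFun := fun z => ⟨θ z.1, fun a ha => ?_⟩
                                 map_zero' := Subtype.ext (map_zero θ)
                                 map_add' := fun a b => Subtype.ext (map_add θ _ _) }, fun a z => Subtype.ext ?_⟩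
    · obtain ⟨k, hk⟩ := z.2 a ha
      simp only [smul_eq_mul] at hk
      refine ⟨k + 1, ?_⟩
      have hd := congrArg θ hk
      simp only [Derivation.leibniz, Derivation.leibniz_pow, map_zero, smul_eq_mul, nsmul_eq_mul] at hd
      show a ^ (k + 1) * θ z.1 = 0
      rcases k with - | j
      · simp only [pow_zero, one_mul] at hk
        rw [hk, map_zero, mul_zero]
      · simp only [Nat.add_sub_cancel] at hd
        linear_combination a * hd - (((j + 1 : ℕ) : A) * θ a) * hk
    · show θ (a • z.1) = θ a • z.1 + a • θ z.1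
      simp only [smul_eq_mul, Derivation.leibniz]
      ring
  | 1 =>
    obtain ⟨e'⟩ := KoszulCech.nonempty_Caug_equiv f fs A hf
    refine exists_of_equiv (show KoszulCech.limH fs (ModuleCat.of A A) (((1 : ℕ) : ℤ) - fs.length) ≃ₗ[A] _ from e'.symm) ?_
    exact exists_homAt (aug f A) (cdM f A 0) (isOp_DC θ f 0) (aug_DC θ f) (cdM_DC θ f 0) (map_zero _)
  | q + 2 =>
    obtain ⟨e'⟩ := KoszulCech.nonempty_H1_equiv f fs hf q A
    have hq : (((q + 2 : ℕ) : ℤ) - fs.length) = ((q : ℤ) + 2 - fs.length) := by omega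
    rw [hq]
    exact exists_of_equiv e'.symm
      (exists_homAt (cdM f A q) (cdM f A (q + 1)) (isOp_DC θ f (q + 1)) (cdM_DC θ f q) (cdM_DC θ f (q + 1)) (map_zero _))

end Groth.Agent.LocCoh.DerOp
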