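import Groth.Agent.LocCoh.TorsionInjective
import Groth.Agent.RDerLES
import Groth.Agent.S16465
import Groth.Agent.S6774

/-!
# Local cohomology is the derived functor of `Γ_I`
-/

universe u

open CategoryTheory Limits

namespace Groth.Agent.LocCoh

variable {R : Type u} [CommRing R] (I : Ideal R)

instance additive_localCohomology (i : ℕ) : (localCohomology I i).Additive where
  map_add {X Y f g} := by
    ext x
    obtain ⟨n, e, rfl⟩ := exists_ιH x
    show _ = ((localCohomology I i).map f).hom _ + ((localCohomology I i).map g).hom _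
    rw [ιH_naturality, ιH_naturality, ιH_naturality, Abelian.Ext.mk₀_add, Abelian.Ext.comp_add,
      map_add]

/-- `n ↦ Hⁿ_I` as a delta-functor. -/
noncomputable def deltaFunctor :
    DeltaF.CohDeltaFunctor (ModuleCat.{u} R) (ModuleCat.{u} R) ℕ where
  F n := localCohomology I n
  additive _ := inferInstance
  δ S hS n₀ n₁ h := ModuleCat.ofHom (δH (I := I) n₀ hS) ≫
    eqToHom (congrArg (fun m => (localCohomology I m).obj S.X₁) h)
  δ_natural {S S'} hS hS' φ n₀ n₁ h := by
    subst h
    ext x
    obtain ⟨n, e, rfl⟩ := exists_ιH x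
    show δH n₀ hS' (((localCohomology I n₀).map φ.τ₃).hom _) =
      ((localCohomology I (n₀ + 1)).map φ.τ₁).hom (δH n₀ hS _)
    rw [ιH_naturality, δH_ι, δH_ι, ιH_naturality, Abelian.Ext.comp_assoc_of_second_deg_zero,
      Abelian.Ext.comp_assoc_of_third_deg_zero, ← ShortComplex.ShortExact.extClass_naturality hS hS' φ]
  exact₂ S hS n :=
    (ShortComplex.ShortExact.moduleCat_exact_iff_function_exact _).mpr (exact₂ (I := I) (i := n) hS)
  comp_δ S hS n₀ n₁ h := by
    subst h
    ext x
    exact (exact₃ (I := I) (i := n₀) hS).apply_apply_eq_zero x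
  exact₃ S hS n₀ n₁ h := by
    subst h
    exact (ShortComplex.ShortExact.moduleCat_exact_iff_function_exact _).mpr
      (exact₃ (I := I) (i := n₀) hS)
  δ_comp S hS n₀ n₁ h := by
    subst h
    ext x
    exact (exact₁ (I := I) (i := n₀) hS).apply_apply_eq_zero x
  exact₁ S hS n₀ n₁ h := by
    subst h
    exact (ShortComplex.ShortExact.moduleCat_exact_iff_function_exact _).mpr
      (exact₁ (I := I) (i := n₀) hS)

theorem isEffaceable_deltaFunctor : (deltaFunctor I).IsEffaceable := fun n X =>
  ⟨Injective.under X, Injective.ι X, inferInstance, by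
    have := subsingleton_H_succ_of_injective (I := I) (i := n) (Injective.under X)
    ext x
    exact this.elim _ _⟩

/-- `H⁰_I ≅ Γ_I`. -/
noncomputable def H0Iso : localCohomology I 0 ≅ DRing.gammaI I :=
  NatIso.ofComponents (fun M => (H0Equiv I M).toModuleIso) fun {M N} g => by
    ext x
    exact Subtype.ext (H0Equiv_naturality g x)

instance preservesFiniteLimits_gammaI : PreservesFiniteLimits (DRing.gammaI I) := by
  rw [Functor.preservesFiniteLimits_iff_forall_exact_map_and_mono]
  intro S hS
  have hf := (ModuleCat.mono_iff_injective S.f).mp hS.mono_f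
  have hex := (ShortComplex.ShortExact.moduleCat_exact_iff_function_exact S).mp hS.exact
  refine ⟨(ShortComplex.ShortExact.moduleCat_exact_iff_function_exact _).mpr fun y => ?_,
    (ModuleCat.mono_iff_injective _).mpr fun a b hab => Subtype.ext (hf (congrArg Subtype.val hab))⟩
  constructor
  · intro hy
    obtain ⟨x, hx⟩ := (hex y.1).mp (congrArg Subtype.val hy)
    obtain ⟨n, hn⟩ := y.2
    exact ⟨⟨x, n, fun a ha => hf (by rw [map_smul, hx, hn a ha, map_zero])⟩, Subtype.ext hx⟩
  · rintro ⟨x, rfl⟩
    exact Subtype.ext (hex.apply_apply_eq_zero x.1)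

theorem nonempty_rightDerived_gammaI_iso (i : ℕ) :
    Nonempty ((DRing.gammaI I).rightDerived i ≅ localCohomology I i) := by
  let Δ := RDerLES.derivedLES (DRing.gammaI I)
  obtain ⟨φ, -⟩ := Groth.Agent.S6774.result Δ.toCohDeltaFunctor (deltaFunctor I)
    (Groth.Agent.S16465.result (DRing.gammaI I) Δ) (DFBasic.isUniversal (isEffaceable_deltaFunctor I))
    ((DRing.gammaI I).rightDerivedZeroIsoSelf ≪≫ (H0Iso I).symm)
  exact ⟨{ hom := φ.hom.app i
           inv := φ.inv.app i
           hom_inv_id := congrArg (fun t => t.app i) φ.hom_inv_id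
           inv_hom_id := congrArg (fun t => t.app i) φ.inv_hom_id }⟩

end Groth.Agent.LocCoh
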