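import Groth.Agent.CohAff.CechH
import Groth.Agent.CohAff.AffineCech
import Groth.Agent.WeakAssSch.Unit
import Mathlib.RingTheory.Etale.Kaehler
import Mathlib.AlgebraicGeometry.Morphisms.Etale
import Groth.Prelude.Def_Coh

/-!
# A derivation of the base acts on the cohomology of an étale separated scheme
-/

set_option linter.style.haveILetI false

universe u

open CategoryTheory AlgebraicGeometry Opposite TopologicalSpace
open scoped TensorProduct

namespace Groth.Agent.LocCoh.EtaleDerOp

open Groth.Agent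

theorem isAffineOpen_inter {X : Scheme.{u}} [X.IsSeparated] {ι : Type u} (U : ι → X.Opens)
    (hU : ∀ i, IsAffineOpen (U i)) : ∀ {n : ℕ} (x : Fin (n + 1) → ι),
    IsAffineOpen (X := X) (CohAff.inter (X := X.toPresheafedSpace.carrier) U x)
  | 0, x => by
    have : CohAff.inter (X := X.toPresheafedSpace.carrier) U x = U (x 0) :=
      le_antisymm (CohAff.inter_le _ x 0) (CohAff.le_inter fun a => by rw [Fin.eq_zero a])
    rw [this]
    exact hU _
  | n + 1, x => by
    have : CohAff.inter (X := X.toPresheafedSpace.carrier) U x =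
        U (x 0) ⊓ CohAff.inter (X := X.toPresheafedSpace.carrier) U (fun a => x a.succ) := by
      refine le_antisymm (le_inf (CohAff.inter_le _ x 0)
        (CohAff.le_inter fun a => CohAff.inter_le _ x a.succ)) (CohAff.le_inter fun a => ?_)
      refine Fin.cases inf_le_left (fun b => inf_le_right.trans ?_) a
      exact CohAff.inter_le (X := X.toPresheafedSpace.carrier) U (fun a => x a.succ) b
    rw [this]
    exact (hU _).inf (isAffineOpen_inter U hU _)

section Ring

variable (A B : Type u) [CommRing A] [CommRing B] [Algebra A B]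

/-- derivations extend to formally étale algebras -/
theorem exists_der [Algebra.FormallyEtale A B] (θ : Derivation ℤ A A) :
    ∃ D : B →+ B, (∀ x y, D (x * y) = x * D y + y * D x) ∧ ∀ a, D (algebraMap A B a) = algebraMap A B (θ a) := by
  let δ : Derivation ℤ A B := (Algebra.linearMap A B).compDer θ
  let ψ : B ⊗[A] Ω[A⁄ℤ] →ₗ[B] B := δ.liftKaehlerDifferential.liftBaseChange B
  let Dd := (ψ ∘ₗ (KaehlerDifferential.tensorKaehlerEquivOfFormallyEtale ℤ A B).symm.toLinearMap).compDer
    (KaehlerDifferential.D ℤ B)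
  refine ⟨Dd.toLinearMap.toAddMonoidHom, fun x y => Dd.leibniz x y, fun a => ?_⟩
  show ψ ((KaehlerDifferential.tensorKaehlerEquivOfFormallyEtale ℤ A B).symm (KaehlerDifferential.D ℤ B (algebraMap A B a))) = _
  rw [KaehlerDifferential.tensorKaehlerEquivOfFormallyEtale_symm_D_algebraMap, LinearMap.liftBaseChange_tmul, one_smul,
    Derivation.liftKaehlerDifferential_comp_D]
  rfl

/-- derivations vanishing on the base vanish on formally unramified algebras -/
theorem der_eq_zero [Algebra.FormallyUnramified A B] {C : Type u} [CommRing C] (φ : B →+* C) (D : B →+ C)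
    (hmul : ∀ x y, D (x * y) = φ x * D y + φ y * D x) (hA : ∀ a, D (algebraMap A B a) = 0) (x : B) : D x = 0 := by
  letI : Algebra B C := φ.toAlgebra
  letI : Algebra A C := (φ.comp (algebraMap A B)).toAlgebra
  haveI : IsScalarTower A B C := IsScalarTower.of_algebraMap_eq' rfl
  let d : Derivation A B C := Derivation.mk'
    { toFun := D
      map_add' := map_add D
      map_smul' := fun a y => by
        rw [Algebra.smul_def, hmul, hA, mul_zero, add_zero]
        rfl } fun y z => hmul y z
  show d x = 0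
  rw [← Derivation.liftKaehlerDifferential_comp_D d x, Subsingleton.elim (KaehlerDifferential.D A B x) 0, map_zero]

end Ring

variable {A : Type u} [CommRing A] {V : Scheme.{u}} [V.Over (Spec (CommRingCat.of A))]

/-- the structure map on sections -/
noncomputable def str (W : V.Opens) : A →+* Γ(V, W) :=
  (V.presheaf.map (homOfLE (le_top : W ≤ ⊤)).op).hom.comp (Coh.toGlobal (V ↘ Spec (CommRingCat.of A)))

theorem str_res {W W' : V.Opens} (h : W' ≤ W) (a : A) : V.presheaf.map (homOfLE h).op (str W a) = str W' a := by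
  show (V.presheaf.map _ ≫ V.presheaf.map _).hom (Coh.toGlobal _ a) = _
  rw [← Functor.map_comp]
  rfl

theorem etale_str [Etale (V ↘ Spec (CommRingCat.of A))] {W : V.Opens} (hW : IsAffineOpen W) : (str (A := A) W).Etale := by
  have h := HasRingHomProperty.appLE @Etale (V ↘ Spec (CommRingCat.of A)) inferInstance
    ⟨⊤, isAffineOpen_top _⟩ ⟨W, hW⟩ le_top
  exact RingHom.Etale.propertyIsLocal.respectsIso.2 _
    ((Scheme.ΓSpecIso (CommRingCat.of A)).symm.commRingCatIsoToRingEquiv) h

variable (θ : Derivation ℤ A A)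

/-- an extension of `θ` to the sections over `W` -/
def IsExt (W : V.Opens) (D : Γ(V, W) →+ Γ(V, W)) : Prop :=
  (∀ x y, D (x * y) = x * D y + y * D x) ∧ ∀ a, D (str W a) = str W (θ a)

theorem exists_ext [Etale (V ↘ Spec (CommRingCat.of A))] {W : V.Opens} (hW : IsAffineOpen W) : ∃ D, IsExt θ W D := by
  letI : Algebra A Γ(V, W) := (str W).toAlgebra
  haveI : Algebra.Etale A Γ(V, W) := etale_str hW
  exact exists_der A Γ(V, W) θ

variable {θ}

theorem res_ext [Etale (V ↘ Spec (CommRingCat.of A))] {W W' : V.Opens} (hW : IsAffineOpen W) (h : W' ≤ W)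
    {D : Γ(V, W) →+ Γ(V, W)} {D' : Γ(V, W') →+ Γ(V, W')} (hD : IsExt θ W D) (hD' : IsExt θ W' D') (x : Γ(V, W)) :
    V.presheaf.map (homOfLE h).op (D x) = D' (V.presheaf.map (homOfLE h).op x) := by
  letI : Algebra A Γ(V, W) := (str W).toAlgebra
  haveI : Algebra.Etale A Γ(V, W) := etale_str hW
  let r := (V.presheaf.map (homOfLE h).op).hom
  refine sub_eq_zero.1 (der_eq_zero A Γ(V, W) r (r.toAddMonoidHom.comp D - D'.comp r.toAddMonoidHom) (fun y z => ?_)
    (fun a => ?_) x)
  · show r (D (y * z)) - D' (r (y * z)) = r y * (r (D z) - D' (r z)) + r z * (r (D y) - D' (r y))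
    rw [hD.1, map_add, map_mul, map_mul, map_mul r y z, hD'.1]
    ring
  · show r (D (str W a)) - D' (r (str W a)) = 0
    rw [hD.2, show r (str W (θ a)) = str W' (θ a) from str_res h _, show r (str W a) = str W' a from str_res h a,
      hD'.2, sub_self]

section Op

variable [IsSeparated (V ↘ Spec (CommRingCat.of A))] [Etale (V ↘ Spec (CommRingCat.of A))]

variable (θ) in
/-- the operator exists -/
theorem exists_op (i : ℕ) : ∃ D : Coh.HH V (Coh.structureModule V) i →+ Coh.HH V (Coh.structureModule V) i,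
    ∀ (a : A) (ξ : Coh.HH V (Coh.structureModule V) i), D (a • ξ) = θ a • ξ + a • D ξ := by
  haveI : V.IsSeparated := ⟨by rw [← Limits.terminal.comp_from (V ↘ Spec (CommRingCat.of A))]; infer_instance⟩
  let F := Coh.toAb (Coh.structureModule V)
  haveI : (Coh.structureModule V).IsQuasicoherent := WeakAssSch.isQuasicoherent_unit V
  let U : V.affineOpens → V.Opens := fun W => W
  have hU : ⨆ W, U W = ⊤ := iSup_affineOpens_eq_top V
  have haff : ∀ {q : ℕ} (x : Fin (q + 1) → V.affineOpens), IsAffineOpen (X := V) (CohAff.inter U x) := fun x =>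
    isAffineOpen_inter U (fun W => W.2) x
  choose δ hδ using fun (q : ℕ) (x : Fin (q + 1) → V.affineOpens) => exists_ext θ (haff x)
  let DC : ∀ q, CohAff.Cochain F.obj U q →+ CohAff.Cochain F.obj U q := fun q =>
    AddMonoidHom.mk' (fun c x => δ q x (c x)) fun c c' => funext fun x => map_add (δ q x) _ _
  have hcd : ∀ q c, CohAff.cd F.obj U q (DC q c) = DC (q + 1) (CohAff.cd F.obj U q c) := fun q c => funext fun x => by
    show _ = δ (q + 1) x (CohAff.cd F.obj U q c x)
    rw [CohAff.cd_apply, CohAff.cd_apply]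
    refine Eq.trans ?_ (map_sum (δ (q + 1) x) _ _).symm
    refine Finset.sum_congr rfl fun j _ => ?_
    refine Eq.trans ?_ (map_zsmul (δ (q + 1) x) _ _).symm
    exact congrArg _ (res_ext (haff _) _ (hδ q _) (hδ (q + 1) x) _)
  let act : A → (F ⟶ F) := fun a => Coh.smulAb _ (Coh.toGlobal (V ↘ Spec (CommRingCat.of A)) a)
  have hleib : ∀ q a c, DC q (CohAff.cmap (act a).hom U q c) =
      CohAff.cmap (act (θ a)).hom U q c + CohAff.cmap (act a).hom U q (DC q c) := fun q a c => funext fun x => by
    show δ q x (str _ a * (show Γ(V, CohAff.inter U x) from c x)) =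
      str _ (θ a) * (show Γ(V, CohAff.inter U x) from c x) + str _ a * δ q x (c x)
    rw [(hδ q x).1, (hδ q x).2]
    ring
  have hsurj : ∀ h, ∃ c hc, CohAff.toH hU i F c hc = h := fun h =>
    CohAff.exists_toH_eq (C := CohAff.affCov V) hU (fun x => haff x) (CohAff.good_affCov _) h
  let K := (CohAff.cd F.obj U i).ker
  let p : K →+ Coh.HH V (Coh.structureModule V) i := CohAff.toHHom hU i F
  let e : K →+ Coh.HH V (Coh.structureModule V) i := p.comp
    (((DC i).comp K.subtype).codRestrict K fun c => by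
      show CohAff.cd F.obj U i (DC i c.1) = 0
      rw [hcd, c.2, map_zero])
  have hker : p.ker ≤ e.ker := fun c hc => by
    show CohAff.toH hU i F (DC i c.1) _ = 0
    cases i with
    | zero =>
      have h0 : c.1 = 0 := by
        obtain ⟨s, hs⟩ := CohAff.exists_aug_eq F hU c.2
        have h1 : CohAff.toH hU 0 F c.1 c.2 = 0 := hc
        rw [CohAff.toH_zero_eq hU F c.2 hs, AddEquiv.map_eq_zero_iff] at h1
        rw [← hs, h1, map_zero]
      exact (CohAff.toH_congr hU (by rw [h0, map_zero]) _ (map_zero _)).trans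
        (map_zero (CohAff.toHHom hU 0 F))
    | succ n =>
      obtain ⟨t, ht⟩ := CohAff.exists_cd_eq_of_toH_eq_zero (C := CohAff.affCov V) hU (fun x => haff x)
        (CohAff.good_affCov _) c.2 hc
      exact (CohAff.toH_congr hU (by rw [hcd, ht]) _ _).trans (CohAff.toH_cd hU F (DC n t))
  have hp : Function.Surjective p := fun h => by
    obtain ⟨c, hc, rfl⟩ := hsurj h
    exact ⟨⟨c, hc⟩, rfl⟩
  refine ⟨p.liftOfSurjective hp ⟨e, hker⟩, fun a ξ => ?_⟩
  obtain ⟨c, rfl⟩ := hp ξ
  have hD : ∀ d : K, p.liftOfSurjective hp ⟨e, hker⟩ (p d) = e d := fun d =>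
    p.liftOfRightInverse_comp_apply _ _ ⟨e, hker⟩ d
  let sm : A → K → K := fun b d => ⟨CohAff.cmap (act b).hom U i d.1, by
    show CohAff.cd F.obj U i _ = 0
    rw [CohAff.cd_cmap, d.2, map_zero]⟩
  have hsm : ∀ b d, p (sm b d) = b • p d := fun b d => CohAff.toH_map hU (act b) d.1 d.2
  rw [← hsm a c, hD, hD, ← hsm (θ a) c]
  show p _ = p (sm (θ a) c) + a • p _
  rw [← hsm a, ← map_add]
  exact congrArg p (Subtype.ext (hleib i a c.1))

end Op

end Groth.Agent.LocCoh.EtaleDerOp
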