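import Groth.Agent.LocCoh.Basic

/-!
# Uniform vanishing of the transition maps above the cohomological dimension
-/

universe u

open CategoryTheory Limits

namespace Groth.Agent.LocCoh

variable {R : Type u} [CommRing R] {I : Ideal R}

/-- Every class in `Extⁱ(X, -)` is a pushforward of one universal class. -/
theorem exists_universal_ext : ∀ (i : ℕ) (X : ModuleCat.{u} R), ∃ (K : ModuleCat.{u} R)
    (c : Abelian.Ext X K i), ∀ (N : ModuleCat.{u} R) (e : Abelian.Ext X N i),
      ∃ g : K ⟶ N, c.comp (Abelian.Ext.mk₀ g) (add_zero i) = e := by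
  intro i
  induction i with
  | zero =>
    intro X
    refine ⟨X, Abelian.Ext.mk₀ (𝟙 X), fun N e => ⟨Abelian.Ext.homEquiv₀ e, ?_⟩⟩
    rw [Abelian.Ext.mk₀_comp_mk₀, Category.id_comp, Abelian.Ext.mk₀_homEquiv₀_apply]
  | succ i ih =>
    intro X
    let S := ShortComplex.mk (kernel.ι (Projective.π X)) (Projective.π X) (kernel.condition _)
    have hS : S.ShortExact := { exact := ShortComplex.exact_kernel (Projective.π X) }
    obtain ⟨K, c, hc⟩ := ih S.X₁
    refine ⟨K, hS.extClass.comp c (add_comm 1 i), fun N e => ?_⟩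
    have : Projective S.X₂ := inferInstanceAs (Projective (Projective.over X))
    obtain ⟨x, hx⟩ := Abelian.Ext.contravariant_sequence_exact₃ hS N e
      (Abelian.Ext.eq_zero_of_projective _) (add_comm 1 i)
    obtain ⟨g, rfl⟩ := hc N x
    exact ⟨g, by rw [Abelian.Ext.comp_assoc_of_third_deg_zero, hx]⟩

/-- If `H^{e+1}_I` vanishes on all modules, the transition maps kill `Extⁱ(R ⧸ Iⁿ, -)`, `i > e`,
uniformly. -/
theorem exists_transition_eq_zero {e : ℕ} (he : _root_.LocCoh.CdLE R I e) (n : ℕ) :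
    ∃ (m : ℕ) (hm : n < m), ∀ (N : ModuleCat.{u} R) (i : ℕ), e < i →
      ∀ x : Abelian.Ext (quotPow I n) N i,
        (Abelian.Ext.mk₀ (qpow I (Nat.le_of_lt hm))).comp x (zero_add i) = 0 := by
  obtain ⟨K, c, hc⟩ := exists_universal_ext (e + 1) (quotPow I n)
  have := he K (e + 1) (Nat.lt_succ_self e)
  obtain ⟨m, hnm, hm⟩ := (subsingleton_H_iff (M := K)).mp this n c
  have hm' : n < m + 1 := Nat.lt_succ_of_le hnm
  have hzero : (Abelian.Ext.mk₀ (qpow I (Nat.le_of_lt hm'))).comp c (zero_add (e + 1)) = 0 := by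
    have hq : qpow I (Nat.le_of_lt hm') = qpow I (Nat.le_succ m) ≫ qpow I hnm := by
      refine ModuleCat.hom_ext (LinearMap.ext fun x => ?_)
      obtain ⟨y, rfl⟩ := Ideal.Quotient.mk_surjective x
      rfl
    rw [hq, ← Abelian.Ext.mk₀_comp_mk₀_assoc, hm, Abelian.Ext.comp_zero]
  refine ⟨m + 1, hm', fun N i hi => ?_⟩
  obtain ⟨k, rfl⟩ : ∃ k, i = e + 1 + k := ⟨i - (e + 1), by omega⟩
  clear hi
  induction k generalizing N with
  | zero =>
    intro x
    obtain ⟨g, rfl⟩ := hc N x
    rw [← Abelian.Ext.comp_assoc_of_third_deg_zero, hzero, Abelian.Ext.zero_comp]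
  | succ k ih =>
    intro x
    let S := ShortComplex.mk (Injective.ι N) (cokernel.π _) (cokernel.condition (Injective.ι N))
    have hS : S.ShortExact := { exact := ShortComplex.exact_cokernel _ }
    have : Injective S.X₂ := inferInstanceAs (Injective (Injective.under N))
    obtain ⟨y, rfl⟩ := Abelian.Ext.covariant_sequence_exact₁ _ hS x
      (Abelian.Ext.eq_zero_of_injective _) (show (e + 1 + k) + 1 = e + 1 + (k + 1) from rfl)
    rw [← Abelian.Ext.comp_assoc (a₁₂ := e + 1 + k) _ _ _ (zero_add _) rfl (by lia),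
      ih S.X₃ y, Abelian.Ext.zero_comp]

end Groth.Agent.LocCoh
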