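import Mathlib.CategoryTheory.Monoidal.Tor
import Mathlib.CategoryTheory.Abelian.LeftDerived
import Mathlib.Algebra.Category.ModuleCat.Monoidal.Closed
import Mathlib.Algebra.Category.ModuleCat.Projective
import Mathlib.Algebra.Category.ModuleCat.Abelian
import Mathlib.Algebra.Homology.HomologicalComplexAbelian
import Mathlib.Algebra.Homology.HomologySequence
import Mathlib.Algebra.Homology.HomologySequenceLemmas
import Mathlib.Algebra.Homology.ShortComplex.ModuleCat
import Mathlib.RingTheory.Flat.Basic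
import Mathlib.LinearAlgebra.TensorProduct.RightExactness

/-!
# The long exact sequence of `Tor` in the first variable, natural in everything

* `tf g n N`, `ts M n h`: functoriality in the first and second variable;
* `torδ`, `tor_exact₁/₂/₃`, `torδ_naturality`, `torδ_naturality_left`;
* `t0Equiv` and its naturality; `tor_succ_eq_zero_of_flat`.
-/

universe u

open CategoryTheory CategoryTheory.Limits MonoidalCategory

set_option linter.unusedVariables false

namespace Groth.Agent.LocCoh.Tor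

variable {A : Type u} [CommRing A]

/-- `Tor_n(M, N)` -/
noncomputable abbrev T (n : ℕ) (M N : ModuleCat.{u} A) : ModuleCat.{u} A :=
  ((CategoryTheory.Tor (ModuleCat.{u} A) n).obj M).obj N

/-- functoriality in the first variable -/
noncomputable abbrev tf {M M' : ModuleCat.{u} A} (g : M ⟶ M') (n : ℕ) (N : ModuleCat.{u} A) :
    T n M N ⟶ T n M' N :=
  ((CategoryTheory.Tor (ModuleCat.{u} A) n).map g).app N

/-- functoriality in the second variable -/
noncomputable abbrev ts (M : ModuleCat.{u} A) (n : ℕ) {N N' : ModuleCat.{u} A} (h : N ⟶ N') :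
    T n M N ⟶ T n M N' :=
  ((CategoryTheory.Tor (ModuleCat.{u} A) n).obj M).map h

theorem tf_ts {M M' : ModuleCat.{u} A} (g : M ⟶ M') (n : ℕ) {N N' : ModuleCat.{u} A} (h : N ⟶ N') :
    tf g n N ≫ ts M' n h = ts M n h ≫ tf g n N' :=
  (((CategoryTheory.Tor (ModuleCat.{u} A) n).map g).naturality h).symm

theorem conj_sq {C : Type*} [Category C] {X₁ X₃ H₁ H₃ Y₁ Y₃ K₁ K₃ : C} (a₁ : X₁ ≅ H₁) (a₃ : X₃ ≅ H₃)
    (b₁ : Y₁ ≅ K₁) (b₃ : Y₃ ≅ K₃) {d : H₃ ⟶ H₁} {d' : K₃ ⟶ K₁} {u : X₁ ⟶ Y₁} {v : X₃ ⟶ Y₃}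
    {p : H₁ ⟶ K₁} {q : H₃ ⟶ K₃} (h₁ : u ≫ b₁.hom = a₁.hom ≫ p) (h₃ : v ≫ b₃.hom = a₃.hom ≫ q)
    (hd : d ≫ p = q ≫ d') : (a₃.hom ≫ d ≫ a₁.inv) ≫ u = v ≫ (b₃.hom ≫ d' ≫ b₁.inv) := by
  have hu : u = a₁.hom ≫ p ≫ b₁.inv := by rw [← reassoc_of% h₁, Iso.hom_inv_id, Category.comp_id]
  rw [hu, reassoc_of% h₃]
  simp only [Category.assoc, Iso.inv_hom_id_assoc, reassoc_of% hd]

theorem conj_zero {C : Type*} [Category C] {X Y H K O P T U : C} (a : X ≅ H) (b : Y ≅ K) {m : H ⟶ K}
    {i : K ⟶ O} {l : O ⟶ T} {i' : H ⟶ P} {l' : P ⟶ U} {t : U ⟶ T}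
    (h : m ≫ i ≫ l = i' ≫ l' ≫ t) : (a.hom ≫ m ≫ b.inv) ≫ (b.hom ≫ i ≫ l) = (a.hom ≫ i' ≫ l') ≫ t := by
  simp only [Category.assoc, Iso.inv_hom_id_assoc, h]

theorem sq_of_eq {C : Type*} [Category C] {X X' Y Y' : C} (a : X ≅ X') (b : Y ≅ Y') {f : X ⟶ Y} {f' : X' ⟶ Y'}
    (h : f = a.hom ≫ f' ≫ b.inv) : f ≫ b.hom = a.hom ≫ f' := by
  rw [h, Category.assoc, Category.assoc, Iso.inv_hom_id, Category.comp_id]

variable {N : ModuleCat.{u} A} (R : ProjectiveResolution N)

/-- `M ↦ M ⊗ R` -/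
noncomputable def tC : ModuleCat.{u} A ⥤ ChainComplex (ModuleCat.{u} A) ℕ where
  obj M := (((tensoringLeft (ModuleCat.{u} A)).obj M).mapHomologicalComplex (ComplexShape.down ℕ)).obj R.complex
  map g := (NatTrans.mapHomologicalComplex ((tensoringLeft (ModuleCat.{u} A)).map g) (ComplexShape.down ℕ)).app R.complex
  map_id M := HomologicalComplex.hom_ext _ _ fun n => MonoidalCategory.id_whiskerRight _ _
  map_comp f g := HomologicalComplex.hom_ext _ _ fun n => MonoidalCategory.comp_whiskerRight _ _ _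

/-- `Tor_n(M, N) ≅ H_n(M ⊗ R)` -/
noncomputable def tIso (n : ℕ) (M : ModuleCat.{u} A) : T n M N ≅ ((tC R).obj M).homology n :=
  R.isoLeftDerivedObj ((tensoringLeft (ModuleCat.{u} A)).obj M) n

theorem tIso_naturality {M M' : ModuleCat.{u} A} (g : M ⟶ M') (n : ℕ) :
    tf g n N ≫ (tIso R n M').hom = (tIso R n M).hom ≫ HomologicalComplex.homologyMap ((tC R).map g) n := by
  exact sq_of_eq (tIso R n M) (tIso R n M') (R.leftDerived_app_eq ((tensoringLeft (ModuleCat.{u} A)).map g) n)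

variable {R} in
/-- the map `M ⊗ R → M ⊗ R'` -/
noncomputable def tCφ {N' : ModuleCat.{u} A} {R' : ProjectiveResolution N'} (φ : R.complex ⟶ R'.complex) :
    tC R ⟶ tC R' where
  app M := (((tensoringLeft (ModuleCat.{u} A)).obj M).mapHomologicalComplex (ComplexShape.down ℕ)).map φ
  naturality M M' g := HomologicalComplex.hom_ext _ _ fun n => (whisker_exchange g (φ.f n)).symm

theorem tIso_naturality' {N' : ModuleCat.{u} A} (R' : ProjectiveResolution N') {h : N ⟶ N'}
    (φ : R.complex ⟶ R'.complex) (hφ : φ.f 0 ≫ R'.π.f 0 = R.π.f 0 ≫ h) (M : ModuleCat.{u} A) (n : ℕ) :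
    ts M n h ≫ (tIso R' n M).hom = (tIso R n M).hom ≫ HomologicalComplex.homologyMap ((tCφ φ).app M) n :=
  R.isoLeftDerivedObj_hom_naturality h R' φ hφ ((tensoringLeft (ModuleCat.{u} A)).obj M) n

instance flat_X (n : ℕ) : Module.Flat A (R.complex.X n) :=
  have : Module.Projective A (R.complex.X n) :=
    (IsProjective.iff_projective _).2 (inferInstanceAs (Projective (R.complex.X n)))
  inferInstance

variable (S : ShortComplex (ModuleCat.{u} A))

/-- `S ⊗ R` -/
noncomputable def tS : ShortComplex (ChainComplex (ModuleCat.{u} A) ℕ) :=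
  ShortComplex.mk ((tC R).map S.f) ((tC R).map S.g) (by
    refine HomologicalComplex.hom_ext _ _ fun n => ?_
    change S.f ▷ R.complex.X n ≫ S.g ▷ R.complex.X n = 0
    rw [← MonoidalCategory.comp_whiskerRight, S.zero, MonoidalPreadditive.zero_whiskerRight])

variable {S}

theorem shortExact_tS (hS : S.ShortExact) : (tS R S).ShortExact :=
  HomologicalComplex.shortExact_of_degreewise_shortExact _ fun n => by
    refine
      { exact := ?_
        mono_f := (ModuleCat.mono_iff_injective _).2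
          (Module.Flat.rTensor_preserves_injective_linearMap (M := R.complex.X n) S.f.hom hS.moduleCat_injective_f)
        epi_g := (ModuleCat.epi_iff_surjective _).2
          (LinearMap.rTensor_surjective (R.complex.X n) hS.moduleCat_surjective_g) }
    rw [ShortComplex.moduleCat_exact_iff_range_eq_ker]
    exact (LinearMap.exact_iff.mp (rTensor_exact (R.complex.X n)
      ((ShortComplex.ShortExact.moduleCat_exact_iff_function_exact S).mp hS.exact) hS.moduleCat_surjective_g)).symm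

/-- the connecting map `Tor_{n+1}(X₃, N) → Tor_n(X₁, N)` -/
noncomputable def torδ (hS : S.ShortExact) (n : ℕ) (N : ModuleCat.{u} A) : T (n + 1) S.X₃ N ⟶ T n S.X₁ N :=
  (tIso (projectiveResolution N) (n + 1) S.X₃).hom ≫
    (shortExact_tS (projectiveResolution N) hS).δ (n + 1) n (by simp) ≫
      (tIso (projectiveResolution N) n S.X₁).inv

theorem torδ_naturality (hS : S.ShortExact) (n : ℕ) {N N' : ModuleCat.{u} A} (h : N ⟶ N') :
    torδ hS n N ≫ ts S.X₁ n h = ts S.X₃ (n + 1) h ≫ torδ hS n N' := by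
  let R := projectiveResolution N
  let R' := projectiveResolution N'
  let φ := ProjectiveResolution.lift h R R'
  have hφ : φ.f 0 ≫ R'.π.f 0 = R.π.f 0 ≫ h := ProjectiveResolution.lift_commutes_zero h R R'
  let Φ : tS R S ⟶ tS R' S :=
    { τ₁ := (tCφ φ).app S.X₁
      τ₂ := (tCφ φ).app S.X₂
      τ₃ := (tCφ φ).app S.X₃
      comm₁₂ := ((tCφ φ).naturality S.f).symm
      comm₂₃ := ((tCφ φ).naturality S.g).symm }
  have h1 := tIso_naturality' R R' φ hφ S.X₁ n
  have h3 := tIso_naturality' R R' φ hφ S.X₃ (n + 1)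
  have hδ : (shortExact_tS R hS).δ (n + 1) n (by simp) ≫ HomologicalComplex.homologyMap ((tCφ φ).app S.X₁) n =
      HomologicalComplex.homologyMap ((tCφ φ).app S.X₃) (n + 1) ≫ (shortExact_tS R' hS).δ (n + 1) n (by simp) :=
    HomologicalComplex.HomologySequence.δ_naturality Φ (shortExact_tS R hS) (shortExact_tS R' hS) _ _ _
  exact conj_sq _ _ _ _ h1 h3 hδ

theorem torδ_naturality_left {S' : ShortComplex (ModuleCat.{u} A)} (hS : S.ShortExact) (hS' : S'.ShortExact)
    (ψ : S ⟶ S') (n : ℕ) (N : ModuleCat.{u} A) :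
    torδ hS n N ≫ tf ψ.τ₁ n N = tf ψ.τ₃ (n + 1) N ≫ torδ hS' n N := by
  let R := projectiveResolution N
  let Φ : tS R S ⟶ tS R S' :=
    { τ₁ := (tC R).map ψ.τ₁
      τ₂ := (tC R).map ψ.τ₂
      τ₃ := (tC R).map ψ.τ₃
      comm₁₂ := by
        show (tC R).map ψ.τ₁ ≫ (tC R).map S'.f = (tC R).map S.f ≫ (tC R).map ψ.τ₂
        rw [← Functor.map_comp, ψ.comm₁₂, Functor.map_comp]
      comm₂₃ := by
        show (tC R).map ψ.τ₂ ≫ (tC R).map S'.g = (tC R).map S.g ≫ (tC R).map ψ.τ₃
        rw [← Functor.map_comp, ψ.comm₂₃, Functor.map_comp] }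
  have h1 := tIso_naturality R ψ.τ₁ n
  have h3 := tIso_naturality R ψ.τ₃ (n + 1)
  have hδ : (shortExact_tS R hS).δ (n + 1) n (by simp) ≫ HomologicalComplex.homologyMap ((tC R).map ψ.τ₁) n =
      HomologicalComplex.homologyMap ((tC R).map ψ.τ₃) (n + 1) ≫ (shortExact_tS R hS').δ (n + 1) n (by simp) :=
    HomologicalComplex.HomologySequence.δ_naturality Φ (shortExact_tS R hS) (shortExact_tS R hS') _ _ _
  exact conj_sq _ _ _ _ h1 h3 hδ

theorem exact_of_conj {X Y Z X' Y' Z' : ModuleCat.{u} A} {f : X ⟶ Y} {g : Y ⟶ Z} {f' : X' ⟶ Y'} {g' : Y' ⟶ Z'}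
    (a : X ≅ X') (b : Y ≅ Y') (c : Z ≅ Z') (hf : f ≫ b.hom = a.hom ≫ f') (hg : g ≫ c.hom = b.hom ≫ g')
    (h : Function.Exact f'.hom g'.hom) : Function.Exact f.hom g.hom := by
  refine (LinearEquiv.conj_exact_iff_exact f.hom g.hom b.toLinearEquiv).mp ?_
  have hf' : b.toLinearEquiv.toLinearMap ∘ₗ f.hom = f'.hom ∘ₗ a.toLinearEquiv.toLinearMap :=
    congrArg ModuleCat.Hom.hom hf
  have hg' : g.hom ∘ₗ b.toLinearEquiv.symm.toLinearMap = c.toLinearEquiv.symm.toLinearMap ∘ₗ g'.hom := by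
    refine LinearMap.ext fun y => c.toLinearEquiv.injective ?_
    have := congrArg (fun k => k.hom (b.toLinearEquiv.symm y)) hg
    simpa using this
  rw [hf', hg']
  intro y
  refine Iff.trans ?_ ((h y).trans ?_)
  · exact ⟨fun hy => c.toLinearEquiv.symm.injective (hy.trans (map_zero _).symm), fun hy => by simp [hy]⟩
  · exact ⟨fun ⟨x, hx⟩ => ⟨a.toLinearEquiv.symm x, by simpa using hx⟩, fun ⟨x, hx⟩ => ⟨a.toLinearEquiv x, hx⟩⟩

theorem tor_exact₂ (hS : S.ShortExact) (n : ℕ) (N : ModuleCat.{u} A) :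
    Function.Exact (tf S.f n N).hom (tf S.g n N).hom :=
  let R := projectiveResolution N
  exact_of_conj (tIso R n _) (tIso R n _) (tIso R n _) (tIso_naturality R S.f n) (tIso_naturality R S.g n)
    ((ShortComplex.ShortExact.moduleCat_exact_iff_function_exact _).mp ((shortExact_tS R hS).homology_exact₂ n))

theorem tor_exact₁ (hS : S.ShortExact) (n : ℕ) (N : ModuleCat.{u} A) :
    Function.Exact (torδ hS n N).hom (tf S.f n N).hom :=
  let R := projectiveResolution N
  exact_of_conj (tIso R (n + 1) _) (tIso R n _) (tIso R n _) (sq_of_eq _ _ rfl) (tIso_naturality R S.f n)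
    ((ShortComplex.ShortExact.moduleCat_exact_iff_function_exact _).mp
      ((shortExact_tS R hS).homology_exact₁ (n + 1) n (by simp)))

theorem tor_exact₃ (hS : S.ShortExact) (n : ℕ) (N : ModuleCat.{u} A) :
    Function.Exact (tf S.g (n + 1) N).hom (torδ hS n N).hom :=
  let R := projectiveResolution N
  exact_of_conj (tIso R (n + 1) _) (tIso R (n + 1) _) (tIso R n _) (tIso_naturality R S.g (n + 1))
    (sq_of_eq _ _ rfl)
    ((ShortComplex.ShortExact.moduleCat_exact_iff_function_exact _).mp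
      ((shortExact_tS R hS).homology_exact₃ (n + 1) n (by simp)))

theorem tor_succ_eq_zero_of_flat (M : ModuleCat.{u} A) [Module.Flat A M] (n : ℕ) (N : ModuleCat.{u} A)
    (x : T (n + 1) M N) : x = 0 := by
  let R := projectiveResolution N
  have hz : ((tC R).obj M).ExactAt (n + 1) := by
    rw [HomologicalComplex.exactAt_iff' _ (n + 2) (n + 1) n (by simp) (by simp),
      ShortComplex.ShortExact.moduleCat_exact_iff_function_exact]
    exact Module.Flat.lTensor_exact M
      ((ShortComplex.ShortExact.moduleCat_exact_iff_function_exact _).mp (R.exact_succ n))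
  have := ModuleCat.subsingleton_of_isZero (hz.isZero_homology.of_iso (tIso R (n + 1) M))
  exact Subsingleton.elim _ _

section Zero

instance (M : ModuleCat.{u} A) : PreservesFiniteColimits ((tensoringLeft (ModuleCat.{u} A)).obj M) := by
  have : PreservesColimitsOfSize.{0, 0} ((tensoringLeft (ModuleCat.{u} A)).obj M) :=
    inferInstanceAs (PreservesColimitsOfSize.{0, 0} (tensorLeft M))
  exact PreservesColimitsOfSize.preservesFiniteColimits _

/-- `Tor_0(M, N) ≅ M ⊗ N` -/
noncomputable def t0 (M N : ModuleCat.{u} A) : T 0 M N ≅ M ⊗ N :=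
  ((tensoringLeft (ModuleCat.{u} A)).obj M).leftDerivedZeroIsoSelf.app N

theorem t0_naturality (M : ModuleCat.{u} A) {N N' : ModuleCat.{u} A} (h : N ⟶ N') :
    ts M 0 h ≫ (t0 M N').hom = (t0 M N).hom ≫ M ◁ h :=
  ((tensoringLeft (ModuleCat.{u} A)).obj M).leftDerivedZeroIsoSelf.hom.naturality h

theorem fromLeftDerivedZero_naturality {C : Type*} [Category C] {D : Type*} [Category D] [Abelian C]
    [HasProjectiveResolutions C] [Abelian D] {F G : C ⥤ D} [F.Additive] [G.Additive] (α : F ⟶ G) (X : C) :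
    (NatTrans.leftDerived α 0).app X ≫ G.fromLeftDerivedZero.app X = F.fromLeftDerivedZero.app X ≫ α.app X := by
  let P := projectiveResolution X
  rw [P.fromLeftDerivedZero_eq, P.fromLeftDerivedZero_eq, P.leftDerived_app_eq]
  refine conj_zero (P.isoLeftDerivedObj F 0) (P.isoLeftDerivedObj G 0) ?_
  have h := HomologicalComplex.homologyι_naturality
    ((NatTrans.mapHomologicalComplex α (ComplexShape.down ℕ)).app P.complex) 0
  refine (reassoc_of% h) (P.fromLeftDerivedZero' G) |>.trans ?_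
  refine congrArg (HomologicalComplex.homologyι _ 0 ≫ ·) ?_
  rw [← cancel_epi (HomologicalComplex.pOpcycles _ _), HomologicalComplex.p_opcyclesMap_assoc,
    ProjectiveResolution.pOpcycles_comp_fromLeftDerivedZero',
    ProjectiveResolution.pOpcycles_comp_fromLeftDerivedZero'_assoc]
  exact (α.naturality _).symm

theorem t0_naturality_left {M M' : ModuleCat.{u} A} (g : M ⟶ M') (N : ModuleCat.{u} A) :
    tf g 0 N ≫ (t0 M' N).hom = (t0 M N).hom ≫ g ▷ N :=
  fromLeftDerivedZero_naturality ((tensoringLeft (ModuleCat.{u} A)).map g) N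

end Zero

end Groth.Agent.LocCoh.Tor
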