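import Groth.Agent.LocCoh.TorLES
import Groth.Agent.LocCoh.TorKill
import Groth.Agent.S1740
import Mathlib.Algebra.Homology.DerivedCategory.Ext.ExactSequences
import Mathlib.Algebra.Homology.DerivedCategory.Ext.EnoughProjectives

/-!
# A map kills `Ext` in a degree iff it kills `Tor` there, over a Noetherian ring
-/

universe u

open CategoryTheory

namespace Groth.Agent.LocCoh.ExtTorMap

open Groth.Agent.LocCoh.Tor

variable {R : Type u} [CommRing R]

/-- presentations lift to a morphism of kernel sequences -/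
theorem exists_seq (M M' : ModuleCat.{u} R) [IsNoetherianRing R] [Module.Finite R M] (α : M ⟶ M') :
    ∃ (S S' : ShortComplex (ModuleCat.{u} R)) (e : S.X₃ = M) (e' : S'.X₃ = M') (ψ : S ⟶ S'),
      S.ShortExact ∧ S'.ShortExact ∧ Module.Free R S.X₂ ∧ Module.Free R S'.X₂ ∧ Module.Finite R S.X₁ ∧
      ψ.τ₃ = eqToHom e ≫ α ≫ eqToHom e'.symm := by
  obtain ⟨n, π, hπ⟩ := Module.Finite.exists_fin' R M
  let π' : (↑M' →₀ R) →ₗ[R] ↑M' := Finsupp.linearCombination R (id : M' → M')
  have hπ' : Function.Surjective π' := fun x => ⟨Finsupp.single x 1, by simp [π']⟩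
  obtain ⟨l, hl⟩ := Module.projective_lifting_property π' (α.hom ∘ₗ π) hπ'
  have hlk : ∀ z ∈ LinearMap.ker π, l z ∈ LinearMap.ker π' := fun z hz => by
    rw [LinearMap.mem_ker, ← LinearMap.comp_apply, hl, LinearMap.comp_apply, LinearMap.mem_ker.mp hz, map_zero]
  refine ⟨π.shortComplexKer, π'.shortComplexKer, rfl, rfl,
    { τ₁ := ModuleCat.ofHom (l.restrict hlk)
      τ₂ := ModuleCat.ofHom l
      τ₃ := α
      comm₁₂ := rfl
      comm₂₃ := ModuleCat.hom_ext hl }, LinearMap.shortExact_shortComplexKer hπ,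
    LinearMap.shortExact_shortComplexKer hπ', Module.Free.function .., Module.Free.finsupp .., ?_, ?_⟩
  · exact Module.Finite.iff_fg.2 (IsNoetherian.noetherian (LinearMap.ker π))
  · simp

/-- `α` kills `Extᵉ⁺¹` iff it kills `Torₑ₊₁` -/
theorem ext_iff_tor [IsNoetherianRing R] : ∀ (e : ℕ) (M M' : ModuleCat.{u} R) [Module.Finite R M] (α : M ⟶ M'),
    (∀ (N : ModuleCat.{u} R) (x : Abelian.Ext M' N (e + 1)), (Abelian.Ext.mk₀ α).comp x (zero_add _) = 0) ↔
      ∀ (N : ModuleCat.{u} R) (y : T (e + 1) M N), (tf α (e + 1) N).hom y = 0 := by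
  intro e
  induction e with
  | zero =>
    intro M M' _ α
    constructor
    · intro h
      obtain ⟨S, S', rfl, rfl, ψ, hS, hS', hF, hF', -, hψ⟩ := exists_seq M M' α
      obtain ⟨y, hy⟩ := Abelian.Ext.covariant_sequence_exact₃ _ hS' (Abelian.Ext.mk₀ α) (zero_add 1)
        (h S'.X₁ hS'.extClass)
      obtain ⟨g, rfl⟩ : ∃ g : S.X₃ ⟶ S'.X₂, Abelian.Ext.mk₀ g = y :=
        ⟨_, Abelian.Ext.mk₀_homEquiv₀_apply y⟩
      rw [Abelian.Ext.mk₀_comp_mk₀] at hy
      have hα : g ≫ S'.g = α := (Abelian.Ext.mk₀_bijective _ _).1 hy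
      intro N z
      rw [← hα, tf_comp_apply, tor_succ_eq_zero_of_flat S'.X₂ 0 N ((tf g 1 N).hom z), map_zero]
    · intro h N x
      have : Module.FinitePresentation R M := Module.finitePresentation_of_finite R M
      obtain ⟨ι, g, k, hgk⟩ := S1740.result R M M' α.hom fun N _ _ => by
        ext y; exact h (ModuleCat.of R N) y
      have hα : α = ModuleCat.ofHom g ≫ ModuleCat.ofHom k := ModuleCat.hom_ext hgk
      have : Projective (ModuleCat.of R (ι →₀ R)) := ModuleCat.projective_of_free (Finsupp.basisSingleOne)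
      rw [hα, ← Abelian.Ext.mk₀_comp_mk₀, Abelian.Ext.comp_assoc_of_second_deg_zero,
        Abelian.Ext.eq_zero_of_projective ((Abelian.Ext.mk₀ (ModuleCat.ofHom k)).comp x (zero_add _)),
        Abelian.Ext.comp_zero]
  | succ e ih =>
    intro M M' _ α
    obtain ⟨S, S', rfl, rfl, ψ, hS, hS', hF, hF', hK, hψ⟩ := exists_seq M M' α
    simp only [eqToHom_refl, Category.id_comp, Category.comp_id] at hψ
    subst hψ
    have : Projective S.X₂ := ModuleCat.projective_of_free (Module.Free.chooseBasis R S.X₂)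
    have : Projective S'.X₂ := ModuleCat.projective_of_free (Module.Free.chooseBasis R S'.X₂)
    have key := ih S.X₁ S'.X₁ ψ.τ₁
    have nat := ShortComplex.ShortExact.extClass_naturality hS hS' ψ
    constructor
    · intro h N
      have hk : ∀ (N : ModuleCat.{u} R) (x : Abelian.Ext S'.X₁ N (e + 1)),
          (Abelian.Ext.mk₀ ψ.τ₁).comp x (zero_add _) = 0 := fun N x => by
        have h0 : hS.extClass.comp ((Abelian.Ext.mk₀ ψ.τ₁).comp x (zero_add _)) (add_comm 1 (e + 1)) = 0 := by
          rw [← Abelian.Ext.comp_assoc_of_second_deg_zero, nat, Abelian.Ext.comp_assoc (a₂₃ := e + 1 + 1)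
            _ _ _ _ (add_comm 1 (e + 1)) (by omega)]
          exact h N _
        obtain ⟨x₂, hx₂⟩ := Abelian.Ext.contravariant_sequence_exact₁ hS N _ (add_comm 1 (e + 1)) h0
        rw [← hx₂, Abelian.Ext.eq_zero_of_projective x₂, Abelian.Ext.comp_zero]
      intro y
      refine (injective_iff_map_eq_zero (torδ hS' (e + 1) N).hom).1 (fun a b hab => ?_) _ ?_
      · obtain ⟨z, hz⟩ := (tor_exact₃ hS' (e + 1) N (a - b)).1 (by rw [map_sub, hab, sub_self])
        rw [tor_succ_eq_zero_of_flat S'.X₂ (e + 1) N z, map_zero] at hz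
        exact sub_eq_zero.1 hz.symm
      · refine (congrArg (fun w => w.hom y) (torδ_naturality_left hS hS' ψ (e + 1) N)).symm.trans ?_
        exact key.1 hk N _
    · intro h N x
      have hk : ∀ (N : ModuleCat.{u} R) (y : T (e + 1) S.X₁ N), (tf ψ.τ₁ (e + 1) N).hom y = 0 := fun N y => by
        obtain ⟨z, rfl⟩ := (tor_exact₁ hS (e + 1) N y).1 (tor_succ_eq_zero_of_flat S.X₂ e N _)
        refine (congrArg (fun w => w.hom z) (torδ_naturality_left hS hS' ψ (e + 1) N)).trans ?_
        exact (congrArg (torδ hS' (e + 1) N).hom (h N z)).trans (map_zero _)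
      obtain ⟨x₁, rfl⟩ := Abelian.Ext.contravariant_sequence_exact₃ hS' N x
        (Abelian.Ext.eq_zero_of_projective _) (add_comm 1 (e + 1))
      rw [← Abelian.Ext.comp_assoc (a₁₂ := 1) _ _ _ (zero_add 1) (add_comm 1 (e + 1)) (by omega), ← nat,
        Abelian.Ext.comp_assoc_of_second_deg_zero, key.2 hk N x₁, Abelian.Ext.comp_zero]

end Groth.Agent.LocCoh.ExtTorMap
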