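import Groth.Prelude.Def_W4bk5brsh16IT
import Groth.Agent.LocCoh.Torsion
import Mathlib.RingTheory.Filtration
import Mathlib.Algebra.Category.ModuleCat.FilteredColimits

/-!
# The ideal transform in terms of elements

* `ιD I M n : Hom(Iⁿ, M) →ₗ D_I(M)`, `exists_ιD`, `ιD_eq_zero_iff`, `ιD_res`, `ιD_naturality`;
* `ker_toDT`, `exists_smul_eq_toDT`, `torsionSub_DT`, `subsingleton_DT_of_isPowerTorsion`;
* `bijective_map`: maps with torsion kernel and cokernel become bijective;
* `existsUnique_factor`, `bijective_toDT_DT`.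
-/

universe u

open CategoryTheory Limits Opposite


namespace Groth.Agent.LocCoh.IdealTransform

variable {R : Type u} [CommRing R] (I : Ideal R)

/-- The map `Hom(Iⁿ, M) → D_I(M)`. -/
noncomputable def ιD (M : ModuleCat.{u} R) (n : ℕ) :
    (↥(I ^ n) →ₗ[R] M) →ₗ[R] (_root_.LocCoh.idealTransform I).obj M :=
  ((colimit.ι (_root_.LocCoh.transformDiagram I) (op (op n))).app M).hom ∘ₗ
    (ModuleCat.homLinearEquiv (S := R) (M := ModuleCat.of R ↥(I ^ n)) (N := M)).symm.toLinearMap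

variable {I}

theorem ιD_hom {M : ModuleCat.{u} R} {n : ℕ} (f : ModuleCat.of R ↥(I ^ n) ⟶ M) :
    ((colimit.ι (_root_.LocCoh.transformDiagram I) (op (op n))).app M).hom f = ιD I M n f.hom :=
  rfl

theorem ιD_res (M : ModuleCat.{u} R) {n m : ℕ} (h : n ≤ m) (f : ↥(I ^ n) →ₗ[R] M) :
    ιD I M m (f ∘ₗ Submodule.inclusion (Ideal.pow_le_pow_right h)) = ιD I M n f := by
  have h1 := congrArg (fun z => z.app M) (colimit.w (_root_.LocCoh.transformDiagram I)
    ((homOfLE h).op.op : op (op n) ⟶ op (op m)))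
  exact ConcreteCategory.congr_hom h1 (ModuleCat.ofHom f : ModuleCat.of R ↥(I ^ n) ⟶ M)

theorem ιD_naturality {M N : ModuleCat.{u} R} (g : M ⟶ N) (n : ℕ) (f : ↥(I ^ n) →ₗ[R] M) :
    ((_root_.LocCoh.idealTransform I).map g).hom (ιD I M n f) = ιD I N n (g.hom ∘ₗ f) :=
  (ConcreteCategory.congr_hom ((colimit.ι (_root_.LocCoh.transformDiagram I) (op (op n))).naturality g)
    (ModuleCat.ofHom f : ModuleCat.of R ↥(I ^ n) ⟶ M)).symm

/-- The colimit cocone at `M`. -/
noncomputable def isColimitEval (M : ModuleCat.{u} R) :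
    IsColimit (((evaluation _ _).obj M).mapCocone (colimit.cocone (_root_.LocCoh.transformDiagram I))) :=
  isColimitOfPreserves _ (colimit.isColimit _)

theorem exists_ιD {M : ModuleCat.{u} R} (x : (_root_.LocCoh.idealTransform I).obj M) :
    ∃ (n : ℕ) (f : ↥(I ^ n) →ₗ[R] M), ιD I M n f = x := by
  haveI : PreservesFilteredColimitsOfSize.{0, 0} (forget (ModuleCat.{u} R)) :=
    preservesFilteredColimitsOfSize_of_univLE.{u, u} _
  obtain ⟨⟨⟨n⟩⟩, y, hy⟩ := Concrete.isColimit_exists_rep _ (isColimitEval M) x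
  exact ⟨n, y.hom, hy⟩

theorem exists_ιD_ge {M : ModuleCat.{u} R} (x : (_root_.LocCoh.idealTransform I).obj M) :
    ∃ n : ℕ, ∀ m, n ≤ m → ∃ f : ↥(I ^ m) →ₗ[R] M, ιD I M m f = x := by
  obtain ⟨n, f, rfl⟩ := exists_ιD x
  exact ⟨n, fun m h => ⟨_, ιD_res M h f⟩⟩

theorem ιD_eq_zero_iff {M : ModuleCat.{u} R} {n : ℕ} (f : ↥(I ^ n) →ₗ[R] M) :
    ιD I M n f = 0 ↔ ∃ (m : ℕ) (h : n ≤ m),
      ∀ x : ↥(I ^ m), f (Submodule.inclusion (Ideal.pow_le_pow_right h) x) = 0 := by
  constructor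
  · intro h
    haveI : PreservesFilteredColimitsOfSize.{0, 0} (forget (ModuleCat.{u} R)) :=
      preservesFilteredColimitsOfSize_of_univLE.{u, u} _
    obtain ⟨⟨⟨m⟩⟩, v, w, hvw⟩ := (Concrete.isColimit_rep_eq_iff_exists _ (isColimitEval M)
      (i := op (op n)) (j := op (op n)) (ModuleCat.ofHom f : ModuleCat.of R ↥(I ^ n) ⟶ M) 0).mp
        (h.trans (map_zero _).symm)
    have hle : n ≤ m := leOfHom v.unop.unop
    refine ⟨m, hle, fun x => ?_⟩
    have h' := hvw.trans (map_zero _)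
    exact LinearMap.congr_fun (congrArg ModuleCat.Hom.hom h') x
  · rintro ⟨m, h, hm⟩
    rw [← ιD_res M h f, show f ∘ₗ Submodule.inclusion (Ideal.pow_le_pow_right h) = 0 from
      LinearMap.ext hm, map_zero]

attribute [irreducible] ιD

variable (I)

/-- `r ↦ r • m`. -/
noncomputable abbrev mulHom {M : Type u} [AddCommGroup M] [Module R M] (n : ℕ) (m : M) :
    ↥(I ^ n) →ₗ[R] M :=
  (LinearMap.toSpanSingleton R M m) ∘ₗ Submodule.subtype _

variable {I}

theorem toDT_eq {M : Type u} [AddCommGroup M] [Module R M] (n : ℕ) (m : M) :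
    _root_.LocCoh.toDT I M m = ιD I (ModuleCat.of R M) n (mulHom I n m) := by
  have h0 : _root_.LocCoh.toDT I M m = ιD I (ModuleCat.of R M) 0 (mulHom I 0 m) :=
    (ιD_hom _).trans (congrArg _ (LinearMap.ext fun x => rfl))
  rw [h0, ← ιD_res (ModuleCat.of R M) (Nat.zero_le n)]
  rfl

variable {M : Type u} [AddCommGroup M] [Module R M] {N : Type u} [AddCommGroup N] [Module R N]

theorem map_toDT (g : M →ₗ[R] N) (m : M) :
    ((_root_.LocCoh.idealTransform I).map (ModuleCat.ofHom g)).hom (_root_.LocCoh.toDT I M m) =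
      _root_.LocCoh.toDT I N (g m) := by
  rw [toDT_eq 0, toDT_eq 0, ιD_naturality]
  exact congrArg _ (LinearMap.ext fun x => map_smul g (x : R) m)

theorem ker_toDT : LinearMap.ker (_root_.LocCoh.toDT I M) = DRing.torsionSub I M := by
  ext m
  rw [LinearMap.mem_ker, toDT_eq 0, ιD_eq_zero_iff]
  exact ⟨fun ⟨k, _, hk⟩ => ⟨k, fun a ha => hk ⟨a, ha⟩⟩,
    fun ⟨k, hk⟩ => ⟨k, Nat.zero_le k, fun x => hk _ x.2⟩⟩

theorem smul_ιD {n : ℕ} (f : ↥(I ^ n) →ₗ[R] M) {r : R} (hr : r ∈ I ^ n) :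
    r • ιD I (ModuleCat.of R M) n f = _root_.LocCoh.toDT I M (f ⟨r, hr⟩) := by
  rw [toDT_eq n, ← map_smul]
  refine congrArg _ (LinearMap.ext fun x => ?_)
  show r • f x = (x : R) • f ⟨r, hr⟩
  rw [← map_smul, ← map_smul]
  exact congrArg f (Subtype.ext (mul_comm r x))

theorem exists_smul_eq_toDT (x : _root_.LocCoh.DT I M) :
    ∃ n : ℕ, ∀ r ∈ I ^ n, ∃ m : M, r • x = _root_.LocCoh.toDT I M m := by
  obtain ⟨n, f, rfl⟩ := exists_ιD x
  exact ⟨n, fun r hr => ⟨_, smul_ιD f hr⟩⟩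

theorem isPowerTorsion_coker :
    _root_.LocCoh.IsPowerTorsion I (_root_.LocCoh.DT I M ⧸ LinearMap.range (_root_.LocCoh.toDT I M)) := by
  intro q
  obtain ⟨x, rfl⟩ := Submodule.mkQ_surjective _ q
  obtain ⟨n, hn⟩ := exists_smul_eq_toDT x
  refine ⟨n, fun r hr => ?_⟩
  obtain ⟨m, hm⟩ := hn r hr
  rw [← map_smul, Submodule.mkQ_apply, Submodule.Quotient.mk_eq_zero, hm]
  exact LinearMap.mem_range_self _ _

variable [IsNoetherianRing R]

omit [IsNoetherianRing R] in
theorem exists_common_bound {P : Type u} [AddCommGroup P] [Module R P] [Module.Finite R P]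
    {T : Submodule R N} (hT : _root_.LocCoh.IsPowerTorsion I T) (f : P →ₗ[R] N)
    (hf : ∀ p, f p ∈ T) : ∃ k : ℕ, ∀ r ∈ I ^ k, ∀ p, r • f p = 0 := by
  obtain ⟨s, hs⟩ := Module.Finite.fg_top (R := R) (M := P)
  obtain ⟨k, hk⟩ := exists_common_pow (I := I) s (fun p => (⟨f p, hf p⟩ : T)) fun p _ => hT _
  refine ⟨k, fun r hr p => ?_⟩
  have : (⊤ : Submodule R P) ≤ LinearMap.ker (r • f) := by
    rw [← hs, Submodule.span_le]
    exact fun q hq => congrArg Subtype.val (hk q hq r hr)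
  exact this trivial

omit [IsNoetherianRing R] in
theorem eq_zero_of_mem_pow_add {n k : ℕ} (f : ↥(I ^ n) →ₗ[R] M) (h : ∀ r ∈ I ^ k, ∀ p, r • f p = 0)
    (x : ↥(I ^ (n + k))) : f (Submodule.inclusion (Ideal.pow_le_pow_right (Nat.le_add_right n k)) x) = 0 := by
  obtain ⟨x, hx⟩ := x
  suffices H : ∀ y, y ∈ I ^ k * I ^ n → ∀ hy : y ∈ I ^ n, f ⟨y, hy⟩ = 0 from
    H x (by rw [mul_comm, ← pow_add]; exact hx) _
  intro y hy
  induction hy using Submodule.mul_induction_on' with
  | mem_mul_mem a ha b hb =>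
    intro hy
    exact (congrArg f (Subtype.ext rfl : (⟨a * b, hy⟩ : ↥(I ^ n)) = a • ⟨b, hb⟩)).trans
      ((map_smul f a _).trans (h a ha _))
  | add a ha b hb iha ihb =>
    intro hy
    have ha' : a ∈ I ^ n := Ideal.mul_le_right ha
    have hb' : b ∈ I ^ n := Ideal.mul_le_right hb
    exact (congrArg f (Subtype.ext rfl : (⟨a + b, hy⟩ : ↥(I ^ n)) = ⟨a, ha'⟩ + ⟨b, hb'⟩)).trans
      ((map_add f _ _).trans (by rw [iha ha', ihb hb', add_zero]))

theorem ιD_eq_zero_of_torsion {n : ℕ} (f : ↥(I ^ n) →ₗ[R] M) {T : Submodule R M}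
    (hT : _root_.LocCoh.IsPowerTorsion I T) (hf : ∀ p, f p ∈ T) :
    ιD I (ModuleCat.of R M) n f = 0 := by
  haveI : Module.Finite R ↥(I ^ n) := Module.Finite.iff_fg.2 (IsNoetherian.noetherian _)
  obtain ⟨k, hk⟩ := exists_common_bound hT f hf
  exact (ιD_eq_zero_iff (M := ModuleCat.of R M) f).2 ⟨n + k, Nat.le_add_right n k, eq_zero_of_mem_pow_add f hk⟩

theorem subsingleton_DT_of_isPowerTorsion (hN : _root_.LocCoh.IsPowerTorsion I N) :
    Subsingleton (_root_.LocCoh.DT I N) := by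
  refine subsingleton_of_forall_eq 0 fun x => ?_
  obtain ⟨n, f, rfl⟩ := exists_ιD x
  exact ιD_eq_zero_of_torsion f (T := ⊤) (isPowerTorsion_of_injective (Submodule.subtype _) Subtype.val_injective hN)
    fun _ => trivial

omit [IsNoetherianRing R] in
theorem isPowerTorsion_of_le_torsionSub {T : Submodule R M} (h : T ≤ DRing.torsionSub I M) :
    _root_.LocCoh.IsPowerTorsion I T := fun m => by
  obtain ⟨k, hk⟩ := h m.2
  exact ⟨k, fun a ha => Subtype.ext (hk a ha)⟩

theorem eq_zero_of_forall_smul_eq_zero (x : _root_.LocCoh.DT I M) {k : ℕ}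
    (h : ∀ r ∈ I ^ k, r • x = 0) : x = 0 := by
  obtain ⟨n, hn⟩ := exists_ιD_ge x
  obtain ⟨f, rfl⟩ := hn (n + k) (Nat.le_add_right n k)
  refine ιD_eq_zero_of_torsion f (isPowerTorsion_of_le_torsionSub (le_refl _)) fun p => ?_
  rw [← ker_toDT, LinearMap.mem_ker, ← smul_ιD f p.2]
  exact h _ (Ideal.pow_le_pow_right (Nat.le_add_left k n) p.2)

theorem torsionSub_DT : DRing.torsionSub I (_root_.LocCoh.DT I M) = ⊥ :=
  le_antisymm (fun x ⟨_, hk⟩ => eq_zero_of_forall_smul_eq_zero x hk) bot_le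

/-- A map with torsion kernel and cokernel becomes bijective under the ideal transform. -/
theorem bijective_map (e : M →ₗ[R] N) (hker : LinearMap.ker e ≤ DRing.torsionSub I M)
    (hcoker : _root_.LocCoh.IsPowerTorsion I (N ⧸ LinearMap.range e)) :
    Function.Bijective ((_root_.LocCoh.idealTransform I).map (ModuleCat.ofHom e)).hom := by
  constructor
  · refine (injective_iff_map_eq_zero _).2 fun x hx => ?_
    obtain ⟨n, f, rfl⟩ := exists_ιD x
    rw [ιD_naturality] at hx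
    obtain ⟨m, h, hm⟩ := (ιD_eq_zero_iff _).1 hx
    rw [← ιD_res _ h f]
    exact ιD_eq_zero_of_torsion _ (isPowerTorsion_of_le_torsionSub hker) hm
  · intro y
    obtain ⟨n, g, rfl⟩ := exists_ιD y
    haveI : Module.Finite R ↥(I ^ n) := Module.Finite.iff_fg.2 (IsNoetherian.noetherian _)
    obtain ⟨k, hk⟩ := exists_common_bound (T := ⊤) (isPowerTorsion_of_injective (Submodule.subtype _) Subtype.val_injective hcoker)
      ((LinearMap.range e).mkQ ∘ₗ g) fun _ => trivial
    let j := Submodule.inclusion (Ideal.pow_le_pow_right (Nat.le_add_right n k) : I ^ (n + k) ≤ I ^ n)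
    have hrange : ∀ x, g (j x) ∈ LinearMap.range e := fun x => by
      rw [← Submodule.Quotient.mk_eq_zero]
      exact eq_zero_of_mem_pow_add ((LinearMap.range e).mkQ ∘ₗ g) hk x
    let g' := g ∘ₗ j
    haveI : Module.Finite R ↥(I ^ (n + k)) := Module.Finite.iff_fg.2 (IsNoetherian.noetherian _)
    obtain ⟨r, π, hπ⟩ := Module.Finite.exists_fin' R ↥(I ^ (n + k))
    obtain ⟨φ, hφ⟩ := Module.projective_lifting_property e.rangeRestrict
      ((g'.codRestrict _ hrange) ∘ₗ π) (LinearMap.surjective_rangeRestrict e)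
    have hφ' : ∀ v, e (φ v) = g' (π v) := fun v => congrArg Subtype.val (LinearMap.congr_fun hφ v)
    let Z := LinearMap.ker π
    haveI : Module.Finite R Z := Module.Finite.iff_fg.2 (IsNoetherian.noetherian _)
    obtain ⟨l, hl⟩ := exists_common_bound (isPowerTorsion_of_le_torsionSub hker) (φ ∘ₗ Z.subtype)
      fun z => by
        show e (φ z.1) = 0
        rw [hφ', LinearMap.mem_ker.1 z.2, map_zero]
    obtain ⟨c, hc⟩ := Ideal.exists_pow_inf_eq_pow_smul I Z
    let q := l + c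
    let V : Submodule R (Fin r → R) := I ^ q • ⊤
    have hZ0 : ∀ v ∈ V, π v = 0 → φ v = 0 := by
      intro v hv hπv
      have hmem : v ∈ I ^ (q - c) • (I ^ c • (⊤ : Submodule R (Fin r → R)) ⊓ Z) := by
        rw [← hc q (Nat.le_add_left c l)]
        exact ⟨hv, hπv⟩
      rw [Nat.add_sub_cancel l c] at hmem
      refine Submodule.smul_induction_on (p := fun v => φ v = 0) hmem (fun a ha z hz => ?_)
        fun x y hx hy => by rw [map_add, hx, hy, add_zero]
      rw [map_smul]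
      exact hl a ha ⟨z, hz.2⟩
    have hle : I ^ (n + k + q) ≤ I ^ (n + k) := Ideal.pow_le_pow_right (Nat.le_add_right _ _)
    have hsurj : ∀ x : ↥(I ^ (n + k + q)), ∃ v ∈ V, π v = Submodule.inclusion hle x := by
      intro x
      have hx : Submodule.inclusion hle x ∈ I ^ q • (⊤ : Submodule R ↥(I ^ (n + k))) := by
        rw [Submodule.mem_smul_top_iff, smul_eq_mul, ← pow_add, add_comm q]
        exact x.2
      rw [← LinearMap.range_eq_top.2 hπ, ← Submodule.map_top, ← Submodule.map_smul''] at hx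
      exact hx
    choose v hv hv' using hsurj
    have huniq : ∀ a ∈ V, ∀ b ∈ V, π a = π b → φ a = φ b := fun a ha b hb hab =>
      sub_eq_zero.1 (by
        rw [← map_sub]
        exact hZ0 _ (V.sub_mem ha hb) (by rw [map_sub, hab, sub_self]))
    let f : ↥(I ^ (n + k + q)) →ₗ[R] M :=
      { toFun := fun x => φ (v x)
        map_add' := fun x y => by
          rw [← map_add]
          exact huniq _ (hv _) _ (V.add_mem (hv x) (hv y)) (by rw [map_add, hv', hv', hv', map_add])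
        map_smul' := fun a x => by
          rw [RingHom.id_apply, ← map_smul]
          exact huniq _ (hv _) _ (V.smul_mem a (hv x)) (by rw [map_smul, hv', hv', map_smul]) }
    refine ⟨ιD I _ _ f, ?_⟩
    rw [ιD_naturality, ← ιD_res _ ((Nat.le_add_right n k).trans (Nat.le_add_right _ q)) g]
    refine congrArg _ (LinearMap.ext fun x => ?_)
    show e (φ (v x)) = _
    rw [hφ', hv']
    rfl

theorem bijective_map_toDT :
    Function.Bijective ((_root_.LocCoh.idealTransform I).map (ModuleCat.ofHom (_root_.LocCoh.toDT I M))).hom :=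
  bijective_map _ ker_toDT.le isPowerTorsion_coker

omit [IsNoetherianRing R] in
theorem hom_DT_ext (e : M →ₗ[R] N) (hcoker : _root_.LocCoh.IsPowerTorsion I (N ⧸ LinearMap.range e))
    {P : Type u} [AddCommGroup P] [Module R P] (hP : DRing.torsionSub I P = ⊥)
    {ψ ψ' : N →ₗ[R] P} (h : ψ ∘ₗ e = ψ' ∘ₗ e) : ψ = ψ' := by
  refine LinearMap.ext fun y => ?_
  obtain ⟨k, hk⟩ := hcoker ((LinearMap.range e).mkQ y)
  refine sub_eq_zero.1 ((Submodule.mem_bot R).1 (hP ▸ ⟨k, fun r hr => ?_⟩))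
  have hry := hk r hr
  rw [← map_smul, Submodule.mkQ_apply, Submodule.Quotient.mk_eq_zero] at hry
  obtain ⟨m, hm⟩ := hry
  rw [smul_sub, ← map_smul, ← map_smul, ← hm, sub_eq_zero]
  exact LinearMap.congr_fun h m

theorem map_toDT_eq_toDT_DT :
    ((_root_.LocCoh.idealTransform I).map (ModuleCat.ofHom (_root_.LocCoh.toDT I M))).hom =
      _root_.LocCoh.toDT I (_root_.LocCoh.DT I M) :=
  hom_DT_ext (_root_.LocCoh.toDT I M) isPowerTorsion_coker torsionSub_DT
    (LinearMap.ext fun m => map_toDT (_root_.LocCoh.toDT I M) m)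

theorem bijective_toDT_DT : Function.Bijective (_root_.LocCoh.toDT I (_root_.LocCoh.DT I M)) := by
  rw [← map_toDT_eq_toDT_DT]
  exact bijective_map_toDT

theorem existsUnique_factor (e : M →ₗ[R] N) (hker : LinearMap.ker e ≤ DRing.torsionSub I M)
    (hcoker : _root_.LocCoh.IsPowerTorsion I (N ⧸ LinearMap.range e))
    {K : Type u} [AddCommGroup K] [Module R K] (ψ : M →ₗ[R] K) :
    ∃! ψ' : N →ₗ[R] _root_.LocCoh.DT I K, ψ' ∘ₗ e = _root_.LocCoh.toDT I K ∘ₗ ψ := by
  let E := LinearEquiv.ofBijective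
    ((_root_.LocCoh.idealTransform I).map (ModuleCat.ofHom e)).hom (bijective_map e hker hcoker)
  refine ⟨((_root_.LocCoh.idealTransform I).map (ModuleCat.ofHom ψ)).hom ∘ₗ E.symm.toLinearMap ∘ₗ
    _root_.LocCoh.toDT I N, ?_, fun ψ' h => ?_⟩
  · refine LinearMap.ext fun m => ?_
    show ((_root_.LocCoh.idealTransform I).map (ModuleCat.ofHom ψ)).hom
      (E.symm (_root_.LocCoh.toDT I N (e m))) = _
    rw [show _root_.LocCoh.toDT I N (e m) = E (_root_.LocCoh.toDT I M m) from (map_toDT e m).symm,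
      LinearEquiv.symm_apply_apply, map_toDT]
    rfl
  · refine hom_DT_ext e hcoker torsionSub_DT (h.trans (LinearMap.ext fun m => ?_))
    show _ = ((_root_.LocCoh.idealTransform I).map (ModuleCat.ofHom ψ)).hom
      (E.symm (_root_.LocCoh.toDT I N (e m)))
    rw [show _root_.LocCoh.toDT I N (e m) = E (_root_.LocCoh.toDT I M m) from (map_toDT e m).symm,
      LinearEquiv.symm_apply_apply, map_toDT]
    rfl

end Groth.Agent.LocCoh.IdealTransform
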