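import Groth.Agent.LocCoh.KollarH1
import Groth.Agent.LocCoh.FiniteH1
import Groth.Agent.Hensel.Completion
import Groth.Agent.Hensel.FormallyCatenary
import Mathlib.RingTheory.TensorProduct.Quotient
import Groth.Prelude.Def_EGA4b

/-!
# Kollár's criterion on completions of quotient local rings

* `finite_H1_of_quotient`: the criterion in terms of the completions of `A_q / p A_q`;
* `finite_H1_of_catenary`: the criterion in terms of heights, under strict formal equidimensionality.
-/

universe u

open IsLocalRing
open scoped TensorProduct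

namespace Groth.Agent.LocCoh.KollarH1

theorem forall_ass_congr {R : Type u} [CommRing R] {I J : Ideal R} (h : I = J) (k : WithBot ℕ∞) :
    (∀ P ∈ associatedPrimes (AdicCompletion I R) (AdicCompletion I R), k ≤ ringKrullDim (AdicCompletion I R ⧸ P)) ↔
      ∀ P ∈ associatedPrimes (AdicCompletion J R) (AdicCompletion J R), k ≤ ringKrullDim (AdicCompletion J R ⧸ P) := by
  subst h; rfl

variable {A : Type u} [CommRing A] [IsNoetherianRing A]

/-- Kollár's criterion on the completions of the local rings of the supports -/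
theorem finite_H1_of_quotient (I : Ideal A) (M : Type u) [AddCommGroup M] [Module A M] [Module.Finite A M]
    (h : ∀ p : Ideal A, p ∈ associatedPrimes A M → ¬ I ≤ p → ∀ q : PrimeSpectrum A, p ≤ q.asIdeal → I ≤ q.asIdeal →
      ∀ P ∈ associatedPrimes (AdicCompletion ((maximalIdeal (Localization.AtPrime q.asIdeal)).map
          (Ideal.Quotient.mk (p.map (algebraMap A (Localization.AtPrime q.asIdeal)))))
          (Localization.AtPrime q.asIdeal ⧸ p.map (algebraMap A (Localization.AtPrime q.asIdeal))))
        (AdicCompletion ((maximalIdeal (Localization.AtPrime q.asIdeal)).map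
          (Ideal.Quotient.mk (p.map (algebraMap A (Localization.AtPrime q.asIdeal)))))
          (Localization.AtPrime q.asIdeal ⧸ p.map (algebraMap A (Localization.AtPrime q.asIdeal)))),
        (2 : WithBot ℕ∞) ≤ ringKrullDim (AdicCompletion ((maximalIdeal (Localization.AtPrime q.asIdeal)).map
          (Ideal.Quotient.mk (p.map (algebraMap A (Localization.AtPrime q.asIdeal)))))
          (Localization.AtPrime q.asIdeal ⧸ p.map (algebraMap A (Localization.AtPrime q.asIdeal))) ⧸ P)) :
    Module.Finite A (_root_.LocCoh.H I 1 M) := by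
  refine (finite_H_one_iff (I := I) M).2 fun p hp hIp => finite_H1 I fun q hIq P hP _ => ?_
  have := hp.isPrime
  let R := Localization.AtPrime q.asIdeal
  let B := AdicCompletion (maximalIdeal R) R
  let pR := p.map (algebraMap A R)
  have hpB : pR.map (algebraMap R B) = p.map (algebraMap A B) := by
    rw [Ideal.map_map, ← IsScalarTower.algebraMap_eq]
  rw [LinearEquiv.AssociatedPrimes.eq (Algebra.TensorProduct.quotIdealMapEquivTensorQuot B p).symm.toLinearEquiv] at hP
  by_cases hpq : p ≤ q.asIdeal
  swap
  · have htop : p.map (algebraMap A B) = ⊤ := by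
      obtain ⟨x, hxp, hxq⟩ := SetLike.not_le_iff_exists.1 hpq
      rw [← hpB, show pR = ⊤ from Ideal.eq_top_of_isUnit_mem _ (Ideal.mem_map_of_mem _ hxp)
        (IsLocalization.map_units R (⟨x, hxq⟩ : q.asIdeal.primeCompl)), Ideal.map_top]
    have : Subsingleton (B ⧸ p.map (algebraMap A B)) := Ideal.Quotient.subsingleton_iff.2 htop
    simp [associatedPrimes.eq_empty_of_subsingleton] at hP
  have hdisj : Disjoint (q.asIdeal.primeCompl : Set A) p := Set.disjoint_left.2 fun x hx hxp => hx (hpq hxp)
  have : pR.IsPrime := IsLocalization.isPrime_of_isPrime_disjoint q.asIdeal.primeCompl R p this hdisj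
  have : IsLocalRing (R ⧸ pR) := IsLocalRing.of_surjective' _ Ideal.Quotient.mk_surjective
  obtain ⟨e⟩ := Hensel.nonempty_quotient_completion_equiv R pR
  let f : B →+* AdicCompletion (maximalIdeal (R ⧸ pR)) (R ⧸ pR) :=
    e.symm.toRingHom.comp (Ideal.Quotient.mk (pR.map (algebraMap R B)))
  have hf : Function.Surjective f := e.symm.surjective.comp Ideal.Quotient.mk_surjective
  have hker : RingHom.ker f = p.map (algebraMap A B) := by
    rw [← hpB, RingHom.ker_comp_of_injective _ e.symm.injective, Ideal.mk_ker]
  have hle : RingHom.ker f ≤ P := by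
    refine le_trans (hker.le.trans ?_) (IsAssociatedPrime.annihilator_le hP)
    rw [Submodule.annihilator_top, Ideal.annihilator_quotient]
  have hPf : (P.map f).comap f = P := by
    rw [Ideal.comap_map_of_surjective' f hf, sup_eq_left.2 hle]
  rw [← hPf, Hensel.dim_quotient_comap f hf]
  refine (forall_ass_congr (IsLocalRing.map_maximalIdeal_of_surjective (Ideal.Quotient.mk pR)
    Ideal.Quotient.mk_surjective) 2).1 (h p hp hIp q hpq hIq) _ ?_
  rw [Hensel.mem_associatedPrimes_iff_comap f hf, hPf, hker]
  exact hP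

omit [IsNoetherianRing A] in
/-- heights in `[p, q]` are dimensions of `A_q / p A_q` -/
theorem ringKrullDim_localization_quotient {p q : PrimeSpectrum A} (hpq : p ≤ q) :
    ringKrullDim (Localization.AtPrime q.asIdeal ⧸ p.asIdeal.map (algebraMap A (Localization.AtPrime q.asIdeal))) =
      ((Order.height (⟨q, hpq⟩ : Set.Ici p) : ℕ∞) : WithBot ℕ∞) := by
  rw [ringKrullDim_quotient, ← AnnModule.krullDim_Icc hpq]
  let φ := IsLocalization.AtPrime.primeSpectrumOrderIso (Localization.AtPrime q.asIdeal) q.asIdeal
  have key : ∀ r, p ≤ (φ r).1 ↔ p.asIdeal.map (algebraMap A (Localization.AtPrime q.asIdeal)) ≤ r.asIdeal := fun r =>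
    Ideal.map_le_iff_le_comap.symm
  exact Order.krullDim_eq_of_orderIso
    { toFun := fun r => ⟨(φ r.1).1, (key r.1).2 r.2, (φ r.1).2⟩
      invFun := fun r => ⟨φ.symm ⟨r.1, r.2.2⟩, (key _).1 (by rw [OrderIso.apply_symm_apply]; exact r.2.1)⟩
      left_inv := fun r => Subtype.ext (φ.symm_apply_apply r.1)
      right_inv := fun r => Subtype.ext (by simp)
      map_rel_iff' := φ.map_rel_iff' }

/-- Kollár's criterion in terms of heights -/
theorem finite_H1_of_catenary (I : Ideal A) (M : Type u) [AddCommGroup M] [Module A M] [Module.Finite A M]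
    (hS : ∀ q : PrimeSpectrum A, I ≤ q.asIdeal → EGA4.IsFormallyStrictlyCatenary (Localization.AtPrime q.asIdeal))
    (h : ∀ (p q : PrimeSpectrum A) (hpq : p ≤ q), p.asIdeal ∈ associatedPrimes A M → ¬ I ≤ p.asIdeal → I ≤ q.asIdeal →
      (2 : ℕ∞) ≤ Order.height (⟨q, hpq⟩ : Set.Ici p)) :
    Module.Finite A (_root_.LocCoh.H I 1 M) := by
  refine finite_H1_of_quotient I M fun p hp hIp q hpq hIq => ?_
  have := hp.isPrime
  let R := Localization.AtPrime q.asIdeal
  let pR := p.map (algebraMap A R)
  have hdisj : Disjoint (q.asIdeal.primeCompl : Set A) p := Set.disjoint_left.2 fun x hx hxp => hx (hpq hxp)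
  have : pR.IsPrime := IsLocalization.isPrime_of_isPrime_disjoint q.asIdeal.primeCompl R p this hdisj
  have : IsLocalRing (R ⧸ pR) := IsLocalRing.of_surjective' _ Ideal.Quotient.mk_surjective
  refine (forall_ass_congr (IsLocalRing.map_maximalIdeal_of_surjective (Ideal.Quotient.mk pR)
    Ideal.Quotient.mk_surjective) 2).2 fun P hP => ?_
  rw [hS q hIq pR P hP, RegLoc.Completion.ringKrullDim_completion,
    ringKrullDim_localization_quotient (p := ⟨p, hp.isPrime⟩) hpq]
  exact WithBot.coe_le_coe.2 (h ⟨p, hp.isPrime⟩ q hpq hp hIp hIq)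

end Groth.Agent.LocCoh.KollarH1
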