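import Groth.Agent.LocCoh.AnnModule
import Groth.Agent.LocCoh.SuppHm
import Groth.Agent.LocCoh.BootBC
import Groth.Agent.LocCoh.HDIBaseChange
import Groth.Agent.LocCoh.FiniteH1
import Groth.Agent.LocCoh.CompletionDeg
import Groth.Agent.RegLoc.SupportDim
import Groth.Agent.RegLoc.AdicNoeth
import Mathlib.RingTheory.AdicCompletion.LocalRing
import Mathlib.RingTheory.Flat.FaithfullyFlat.Algebra
import Groth.Agent.S0376
import Groth.Agent.DualCx.Extended

/-!
# Finiteness of `H^1_I` from the associated primes of completed local rings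

* `nonempty_baseChange`: local cohomology under flat base change;
* `finite_H1`: Kollár's criterion, sufficiency.
-/

universe u

open CategoryTheory CategoryTheory.Limits IsLocalRing
open scoped TensorProduct

attribute [local instance] HasDerivedCategory.standard

namespace Groth.Agent.LocCoh.KollarH1

open Groth.Agent.DualCx

variable {A : Type u} [CommRing A] [IsNoetherianRing A]

/-- local cohomology under flat base change -/
theorem nonempty_baseChange (B : Type u) [CommRing B] [IsNoetherianRing B] [Algebra A B] [Module.Flat A B]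
    (I : Ideal A) (i : ℕ) (M : Type u) [AddCommGroup M] [Module A M] :
    Nonempty (B ⊗[A] _root_.LocCoh.H I i M ≃ₗ[B] _root_.LocCoh.H (I.map (algebraMap A B)) i (B ⊗[A] M)) := by
  have : DRing.HasLBaseChange (algebraMap A B) := Groth.Agent.DRing.LTensor.hasLBaseChange _
  let X := (Dual.inD A M)⟦(i : ℤ)⟧
  obtain ⟨h⟩ := HDIBaseChange.nonempty_baseChange (A := A) (B := B) I X
  obtain ⟨h'⟩ := HDIBaseChange.nonempty_extendScalars_iso (A := A) (B := B) (TorsColim.L I X)
  obtain ⟨h''⟩ := FlatBC.nonempty_LBaseChange (B := B) X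
  exact ⟨(TensorProduct.AlgebraTensorModule.congr (LinearEquiv.refl B B) (LocCompare.equiv I i M)).trans
    (((TorsColim.congr _ (BootBC.τ B (i : ℤ) (ModuleCat.of A M)).symm).trans
      ((TorsColim.congr _ h''.symm).trans (h ≪≫ h').toLinearEquiv)).symm.trans
      (LocCompare.equiv (I.map (algebraMap A B)) i (B ⊗[A] M)).symm)⟩

variable (I : Ideal A) (M : Type u) [AddCommGroup M] [Module A M]

/-- killed by a power of `I` at `q`, in degrees `≤ 1` -/
def Killed (q : PrimeSpectrum A) : Prop :=
  ∃ n : ℕ, ∀ i ≤ 1, ∀ a ∈ I ^ n, ∀ x : _root_.LocCoh.H I i M, ∃ u ∉ q.asIdeal, u • a • x = 0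

variable {M}

/-- killing passes to flat extensions in which the denominators are units -/
theorem kill_map (C : Type u) [CommRing C] [IsNoetherianRing C] [Algebra A C] [Module.Flat A C]
    {q : PrimeSpectrum A} (hunit : ∀ u ∉ q.asIdeal, IsUnit (algebraMap A C u)) {n i : ℕ}
    (h : ∀ a ∈ I ^ n, ∀ x : _root_.LocCoh.H I i M, ∃ u ∉ q.asIdeal, u • a • x = 0) :
    ∀ c ∈ (I.map (algebraMap A C)) ^ n, ∀ x : _root_.LocCoh.H (I.map (algebraMap A C)) i (C ⊗[A] M),
      c • x = 0 := by
  obtain ⟨e⟩ := nonempty_baseChange C I i M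
  intro c hc x
  obtain ⟨t, rfl⟩ := e.surjective x
  rw [← map_smul]
  refine (congrArg e ?_).trans (map_zero e)
  rw [← Ideal.map_pow] at hc
  refine Submodule.span_induction (p := fun c _ => c • t = 0) ?_ ?_ ?_ ?_ hc
  · rintro _ ⟨a, ha, rfl⟩
    rw [algebraMap_smul]
    induction t using TensorProduct.induction_on with
    | zero => exact smul_zero _
    | tmul c x =>
      obtain ⟨u, hu, hux⟩ := h a ha x
      refine (hunit u hu).smul_eq_zero.1 ?_
      rw [algebraMap_smul, ← TensorProduct.tmul_smul, ← TensorProduct.tmul_smul, hux, TensorProduct.tmul_zero]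
    | add y z hy hz => rw [smul_add, hy, hz, add_zero]
  · exact zero_smul _ _
  · intro y z _ _ hy hz
    rw [add_smul, hy, hz, add_zero]
  · intro c y _ hy
    rw [smul_eq_mul, mul_smul, hy, smul_zero]

/-- killing descends along flat local extensions -/
theorem exists_unit_of_kill (B : Type u) [CommRing B] [IsNoetherianRing B] [Algebra A B] [Module.Flat A B]
    [IsLocalRing B] {q : PrimeSpectrum A}
    (hq : (maximalIdeal B).comap (algebraMap A B) = q.asIdeal) {i : ℕ} {a : A}
    (h : ∀ x : _root_.LocCoh.H (I.map (algebraMap A B)) i (B ⊗[A] M), algebraMap A B a • x = 0)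
    (x : _root_.LocCoh.H I i M) : ∃ u ∉ q.asIdeal, u • a • x = 0 := by
  obtain ⟨e⟩ := nonempty_baseChange B I i M
  have h0 : (1 : B) ⊗ₜ[A] (a • x) = 0 := by
    rw [TensorProduct.tmul_smul, ← algebraMap_smul B a ((1 : B) ⊗ₜ[A] x)]
    exact e.injective ((map_smul e _ _).trans ((h _).trans (map_zero e).symm))
  exact BootBC.exists_smul_eq_zero B (IsLocalRing.closedPoint B) hq _ h0

variable [Module.Finite A M]

/-- finiteness from killing at every prime -/
theorem finite_of_killed (h : ∀ q, Killed I M q) : Module.Finite A (_root_.LocCoh.H I 1 M) := by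
  refine finite_H_of_isLocFinite 1 (ModuleCat.of A M) (fun i hi => ?_) 1 le_rfl
  refine isLocFinite_of_finite_localized _ fun p _ => ?_
  let C := Localization.AtPrime p
  have : Module.Flat A C := IsLocalization.flat C p.primeCompl
  obtain ⟨n, hn⟩ := h ⟨p, ‹_›⟩
  have hfin := (finite_H_iff_annihilated (I := I.map (algebraMap A C)) 1 (ModuleCat.of C (C ⊗[A] M))).2
    ⟨(I.map (algebraMap A C)) ^ n, fun a ha => ⟨n, Ideal.pow_mem_pow ha n⟩, fun j hj => kill_map I C
      (q := ⟨p, ‹_›⟩) (fun u hu => IsLocalization.map_units C (⟨u, hu⟩ : p.primeCompl)) (hn j hj)⟩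
  obtain ⟨e⟩ := nonempty_baseChange C I i M
  have : Module.Finite C (_root_.LocCoh.H (I.map (algebraMap A C)) i (C ⊗[A] M)) := hfin i hi
  exact Module.Finite.equiv (e.symm.trans (LocalizedModule.equivTensorProduct p.primeCompl _).symm)

omit [Module.Finite A M] in
/-- the annihilator criterion on a ring with a dualizing complex -/
theorem cond_of_kill {B : Type u} [CommRing B] [IsNoetherianRing B] {ω : Dual.D B}
    (hω : Dual.IsDualizing B ω) {N : Type u} [AddCommGroup N] [Module B N] [Module.Finite B N] (J : Ideal B) :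
    (∃ n : ℕ, ∀ i ≤ 1, ∀ c ∈ J ^ n, ∀ x : _root_.LocCoh.H J i N, c • x = 0) ↔
      ∀ P Q : PrimeSpectrum B, ¬ J ≤ P.asIdeal → J ≤ Q.asIdeal → P ≤ Q →
        ((1 : ℕ) : WithBot ℕ∞) < ((_root_.LocCoh.depth (Localization.AtPrime P.asIdeal)
          (LocalizedModule P.asIdeal.primeCompl N) : ℕ∞) : WithBot ℕ∞) + Order.krullDim (Set.Icc P Q) := by
  let V : Set (PrimeSpectrum B) := PrimeSpectrum.zeroLocus (J : Set B)
  have hV : StableUnderSpecialization V := (PrimeSpectrum.isClosed_zeroLocus _).stableUnderSpecialization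
  refine Iff.trans ?_ (AnnModule.annihilator_iff (M := N) hω hV hV 1)
  constructor
  · rintro ⟨n, hn⟩
    refine ⟨J ^ (n + 1), (PrimeSpectrum.zeroLocus_pow J n.succ_ne_zero).subset, (AnnModule.kills_HT_iff V 1 _).2
      fun i hi c hc x => ?_⟩
    rcases lt_or_ge i 0 with hn' | hn'
    · have := AnnModule.subsingleton_LT_neg (M := N) V i hn'
      exact Subsingleton.elim _ _
    lift i to ℕ using hn'
    obtain ⟨y, rfl⟩ := (SuppHm.bijective_toLT (M := N) J i).2 x
    rw [← map_smul, hn i (by omega) c (Ideal.pow_le_pow_right (Nat.le_succ n) hc) y, map_zero]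
  · rintro ⟨J', hJ', hk⟩
    obtain ⟨n, hn⟩ := Ideal.exists_pow_le_of_le_radical_of_fg_radical
      ((PrimeSpectrum.zeroLocus_subset_zeroLocus_iff _ _).1 hJ') (IsNoetherian.noetherian _)
    refine ⟨n, fun i hi c hc x => (SuppHm.bijective_toLT (M := N) J i).1 ?_⟩
    rw [map_smul, map_zero]
    exact (AnnModule.kills_HT_iff V 1 J').1 hk i (by omega) c (hn hc) _

/-- Kollár's criterion: sufficiency -/
theorem finite_H1
    (h : ∀ q : PrimeSpectrum A, I ≤ q.asIdeal →
      ∀ P ∈ associatedPrimes (AdicCompletion (maximalIdeal (Localization.AtPrime q.asIdeal)) (Localization.AtPrime q.asIdeal))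
        (AdicCompletion (maximalIdeal (Localization.AtPrime q.asIdeal)) (Localization.AtPrime q.asIdeal) ⊗[A] M),
      ¬ I.map (algebraMap A (AdicCompletion (maximalIdeal (Localization.AtPrime q.asIdeal)) (Localization.AtPrime q.asIdeal))) ≤ P →
        (2 : WithBot ℕ∞) ≤ ringKrullDim (AdicCompletion (maximalIdeal (Localization.AtPrime q.asIdeal)) (Localization.AtPrime q.asIdeal) ⧸ P)) :
    Module.Finite A (_root_.LocCoh.H I 1 M) := by
  refine finite_of_killed I fun q => ?_
  have : WellFoundedLT (PrimeSpectrum A) :=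
    StrictMono.wellFoundedLT (f := fun p : PrimeSpectrum A => p.asIdeal.height) fun p p' hpp' =>
      Ideal.height_strict_mono_of_isPrime_of_isPrime (show p.asIdeal < p'.asIdeal from hpp')
  induction q using WellFoundedLT.induction with
  | _ q ih =>
  by_cases hIq : I ≤ q.asIdeal
  swap
  · obtain ⟨f, hf, hfq⟩ := SetLike.not_le_iff_exists.1 hIq
    refine ⟨0, fun i _ a _ x => ?_⟩
    obtain ⟨m, hm⟩ := isPowerTorsion_H (I := I) (i := i) (ModuleCat.of A M) x
    exact ⟨f ^ m, fun h' => hfq (q.2.mem_of_pow_mem m h'), by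
      rw [smul_comm, hm _ (Ideal.pow_mem_pow hf m), smul_zero]⟩
  let R := Localization.AtPrime q.asIdeal
  let B := AdicCompletion (maximalIdeal R) R
  have : IsNoetherianRing B := RegLoc.Completion.isNoetherianRing_adicCompletion' _
  have : IsAdicComplete (maximalIdeal B) B := by
    rw [AdicCompletion.maximalIdeal_eq_map]
    exact AdicCompletion.isAdicComplete_self (maximalIdeal R) (IsNoetherian.noetherian _)
  have : Module.Flat A R := IsLocalization.flat R q.asIdeal.primeCompl
  have : Module.Flat A B := Module.Flat.trans A R B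
  have hmap : q.asIdeal.map (algebraMap A B) = maximalIdeal B := by
    rw [IsScalarTower.algebraMap_eq A R B, ← Ideal.map_map, Localization.AtPrime.map_eq_maximalIdeal,
      ← AdicCompletion.maximalIdeal_eq_map]
  have hcomap : (maximalIdeal B).comap (algebraMap A B) = q.asIdeal := by
    have h1 : (maximalIdeal B).comap (algebraMap R B) = maximalIdeal R :=
      ((maximalIdeal.isMaximal R).eq_of_le (Ideal.IsPrime.comap (algebraMap R B)).ne_top (by
        rw [← Ideal.map_le_iff_le_comap, ← AdicCompletion.maximalIdeal_eq_map])).symm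
    rw [IsScalarTower.algebraMap_eq A R B, ← Ideal.comap_comap, h1]
    exact IsLocalization.AtPrime.under_maximalIdeal R q.asIdeal
  obtain ⟨ω, hω⟩ := S0376.result B
  let IB := I.map (algebraMap A B)
  have hcond : ∀ P Q : PrimeSpectrum B, ¬ IB ≤ P.asIdeal → IB ≤ Q.asIdeal → P ≤ Q →
      ((1 : ℕ) : WithBot ℕ∞) < ((_root_.LocCoh.depth (Localization.AtPrime P.asIdeal)
        (LocalizedModule P.asIdeal.primeCompl (B ⊗[A] M)) : ℕ∞) : WithBot ℕ∞) + Order.krullDim (Set.Icc P Q) := by
    intro P Q hP hQ hPQ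
    have hlt : P < Q := lt_of_le_of_ne hPQ fun h => hP (h ▸ hQ)
    by_cases hmax : Q.asIdeal = maximalIdeal B
    · rw [AnnModule.krullDim_Icc hPQ, ← WithBot.coe_add,
        show ((1 : ℕ) : WithBot ℕ∞) = (((1 : ℕ) : ℕ∞) : WithBot ℕ∞) from rfl, WithBot.coe_lt_coe]
      have hpos : (1 : ℕ∞) ≤ Order.height (⟨Q, hPQ⟩ : Set.Ici P) :=
        le_trans le_add_self (Order.height_add_one_le (show (⟨P, le_refl P⟩ : Set.Ici P) < ⟨Q, hPQ⟩ from hlt))
      by_cases hd : _root_.LocCoh.depth (Localization.AtPrime P.asIdeal) (LocalizedModule P.asIdeal.primeCompl (B ⊗[A] M)) = 0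
      · rw [hd, zero_add]
        have h2 := h q hIq P.asIdeal (RegLoc.SupportDim.depth_localized_eq_zero_iff.1 hd) hP
        have h3 : ringKrullDim (B ⧸ P.asIdeal) = ((Order.height (⟨Q, hPQ⟩ : Set.Ici P) : ℕ∞) : WithBot ℕ∞) := by
          rw [ringKrullDim_quotient, ← AnnModule.krullDim_Icc hPQ]
          exact Order.krullDim_eq_of_orderIso
            { toFun := fun r => ⟨r.1, r.2, (IsLocalRing.le_maximalIdeal r.1.2.ne_top).trans hmax.ge⟩
              invFun := fun r => ⟨r.1, r.2.1⟩
              left_inv := fun _ => rfl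
              right_inv := fun _ => rfl
              map_rel_iff' := Iff.rfl }
        rw [h3, show (2 : WithBot ℕ∞) = ((2 : ℕ∞) : WithBot ℕ∞) from rfl, WithBot.coe_le_coe] at h2
        exact lt_of_lt_of_le (by norm_num) h2
      · calc ((1 : ℕ) : ℕ∞) < 1 + 1 := by norm_num
          _ ≤ _ := add_le_add (Order.one_le_iff_pos.2 (pos_iff_ne_zero.2 hd)) hpos
    · let q' : PrimeSpectrum A := PrimeSpectrum.comap (algebraMap A B) Q
      have hq' : q' < q := by
        refine lt_of_le_of_ne ((Ideal.comap_mono (IsLocalRing.le_maximalIdeal Q.2.ne_top)).trans hcomap.le) fun he => hmax ?_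
        refine le_antisymm (IsLocalRing.le_maximalIdeal Q.2.ne_top) ?_
        exact hmap.symm.le.trans (Ideal.map_le_iff_le_comap.2 (congrArg PrimeSpectrum.asIdeal he).ge)
      obtain ⟨n, hn⟩ := ih q' hq'
      let C := Localization.AtPrime Q.asIdeal
      have : Module.Flat B C := IsLocalization.flat C Q.asIdeal.primeCompl
      have : Module.Flat A C := Module.Flat.trans A B C
      have hmQ : Q.asIdeal.map (algebraMap B C) = maximalIdeal C := Localization.AtPrime.map_eq_maximalIdeal
      have hcQ : (maximalIdeal C).comap (algebraMap B C) = Q.asIdeal :=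
        IsLocalization.AtPrime.under_maximalIdeal C Q.asIdeal
      have hωC : Dual.IsDualizing C ((BaseChange.FD B C).obj ω) := Extended.isDualizing hω fun m hm => by
        obtain rfl := IsLocalRing.eq_maximalIdeal hm
        rw [hcQ, hmQ]
      have hkill : ∀ i ≤ 1, ∀ c ∈ (I.map (algebraMap A C)) ^ n,
          ∀ x : _root_.LocCoh.H (I.map (algebraMap A C)) i (C ⊗[A] M), c • x = 0 := fun i hi =>
        kill_map I C (q := q') (fun u hu => by
          rw [IsScalarTower.algebraMap_apply A B C]
          exact IsLocalization.map_units C (⟨algebraMap A B u, hu⟩ : Q.asIdeal.primeCompl)) (hn i hi)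
      have hdisj : Disjoint (Q.asIdeal.primeCompl : Set B) P.asIdeal :=
        Set.disjoint_left.2 fun c hc hcp => hc (hPQ hcp)
      let P' : PrimeSpectrum C := ⟨P.asIdeal.map (algebraMap B C),
        IsLocalization.isPrime_of_isPrime_disjoint Q.asIdeal.primeCompl C P.asIdeal P.2 hdisj⟩
      let m : PrimeSpectrum C := IsLocalRing.closedPoint C
      have hP' : P'.asIdeal.comap (algebraMap B C) = P.asIdeal :=
        IsLocalization.under_map_of_isPrime_disjoint Q.asIdeal.primeCompl C P.2 hdisj
      have hPm : P' ≤ m := IsLocalRing.le_maximalIdeal P'.2.ne_top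
      have h1 := (cond_of_kill hωC (N := C ⊗[A] M) (I.map (algebraMap A C))).1 ⟨n, hkill⟩ P' m
        (fun hle => hP (by
          rw [← hP', ← Ideal.map_le_iff_le_comap, Ideal.map_map, ← IsScalarTower.algebraMap_eq]
          exact hle))
        (by
          rw [IsScalarTower.algebraMap_eq A B C, ← Ideal.map_map]
          exact (Ideal.map_mono hQ).trans hmQ.le) hPm
      rwa [CompletionDeg.depth_add_eq hω hP' hωC (B ⊗[A] M) (C ⊗[A] M)
        (TensorProduct.AlgebraTensorModule.cancelBaseChange A B C C M) hPQ hPm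
        (CompletionDeg.deg_eq hω hcQ hωC hmQ)] at h1
  obtain ⟨n, hn⟩ := (cond_of_kill hω (N := B ⊗[A] M) IB).2 hcond
  exact ⟨n, fun i hi a ha x => exists_unit_of_kill I B hcomap (hn i hi _ (by
    rw [← Ideal.map_pow]; exact Ideal.mem_map_of_mem _ ha)) x⟩

end Groth.Agent.LocCoh.KollarH1
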