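import Groth.Agent.LocCoh.Finiteness
import Mathlib.Algebra.Module.FinitePresentation

/-!
# Local cohomology of modules locally free away from the ideal
-/

universe u

open CategoryTheory Limits

namespace Groth.Agent.LocCoh

variable {R : Type u} [CommRing R] [IsNoetherianRing R]

/-- If `M` is projective at `f`, a power of `f` factors through a finite free module. -/
theorem exists_factor_pow (M : Type u) [AddCommGroup M] [Module R M] [Module.Finite R M] (f : R)
    [Module.Projective (Localization.Away f) (LocalizedModule (Submonoid.powers f) M)] :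
    ∃ (k N : ℕ) (s : M →ₗ[R] (Fin k → R)) (π : (Fin k → R) →ₗ[R] M),
      ∀ m : M, π (s m) = f ^ N • m := by
  classical
  obtain ⟨k, π, hπ⟩ := Module.Finite.exists_fin' R M
  let S := Submonoid.powers f
  obtain ⟨σ, hσ⟩ := Module.projective_lifting_property (LocalizedModule.map S π)
    (LinearMap.id (R := Localization S) (M := LocalizedModule S M)) (LocalizedModule.map_surjective S π hπ)
  have : Module.FinitePresentation R M := Module.finitePresentation_of_finite R M
  obtain ⟨h, c, hc⟩ := Module.FinitePresentation.exists_lift_of_isLocalizedModule S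
    (LocalizedModule.mkLinearMap S (Fin k → R))
    ((σ.restrictScalars R) ∘ₗ LocalizedModule.mkLinearMap S M)
  have hloc : ∀ m : M, ∃ d : S, d • π (h m) = d • ((c : R) • m) := fun m => by
    apply IsLocalizedModule.exists_of_eq (S := S) (f := LocalizedModule.mkLinearMap S M)
    have e1 : LocalizedModule.mkLinearMap S (Fin k → R) (h m) =
        (c : R) • σ (LocalizedModule.mkLinearMap S M m) := LinearMap.congr_fun hc m
    have e2 : LocalizedModule.mkLinearMap S M (π (h m)) =
        LocalizedModule.map S π (LocalizedModule.mkLinearMap S (Fin k → R) (h m)) :=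
      (LocalizedModule.map_mk S π (h m) 1).symm
    rw [e2, e1, LinearMap.map_smul_of_tower, map_smul]
    congr 1
    exact LinearMap.congr_fun hσ _
  choose d hd using hloc
  obtain ⟨s, hs⟩ := Module.Finite.fg_top (R := R) (M := M)
  let D : S := ∏ m ∈ s, d m
  have hD : ∀ m : M, D • π (h m) = D • ((c : R) • m) := fun m => by
    have hm : m ∈ Submodule.span R (s : Set M) := hs ▸ Submodule.mem_top
    induction hm using Submodule.span_induction with
    | mem m hm =>
      show (∏ x ∈ s, d x) • _ = (∏ x ∈ s, d x) • _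
      rw [← Finset.prod_erase_mul _ _ hm, mul_smul, mul_smul, hd]
    | zero => simp
    | add a b _ _ ha hb => rw [map_add, map_add, smul_add, smul_add, smul_add, ha, hb]
    | smul r a _ ha => rw [map_smul, map_smul, smul_comm D r, ha, smul_comm (c : R) r a, smul_comm D r]
  obtain ⟨N, hN⟩ := (D * c).2
  refine ⟨k, N, (D : R) • h, π, fun m => ?_⟩
  rw [LinearMap.smul_apply, map_smul]
  refine (hD m).trans ?_
  have hN' : f ^ N = (D : R) * (c : R) := hN
  rw [hN', mul_smul]
  rfl

/-- Powers of `f` push the annihilator of `Hⁱ_I(R)` to `Hⁱ_I(M)`. -/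
theorem exists_pow_smul_kill {I : Ideal R} (i : ℕ) (M : Type u) [AddCommGroup M] [Module R M]
    [Module.Finite R M] (f : R)
    [Module.Projective (Localization.Away f) (LocalizedModule (Submonoid.powers f) M)] :
    ∃ N : ℕ, ∀ a : R, (∀ x : _root_.LocCoh.H I i R, a • x = 0) →
      ∀ x : _root_.LocCoh.H I i M, (a * f ^ N) • x = 0 := by
  classical
  obtain ⟨k, N, s, π, h⟩ := exists_factor_pow M f
  refine ⟨N, fun a ha x => ?_⟩
  -- split the free module into coordinates
  have hfact : (f ^ N : R) • 𝟙 (ModuleCat.of R M) = ∑ j : Fin k,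
      ModuleCat.ofHom ((LinearMap.proj j : (Fin k → R) →ₗ[R] R) ∘ₗ s) ≫
        ModuleCat.ofHom (π ∘ₗ LinearMap.single R (fun _ => R) j) := by
    refine ModuleCat.hom_ext (LinearMap.ext fun m => ?_)
    rw [ModuleCat.hom_sum, LinearMap.sum_apply]
    show f ^ N • m = ∑ j, π (Pi.single j (s m j))
    rw [← map_sum, Finset.univ_sum_single, h]
  have key : ∀ j : Fin k, a • ((localCohomology I i).map
      (ModuleCat.ofHom ((LinearMap.proj j : (Fin k → R) →ₗ[R] R) ∘ₗ s) ≫
        ModuleCat.ofHom (π ∘ₗ LinearMap.single R (fun _ => R) j))).hom x = 0 := fun j => by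
    rw [Functor.map_comp, ModuleCat.hom_comp, LinearMap.comp_apply, ← map_smul]
    exact (congrArg _ (ha _)).trans (map_zero _)
  obtain ⟨n, e, rfl⟩ := exists_ιH x
  rw [mul_smul, ← map_smul_id (f ^ N) (ModuleCat.of R M), hfact, ιH_naturality]
  have : ∀ g : ModuleCat.of R M ⟶ ModuleCat.of R M, ιH I i n _ (e.comp (Abelian.Ext.mk₀ g) (add_zero i)) =
      ((localCohomology I i).map g).hom (ιH I i n _ e) := fun g => (ιH_naturality n g e).symm
  rw [Abelian.Ext.mk₀_sum, Abelian.Ext.comp_sum, map_sum, Finset.smul_sum]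
  exact Finset.sum_eq_zero fun j _ => by rw [this]; exact key j

theorem exists_pow_mul_kill {I : Ideal R} (i : ℕ) (M : Type u) [AddCommGroup M] [Module R M]
    [Module.Finite R M]
    (hM : ∀ f ∈ I, Module.Projective (Localization.Away f) (LocalizedModule (Submonoid.powers f) M)) :
    ∃ L : ℕ, ∀ (J : Ideal R), (∀ a ∈ J, ∀ x : _root_.LocCoh.H I i R, a • x = 0) →
      ∀ a ∈ J * I ^ L, ∀ x : _root_.LocCoh.H I i M, a • x = 0 := by
  classical
  let C : Ideal R :=
    { carrier := {c | ∀ a : R, (∀ x : _root_.LocCoh.H I i R, a • x = 0) →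
        ∀ x : _root_.LocCoh.H I i M, (a * c) • x = 0}
      zero_mem' := fun a _ x => by rw [mul_zero, zero_smul]
      add_mem' := fun {c d} hc hd a ha x => by rw [mul_add, add_smul, hc a ha, hd a ha, add_zero]
      smul_mem' := fun r c hc a ha x => by
        rw [smul_eq_mul, ← mul_assoc, mul_comm a r, mul_assoc, mul_smul, hc a ha, smul_zero] }
  have hI : I ≤ C.radical := fun f hf => by
    have := hM f hf
    obtain ⟨N, hN⟩ := exists_pow_smul_kill (I := I) i M f
    exact ⟨N, hN⟩
  obtain ⟨L, hL⟩ := Ideal.exists_pow_le_of_le_radical_of_fg hI (IsNoetherian.noetherian I)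
  refine ⟨L, fun J hJ a ha => ?_⟩
  intro x
  induction ha using Submodule.mul_induction_on' with
  | mem_mul_mem b hb c hc => exact (hL hc) b (hJ b hb) x
  | add b _ c _ hb hc => rw [add_smul, hb, hc, add_zero]

theorem exists_pow_kill_of_locallyFree {I J : Ideal R} (hJI : J ≤ I) (i n : ℕ)
    (hA : ∀ a ∈ J ^ n, ∀ x : _root_.LocCoh.H I i R, a • x = 0) (M : Type u) [AddCommGroup M]
    [Module R M] [Module.Finite R M]
    (hM : ∀ f ∈ I, Module.Projective (Localization.Away f) (LocalizedModule (Submonoid.powers f) M)) :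
    ∃ m : ℕ, ∀ a ∈ J ^ m, ∀ x : _root_.LocCoh.H I i M, a • x = 0 := by
  obtain ⟨L, hL⟩ := exists_pow_mul_kill (I := I) i M hM
  exact ⟨n + L, fun a ha => hL (J ^ n) hA a (Ideal.mul_mono le_rfl (Ideal.pow_right_mono hJI L)
    (by rwa [← pow_add]))⟩

theorem finite_H_of_locallyFree {I : Ideal R} (n : ℕ)
    (hR : ∀ i ≤ n, Module.Finite R (_root_.LocCoh.H I i R)) (M : Type u) [AddCommGroup M]
    [Module R M] [Module.Finite R M]
    (hM : ∀ f ∈ I, Module.Projective (Localization.Away f) (LocalizedModule (Submonoid.powers f) M))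
    (i : ℕ) (hi : i ≤ n) : Module.Finite R (_root_.LocCoh.H I i M) := by
  obtain ⟨m, hm⟩ := exists_pow_kill_H n (ModuleCat.of R R) hR
  choose L hL using fun j : Fin (n + 1) => exists_pow_mul_kill (I := I) (j : ℕ) M hM
  let Lmax := Finset.univ.sup L
  refine (finite_H_iff_annihilated (I := I) n (ModuleCat.of R M)).mpr ⟨I ^ m * I ^ Lmax, ?_, ?_⟩ i hi
  · rw [← pow_add]
    exact fun a ha => ⟨_, Ideal.pow_mem_pow ha _⟩
  · intro j hj a ha
    exact hL ⟨j, Nat.lt_succ_of_le hj⟩ (I ^ m) (hm j hj) a (Ideal.mul_mono le_rfl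
      (Ideal.pow_le_pow_right (Finset.le_sup (Finset.mem_univ (⟨j, Nat.lt_succ_of_le hj⟩ : Fin (n + 1))))) ha)

end Groth.Agent.LocCoh
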