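import Groth.Agent.Formal61.Punct
import Groth.Agent.LocCoh.NonVanishing
import Groth.Agent.S2269
import Groth.Prelude.Def_Canon

/-!
# Cohomology of coherent modules on the punctured spectrum of a local ring is Artinian
-/

universe u

open CategoryTheory AlgebraicGeometry IsLocalRing
open Groth.Agent.KoszulCech (C cdM)

namespace Groth.Agent.LocCoh.PuncturedArtin

open Groth.Agent.Formal61

variable {A : Type u} [CommRing A] [IsNoetherianRing A] [IsLocalRing A]

theorem isArtinian_G (M : Type u) [AddCommGroup M] [Module A M] [Module.Finite A M] (q : ℕ) :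
    IsArtinian A (Coh.HH (Punct.U (maximalIdeal A) : Scheme.{u}) (Punct.G (maximalIdeal A) M) (q + 1)) := by
  obtain ⟨ι, _, f, hf, ⟨e⟩⟩ := Punct.exists_equiv_H1 (maximalIdeal A) M q
  have := isArtinian_H_maximalIdeal (q + 2) (ModuleCat.of A M)
  have : IsArtinian A (KoszulCech.H1 f M q) := isArtinian_of_linearEquiv e.symm
  let K := LinearMap.ker (cdM f M (q + 1))
  refine isArtinian_of_surjective (KoszulCech.H1 f M q)
    (Submodule.liftQ _ (Punct.L (maximalIdeal A) M f hf (q + 1)) fun s hs =>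
      LinearMap.mem_ker.2 (Punct.L_eq_zero (maximalIdeal A) M f hf q s hs)) fun x => ?_
  obtain ⟨s, rfl⟩ := Punct.L_surjective (maximalIdeal A) M f hf (q + 1) x
  exact ⟨Submodule.Quotient.mk s, rfl⟩

theorem isArtinian_of_iso (R : Type u) [CommRing R] {X : Scheme.{u}} [X.Over (Spec (CommRingCat.of R))]
    {F G : X.Modules} (e : F ≅ G) (r : ℕ) (h : IsArtinian R (Coh.HH X G r)) : IsArtinian R (Coh.HH X F r) := by
  refine isArtinian_of_surjective (Coh.HH X G r) (Canon.HHlin R e.inv r) fun x => ⟨Canon.HHlin R e.hom r x, ?_⟩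
  refine (Sheaf.H.map_comp_apply _ _ _).symm.trans ?_
  rw [← Functor.map_comp]
  erw [Iso.hom_inv_id, CategoryTheory.Functor.map_id, Sheaf.H.map_id_apply]

/-- cohomology of coherent modules on the punctured spectrum is Artinian in positive degrees -/
theorem isArtinian_HH (F : (↑(_root_.LocCoh.puncturedOpen A (maximalIdeal A)) : Scheme.{u}).Modules)
    (hF : Coh.IsCoh F) {i : ℕ} (hi : 0 < i) :
    IsArtinian A (Coh.HH (↑(_root_.LocCoh.puncturedOpen A (maximalIdeal A)) : Scheme.{u}) F i) := by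
  obtain ⟨q, rfl⟩ := Nat.exists_eq_add_of_le' hi
  obtain ⟨M, _, _, _, ⟨e⟩⟩ := (S2269.result A _ F).1 hF
  exact isArtinian_of_iso A e (q + 1) (isArtinian_G (A := A) M q)

end Groth.Agent.LocCoh.PuncturedArtin
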