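import Groth.Agent.LocCoh.Basic
import Mathlib.RingTheory.Finiteness.Ideal
import Mathlib.RingTheory.Support

/-!
# `Extⁿ(-, G)` on modules supported in `V(J)` is represented by `Hⁿ_J(G)` when `Extⁿ⁻¹` vanishes
-/

universe u

open CategoryTheory Limits

namespace Groth.Agent.LocCoh

variable {A : Type u} [CommRing A] (J : Ideal A)

/-- `A/J^k → F`, `1 ↦ x`. -/
noncomputable def evalHom {k : ℕ} {F : ModuleCat.{u} A} (x : F) (hx : ∀ a ∈ J ^ k, a • x = 0) :
    quotPow J k ⟶ F :=
  ModuleCat.ofHom (Submodule.liftQ (J ^ k) (LinearMap.toSpanSingleton A F x)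
    (fun a ha => LinearMap.mem_ker.mpr (hx a ha)))

theorem evalHom_mk {k : ℕ} {F : ModuleCat.{u} A} (x : F) (hx : ∀ a ∈ J ^ k, a • x = 0) (a : A) :
    (evalHom J x hx).hom (Ideal.Quotient.mk (J ^ k) a) = a • x := rfl

theorem hom_quotPow_ext {k : ℕ} {F : ModuleCat.{u} A} {f g : quotPow J k ⟶ F}
    (h : f.hom (Ideal.Quotient.mk (J ^ k) 1) = g.hom (Ideal.Quotient.mk (J ^ k) 1)) : f = g := by
  refine ModuleCat.hom_ext (LinearMap.ext fun z => ?_)
  obtain ⟨a, rfl⟩ := Ideal.Quotient.mk_surjective z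
  have : Ideal.Quotient.mk (J ^ k) a = a • Ideal.Quotient.mk (J ^ k) 1 := by
    rw [Algebra.smul_def, map_one, mul_one]; rfl
  rw [this, f.hom.map_smul, g.hom.map_smul, h]

section

variable [IsNoetherianRing A] (G : ModuleCat.{u} A) (n : ℕ)

/-- vanishing of `Extⁿ⁻¹(-, G)` on finite modules killed by a power of `J` -/
def VanishesBelow : Prop := ∀ (F : ModuleCat.{u} A) (k : ℕ), Module.Finite A F →
  (∀ a ∈ J ^ k, ∀ x : F, a • x = 0) → ∀ i, i + 1 = n → Subsingleton (Abelian.Ext F G i)

variable {J G n}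

theorem precomp_injective (hv : VanishesBelow J G n) {P F : ModuleCat.{u} A} [Module.Finite A P] {k : ℕ}
    (hk : ∀ a ∈ J ^ k, ∀ x : P, a • x = 0) (π : P ⟶ F) [Epi π]
    (e : Abelian.Ext F G n) (he : (Abelian.Ext.mk₀ π).comp e (zero_add n) = 0) : e = 0 := by
  let S := ShortComplex.mk (kernel.ι π) π (kernel.condition π)
  have hS : S.ShortExact := { exact := ShortComplex.exact_kernel π }
  rcases n with - | m
  · obtain ⟨f, rfl⟩ : ∃ f, Abelian.Ext.mk₀ f = e := ⟨_, Abelian.Ext.mk₀_homEquiv₀_apply e⟩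
    rw [Abelian.Ext.mk₀_comp_mk₀, ← Abelian.Ext.mk₀_zero] at he
    have : π ≫ f = π ≫ 0 := by rw [comp_zero]; exact Abelian.Ext.homEquiv₀.symm.injective he
    rw [(cancel_epi π).mp this, Abelian.Ext.mk₀_zero]
  · have hinj : Function.Injective (kernel.ι π).hom := (ModuleCat.mono_iff_injective _).mp inferInstance
    have hfin : Module.Finite A S.X₁ := Module.Finite.of_injective (kernel.ι π).hom hinj
    obtain ⟨x, rfl⟩ := Abelian.Ext.contravariant_sequence_exact₃ hS G e he (add_comm 1 m)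
    rw [(hv S.X₁ k hfin (fun a ha z => hinj (by rw [map_smul, hk a ha, map_zero])) m rfl).elim x 0,
      Abelian.Ext.comp_zero]

theorem qpow_injective (hv : VanishesBelow J G n) {k m : ℕ} (h : k ≤ m) (e : Abelian.Ext (quotPow J k) G n)
    (he : (Abelian.Ext.mk₀ (qpow J h)).comp e (zero_add n) = 0) : e = 0 := by
  have : Epi (qpow J h) := (ModuleCat.epi_iff_surjective _).mpr fun z => by
    obtain ⟨a, rfl⟩ := Ideal.Quotient.mk_surjective z
    exact ⟨Ideal.Quotient.mk _ a, rfl⟩
  have : Module.Finite A (quotPow J m) := inferInstanceAs (Module.Finite A (A ⧸ J ^ m))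
  refine precomp_injective hv (k := m) (fun a ha z => ?_) (qpow J h) e he
  obtain ⟨b, rfl⟩ := Ideal.Quotient.mk_surjective z
  exact Ideal.Quotient.eq_zero_iff_mem.mpr ((J ^ m).mul_mem_right b ha)

theorem ιH_injective (hv : VanishesBelow J G n) (k : ℕ) : Function.Injective (ιH J n k G) := by
  refine (injective_iff_map_eq_zero _).mpr fun e he => ?_
  obtain ⟨m, h, hm⟩ := (ιH_eq_zero_iff e).mp he
  exact qpow_injective hv h e hm

variable {k : ℕ} {F : ModuleCat.{u} A} (hk : ∀ a ∈ J ^ k, ∀ x : F, a • x = 0)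

variable (n G) in
/-- `Extⁿ(F, G) → Hom(F, Hⁿ_J G)` -/
noncomputable def reprMap : Abelian.Ext F G n →ₗ[A] (F →ₗ[A] (localCohomology J n).obj G) :=
  LinearMap.mk₂ A (fun e x => ιH J n k G ((Abelian.Ext.mk₀ (evalHom J x (fun a ha => hk a ha x))).comp e (zero_add n)))
    (fun e e' x => by rw [Abelian.Ext.comp_add, map_add])
    (fun r e x => by rw [Abelian.Ext.comp_smul, map_smul])
    (fun e x y => by
      rw [← map_add, ← Abelian.Ext.add_comp, ← Abelian.Ext.mk₀_add]
      congr 3
      exact hom_quotPow_ext J (by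
        show _ = (evalHom J x _).hom _ + (evalHom J y _).hom _
        rw [evalHom_mk, evalHom_mk, evalHom_mk, one_smul, one_smul, one_smul]))
    (fun r e x => by
      rw [← map_smul, ← Abelian.Ext.smul_comp, ← Abelian.Ext.mk₀_smul]
      congr 3
      exact hom_quotPow_ext J (by
        show _ = r • (evalHom J x _).hom _
        rw [evalHom_mk, evalHom_mk, one_smul, one_smul]))

omit [IsNoetherianRing A] in
theorem reprMap_apply (e : Abelian.Ext F G n) (x : F) : reprMap G n hk e x =
    ιH J n k G ((Abelian.Ext.mk₀ (evalHom J x (fun a ha => hk a ha x))).comp e (zero_add n)) := rfl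

/-- `P = (A/J^m)^b` -/
noncomputable abbrev freeQ (m b : ℕ) : ModuleCat.{u} A := ModuleCat.of A (Fin b → A ⧸ J ^ m)

variable (J) in
/-- coordinate projections -/
noncomputable def qproj (m b : ℕ) (j : Fin b) : freeQ (J := J) m b ⟶ quotPow J m :=
  ModuleCat.ofHom (LinearMap.proj j)

variable (J) in
/-- coordinate inclusions -/
noncomputable def qsingle (m b : ℕ) (j : Fin b) : quotPow J m ⟶ freeQ (J := J) m b :=
  ModuleCat.ofHom (LinearMap.single A (fun _ => A ⧸ J ^ m) j)

omit [IsNoetherianRing A] in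
theorem sum_qproj_qsingle (m b : ℕ) : ∑ j, qproj J m b j ≫ qsingle J m b j = 𝟙 (freeQ (J := J) m b) := by
  refine ModuleCat.hom_ext (LinearMap.ext fun z => ?_)
  rw [ModuleCat.hom_sum, LinearMap.sum_apply]
  exact Finset.univ_sum_single z

omit [IsNoetherianRing A] in
theorem exists_presentation (hF : Module.Finite A F) {m : ℕ} (hkm : k ≤ m) :
    ∃ (b : ℕ) (g : Fin b → F) (π : freeQ (J := J) m b ⟶ F), Epi π ∧ Submodule.span A (Set.range g) = ⊤ ∧
      ∀ j, qsingle J m b j ≫ π = evalHom J (g j) (fun a ha => hk a (Ideal.pow_le_pow_right hkm ha) _) := by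
  obtain ⟨b, g, hg⟩ := Module.Finite.exists_fin (R := A) (M := F)
  let π : freeQ (J := J) m b ⟶ F :=
    ∑ j, qproj J m b j ≫ evalHom J (g j) (fun a ha => hk a (Ideal.pow_le_pow_right hkm ha) _)
  have hπ : ∀ j, qsingle J m b j ≫ π =
      evalHom J (g j) (fun a ha => hk a (Ideal.pow_le_pow_right hkm ha) _) := fun j => by
    rw [Preadditive.comp_sum, Finset.sum_eq_single j (fun i _ hij => ?_) (by simp)]
    · refine hom_quotPow_ext J ?_
      show (evalHom J (g j) (fun a ha => hk a (Ideal.pow_le_pow_right hkm ha) _)).hom ((LinearMap.single A (fun _ => A ⧸ J ^ m) j _) j) = _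
      rw [LinearMap.single_apply, Pi.single_eq_same]
    · refine hom_quotPow_ext J ?_
      show (evalHom J (g i) (fun a ha => hk a (Ideal.pow_le_pow_right hkm ha) _)).hom ((LinearMap.single A (fun _ => A ⧸ J ^ m) j _) i) = 0
      rw [LinearMap.single_apply, Pi.single_eq_of_ne hij, map_zero]
  refine ⟨b, g, π, ?_, hg, hπ⟩
  rw [ModuleCat.epi_iff_surjective, ← LinearMap.range_eq_top, eq_top_iff, ← hg, Submodule.span_le]
  rintro _ ⟨j, rfl⟩
  refine ⟨(qsingle J m b j).hom (Ideal.Quotient.mk _ 1), ?_⟩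
  show (qsingle J m b j ≫ π).hom _ = g j
  rw [hπ, evalHom_mk, one_smul]

theorem reprMap_injective (hv : VanishesBelow J G n) (hF : Module.Finite A F) :
    Function.Injective (reprMap G n hk) := by
  refine (injective_iff_map_eq_zero _).mpr fun e he => ?_
  obtain ⟨b, g, π, hπ, -, hsingle⟩ := exists_presentation hk hF (le_refl k)
  refine precomp_injective hv (P := freeQ (J := J) k b) (k := k) (fun a ha z => funext fun j => ?_) π e ?_
  · obtain ⟨c, hc⟩ := Ideal.Quotient.mk_surjective (z j)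
    rw [Pi.smul_apply, ← hc]
    exact Ideal.Quotient.eq_zero_iff_mem.mpr ((J ^ k).mul_mem_right c ha)
  rw [← Category.id_comp π, ← sum_qproj_qsingle, Preadditive.sum_comp, Abelian.Ext.mk₀_sum, Abelian.Ext.sum_comp]
  refine Finset.sum_eq_zero fun j _ => ?_
  rw [Category.assoc, hsingle, ← Abelian.Ext.mk₀_comp_mk₀_assoc]
  have h0 := LinearMap.congr_fun he (g j)
  rw [reprMap_apply, LinearMap.zero_apply, map_eq_zero_iff _ (ιH_injective hv k)] at h0
  rw [h0, Abelian.Ext.comp_zero]

omit [IsNoetherianRing A] in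
theorem reprMap_of_le {m : ℕ} (hkm : k ≤ m) (e : Abelian.Ext F G n) :
    reprMap G n (fun a ha => hk a (Ideal.pow_le_pow_right hkm ha)) e = reprMap G n hk e := by
  refine LinearMap.ext fun x => ?_
  rw [reprMap_apply, reprMap_apply, ← ιH_qpow hkm, Abelian.Ext.mk₀_comp_mk₀_assoc]
  congr 3
  exact hom_quotPow_ext J rfl

theorem reprMap_surjective (hv : VanishesBelow J G n) (hF : Module.Finite A F) :
    Function.Surjective (reprMap G n hk) := by
  intro h
  obtain ⟨b₀, g₀, hg₀⟩ := Module.Finite.exists_fin (R := A) (M := F)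
  -- a common stage for the images of generators
  have hstage : ∀ z : (localCohomology J n).obj G, ∃ m₀, ∀ m, m₀ ≤ m → ∃ e, ιH J n m G e = z := fun z => by
    obtain ⟨m₀, e, rfl⟩ := exists_ιH z
    exact ⟨m₀, fun m hm => ⟨_, ιH_qpow hm e⟩⟩
  choose M hM using fun j => hstage (h (g₀ j))
  let m := max k (Finset.univ.sup M)
  have hkm : k ≤ m := le_max_left _ _
  have hkm' : ∀ a ∈ J ^ m, ∀ x : F, a • x = 0 := fun a ha => hk a (Ideal.pow_le_pow_right hkm ha)
  let N : Submodule A F := (LinearMap.range (ιH J n m G)).comap h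
  have hN : ∀ x : F, ∃ e, ιH J n m G e = h x := by
    have : (⊤ : Submodule A F) ≤ N := by
      rw [← hg₀, Submodule.span_le]
      rintro _ ⟨j, rfl⟩
      exact hM j m (le_max_of_le_right (Finset.le_sup (Finset.mem_univ j)))
    exact fun x => this trivial
  obtain ⟨b, g, π, hπ, hg, hsingle⟩ := exists_presentation hk hF hkm
  choose c hc using fun j => hN (g j)
  let eP : Abelian.Ext (freeQ (J := J) m b) G n :=
    ∑ j, (Abelian.Ext.mk₀ (qproj J m b j)).comp (c j) (zero_add n)
  have hP : ∀ a ∈ J ^ m, ∀ z : freeQ (J := J) m b, a • z = 0 := fun a ha z => funext fun j => by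
    obtain ⟨c, hc⟩ := Ideal.Quotient.mk_surjective (z j)
    rw [Pi.smul_apply, ← hc]
    exact Ideal.Quotient.eq_zero_iff_mem.mpr ((J ^ m).mul_mem_right c ha)
  have hePh : ∀ z : freeQ (J := J) m b, reprMap G n hP eP z = h (π.hom z) := by
    suffices reprMap G n hP eP = h ∘ₗ π.hom from LinearMap.congr_fun this
    refine LinearMap.pi_ext' fun j => LinearMap.ext fun q => ?_
    obtain ⟨a, rfl⟩ := Ideal.Quotient.mk_surjective q
    have ha : Ideal.Quotient.mk (J ^ m) a = a • Ideal.Quotient.mk (J ^ m) 1 := by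
      rw [Algebra.smul_def, map_one, mul_one]; rfl
    rw [ha, map_smul, map_smul]
    congr 1
    show reprMap G n hP eP ((qsingle J m b j).hom _) = h ((qsingle J m b j ≫ π).hom _)
    rw [hsingle, evalHom_mk, one_smul, reprMap_apply, ← hc j]
    congr 1
    rw [Abelian.Ext.comp_sum, Finset.sum_eq_single j (fun i _ hij => ?_) (by simp)]
    · rw [Abelian.Ext.mk₀_comp_mk₀_assoc]
      have e1 : ∀ hx, evalHom J (k := m) ((qsingle J m b j).hom (Ideal.Quotient.mk (J ^ m) 1)) hx ≫ qproj J m b j =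
          𝟙 (quotPow J m) := fun hx => hom_quotPow_ext J (by
        rw [ModuleCat.hom_comp, LinearMap.comp_apply, evalHom_mk, one_smul]
        exact Pi.single_eq_same (M := fun _ => A ⧸ J ^ m) j _)
      rw [e1, Abelian.Ext.mk₀_id_comp]
    · rw [Abelian.Ext.mk₀_comp_mk₀_assoc]
      have e1 : ∀ hx, evalHom J (k := m) ((qsingle J m b j).hom (Ideal.Quotient.mk (J ^ m) 1)) hx ≫ qproj J m b i =
          0 := fun hx => hom_quotPow_ext J (by
        rw [ModuleCat.hom_comp, LinearMap.comp_apply, evalHom_mk, one_smul]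
        exact Pi.single_eq_of_ne (M := fun _ => A ⧸ J ^ m) hij _)
      rw [e1, Abelian.Ext.mk₀_zero, Abelian.Ext.zero_comp]
  let S := ShortComplex.mk (kernel.ι π) π (kernel.condition π)
  have hS : S.ShortExact := { exact := ShortComplex.exact_kernel π }
  have hinj : Function.Injective (kernel.ι π).hom := (ModuleCat.mono_iff_injective _).mp inferInstance
  have hKfin : Module.Finite A S.X₁ := Module.Finite.of_injective (kernel.ι π).hom hinj
  have hK : ∀ a ∈ J ^ m, ∀ z : S.X₁, a • z = 0 := fun a ha z => hinj (by rw [map_smul, hP a ha, map_zero])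
  have hzero : (Abelian.Ext.mk₀ S.f).comp eP (zero_add n) = 0 := by
    refine reprMap_injective hK hv hKfin ?_
    rw [map_zero]
    refine LinearMap.ext fun z => ?_
    rw [reprMap_apply, Abelian.Ext.mk₀_comp_mk₀_assoc, LinearMap.zero_apply]
    have := hePh ((kernel.ι π).hom z)
    rw [reprMap_apply, show π.hom ((kernel.ι π).hom z) = 0 from congrArg (fun f => f.hom z) (kernel.condition π),
      map_zero] at this
    convert! this using 4
    refine hom_quotPow_ext J ?_
    show (kernel.ι π).hom ((evalHom J z _).hom _) = _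
    rw [evalHom_mk, evalHom_mk, map_smul]
  obtain ⟨e, he⟩ := Abelian.Ext.contravariant_sequence_exact₂ hS G eP hzero
  refine ⟨e, ?_⟩
  rw [← reprMap_of_le hk hkm]
  refine LinearMap.ext fun x => ?_
  obtain ⟨z, rfl⟩ := (ModuleCat.epi_iff_surjective π).mp hπ x
  rw [← hePh, reprMap_apply, reprMap_apply, ← he, Abelian.Ext.mk₀_comp_mk₀_assoc]
  congr 3
  refine hom_quotPow_ext J ?_
  show _ = π.hom ((evalHom J z _).hom _)
  rw [evalHom_mk, evalHom_mk, map_smul]

end

end Groth.Agent.LocCoh
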