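import Groth.Agent.DualCx.FibreGrade
import Groth.Agent.AlgSpD.RelDim
import Groth.Agent.LocCohSweep.DepthGrade
import Groth.Agent.GeomFieldLib.CMTensor
import Groth.Agent.S2092

/-!
# The grade of the kernel of a presentation over a Cohen-Macaulay base
-/

universe u

open AlgebraicGeometry CategoryTheory

namespace Groth.Agent.LocCoh.ShriekDim

open Groth.Agent

variable {R A : Type u} [CommRing R] [CommRing A] [IsNoetherianRing R] [Algebra R A]

/-- fibre dimension at a generic point -/
theorem fibreDimAt_le [Algebra.FiniteType R A] (q : PrimeSpectrum A) (hq : q.asIdeal ∈ minimalPrimes A) (r : ℕ)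
    (h : Dual3.resTrdeg (Spec.map (CommRingCat.ofHom (algebraMap R A))) q ≤ (r : Cardinal.{u})) :
    FlatMor.fibreDimAt (Spec.map (CommRingCat.ofHom (algebraMap R A))) q ≤ r := by
  let f := Spec.map (CommRingCat.ofHom (algebraMap R A))
  have hf : LocallyOfFiniteType f := (HasRingHomProperty.Spec_iff).2
    (RingHom.finiteType_algebraMap.2 inferInstance)
  obtain ⟨n, m, hm, -, hn, hd⟩ := AlgSpD.exists_fibre_dims f q
  have hmax : IsMax (f.asFiber q) := fun z (hz : f.asFiber q ≤ z) => by
    have h1 : (f.fiberι (f q)) z ⤳ q := by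
      have := Specializes.map (show z ⤳ f.asFiber q from hz) (f.fiberι (f q)).continuous
      rwa [f.fiberι_asFiber] at this
    have h2 : (f.fiberι (f q)) z = q := by
      have hle : PrimeSpectrum.asIdeal ((f.fiberι (f q)) z) ≤ q.asIdeal :=
        (PrimeSpectrum.le_iff_specializes _ _).2 h1
      exact PrimeSpectrum.ext (le_antisymm hle (hq.2 ⟨PrimeSpectrum.isPrime _, bot_le⟩ hle))
    have h3 : z = f.asFiber q := (f.fiberι (f q)).isEmbedding.injective (h2.trans (f.fiberι_asFiber q).symm)
    exact le_of_eq h3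
  rw [ringKrullDim_stalk_eq_coheight, Order.coheight_eq_zero.2 hmax] at hn
  have hn0 : n = 0 := by exact_mod_cast hn.symm
  change Dual3.resTrdeg f q ≤ (r : Cardinal.{u}) at h
  rw [hm] at h
  rw [show FlatMor.fibreDimAt (Spec.map (CommRingCat.ofHom (algebraMap R A))) q = _ from hd, hn0]
  exact_mod_cast (show 0 + m ≤ r by simpa using (Nat.cast_le.1 h))

variable (n : ℕ) (ψ : MvPolynomial (Fin n) R →ₐ[R] A) (hψ : Function.Surjective ψ) (r : ℕ)
  (hr : ∀ q : PrimeSpectrum A, q.asIdeal ∈ minimalPrimes A →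
    Dual3.resTrdeg (Spec.map (CommRingCat.ofHom (algebraMap R A))) q ≤ (r : Cardinal.{u}))

include hψ hr in
/-- primes containing the kernel have height at least `n - r` -/
theorem le_height (Q : Ideal (MvPolynomial (Fin n) R)) [Q.IsPrime] (hQ : RingHom.ker ψ.toRingHom ≤ Q) :
    ((n - r : ℕ) : ℕ∞) ≤ Q.height := by
  let P := MvPolynomial (Fin n) R
  have : Algebra.FiniteType R A := Algebra.FiniteType.of_surjective ψ hψ
  have hq : (Q.map ψ.toRingHom).IsPrime := Ideal.map_isPrime_of_surjective hψ hQ
  obtain ⟨q0, hq0, hle⟩ := Ideal.exists_minimalPrimes_le (bot_le : ⊥ ≤ Q.map ψ.toRingHom)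
  have := hq0.1.1
  let Q0 : Ideal P := q0.comap ψ.toRingHom
  have hQ0 : Q0 ≤ Q := by
    refine (Ideal.comap_mono hle).trans (le_of_eq ?_)
    rw [Ideal.comap_map_of_surjective ψ.toRingHom hψ, ← RingHom.ker_eq_comap_bot, sup_eq_left.2 hQ]
  let J := (RingHom.ker ψ.toRingHom).map (algebraMap P (Localization.AtPrime Q0))
  have h1 : ((n - r : ℕ) : ℕ∞) ≤ _root_.LocCoh.idealDepth J (Localization.AtPrime Q0) :=
    DualCx.FibreGrade.le_idealDepth n ψ hψ ⟨q0, inferInstance⟩ r
      (fibreDimAt_le ⟨q0, inferInstance⟩ hq0 r (hr _ hq0))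
  have hJ : J ≤ IsLocalRing.maximalIdeal (Localization.AtPrime Q0) := by
    rw [← IsLocalization.AtPrime.map_eq_maximalIdeal Q0 (Localization.AtPrime Q0)]
    refine Ideal.map_mono fun x hx => ?_
    show ψ.toRingHom x ∈ q0
    rw [RingHom.mem_ker.1 hx]
    exact zero_mem _
  have h2 : ((_root_.LocCoh.depth (Localization.AtPrime Q0) (Localization.AtPrime Q0) : ℕ∞) : WithBot ℕ∞) ≤
      (Q0.height : WithBot ℕ∞) := by
    refine Depth.depth_le_supportDim.trans ?_
    rw [Module.supportDim_self_eq_ringKrullDim, IsLocalization.AtPrime.ringKrullDim_eq_height Q0]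
  exact h1.trans ((Depth.idealDepth_mono hJ).trans ((WithBot.coe_le_coe.1 h2).trans (Ideal.height_mono hQ0)))

omit [Algebra R A] in
/-- localised polynomial rings over a Cohen-Macaulay local base -/
theorem isCohenMacaulay_atPrime (p : Ideal R) [p.IsPrime]
    [_root_.LocCoh.IsCohenMacaulayLocalRing (Localization.AtPrime p)]
    (Q : Ideal (MvPolynomial (Fin n) R)) [Q.IsPrime] (hQ : Q.comap MvPolynomial.C ≤ p) :
    _root_.LocCoh.IsCohenMacaulayLocalRing (Localization.AtPrime Q) := by
  let R' := Localization.AtPrime p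
  let P' := MvPolynomial (Fin n) R'
  have : _root_.LocCoh.IsCohenMacaulayRing R' := Depth.isCohenMacaulayRing_of_isCohenMacaulayLocalRing
  have hP' : _root_.LocCoh.IsCohenMacaulayRing P' := S2092.result n
  letI : Algebra (MvPolynomial (Fin n) R) P' := MvPolynomial.algebraMvPolynomial
  let M : Submonoid (MvPolynomial (Fin n) R) := p.primeCompl.map (MvPolynomial.C (σ := Fin n))
  have : IsLocalization M P' := MvPolynomial.isLocalization p.primeCompl R'
  have hd : Disjoint (M : Set (MvPolynomial (Fin n) R)) (Q : Set (MvPolynomial (Fin n) R)) :=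
    Set.disjoint_left.2 fun x hx hx' => by
      obtain ⟨a, ha, rfl⟩ := hx
      exact ha (hQ hx')
  let Q' : Ideal P' := Q.map (algebraMap (MvPolynomial (Fin n) R) P')
  have : Q'.IsPrime := IsLocalization.isPrime_of_isPrime_disjoint M P' Q inferInstance hd
  have hQ' : Q'.comap (algebraMap (MvPolynomial (Fin n) R) P') = Q :=
    IsLocalization.comap_map_of_isPrime_disjoint M P' (hI := inferInstance) hd
  have hloc := IsLocalization.isLocalization_isLocalization_atPrime_isLocalization (M := M) (Localization.AtPrime Q') Q'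
  have : IsLocalization.AtPrime (Localization.AtPrime Q') Q := by
    convert hloc using 2; exact hQ'.symm
  have hCM := hP'.isCohenMacaulayLocalRing_localization Q'
  let e : Localization.AtPrime Q' ≃+* Localization.AtPrime Q :=
    (IsLocalization.algEquiv Q.primeCompl (Localization.AtPrime Q') (Localization.AtPrime Q)).toRingEquiv
  obtain ⟨h1, h2⟩ := EGA4Lib.depth_supportDim_ringEquiv (L := Localization.AtPrime Q') (L' := Localization.AtPrime Q) e
  exact { supportDim_eq_depth := by rw [← h1, ← h2]; exact hCM.supportDim_eq_depth }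

include hψ hr in
/-- the grade -/
theorem le_idealDepth (p : Ideal R) [p.IsPrime]
    [_root_.LocCoh.IsCohenMacaulayLocalRing (Localization.AtPrime p)]
    (Q : Ideal (MvPolynomial (Fin n) R)) [Q.IsPrime] (hQ : Q.comap MvPolynomial.C ≤ p) :
    ((n - r : ℕ) : ℕ∞) ≤ _root_.LocCoh.idealDepth
      ((RingHom.ker ψ.toRingHom).map (algebraMap (MvPolynomial (Fin n) R) (Localization.AtPrime Q)))
      (Localization.AtPrime Q) := by
  let P := MvPolynomial (Fin n) R
  let T := Localization.AtPrime Q
  let J := (RingHom.ker ψ.toRingHom).map (algebraMap P T)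
  by_cases hJ : J = ⊤
  · rw [show _root_.LocCoh.idealDepth J T = ⊤ from Depth.idealDepth_eq_top_of_smul_top_eq_top (by rw [hJ, Submodule.top_smul])]
    exact le_top
  have := isCohenMacaulay_atPrime n p Q hQ
  have hT : _root_.LocCoh.IsCohenMacaulayRing T := Depth.isCohenMacaulayRing_of_isCohenMacaulayLocalRing
  rw [LocCohSweep.isCohenMacaulayRing_iff_grade.1 hT J hJ]
  rw [Ideal.height_eq_inf_minimalPrimes]
  refine le_iInf₂ fun Q' hQ' => ?_
  have := hQ'.1.1
  rw [← IsLocalization.height_under Q.primeCompl Q']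
  exact le_height n ψ hψ r hr _ (Ideal.map_le_iff_le_comap.1 hQ'.1.2)

end Groth.Agent.LocCoh.ShriekDim
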