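import Groth.Agent.Depth.CM
import Groth.Agent.DomMod.HomDepth

/-!
# The first non-vanishing `Ext` into a Cohen-Macaulay module
-/

universe u

open CategoryTheory RingTheory.Sequence IsLocalRing

namespace Groth.Agent.LocCoh.ShriekExtShift

open Groth.Agent

variable {T : Type u} [CommRing T] [IsLocalRing T] [IsNoetherianRing T]

/-- cutting by a regular sequence in the annihilator of the source -/
theorem exists_ext_equiv (N : Type u) [AddCommGroup N] [Module T N] :
    ∀ (rs : List T) (M : Type u) [AddCommGroup M] [Module T M] [Module.Finite T M],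
      _root_.LocCoh.IsCohenMacaulayModule T M → IsWeaklyRegular M rs →
      (∀ x ∈ rs, x ∈ maximalIdeal T ∧ x ∈ Module.annihilator T N) →
      ∃ (M' : Type u) (_ : AddCommGroup M') (_ : Module T M') (_ : Module.Finite T M'),
        _root_.LocCoh.IsCohenMacaulayModule T M' ∧
        Nonempty (Abelian.Ext.{u} (ModuleCat.of T N) (ModuleCat.of T M) rs.length ≃ₗ[T] (N →ₗ[T] M')) := by
  intro rs
  induction rs with
  | nil =>
    intro M _ _ _ hM _ _
    exact ⟨M, inferInstance, inferInstance, inferInstance, hM,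
      ⟨(Abelian.Ext.linearEquiv₀ (R := T)).trans (ModuleCat.homLinearEquiv (S := T))⟩⟩
  | cons a rs ih =>
    intro M _ _ _ hM hreg hmem
    have hvan : Subsingleton (Abelian.Ext.{u} (ModuleCat.of T N) (ModuleCat.of T M) rs.length) :=
      Depth.subsingleton_ext_of_isWeaklyRegular (N := ModuleCat.of T N) (a :: rs) (ModuleCat.of T M) hreg
        (fun x hx => ⟨1, fun y => by rw [pow_one]; exact Module.mem_annihilator.1 (hmem x hx).2 y⟩)
        rs.length (by simp)
    rw [isWeaklyRegular_cons_iff] at hreg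
    obtain ⟨ha, haN⟩ := hmem a List.mem_cons_self
    obtain ⟨M', _, _, _, hM', ⟨e⟩⟩ := ih (QuotSMulTop a M)
      ((Depth.isCohenMacaulayModule_quotSMulTop_iff ha hreg.1).2 hM) hreg.2
      fun x hx => hmem x (List.mem_cons_of_mem a hx)
    refine ⟨M', inferInstance, inferInstance, inferInstance, hM', ⟨?_⟩⟩
    have hreg' : IsSMulRegular (ModuleCat.of T M) a := hreg.1
    let S := ModuleCat.smulShortComplex (ModuleCat.of T M) a
    have hS : S.ShortExact := hreg'.smulShortComplex_shortExact
    let δ : Abelian.Ext.{u} (ModuleCat.of T N) (ModuleCat.of T (QuotSMulTop a M)) rs.length →ₗ[T]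
        Abelian.Ext.{u} (ModuleCat.of T N) (ModuleCat.of T M) (a :: rs).length :=
      hS.extClass.postcompOfLinear T (ModuleCat.of T N) (a := rs.length) rfl
    refine (LinearEquiv.ofBijective δ ⟨?_, fun x => ?_⟩).symm.trans e
    · refine (injective_iff_map_eq_zero δ).2 fun y hy => ?_
      obtain ⟨z, rfl⟩ := Abelian.Ext.covariant_sequence_exact₃ (ModuleCat.of T N) hS y (n₁ := rs.length + 1) rfl hy
      rw [show z = 0 from @Subsingleton.elim _ hvan _ _, Abelian.Ext.zero_comp]
      rfl
    · refine Abelian.Ext.covariant_sequence_exact₁ (ModuleCat.of T N) hS x ?_ rfl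
      have haN' : a • 𝟙 (ModuleCat.of T N) = 0 := by
        ext y
        simpa using Module.mem_annihilator.1 haN y
      have h1 : a • x = 0 := by
        have : a • x = (Abelian.Ext.mk₀ (a • 𝟙 (ModuleCat.of T N))).comp x (zero_add _) := by
          simp [Abelian.Ext.mk₀_smul]
        rw [this, haN']
        simp
      change x.comp (Abelian.Ext.mk₀ (a • 𝟙 (ModuleCat.of T M))) (add_zero _) = 0
      rw [Abelian.Ext.mk₀_smul, Abelian.Ext.comp_smul, Abelian.Ext.comp_mk₀_id]
      exact h1

/-- `(S_2)` for the first non-vanishing `Ext` -/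
theorem exists_ext_model (N : Type u) [AddCommGroup N] [Module T N] [Module.Finite T N]
    [h : _root_.LocCoh.IsCohenMacaulayLocalRing T] (g : ℕ) (J : Ideal T) (hJ : J ≠ ⊤)
    (hann : J ≤ Module.annihilator T N) (hg : (g : ℕ∞) ≤ _root_.LocCoh.idealDepth J T) :
    ∃ (L : Type u) (_ : AddCommGroup L) (_ : Module T L) (_ : Module.Finite T L),
      Nonempty (Abelian.Ext.{u} (ModuleCat.of T N) (ModuleCat.of T T) g ≃ₗ[T] L) ∧
      min (2 : WithBot ℕ∞) (Module.supportDim T L) ≤ ((_root_.LocCoh.depth T L : ℕ∞) : WithBot ℕ∞) := by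
  have hJm : J ≤ maximalIdeal T := IsLocalRing.le_maximalIdeal hJ
  obtain ⟨rs, hreg, hmem, hlen⟩ := Depth.exists_isWeaklyRegular_of_le_idealDepth (M := T) (I := J)
    (by rwa [smul_eq_mul, Ideal.mul_top]) hg
  subst hlen
  obtain ⟨M', _, _, _, hM', ⟨e⟩⟩ := exists_ext_equiv N rs T (Depth.isCohenMacaulayModule_self T) hreg
    fun x hx => ⟨hJm (hmem x hx), hann (hmem x hx)⟩
  obtain ⟨a, b, f, k, hf, hfk⟩ := DomMod.HomDepth.exists_hom_exact (R := T) N M'
  have : IsNoetherian T (Fin a → M') := isNoetherian_of_isNoetherianRing_of_finite T _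
  have : Module.Finite T (N →ₗ[T] M') := Module.Finite.of_injective f hf
  refine ⟨N →ₗ[T] M', inferInstance, inferInstance, inferInstance, ⟨e⟩, ?_⟩
  exact DomMod.HomDepth.min_supportDim_le_depth (n := 2) le_rfl (B := M')
    ((Module.supportDim_le_of_injective f hf).trans (DomMod.HomDepth.supportDim_pi_le a M'))
    (fun j hj hB => DomMod.HomDepth.le_idealDepth_hom N M' hj hB)
    ((min_le_right _ _).trans (le_of_eq hM'))

end Groth.Agent.LocCoh.ShriekExtShift
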