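import Groth.Agent.LocCoh.ShriekExtShift
import Groth.Agent.DualCx.ShriekVanish

/-!
# `(S_2)` for the first non-vanishing `Ext(A, P)` after localisation
-/

universe u

open CategoryTheory CategoryTheory.Limits DerivedCategory
open scoped TensorProduct

attribute [local instance] HasDerivedCategory.standard

namespace Groth.Agent.LocCoh.ShriekS2Local

open Groth.Agent.DualCx
open Devissage (E)
open BaseChange (FD)

variable {P A : Type u} [CommRing P] [CommRing A] [IsNoetherianRing P] [Algebra P A] [Module.Finite P A]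

/-- the model of the localised `Ext` -/
theorem exists_model (Q : Ideal P) [Q.IsPrime] [_root_.LocCoh.IsCohenMacaulayLocalRing (Localization.AtPrime Q)]
    (hQ : RingHom.ker (algebraMap P A) ≤ Q) (g : ℕ)
    (hg : (g : ℕ∞) ≤ _root_.LocCoh.idealDepth
      ((RingHom.ker (algebraMap P A)).map (algebraMap P (Localization.AtPrime Q))) (Localization.AtPrime Q)) :
    ∃ (L : Type u) (_ : AddCommGroup L) (_ : Module (Localization.AtPrime Q) L)
      (_ : Module.Finite (Localization.AtPrime Q) L),
      Nonempty (Localization.AtPrime Q ⊗[P] E A (Dual.inD P P) (g : ℤ) ≃ₗ[Localization.AtPrime Q] L) ∧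
      min (2 : WithBot ℕ∞) (Module.supportDim (Localization.AtPrime Q) L) ≤
        ((_root_.LocCoh.depth (Localization.AtPrime Q) L : ℕ∞) : WithBot ℕ∞) := by
  let T := Localization.AtPrime Q
  have : Module.Flat P T := IsLocalization.flat T Q.primeCompl
  let J := (RingHom.ker (algebraMap P A)).map (algebraMap P T)
  have hann : J ≤ Module.annihilator T (T ⊗[P] A) := Ideal.map_le_iff_le_comap.2 fun a ha => by
    rw [Ideal.mem_comap, Module.mem_annihilator]
    intro y
    rw [algebraMap_smul]
    induction y using TensorProduct.induction_on with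
    | zero => rw [smul_zero]
    | tmul t b =>
      rw [← TensorProduct.tmul_smul, Algebra.smul_def, RingHom.mem_ker.1 ha, zero_mul, TensorProduct.tmul_zero]
    | add u v hu hv => rw [smul_add, hu, hv, add_zero]
  have hJ : J ≠ ⊤ := by
    refine ne_top_of_le_ne_top (IsLocalRing.maximalIdeal.isMaximal T).ne_top ?_
    rw [← IsLocalization.AtPrime.map_eq_maximalIdeal Q T]
    exact Ideal.map_mono hQ
  obtain ⟨L, _, _, _, ⟨e⟩, hL⟩ := ShriekExtShift.exists_ext_model (T ⊗[P] A) g J hJ hann hg
  refine ⟨L, inferInstance, inferInstance, inferInstance, ⟨?_⟩, hL⟩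
  let e1 : T ⊗[P] E A (Dual.inD P P) (g : ℤ) ≃ₗ[T] E (T ⊗[P] A) ((FD P T).obj (Dual.inD P P)) (g : ℤ) :=
    FlatBC.homLEquiv (B := T) (Dual.inD P P) 0 A (g : ℤ)
  let e2 : E (T ⊗[P] A) ((FD P T).obj (Dual.inD P P)) (g : ℤ) ≃ₗ[T] E (T ⊗[P] A) (Dual.inD T T) (g : ℤ) :=
    CategoryTheory.Linear.homCongr T (Iso.refl _)
      ((shiftFunctor (Dual.D T) (g : ℤ)).mapIso (asIso (BaseChange.θ P T)).symm)
  let e3 : Abelian.Ext.{u} (ModuleCat.of T (T ⊗[P] A)) (ModuleCat.of T T) g ≃ₗ[T]
      E (T ⊗[P] A) (Dual.inD T T) (g : ℤ) := Abelian.Ext.homLinearEquiv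
  exact e1.trans (e2.trans (e3.symm.trans e))

/-- the depth estimate for a module semilinearly isomorphic to the `Ext` -/
theorem min_le_depth (hs : Function.Surjective (algebraMap P A)) (q : Ideal A) [q.IsPrime]
    [_root_.LocCoh.IsCohenMacaulayLocalRing (Localization.AtPrime (q.comap (algebraMap P A)))]
    (g : ℕ)
    (hg : (g : ℕ∞) ≤ _root_.LocCoh.idealDepth ((RingHom.ker (algebraMap P A)).map
      (algebraMap P (Localization.AtPrime (q.comap (algebraMap P A)))))
      (Localization.AtPrime (q.comap (algebraMap P A))))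
    {H : Type u} [AddCommGroup H] [Module A H] [Module P H] [IsScalarTower P A H]
    (e : H ≃ₗ[P] E A (Dual.inD P P) (g : ℤ))
    {M : Type u} [AddCommGroup M] [Module A M] [Module (Localization.AtPrime q) M]
    [IsScalarTower A (Localization.AtPrime q) M] [Module P M] [IsScalarTower P A M]
    (f : H →ₗ[A] M) [IsLocalizedModule q.primeCompl f] :
    min (2 : WithBot ℕ∞) (Module.supportDim (Localization.AtPrime q) M) ≤
      ((_root_.LocCoh.depth (Localization.AtPrime q) M : ℕ∞) : WithBot ℕ∞) := by
  let Q : Ideal P := q.comap (algebraMap P A)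
  let T := Localization.AtPrime Q
  let Aq := Localization.AtPrime q
  obtain ⟨L, _, _, _, ⟨ε⟩, hL⟩ := exists_model (A := A) Q (Ideal.ker_le_comap _) g hg
  letI : Module P L := Module.compHom L (algebraMap P T)
  haveI : IsScalarTower P T L := IsScalarTower.of_algebraMap_smul fun _ _ => rfl
  let mk : E A (Dual.inD P P) (g : ℤ) →ₗ[P] T ⊗[P] E A (Dual.inD P P) (g : ℤ) := TensorProduct.mk P T _ 1
  have : IsLocalizedModule Q.primeCompl mk :=
    (isLocalizedModule_iff_isBaseChange Q.primeCompl T mk).2 (TensorProduct.isBaseChange P _ T)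
  let fL : H →ₗ[P] L := ((ε.restrictScalars P).toLinearMap.comp mk).comp e.toLinearMap
  have : IsLocalizedModule Q.primeCompl fL := by
    have := IsLocalizedModule.of_linearEquiv Q.primeCompl mk (ε.restrictScalars P)
    exact IsLocalizedModule.of_linearEquiv_right Q.primeCompl ((ε.restrictScalars P).toLinearMap.comp mk) e
  have hM : ∀ (t : P) (x : M), t • x = algebraMap P A t • x := fun t x => (algebraMap_smul A t x).symm
  have hH : ∀ (t : P) (x : H), t • x = algebraMap P A t • x := fun t x => (algebraMap_smul A t x).symm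
  have hfM : IsLocalizedModule Q.primeCompl (f.restrictScalars P) := by
    refine ⟨fun t => (Module.End.isUnit_iff _).2 ?_, fun y => ?_, fun {x₁ x₂} h => ?_⟩
    · have := (Module.End.isUnit_iff _).1 (IsLocalizedModule.map_units f (⟨algebraMap P A t, t.2⟩ : q.primeCompl))
      convert this using 1
      ext x
      exact hM _ x
    · obtain ⟨⟨h, s⟩, hs'⟩ := IsLocalizedModule.surj q.primeCompl f y
      obtain ⟨t, ht⟩ := hs s
      refine ⟨⟨h, ⟨t, show algebraMap P A t ∉ q from ht ▸ s.2⟩⟩, ?_⟩
      change t • y = f h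
      rw [hM, ht]
      exact hs'
    · obtain ⟨c, hc⟩ := IsLocalizedModule.exists_of_eq (S := q.primeCompl) (f := f) h
      obtain ⟨t, ht⟩ := hs c
      refine ⟨⟨t, show algebraMap P A t ∉ q from ht ▸ c.2⟩, ?_⟩
      change t • x₁ = t • x₂
      rw [hH, hH, ht]
      exact hc
  letI : Algebra T Aq := (Localization.localRingHom Q q (algebraMap P A) rfl).toAlgebra
  have hsq : ∀ t : P, algebraMap T Aq (algebraMap P T t) = algebraMap A Aq (algebraMap P A t) := fun t =>
    Localization.localRingHom_to_map Q q (algebraMap P A) rfl t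
  have hsT : Function.Surjective (algebraMap T Aq) := fun z => by
    obtain ⟨⟨a, s⟩, rfl⟩ := IsLocalization.mk'_surjective q.primeCompl z
    obtain ⟨b, rfl⟩ := hs a
    obtain ⟨t, ht⟩ := hs s
    refine ⟨IsLocalization.mk' T b (⟨t, show algebraMap P A t ∉ q from ht ▸ s.2⟩ : Q.primeCompl), ?_⟩
    refine IsLocalization.eq_mk'_iff_mul_eq.2 ?_
    refine Eq.trans (congrArg (fun z => _ * algebraMap A Aq z) ht.symm) ?_
    rw [← hsq, ← hsq, ← map_mul, IsLocalization.mk'_spec]
  haveI : IsLocalHom (algebraMap T Aq) := Localization.isLocalHom_localRingHom Q q (algebraMap P A) rfl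
  letI : Module T M := Module.compHom M (algebraMap T Aq)
  haveI : IsScalarTower T Aq M := IsScalarTower.of_algebraMap_smul fun _ _ => rfl
  haveI : IsScalarTower P T M := IsScalarTower.of_algebraMap_smul fun t x => by
    show algebraMap T Aq (algebraMap P T t) • x = t • x
    rw [hsq, algebraMap_smul, ← hM]
  let eM : M ≃ₗ[T] L :=
    (IsLocalizedModule.linearEquiv Q.primeCompl (f.restrictScalars P) fL).extendScalarsOfIsLocalization
      Q.primeCompl T
  haveI : Module.Finite T M := Module.Finite.equiv eM.symm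
  haveI : Module.Finite Aq M := Module.Finite.of_restrictScalars_finite T Aq M
  rw [Depth.supportDim_of_surjective (R := T) hsT, Depth.depth_eq_idealDepth,
    ← IsLocalRing.map_maximalIdeal_of_surjective _ hsT, Depth.idealDepth_map_of_surjective hsT,
    Module.supportDim_eq_of_equiv eM, Depth.idealDepth_congr eM]
  exact hL

end Groth.Agent.LocCoh.ShriekS2Local
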