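import Groth.Agent.LocCoh.ShriekDim
import Groth.Agent.LocCoh.ShriekS2Local
import Groth.Agent.DualCx.Criterion
import Groth.Agent.SkEmb.Main

/-!
# `φ^!(R)` over a Cohen-Macaulay base
-/

universe u

open CategoryTheory CategoryTheory.Limits DerivedCategory

attribute [local instance] HasDerivedCategory.standard

namespace Groth.Agent.LocCoh.ShriekS2

open Groth.Agent.DualCx
open Devissage (E)

variable {R A : Type u} [CommRing R] [CommRing A] [IsNoetherianRing R] [IsNoetherianRing A] [Algebra R A] (n : ℕ)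
  (ψ : MvPolynomial (Fin n) R →ₐ[R] A) (hψ : Function.Surjective ψ)
  [DRing.HasLBaseChange (algebraMap R (MvPolynomial (Fin n) R))]
  (Rψ : Dual.D (MvPolynomial (Fin n) R) ⥤ Dual.D A) (adj : DRing.restrictD ψ.toRingHom ⊣ Rψ)

include adj in
/-- the cohomology of `φ^!(R)` as `Ext` over the polynomial algebra -/
theorem exists_equiv (i : ℤ) :
    letI : Algebra (MvPolynomial (Fin n) R) A := ψ.toRingHom.toAlgebra
    ∃ e : Dual.HD A (Dual2.shriekVia n Rψ (Dual.inD R R)) i ≃+
        E A (Dual.inD (MvPolynomial (Fin n) R) (MvPolynomial (Fin n) R)) ((n : ℤ) + i),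
      ∀ (t : MvPolynomial (Fin n) R) (x : Dual.HD A (Dual2.shriekVia n Rψ (Dual.inD R R)) i),
        e (ψ t • x) = t • e x := by
  let P := MvPolynomial (Fin n) R
  letI : Algebra P A := ψ.toRingHom.toAlgebra
  obtain ⟨eU⟩ := ShriekProj.nonempty_LBaseChange_inD (R := R) (P := P)
  let eω : Dual2.shriekVia n Rψ (Dual.inD R R) ≅ (Rψ.obj (Dual.inD P P))⟦(n : ℤ)⟧ :=
    (shiftFunctor (Dual.D A) (n : ℤ)).mapIso (Rψ.mapIso eU)
  let eH : Dual.HD A (Dual2.shriekVia n Rψ (Dual.inD R R)) i ≃ₗ[A]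
      Dual.HD A (Rψ.obj (Dual.inD P P)) ((n : ℤ) + i) :=
    ((DRing.DBasic.HF i).mapIso eω ≪≫ DRing.DBasic.HFShiftIso _ (n : ℤ) i _ rfl).toLinearEquiv
  obtain ⟨e, he⟩ := ShriekVanish.exists_homEquiv adj (Dual.inD P P) ((n : ℤ) + i)
  refine ⟨eH.toAddEquiv.trans e, fun t x => ?_⟩
  change e (eH (algebraMap P A t • x)) = t • e (eH x)
  rw [map_smul, he]

variable (r : ℕ)
  (hr : ∀ q : PrimeSpectrum A, q.asIdeal ∈ minimalPrimes A →
    Dual3.resTrdeg (AlgebraicGeometry.Spec.map (CommRingCat.ofHom (algebraMap R A))) q ≤ (r : Cardinal.{u}))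
  (p : Ideal R) [p.IsPrime] [_root_.LocCoh.IsCohenMacaulayLocalRing (Localization.AtPrime p)]

omit [IsNoetherianRing R] [IsNoetherianRing A] in
theorem comap_le (q : Ideal A) (hq : q.comap (algebraMap R A) ≤ p) :
    (q.comap ψ.toRingHom).comap MvPolynomial.C ≤ p := by
  rw [Ideal.comap_comap]
  rwa [show ψ.toRingHom.comp MvPolynomial.C = algebraMap R A from ψ.comp_algebraMap]

include hψ adj hr in
theorem exists_smul_eq_zero (q : Ideal A) [q.IsPrime] (hq : q.comap (algebraMap R A) ≤ p) (i : ℤ)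
    (hi : i < -(r : ℤ)) (x : Dual.HD A (Dual2.shriekVia n Rψ (Dual.inD R R)) i) :
    ∃ s ∈ q.primeCompl, s • x = 0 := by
  let P := MvPolynomial (Fin n) R
  letI : Algebra P A := ψ.toRingHom.toAlgebra
  have : Module.Finite P A := Module.Finite.of_surjective (Algebra.linearMap P A) hψ
  obtain ⟨e, he⟩ := exists_equiv n ψ Rψ adj i
  obtain ⟨t, ht, htx⟩ := ShriekVanish.exists_smul_eq_zero (B := A) (q.comap ψ.toRingHom) ((n : ℤ) + i) (n - r)
    (ShriekDim.le_idealDepth n ψ hψ r hr p _ (comap_le n ψ p q hq)) (by omega) (e x)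
  exact ⟨ψ t, ht, e.injective (by rw [he, htx, map_zero])⟩

include hψ adj hr in
theorem min_le_depth (q : Ideal A) [q.IsPrime] (hq : q.comap (algebraMap R A) ≤ p) :
    min (2 : WithBot ℕ∞) (Module.supportDim (Localization.AtPrime q)
      (LocalizedModule q.primeCompl (Dual.HD A (Dual2.shriekVia n Rψ (Dual.inD R R)) (-(r : ℤ))))) ≤
    ((_root_.LocCoh.depth (Localization.AtPrime q)
      (LocalizedModule q.primeCompl (Dual.HD A (Dual2.shriekVia n Rψ (Dual.inD R R)) (-(r : ℤ)))) : ℕ∞) :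
        WithBot ℕ∞) := by
  let P := MvPolynomial (Fin n) R
  letI : Algebra P A := ψ.toRingHom.toAlgebra
  have : Module.Finite P A := Module.Finite.of_surjective (Algebra.linearMap P A) hψ
  let H := Dual.HD A (Dual2.shriekVia n Rψ (Dual.inD R R)) (-(r : ℤ))
  obtain ⟨e, he⟩ := exists_equiv n ψ Rψ adj (-(r : ℤ))
  by_cases hrn : r ≤ n
  · obtain ⟨g, hg⟩ : ∃ g : ℕ, (n : ℤ) + -(r : ℤ) = (g : ℤ) := ⟨n - r, by omega⟩
    have hgn : g = n - r := by omega
    revert e he
    rw [hg]
    intro e he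
    letI : Module P H := Module.compHom H ψ.toRingHom
    haveI : IsScalarTower P A H := IsScalarTower.of_algebraMap_smul fun _ _ => rfl
    let eP : H ≃ₗ[P] E A (Dual.inD P P) (g : ℤ) :=
      { e with map_smul' := fun t x => he t x }
    haveI := ShriekDim.isCohenMacaulay_atPrime n p (q.comap (algebraMap P A)) (comap_le n ψ p q hq)
    exact ShriekS2Local.min_le_depth hψ q g
      (hgn ▸ ShriekDim.le_idealDepth n ψ hψ r hr p _ (comap_le n ψ p q hq)) eP
      (LocalizedModule.mkLinearMap q.primeCompl H)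
  · have : Subsingleton (E A (Dual.inD P P) ((n : ℤ) + -(r : ℤ))) :=
      Amplitude.subsingleton_of_lt (K := Dual.inD P P) 0 A _ (by omega)
    have : Subsingleton H := e.toEquiv.subsingleton
    have : Subsingleton (LocalizedModule q.primeCompl H) :=
      LocalizedModule.subsingleton_iff.2 fun x => ⟨1, q.primeCompl.one_mem, Subsingleton.elim _ _⟩
    rw [Module.supportDim_eq_bot_of_subsingleton]
    exact (min_le_right _ _).trans bot_le

include hψ adj in
theorem finite_HD (i : ℤ) : Module.Finite A (Dual.HD A (Dual2.shriekVia n Rψ (Dual.inD R R)) i) := by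
  let P := MvPolynomial (Fin n) R
  letI : Algebra P A := ψ.toRingHom.toAlgebra
  have : Module.Finite P A := Module.Finite.of_surjective (Algebra.linearMap P A) hψ
  let H := Dual.HD A (Dual2.shriekVia n Rψ (Dual.inD R R)) i
  obtain ⟨e, he⟩ := exists_equiv n ψ Rψ adj i
  letI : Module P H := Module.compHom H ψ.toRingHom
  haveI : IsScalarTower P A H := IsScalarTower.of_algebraMap_smul fun _ _ => rfl
  let eP : H ≃ₗ[P] E A (Dual.inD P P) ((n : ℤ) + i) := { e with map_smul' := fun t x => he t x }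
  have := Criterion.finite_E (K := Dual.inD P P) 0 Gorenstein.finite_HD_inD A ((n : ℤ) + i)
  haveI : Module.Finite P H := Module.Finite.equiv eP.symm
  exact Module.Finite.of_restrictScalars_finite P A H

include hψ adj hr in
theorem main :
    (∀ i : ℤ, Nontrivial (LocalizedModule (Algebra.algebraMapSubmonoid A p.primeCompl)
      (Dual.HD A (Dual2.shriekVia n Rψ (Dual.inD R R)) i)) → -(r : ℤ) ≤ i) ∧
    _root_.LocCoh.HasSk 2 (Localization (Algebra.algebraMapSubmonoid A p.primeCompl))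
      (LocalizedModule (Algebra.algebraMapSubmonoid A p.primeCompl)
        (Dual.HD A (Dual2.shriekVia n Rψ (Dual.inD R R)) (-(r : ℤ)))) := by
  let S := Algebra.algebraMapSubmonoid A p.primeCompl
  have hdisj : ∀ q : Ideal A, Disjoint (q : Set A) (S : Set A) → q.comap (algebraMap R A) ≤ p :=
    fun q h a ha => by_contra fun hap => Set.disjoint_left.1 h ha ⟨a, hap, rfl⟩
  refine ⟨fun i h => ?_, fun Q _ => ?_⟩
  · by_contra hi
    refine not_nontrivial_iff_subsingleton.2 (LocalizedModule.subsingleton_iff.2 fun x => ?_) h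
    by_contra hx
    obtain ⟨q, hq, hle, hqS⟩ := Ideal.exists_le_prime_disjoint
      (LinearMap.ker (LinearMap.toSpanSingleton A _ x)) S
      (Set.disjoint_left.2 fun a ha haS => hx ⟨a, haS, LinearMap.mem_ker.1 ha⟩)
    obtain ⟨s, hs, hsx⟩ := exists_smul_eq_zero n ψ hψ Rψ adj r hr p q (hdisj q hqS) i (not_le.1 hi) x
    exact hs (hle (LinearMap.mem_ker.2 hsx))
  · have := finite_HD n ψ hψ Rψ adj (-(r : ℤ))
    obtain ⟨h1, h2⟩ := SkEmb.depth_supportDim_localization_localization
      (Dual.HD A (Dual2.shriekVia n Rψ (Dual.inD R R)) (-(r : ℤ))) S Q _ rfl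
    rw [h1, h2]
    refine min_le_depth n ψ hψ Rψ adj r hr p _ (hdisj _ ?_)
    exact Set.disjoint_left.2 fun a ha haS => (inferInstance : Q.IsPrime).ne_top
      (Q.eq_top_of_isUnit_mem ha (IsLocalization.map_units (Localization S) ⟨a, haS⟩))

end Groth.Agent.LocCoh.ShriekS2
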