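import Groth.Agent.LocCoh.SuppModel

/-!
# Comparing supports when cohomology is annihilated

* `CompBij T₀ T E s`: `H^i(GT T₀ E) → H^i(GT T E)` is bijective for `i ≤ s`, elementwise;
* `compBij_of_kill`: so it is for `T₀ = T ∩ V(𝔞)` when powers from `𝔞` kill;
* `incl`, `Model.bijective_incl`: the same for `colim Hom(A/J, K[i])`.
-/

universe u

open CategoryTheory CategoryTheory.Limits

attribute [local instance] HasDerivedCategory.standard

namespace Groth.Agent.LocCoh.SuppCompare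

open Groth.Agent.DRing.Homology
open SuppTors SuppGamma SuppModel

variable {A : Type u} [CommRing A]

local notation "V(" J ")" => PrimeSpectrum.zeroLocus (SetLike.coe (J : Ideal A))

/-- comparison of supports, elementwise -/
structure CompBij (T₀ T : Set (PrimeSpectrum A)) (E : DRing.Cx A) (s : ℤ) : Prop where
  surj : ∀ i j : ℤ, j + 1 = i → i ≤ s → ∀ z ∈ tors T (E.X i), IsCyc E i z →
    ∃ w ∈ tors T (E.X j), z - (E.d j i).hom w ∈ tors T₀ (E.X i)
  inj : ∀ i j : ℤ, j + 1 = i → i ≤ s → ∀ z ∈ tors T₀ (E.X i),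
    (∃ w ∈ tors T (E.X j), (E.d j i).hom w = z) → ∃ w ∈ tors T₀ (E.X j), (E.d j i).hom w = z

variable {T₀ T₁ T : Set (PrimeSpectrum A)} {E : DRing.Cx A} {s : ℤ}

theorem CompBij.refl (T : Set (PrimeSpectrum A)) (E : DRing.Cx A) (s : ℤ) : CompBij T T E s :=
  ⟨fun _ _ _ _ _ hz _ => ⟨0, Submodule.zero_mem _, by simpa using hz⟩, fun _ _ _ _ _ _ h => h⟩

theorem CompBij.trans (h₀ : T₁ ⊆ T) (h : CompBij T₀ T₁ E s) (h' : CompBij T₁ T E s) (h₁ : T₀ ⊆ T₁) :
    CompBij T₀ T E s := by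
  refine ⟨fun i j hj hi z hz hc => ?_, fun i j hj hi z hz hw => ?_⟩
  · obtain ⟨w, hw, hzw⟩ := h'.surj i j hj hi z hz hc
    obtain ⟨w', hw', hzw'⟩ := h.surj i j hj hi _ hzw (hc.sub (isCyc_d _ _ _))
    exact ⟨w + w', Submodule.add_mem _ hw (tors_mono h₀ hw'), by rwa [map_add, ← sub_sub]⟩
  · exact h.inj i j hj hi z hz (h'.inj i j hj hi z (tors_mono h₁ hz) hw)

theorem CompBij.of_between (h₀ : T₀ ⊆ T₁) (h₁ : T₁ ⊆ T) (hT : CompBij T₀ T E s)
    (h : CompBij T₀ T₁ E s) : CompBij T₁ T E s := by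
  refine ⟨fun i j hj hi z hz hc => ?_, fun i j hj hi z hz hw => ?_⟩
  · obtain ⟨w, hw, hzw⟩ := hT.surj i j hj hi z hz hc
    exact ⟨w, hw, tors_mono h₀ hzw⟩
  · obtain ⟨w, hwT, rfl⟩ := hw
    obtain ⟨v, hv, hzv⟩ := h.surj i j hj hi _ hz (isCyc_d _ _ _)
    obtain ⟨v', hv', hd⟩ := hT.inj i j hj hi _ hzv
      ⟨w - v, Submodule.sub_mem _ hwT (tors_mono h₁ hv), map_sub _ _ _⟩
    exact ⟨v + v', Submodule.add_mem _ hv (tors_mono h₀ hv'), by rw [map_add, hd]; abel⟩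

theorem mem_tors_inter {N : Type u} [AddCommGroup N] [Module A N] {f : A} {k : ℕ} {x : N}
    (hx : x ∈ tors T N) (hk : f ^ k • x = 0) : x ∈ tors (T ∩ V(Ideal.span {f})) N := by
  obtain ⟨J, hJ, hxJ⟩ := hx
  refine ⟨J ⊔ Ideal.span {f ^ k}, fun p hp => ?_, fun c hc => ?_⟩
  · rw [PrimeSpectrum.mem_zeroLocus, SetLike.coe_subset_coe, sup_le_iff,
      Ideal.span_singleton_le_iff_mem] at hp
    exact ⟨hJ hp.1, (Ideal.span_singleton_le_iff_mem _).2 (p.2.mem_of_pow_mem _ hp.2)⟩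
  · obtain ⟨a, ha, b, hb, rfl⟩ := Submodule.mem_sup.1 hc
    obtain ⟨e, rfl⟩ := Ideal.mem_span_singleton'.1 hb
    rw [add_smul, hxJ a ha, mul_smul, hk, smul_zero, add_zero]

variable [IsNoetherianRing A]

theorem exists_pow_smul_eq_zero {N : Type u} [AddCommGroup N] [Module A N] {f : A} {x : N}
    (hx : x ∈ tors (T ∩ V(Ideal.span {f})) N) : ∃ k : ℕ, f ^ k • x = 0 := by
  have h := tors_mono Set.inter_subset_right hx
  rw [tors_zeroLocus] at h
  obtain ⟨n, hn⟩ := h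
  exact ⟨n, hn _ (Ideal.pow_mem_pow (Ideal.mem_span_singleton_self f) n)⟩

theorem exists_divide [∀ i, Injective (E.X i)] {j : ℤ} {w : E.X j} (hw : w ∈ tors T (E.X j)) (f : A) (n : ℕ) :
    ∃ w' ∈ tors T (E.X j), ∃ k : ℕ, f ^ k • (w - f ^ n • w') = 0 := by
  obtain ⟨J, hJ, hwJ⟩ := hw
  obtain ⟨w', hw', m, hm⟩ := (RGamma.div_of_injective J f (E.X j)).exists_divide n
    (h := w) ⟨1, fun c hc => hwJ c (by simpa using hc)⟩
  exact ⟨w', torsionSub_le hJ hw', n * m, by rwa [pow_mul]⟩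

/-- one element -/
theorem compBij_step [∀ i, Injective (E.X i)] {f : A}
    (hf : ∀ i, i ≤ s → ∃ n : ℕ, Kill T E (f ^ n) i) : CompBij (T ∩ V(Ideal.span {f})) T E s := by
  refine ⟨fun i j hj hi z hz hc => ?_, fun i j hj hi z hz hw => ?_⟩
  · obtain ⟨n, hn⟩ := hf i hi
    obtain ⟨w, hw, hd⟩ := hn j hj z hz hc
    obtain ⟨w', hw', k, hk⟩ := exists_divide hw f n
    refine ⟨w', hw', mem_tors_inter (k := k + n) (Submodule.sub_mem _ hz (map_mem_tors _ hw')) ?_⟩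
    rw [pow_add, mul_smul, smul_sub (f ^ n), ← map_smul, ← hd, ← map_sub, ← map_smul, hk, map_zero]
  · obtain ⟨w, hw, rfl⟩ := hw
    obtain ⟨m, hm⟩ := exists_pow_smul_eq_zero hz
    obtain ⟨n, hn⟩ := hf j (by omega)
    obtain ⟨v, hv, hd⟩ := hn (j - 1) (by omega) _ (Submodule.smul_mem _ (f ^ m) hw)
      ((isCyc_iff hj _).2 (by rw [map_smul, hm]))
    obtain ⟨v', hv', k, hk⟩ := exists_divide hv f (n + m)
    refine ⟨w - (E.d (j - 1) j).hom v', mem_tors_inter (k := k + (n + m))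
      (Submodule.sub_mem _ hw (map_mem_tors _ hv')) ?_, by rw [map_sub, d_d, sub_zero]⟩
    rw [← mul_smul, ← pow_add] at hd
    rw [pow_add f k, mul_smul, smul_sub (f ^ (n + m)), ← map_smul, ← hd, ← map_sub, ← map_smul, hk,
      map_zero]

theorem kill_inter [∀ i, Injective (E.X i)] {f g : A} {n : ℕ} {i : ℤ}
    (hf : ∀ i, i ≤ s → ∃ n : ℕ, Kill T E (f ^ n) i) (hg : Kill T E (g ^ n) i) (hi : i ≤ s) :
    Kill (T ∩ V(Ideal.span {f})) E (g ^ n) i := fun j hj z hz hc =>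
  (compBij_step hf).inj i j hj hi _ (Submodule.smul_mem _ _ hz)
    (hg j hj z (tors_mono Set.inter_subset_left hz) hc)

/-- several elements -/
theorem compBij_finset [∀ i, Injective (E.X i)] : ∀ (S : Finset A) (T : Set (PrimeSpectrum A)),
    (∀ f ∈ S, ∀ i, i ≤ s → ∃ n : ℕ, Kill T E (f ^ n) i) →
      CompBij (T ∩ V(Ideal.span (S : Set A))) T E s := by
  classical
  intro S
  induction S using Finset.induction with
  | empty =>
    intro T _
    rw [Finset.coe_empty, Ideal.span_empty, show T ∩ V((⊥ : Ideal A)) = T by simp]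
    exact CompBij.refl T E s
  | insert a S _ ih =>
    intro T h
    have ha := h a (Finset.mem_insert_self a S)
    have e : T ∩ V(Ideal.span (insert a S : Finset A)) =
        (T ∩ V(Ideal.span {a})) ∩ V(Ideal.span (S : Set A)) := by
      rw [Finset.coe_insert, Ideal.span_insert, PrimeSpectrum.zeroLocus_sup, Set.inter_assoc]
    rw [e]
    exact (ih _ fun f hf i hi => (h f (Finset.mem_insert_of_mem hf) i hi).imp fun n hn =>
      kill_inter ha hn hi).trans Set.inter_subset_left (compBij_step ha) Set.inter_subset_left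

/-- comparison of supports when `𝔞` kills -/
theorem compBij_of_kill [∀ i, Injective (E.X i)] (𝔞 : Ideal A)
    (h : ∀ f ∈ 𝔞, ∀ i, i ≤ s → ∃ n : ℕ, Kill T E (f ^ n) i) : CompBij (T ∩ V(𝔞)) T E s := by
  obtain ⟨S, rfl⟩ := IsNoetherian.noetherian 𝔞
  exact compBij_finset S T fun f hf => h f (Submodule.subset_span hf)

omit [IsNoetherianRing A] in
theorem ιT_incl (h : T₀ ⊆ T) (X : Dual.D A) {J J' : Idx T₀} (hJ : J.obj ≤ J'.obj)
    (φ : Dual.inD A (A ⧸ J'.obj) ⟶ X) :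
    ιT (T := T) ⟨J.obj, J.property.trans h⟩ X (qT hJ ≫ φ) = ιT (T := T) ⟨J'.obj, J'.property.trans h⟩ X φ :=
  ιT_qT (J := (⟨J.obj, J.property.trans h⟩ : Idx T)) (J' := (⟨J'.obj, J'.property.trans h⟩ : Idx T)) hJ φ

omit [IsNoetherianRing A] in
/-- the cocone of inclusions -/
noncomputable def inclCocone (h : T₀ ⊆ T) (X : Dual.D A) : Cocone (sysT T₀ X) where
  pt := LT T X
  ι :=
    { app := fun J => ModuleCat.ofHom (ιT (T := T) ⟨J.unop.obj, J.unop.property.trans h⟩ X)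
      naturality := fun J J' g => ModuleCat.hom_ext (LinearMap.ext fun φ => by
        exact ιT_incl h X (SuppGamma.le_of_hom g.unop) φ) }

omit [IsNoetherianRing A] in
/-- inclusion of supports on the colimit -/
noncomputable def incl (h : T₀ ⊆ T) (X : Dual.D A) : LT T₀ X →ₗ[A] LT T X :=
  (colimit.desc (sysT T₀ X) (inclCocone h X)).hom

omit [IsNoetherianRing A] in
theorem incl_ι (h : T₀ ⊆ T) (X : Dual.D A) (J : Idx T₀) (φ : Dual.inD A (A ⧸ J.obj) ⟶ X) :
    incl h X (ιT J X φ) = ιT (T := T) ⟨J.obj, J.property.trans h⟩ X φ :=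
  ConcreteCategory.congr_hom (colimit.ι_desc (inclCocone h X) (Opposite.op J)) φ

omit [IsNoetherianRing A] in
theorem incl_incl (h₀ : T₀ ⊆ T₁) (h₁ : T₁ ⊆ T) (X : Dual.D A) (x : LT T₀ X) :
    incl h₁ X (incl h₀ X x) = incl (h₀.trans h₁) X x := by
  obtain ⟨J, φ, rfl⟩ := SuppGamma.exists_rep x
  rw [incl_ι, incl_ι, incl_ι]

omit [IsNoetherianRing A] in
/-- inclusion of complexes of sections -/
noncomputable def inclGT (h : T₀ ⊆ T) (L : DRing.Cx A) : GT T₀ L ⟶ GT T L where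
  f _ := ModuleCat.ofHom (Submodule.inclusion (tors_mono h))
  comm' _ _ _ := rfl

omit [IsNoetherianRing A] in
theorem equiv_incl {K : Dual.D A} (M : Model K) (h : T₀ ⊆ T) (i : ℤ) (x : LT T₀ (K⟦i⟧)) :
    M.equiv T i (incl h _ x) =
      (HomologicalComplex.homologyMap (inclGT h (M.E⟦i⟧)) 0).hom (M.equiv T₀ i x) := by
  have := M.isKInjective_shift i
  obtain ⟨J, φ, rfl⟩ := SuppGamma.exists_rep x
  have e : ∀ (T : Set (PrimeSpectrum A)) (J : Idx T) (φ : Dual.inD A (A ⧸ J.obj) ⟶ K⟦i⟧),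
      M.equiv T i (ιT J _ φ) = kls _ (SuppGamma.lift (M.shiftIso i) φ) := fun T J φ =>
    congrArg ULift.down (SuppGamma.Φ_ι (M.shiftIso i) J φ)
  rw [incl_ι, e, e, kls, kls, homologyMap_cls]
  rfl

omit [IsNoetherianRing A] in
/-- comparison of supports on the colimit -/
theorem bijective_incl_of_compBij {K : Dual.D A} (M : Model K) (h : T₀ ⊆ T) {i : ℤ}
    (hb : CompBij T₀ T M.E s) (hi : i ≤ s) : Function.Bijective (incl h (K⟦i⟧)) := by
  have key : Function.Bijective (HomologicalComplex.homologyMap (inclGT h (M.E⟦i⟧)) 0).hom := by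
    constructor
    · rw [homologyMap_injective_iff _ 0 (-1) (by norm_num)]
      intro e w _ hew
      have hd : (M.E.d (-1 + i) (0 + i)).hom ((i.negOnePow : ℤˣ) • (w.1 : M.E.X (-1 + i))) = e.1 :=
        (LinearMap.map_smul_of_tower _ _ (w.1 : M.E.X (-1 + i))).trans (congrArg Subtype.val hew).symm
      obtain ⟨w', hw', hd'⟩ := hb.inj (0 + i) (-1 + i) (by omega) (by omega) e.1 e.2
        ⟨_, by rw [Units.smul_def]; exact zsmul_mem w.2 _, hd⟩
      refine ⟨⟨((i.negOnePow : ℤˣ) • (w' : M.E.X (-1 + i))), by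
        rw [Units.smul_def]; exact zsmul_mem hw' _⟩, Subtype.ext ?_⟩
      change (((i.negOnePow : ℤˣ) • M.E.d (-1 + i) (0 + i)).hom)
        ((i.negOnePow : ℤˣ) • (w' : M.E.X (-1 + i))) = e.1
      rw [ModuleCat.hom_smul, LinearMap.smul_apply, LinearMap.map_smul_of_tower, smul_smul,
        Int.units_mul_self, one_smul, hd']
    · rw [homologyMap_surjective_iff _ 0 (-1) (by norm_num)]
      intro z hz
      have hc : IsCyc M.E (0 + i) z.1 := (isCyc_shift M.E i z.1).1 (congrArg Subtype.val hz)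
      obtain ⟨w, hw, hzw⟩ := hb.surj (0 + i) (-1 + i) (by omega) (by omega) z.1 z.2 hc
      refine ⟨⟨_, hzw⟩, ⟨((i.negOnePow : ℤˣ) • (w : M.E.X (-1 + i))), by
        rw [Units.smul_def]; exact zsmul_mem hw _⟩, ?_, Subtype.ext ?_⟩
      · refine Subtype.ext ((isCyc_shift M.E i _).2 (hc.sub (isCyc_d _ _ _)))
      · let z₁ : M.E.X (0 + i) := z.1
        change (z₁ - (M.E.d (-1 + i) (0 + i)).hom w) +
          (((i.negOnePow : ℤˣ) • M.E.d (-1 + i) (0 + i)).hom)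
            ((i.negOnePow : ℤˣ) • (w : M.E.X (-1 + i))) = z₁
        rw [ModuleCat.hom_smul, LinearMap.smul_apply, LinearMap.map_smul_of_tower, smul_smul,
          Int.units_mul_self, one_smul, sub_add_cancel]
  have hcomp : ⇑(incl h (K⟦i⟧)) = (M.equiv T i).symm ∘
      ((HomologicalComplex.homologyMap (inclGT h (M.E⟦i⟧)) 0).hom ∘ M.equiv T₀ i) :=
    funext fun x => ((M.equiv T i).symm_apply_apply _).symm.trans
      (congrArg (M.equiv T i).symm (equiv_incl M h i x))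
  rw [hcomp]
  exact (M.equiv T i).symm.bijective.comp (key.comp (M.equiv T₀ i).bijective)

/-- supports between `T ∩ V(𝔞)` and `T` when `𝔞` kills on `T` -/
theorem bijective_incl {K : Dual.D A} (M : Model K) (𝔞 : Ideal A)
    (hk : ∀ i, i ≤ s → ∀ c ∈ 𝔞, ∀ x : LT T (K⟦i⟧), c • x = 0)
    (h₀ : T ∩ V(𝔞) ⊆ T₁) (h₁ : T₁ ⊆ T) {i : ℤ} (hi : i ≤ s) :
    Function.Bijective (incl h₁ (K⟦i⟧)) := by
  have := M.injective
  have hT : ∀ f ∈ 𝔞, ∀ j, j ≤ s → Kill T M.E f j := fun f hf j hj =>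
    (M.kills_iff T f j).1 (hk j hj f hf)
  have hb : CompBij (T ∩ V(𝔞)) T M.E s :=
    compBij_of_kill 𝔞 fun f hf j hj => ⟨1, by rw [pow_one]; exact hT f hf j hj⟩
  have e : T₁ ∩ V(𝔞) = T ∩ V(𝔞) := Set.Subset.antisymm (Set.inter_subset_inter_left _ h₁)
    fun _ hp => ⟨h₀ hp, hp.2⟩
  have hb₁ : CompBij (T₁ ∩ V(𝔞)) T₁ M.E s := compBij_of_kill 𝔞 fun f hf j hj =>
    exists_kill_of_subset M.subsingleton_X (hT f hf) h₁ j hj
  exact bijective_incl_of_compBij M h₁ (hb.of_between h₀ h₁ (e ▸ hb₁)) hi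

end Groth.Agent.LocCoh.SuppCompare
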