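import Groth.Agent.LocCoh.SuppTors
import Groth.Agent.LocCoh.HDIGamma

/-!
# `colim_{V(J) ⊆ T} Hom(A/J, X)` as cohomology with supports in `T`

* `LT`, `ιT`, `exists_rep`, `ιT_eq_zero_iff`: the colimit;
* `equiv`: it is `H⁰(GT T L)` for a K-injective representative `L`.
-/

universe u

open CategoryTheory CategoryTheory.Limits DerivedCategory HomologicalComplex Opposite

attribute [local instance] HasDerivedCategory.standard

namespace Groth.Agent.LocCoh.SuppGamma

open Groth.Agent.DRing Groth.Agent.DRing.Homology Groth.Agent.DRing.PC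
open SuppTors

variable {A : Type u} [CommRing A] {T : Set (PrimeSpectrum A)}

/-- the index -/
abbrev Idx (T : Set (PrimeSpectrum A)) : Type u := Dual2.IdealsIn T

instance : Nonempty (Idx T) := ⟨⟨⊤, by simp [PrimeSpectrum.zeroLocus_univ]⟩⟩

/-- transition -/
def homLE {J J' : Idx T} (h : J.obj ≤ J'.obj) : J ⟶ J' := ObjectProperty.homMk (homOfLE h)

theorem le_of_hom {J J' : Idx T} (g : J ⟶ J') : J.obj ≤ J'.obj :=
  leOfHom ((Dual2.idealsInDiagram T).map g)

/-- common refinement -/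
def inter (J J' : Idx T) : Idx T := ⟨J.obj ⊓ J'.obj, by
  rw [PrimeSpectrum.zeroLocus_inf]
  exact Set.union_subset J.property J'.property⟩

instance : IsCofiltered (Idx T) where
  cone_objs J J' := ⟨inter J J', homLE inf_le_left, homLE inf_le_right, trivial⟩
  cone_maps J J' g g' := ⟨J, 𝟙 J, by
    have : (Dual2.idealsInDiagram T).map g = (Dual2.idealsInDiagram T).map g' := Subsingleton.elim _ _
    exact congrArg (𝟙 J ≫ ·) ((ObjectProperty.ι _).map_injective this)⟩

variable (T) in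
/-- the diagram -/
noncomputable abbrev sysT (X : Dual.D A) : (Idx T)ᵒᵖ ⥤ ModuleCat.{u + 1} A :=
  (localCohomology.ringModIdeals (Dual2.idealsInDiagram T) ⋙
    DerivedCategory.singleFunctor (ModuleCat.{u} A) 0).op ⋙ (linearYoneda A (Dual.D A)).obj X

variable (T) in
/-- the colimit -/
noncomputable abbrev LT (X : Dual.D A) : ModuleCat.{u + 1} A := colimit (sysT T X)

/-- projection -/
noncomputable def qT {J J' : Ideal A} (h : J ≤ J') : Dual.inD A (A ⧸ J) ⟶ Dual.inD A (A ⧸ J') :=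
  (DerivedCategory.singleFunctor (ModuleCat.{u} A) 0).map
    (ModuleCat.ofHom (Submodule.mapQ _ _ LinearMap.id h))

/-- inclusion of a stage -/
noncomputable def ιT (J : Idx T) (X : Dual.D A) : (Dual.inD A (A ⧸ J.obj) ⟶ X) →ₗ[A] LT T X :=
  (colimit.ι (sysT T X) (op J)).hom

theorem ιT_qT {J J' : Idx T} (h : J.obj ≤ J'.obj) {X : Dual.D A}
    (e : Dual.inD A (A ⧸ J'.obj) ⟶ X) : ιT J X (qT h ≫ e) = ιT J' X e :=
  ConcreteCategory.congr_hom (colimit.w (sysT T X) (homLE h).op) e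

theorem preserves_forget (X : Dual.D A) :
    PreservesColimit (sysT T X) (forget (ModuleCat.{u + 1} A)) := by
  have : PreservesFilteredColimitsOfSize.{u, u} (forget AddCommGrpCat.{u + 1}) :=
    preservesFilteredColimitsOfSize_of_univLE.{u + 1, u + 1} _
  exact (inferInstance : PreservesColimit (sysT T X)
    (forget₂ (ModuleCat.{u + 1} A) AddCommGrpCat.{u + 1} ⋙ forget AddCommGrpCat.{u + 1}))

theorem exists_rep {X : Dual.D A} (x : LT T X) :
    ∃ (J : Idx T) (e : Dual.inD A (A ⧸ J.obj) ⟶ X), ιT J X e = x := by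
  have := preserves_forget (T := T) X
  obtain ⟨⟨J⟩, e, he⟩ := Concrete.colimit_exists_rep (sysT T X) x
  exact ⟨J, e, he⟩

theorem ιT_eq_zero_iff {J : Idx T} {X : Dual.D A} (e : Dual.inD A (A ⧸ J.obj) ⟶ X) :
    ιT J X e = 0 ↔ ∃ (J' : Idx T) (h : J'.obj ≤ J.obj), qT h ≫ e = 0 := by
  constructor
  · intro h0
    have := preserves_forget (T := T) X
    obtain ⟨⟨J'⟩, f, g, hfg⟩ := Concrete.colimit_exists_of_rep_eq (sysT T X)
      (i := op J) (j := op J) e (0 : Dual.inD A (A ⧸ J.obj) ⟶ X)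
      (h0.trans (map_zero (ιT J X)).symm)
    exact ⟨J', le_of_hom f.unop, hfg.trans (map_zero ((sysT T X).map g).hom)⟩
  · rintro ⟨J', h, hm⟩
    rw [← ιT_qT h, hm, map_zero]

section Gamma

variable (L : DRing.Cx A)

/-- `A/J` -/
noncomputable abbrev qm (J : Ideal A) : ModuleCat.{u} A := ModuleCat.of A (A ⧸ J)

/-- the image of `1` -/
noncomputable def elem {J : Ideal A} (f : sgl 0 (qm J) ⟶ L) : L.X 0 :=
  (HDIGamma.ev L f).hom (Submodule.Quotient.mk 1)

theorem smul_elem {J : Ideal A} (f : sgl 0 (qm J) ⟶ L) {c : A} (hc : c ∈ J) : c • elem L f = 0 := by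
  rw [elem, ← map_smul, ← Submodule.Quotient.mk_smul]
  have : (Submodule.Quotient.mk (c • 1 : A) : A ⧸ J) = 0 :=
    (Submodule.Quotient.mk_eq_zero _).2 (by simpa using hc)
  exact (congrArg (HDIGamma.ev L f).hom this).trans (map_zero _)

/-- the element of `GT T L` -/
noncomputable def telem {J : Idx T} (f : sgl 0 (qm J.obj) ⟶ L) : (GT T L).X 0 :=
  ⟨elem L f, J.obj, J.property, fun _ hc => smul_elem L f hc⟩

theorem isCyc_telem {J : Idx T} (f : sgl 0 (qm J.obj) ⟶ L) : IsCyc (GT T L) 0 (telem L f) := by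
  refine Subtype.ext ?_
  have h : HDIGamma.ev L f ≫ L.d 0 (0 + 1) = 0 := by
    rw [Category.assoc, f.comm, single_obj_d, zero_comp, comp_zero]
  exact ConcreteCategory.congr_hom h _

/-- the class -/
noncomputable def kls {J : Idx T} (f : sgl 0 (qm J.obj) ⟶ L) : (GT T L).homology 0 :=
  cls (telem L f) (isCyc_telem L f)

theorem kls_eq_of_homotopy {J : Idx T} {f g : sgl 0 (qm J.obj) ⟶ L} (h : Homotopy f g) :
    kls L f = kls L g := by
  let w : L.X (-1) := ((singleObjXSelf (ComplexShape.up ℤ) 0 (qm J.obj)).inv ≫ h.hom 0 (-1)).hom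
    (Submodule.Quotient.mk 1)
  have hw : w ∈ tors T (L.X (-1)) := ⟨J.obj, J.property, fun c hc => by
    rw [← map_smul, ← Submodule.Quotient.mk_smul]
    exact (congrArg _ ((Submodule.Quotient.mk_eq_zero _).2 (by simpa using hc))).trans (map_zero _)⟩
  refine (cls_eq_iff (-1) (by norm_num) _ _).2 ⟨⟨w, hw⟩, Subtype.ext ?_⟩
  have hc := h.comm 0
  rw [dNext_eq _ (show (ComplexShape.up ℤ).Rel 0 1 from rfl),
    prevD_eq _ (show (ComplexShape.up ℤ).Rel (-1) 0 from rfl), single_obj_d, zero_comp, zero_add] at hc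
  have := ConcreteCategory.congr_hom (congrArg ((singleObjXSelf (ComplexShape.up ℤ) 0 (qm J.obj)).inv ≫ ·) hc)
    (Submodule.Quotient.mk 1)
  exact eq_sub_of_add_eq this.symm

theorem exists_primitive {J : Ideal A} {f : sgl 0 (qm J) ⟶ L} (h : Homotopy f 0) :
    ∃ w : L.X (-1), (∀ c ∈ J, c • w = 0) ∧ (L.d (-1) 0).hom w = elem L f := by
  let w : L.X (-1) := ((singleObjXSelf (ComplexShape.up ℤ) 0 (qm J)).inv ≫ h.hom 0 (-1)).hom
    (Submodule.Quotient.mk 1)
  refine ⟨w, fun c hc => ?_, ?_⟩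
  · rw [← map_smul, ← Submodule.Quotient.mk_smul]
    exact (congrArg _ ((Submodule.Quotient.mk_eq_zero _).2 (by simpa using hc))).trans (map_zero _)
  · have hc := h.comm 0
    rw [dNext_eq _ (show (ComplexShape.up ℤ).Rel 0 1 from rfl),
      prevD_eq _ (show (ComplexShape.up ℤ).Rel (-1) 0 from rfl), single_obj_d, zero_comp, zero_add,
      HomologicalComplex.zero_f, add_zero] at hc
    exact (ConcreteCategory.congr_hom
      (congrArg ((singleObjXSelf (ComplexShape.up ℤ) 0 (qm J)).inv ≫ ·) hc) (Submodule.Quotient.mk 1)).symm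

theorem kls_add {J : Idx T} (f g : sgl 0 (qm J.obj) ⟶ L) :
    kls (T := T) L (f + g) = kls L f + kls L g := by
  rw [kls, kls, kls, ← cls_add]
  congr 1

theorem kls_smul {J : Idx T} (c : A) (f : sgl 0 (qm J.obj) ⟶ L) :
    kls (T := T) L (c • f) = c • kls L f := by
  rw [kls, kls, ← cls_smul]
  congr 1

theorem kls_map {J J' : Idx T} (h : J.obj ≤ J'.obj) (f : sgl 0 (qm J'.obj) ⟶ L) :
    kls L ((single (ModuleCat.{u} A) (ComplexShape.up ℤ) 0).map
      (ModuleCat.ofHom (Submodule.mapQ J.obj J'.obj LinearMap.id h)) ≫ f) = kls L f := by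
  rw [kls, kls]
  congr 1

theorem kls_eq_cls {J : Idx T} (f : sgl 0 (qm J.obj) ⟶ L) (z : (GT T L).X 0) (hz : IsCyc (GT T L) 0 z)
    (h : elem L f = z.1) : kls L f = cls z hz := by
  obtain rfl : telem L f = z := Subtype.ext h
  rfl

theorem exists_map {J : Ideal A} (z : L.X 0) (hz : IsCyc L 0 z) (hn : ∀ c ∈ J, c • z = 0) :
    ∃ f : sgl 0 (qm J) ⟶ L, elem L f = z := by
  let φ : qm J ⟶ L.X 0 :=
    ModuleCat.ofHom (Submodule.liftQ J (LinearMap.toSpanSingleton A (L.X 0) z) fun c hc => hn c hc)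
  have hφ : ∀ k, (ComplexShape.up ℤ).Rel 0 k → φ ≫ L.d 0 k = 0 := fun k hk =>
    ModuleCat.hom_ext (Submodule.linearMap_qext _ (LinearMap.ext_ring (by
      change (L.d 0 k).hom ((1 : A) • z) = 0
      rw [one_smul]
      exact (isCyc_iff hk z).1 hz)))
  refine ⟨mkHomFromSingle φ hφ, ?_⟩
  have h : HDIGamma.ev L (mkHomFromSingle φ hφ) = φ := by
    rw [HDIGamma.ev, mkHomFromSingle_f, Iso.inv_hom_id_assoc]
  exact (ConcreteCategory.congr_hom h _).trans (one_smul A z)

theorem nullhomotopic {J : Ideal A} (f : sgl 0 (qm J) ⟶ L) (w : L.X (-1)) (hw : ∀ c ∈ J, c • w = 0)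
    (hd : (L.d (-1) 0).hom w = elem L f) : Nonempty (Homotopy f 0) := by
  let φ : qm J ⟶ L.X (-1) :=
    ModuleCat.ofHom (Submodule.liftQ J (LinearMap.toSpanSingleton A (L.X (-1)) w) fun c hc => hw c hc)
  let h : ∀ i j, (ComplexShape.up ℤ).Rel j i → ((sgl 0 (qm J)).X i ⟶ L.X j) :=
    fun i j (hij : j + 1 = i) =>
    if hi : i = 0 then (singleObjXIsoOfEq (ComplexShape.up ℤ) 0 (qm J) i hi).hom ≫ φ ≫
      (L.XIsoOfEq (show -1 = j by omega)).hom else 0
  suffices f = Homotopy.nullHomotopicMap' h from ⟨this ▸ Homotopy.nullHomotopy' h⟩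
  refine from_single_hom_ext ?_
  rw [Homotopy.nullHomotopicMap'_f (show (ComplexShape.up ℤ).Rel (-1) 0 from rfl)
    (show (ComplexShape.up ℤ).Rel 0 1 from rfl), single_obj_d, zero_comp, zero_add]
  rw [← cancel_epi (singleObjXSelf (ComplexShape.up ℤ) 0 (qm J)).inv]
  refine ModuleCat.hom_ext (Submodule.linearMap_qext _ (LinearMap.ext_ring ?_))
  change elem L f = _
  simp only [h, dif_pos]
  change elem L f = (L.d (-1) 0).hom ((1 : A) • w)
  rw [one_smul, hd]

variable {L} {X : Dual.D A} [L.IsKInjective] (θ : DRing.toD L ≅ X)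

theorem exists_lift {J : Ideal A} (φ : Dual.inD A (A ⧸ J) ⟶ X) :
    ∃ f : sgl 0 (qm J) ⟶ L, Q.map f ≫ θ.hom = φ := by
  obtain ⟨f, hf⟩ := InjAmp.exists_Q_map_eq_inj (K := sgl 0 (qm J)) (L := L) (φ ≫ θ.inv)
  refine ⟨f, ?_⟩
  rw [hf]
  exact (Category.assoc _ _ _).trans (by simp)

/-- lift -/
noncomputable def lift {J : Ideal A} (φ : Dual.inD A (A ⧸ J) ⟶ X) : sgl 0 (qm J) ⟶ L :=
  (exists_lift θ φ).choose

theorem kls_lift {J : Idx T} (φ : Dual.inD A (A ⧸ J.obj) ⟶ X) (f : sgl 0 (qm J.obj) ⟶ L)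
    (hf : Q.map f ≫ θ.hom = φ) : kls L (lift θ φ) = kls L f :=
  kls_eq_of_homotopy L ((InjAmp.Q_map_eq_iff_inj _ _).1
    ((cancel_mono θ.hom).1 ((exists_lift θ φ).choose_spec.trans hf.symm))).some

/-- the map on a stage -/
noncomputable def ψ (J : Idx T) :
    (Dual.inD A (A ⧸ J.obj) ⟶ X) →ₗ[A] ULift.{u + 1} ((GT T L).homology 0) where
  toFun φ := ⟨kls L (lift θ φ)⟩
  map_add' φ φ' := congrArg ULift.up <| by
    refine (kls_lift θ (φ + φ') (lift θ φ + lift θ φ') ?_).trans (kls_add L _ _)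
    rw [Q.map_add, Preadditive.add_comp]
    exact congrArg₂ (· + ·) (exists_lift θ φ).choose_spec (exists_lift θ φ').choose_spec
  map_smul' c φ := congrArg ULift.up <| by
    refine (kls_lift θ (c • φ) (c • lift θ φ) ?_).trans (kls_smul L c _)
    rw [Q.map_smul, CategoryTheory.Linear.smul_comp]
    exact congrArg (c • ·) (exists_lift θ φ).choose_spec

theorem ψ_qT {J J' : Idx T} (h : J.obj ≤ J'.obj) (φ : Dual.inD A (A ⧸ J'.obj) ⟶ X) :
    ψ θ J (qT h ≫ φ) = ψ θ J' φ := congrArg ULift.up <| by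
  refine (kls_lift θ _ _ ?_).trans (kls_map L h (lift θ φ))
  rw [Q.map_comp, Category.assoc]
  exact congrArg (_ ≫ ·) (exists_lift θ φ).choose_spec

variable (T) in
/-- the cocone -/
noncomputable def cocone : Cocone (sysT T X) where
  pt := ModuleCat.of A (ULift.{u + 1} ((GT T L).homology 0))
  ι :=
    { app := fun J => ModuleCat.ofHom (ψ θ J.unop)
      naturality := fun _ _ g => ModuleCat.hom_ext (LinearMap.ext fun φ =>
        ψ_qT θ (le_of_hom g.unop) φ) }

variable (T) in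
/-- the comparison map -/
noncomputable def Φ : LT T X →ₗ[A] ULift.{u + 1} ((GT T L).homology 0) :=
  (colimit.desc (sysT T X) (cocone T θ)).hom

theorem Φ_ι (J : Idx T) (φ : Dual.inD A (A ⧸ J.obj) ⟶ X) : Φ T θ (ιT J X φ) = ψ θ J φ :=
  ConcreteCategory.congr_hom (colimit.ι_desc (cocone T θ) (op J)) φ

theorem bijective_Φ : Function.Bijective (Φ T θ) := by
  constructor
  · rw [injective_iff_map_eq_zero]
    intro x hx
    obtain ⟨J, φ, rfl⟩ := exists_rep x
    rw [Φ_ι] at hx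
    obtain ⟨⟨w, K, hK, hKw⟩, hw⟩ := (cls_eq_zero_iff (-1) (by norm_num) _).1 (congrArg ULift.down hx)
    refine (ιT_eq_zero_iff φ).2 ⟨inter J ⟨K, hK⟩, inf_le_left, ?_⟩
    let π := (single (ModuleCat.{u} A) (ComplexShape.up ℤ) 0).map
      (ModuleCat.ofHom (Submodule.mapQ (J.obj ⊓ K) J.obj LinearMap.id inf_le_left))
    have hd : (L.d (-1) 0).hom w = elem L (π ≫ lift θ φ) :=
      (congrArg Subtype.val hw).trans (by
        change elem L (lift θ φ) = _
        rw [elem, elem, HDIGamma.ev, HDIGamma.ev, comp_f, single_map_f_self, Category.assoc,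
          Category.assoc, Iso.inv_hom_id_assoc]
        rfl)
    obtain ⟨hh⟩ := nullhomotopic L (J := J.obj ⊓ K) (π ≫ lift θ φ) w (fun c hc => hKw c (Submodule.mem_inf.1 hc).2) hd
    have h0 := (InjAmp.Q_map_eq_iff_inj _ _).2 ⟨hh⟩
    rw [Q.map_comp, Q.map_zero] at h0
    rw [← (exists_lift θ φ).choose_spec]
    exact (Category.assoc _ _ _).symm.trans ((congrArg (fun t => t ≫ θ.hom) h0).trans zero_comp)
  · rintro ⟨x⟩
    obtain ⟨⟨z, J, hJ, hn⟩, hz, rfl⟩ := cls_surjective x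
    let J₀ : Idx T := ⟨J, hJ⟩
    obtain ⟨f, hf⟩ := exists_map L (J := J₀.obj) z (congrArg Subtype.val hz) hn
    refine ⟨ιT J₀ X (Q.map f ≫ θ.hom), ?_⟩
    rw [Φ_ι]
    exact congrArg ULift.up ((kls_lift (J := J₀) θ _ f rfl).trans (kls_eq_cls (J := J₀) L f _ hz hf))

variable (T) in
/-- `colim Hom(A/J, X) ≅ H⁰(GT T L)` -/
noncomputable def equiv : LT T X ≃ₗ[A] (GT T L).homology 0 :=
  (LinearEquiv.ofBijective _ (bijective_Φ (T := T) θ)).trans ULift.moduleEquiv

end Gamma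

end Groth.Agent.LocCoh.SuppGamma
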