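import Groth.Agent.LocCoh.SuppGamma
import Groth.Agent.DualCx.Residue
import Groth.Agent.DualCx.Criterion

/-!
# Cohomology with supports through a bounded below injective model

* `Model K`: a bounded below complex of injectives representing `K`;
* `Model.kills_iff`: killing `colim Hom(A/J, K[i])` against `SuppTors.Kill`;
* `Model.kills_of_subset`, `Model.kills_of_local`, `Model.finite_of_kills`.
-/

universe u

open CategoryTheory CategoryTheory.Limits DerivedCategory

attribute [local instance] HasDerivedCategory.standard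

namespace Groth.Agent.LocCoh.SuppModel

open Groth.Agent.DRing.Homology
open SuppTors SuppGamma

variable {A : Type u} [CommRing A]

/-- a bounded below injective model -/
structure Model (K : Dual.D A) where
  E : DRing.Cx A
  lo : ℤ
  injective : ∀ i, Injective (E.X i)
  strictlyGE : E.IsStrictlyGE lo
  iso : DRing.toD E ≅ K

/-- existence -/
theorem nonempty_model {K : Dual.D A} {a : ℤ} (h : ∀ i, i < a → Subsingleton (Dual.HD A K i)) :
    Nonempty (Model K) := by
  obtain ⟨I, ⟨hI, c, hc⟩, ⟨e⟩⟩ := Groth.Agent.DualCx.Residue.exists_rep h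
  exact ⟨⟨I, c, hI, hc, e⟩⟩

variable {K : Dual.D A}

theorem Model.subsingleton_X (M : Model K) (i : ℤ) (hi : i < M.lo) : Subsingleton (M.E.X i) :=
  have := M.strictlyGE
  ModuleCat.subsingleton_of_isZero (M.E.isZero_of_isStrictlyGE M.lo i hi)

/-- the model of `K⟦i⟧` -/
noncomputable def Model.shiftIso (M : Model K) (i : ℤ) : DRing.toD (M.E⟦i⟧) ≅ K⟦i⟧ :=
  ((Q (C := ModuleCat.{u} A)).commShiftIso i).app M.E ≪≫ (shiftFunctor (Dual.D A) i).mapIso M.iso

theorem Model.isKInjective_shift (M : Model K) (i : ℤ) : (M.E⟦i⟧ : DRing.Cx A).IsKInjective := by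
  have := M.strictlyGE
  have : CochainComplex.IsStrictlyGE (M.E⟦i⟧) (M.lo - i) := M.E.isStrictlyGE_shift M.lo i (M.lo - i) (by omega)
  have : ∀ p, Injective ((M.E⟦i⟧ : DRing.Cx A).X p) := fun p => M.injective (p + i)
  exact CochainComplex.isKInjective_of_injective _ (M.lo - i)

/-- the colimit as cohomology with supports -/
noncomputable def Model.equiv (M : Model K) (T : Set (PrimeSpectrum A)) (i : ℤ) :
    LT T (K⟦i⟧) ≃ₗ[A] (GT T (M.E⟦i⟧)).homology 0 :=
  have := M.isKInjective_shift i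
  SuppGamma.equiv T (M.shiftIso i)

theorem isCyc_shift (E : DRing.Cx A) (i : ℤ) (z : E.X (0 + i)) :
    IsCyc (K := E⟦i⟧) 0 z ↔ IsCyc E (0 + i) z := by
  refine Iff.trans ?_ (isCyc_iff (show (0 + i) + 1 = 0 + 1 + i by omega) z).symm
  change (((i.negOnePow : ℤˣ) • E.d (0 + i) (0 + 1 + i)).hom) z = 0 ↔ _
  rw [ModuleCat.hom_smul, LinearMap.smul_apply, smul_eq_zero_iff_eq]

theorem kill_shift (T : Set (PrimeSpectrum A)) (E : DRing.Cx A) (f : A) (i : ℤ) :
    Kill T (E⟦i⟧) f 0 ↔ Kill T E f (0 + i) := by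
  constructor
  · intro h j hj z hz hc
    obtain rfl : j = -1 + i := by omega
    obtain ⟨w, hw, hd⟩ := h (-1) (by norm_num) z hz ((isCyc_shift E i z).2 hc)
    refine ⟨((i.negOnePow : ℤˣ) • (w : E.X (-1 + i))), ?_, ?_⟩
    · rw [Units.smul_def]
      exact zsmul_mem hw _
    · refine Eq.trans (LinearMap.map_smul_of_tower _ _ (w : E.X (-1 + i))) ?_
      exact hd
  · intro h j hj z hz hc
    obtain rfl : j = -1 := by omega
    obtain ⟨w, hw, hd⟩ := h (-1 + i) (by omega) z hz ((isCyc_shift E i z).1 hc)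
    refine ⟨((i.negOnePow : ℤˣ) • (w : E.X (-1 + i))), ?_, ?_⟩
    · rw [Units.smul_def]
      exact zsmul_mem hw _
    · change (((i.negOnePow : ℤˣ) • E.d (-1 + i) (0 + i)).hom) _ = _
      rw [ModuleCat.hom_smul, LinearMap.smul_apply, LinearMap.map_smul_of_tower, smul_smul,
        Int.units_mul_self, one_smul]
      exact hd

/-- killing of the colimit, elementwise -/
theorem Model.kills_iff (M : Model K) (T : Set (PrimeSpectrum A)) (f : A) (i : ℤ) :
    (∀ x : LT T (K⟦i⟧), f • x = 0) ↔ Kill T M.E f i := by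
  rw [show Kill T M.E f i ↔ Kill T M.E f (0 + i) by rw [zero_add], ← kill_shift, SuppTors.kill_iff]
  constructor
  · intro h x
    obtain ⟨y, rfl⟩ := (M.equiv T i).surjective x
    rw [← map_smul, h, map_zero]
  · intro h x
    exact (M.equiv T i).injective (by rw [map_smul, h, map_zero])

theorem kill_of_lt {E : DRing.Cx A} (T : Set (PrimeSpectrum A)) (f : A) {i : ℤ}
    (h : Subsingleton (E.X i)) : Kill T E f i :=
  fun _ _ _ _ _ => ⟨0, Submodule.zero_mem _, Subsingleton.elim _ _⟩

variable [IsNoetherianRing A]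

/-- annihilation passes to smaller supports up to a power -/
theorem Model.kills_of_subset (M : Model K) {T T₀ : Set (PrimeSpectrum A)} (h₀ : T₀ ⊆ T) {s : ℤ} {f : A}
    (hf : ∀ i, i ≤ s → ∀ x : LT T (K⟦i⟧), f • x = 0) (i : ℤ) (hi : i ≤ s) :
    ∃ n : ℕ, ∀ x : LT T₀ (K⟦i⟧), f ^ n • x = 0 := by
  have := M.injective
  obtain ⟨n, hn⟩ := exists_kill_of_subset M.subsingleton_X
    (fun i hi => (M.kills_iff T f i).1 (hf i hi)) h₀ i hi
  exact ⟨n, (M.kills_iff T₀ _ i).2 hn⟩

/-- annihilation at every point implies annihilation by a power -/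
theorem Model.kills_of_local (M : Model K) {T : Set (PrimeSpectrum A)} (d : PrimeSpectrum A → ℤ)
    (hd : ∀ p q, p < q → d p < d q) {lo : ℤ} {k : ℕ} (hb : ∀ p ∈ T, lo ≤ d p ∧ d p < lo + k)
    {f : A} {i : ℤ}
    (h : ∀ q ∈ T, ∀ x : LT (PrimeSpectrum.zeroLocus (q.asIdeal : Set A)) (K⟦i⟧),
      ∃ u ∉ q.asIdeal, u • f • x = 0) :
    ∀ x : LT T (K⟦i⟧), f ^ k • x = 0 := by
  have := M.injective
  suffices key : ∀ q ∈ T, ∀ j : ℤ, j + 1 = 0 + i → ∀ z ∈ DRing.torsionSub q.asIdeal (M.E.X (0 + i)),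
      IsCyc M.E (0 + i) z → ∃ u ∉ q.asIdeal, ∃ w ∈ DRing.torsionSub q.asIdeal (M.E.X j),
        (M.E.d j (0 + i)).hom w = u • f • z by
    rw [zero_add] at key
    refine (M.kills_iff T _ i).2 fun j hj z hz hc => ?_
    obtain ⟨w, hw, hd'⟩ := SuppTors.kill_of_local d hd key k lo (fun p hp => (hb p hp).2) j hj z
      (tors_mono (show T ⊆ T ∩ {p | lo ≤ d p} from fun p hp => ⟨hp, (hb p hp).1⟩) hz) hc
    exact ⟨w, hw, hd'⟩
  intro q hq j hj z hz hc
  obtain rfl : j = -1 + i := by omega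
  rw [← tors_zeroLocus] at hz
  have hc' : IsCyc (GT (PrimeSpectrum.zeroLocus (q.asIdeal : Set A)) (M.E⟦i⟧)) 0 ⟨z, hz⟩ :=
    (isCyc_GT_iff _ _ _ _).2 ((isCyc_shift M.E i z).2 hc)
  have hh := h q hq
  obtain ⟨u, hu, hux⟩ := hh ((M.equiv _ i).symm (cls _ hc'))
  refine ⟨u, hu, ?_⟩
  rw [← map_smul, ← map_smul, LinearEquiv.map_eq_zero_iff, ← cls_smul hc', ← cls_smul] at hux
  obtain ⟨⟨w, hw⟩, hd⟩ := (cls_eq_zero_iff (-1) (by norm_num) _).1 hux
  refine ⟨((i.negOnePow : ℤˣ) • (w : M.E.X (-1 + i))), ?_, ?_⟩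
  · rw [← tors_zeroLocus, Units.smul_def]
    exact zsmul_mem hw _
  · refine Eq.trans (LinearMap.map_smul_of_tower _ _ (w : M.E.X (-1 + i))) ?_
    exact congrArg Subtype.val hd


section Finite

open Groth.Agent.DualCx Groth.Agent.DualCx.Devissage
open Pretriangulated

omit [IsNoetherianRing A] in
theorem smul_ιT_eq_zero {T : Set (PrimeSpectrum A)} {J : Idx T} {X : Dual.D A} {c : A} (hc : c ∈ J.obj)
    (e : Dual.inD A (A ⧸ J.obj) ⟶ X) : c • ιT J X e = 0 := by
  have h : c • 𝟙 (Dual.inD A (A ⧸ J.obj)) = 0 := by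
    have h0 : c • 𝟙 (ModuleCat.of A (A ⧸ J.obj)) = 0 := by
      refine ModuleCat.hom_ext (Submodule.linearMap_qext _ (LinearMap.ext_ring ?_))
      change c • (Submodule.Quotient.mk (1 : A) : A ⧸ J.obj) = 0
      rw [← Submodule.Quotient.mk_smul, Submodule.Quotient.mk_eq_zero]
      simpa using hc
    rw [show 𝟙 (Dual.inD A (A ⧸ J.obj)) = (DerivedCategory.singleFunctor (ModuleCat.{u} A) 0).map (𝟙 (ModuleCat.of A (A ⧸ J.obj))) from (CategoryTheory.Functor.map_id _ _).symm, ← CategoryTheory.Functor.map_smul]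
    exact (congrArg (DerivedCategory.singleFunctor (ModuleCat.{u} A) 0).map h0).trans (Functor.map_zero _ _ _)
  rw [← map_smul, show c • e = (c • 𝟙 _) ≫ e by rw [Linear.smul_comp, Category.id_comp], h,
    zero_comp, map_zero]

omit [IsNoetherianRing A] in
/-- a finite colimit is killed by an ideal with zero locus in the support -/
theorem exists_kill_of_finite {T : Set (PrimeSpectrum A)} {X : Dual.D A}
    [Module.Finite A (LT T X)] : ∃ J : Idx T, ∀ c ∈ J.obj, ∀ x : LT T X, c • x = 0 := by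
  classical
  obtain ⟨S, hS⟩ := Module.Finite.fg_top (R := A) (M := LT T X)
  choose J e he using fun x : LT T X => SuppGamma.exists_rep x
  refine ⟨⟨S.inf fun x => (J x).obj, fun p hp => ?_⟩, fun c hc x => ?_⟩
  · obtain ⟨x, -, hx⟩ := (Ideal.IsPrime.inf_le' p.2).1 hp
    exact (J x).property hx
  · have hx : x ∈ Submodule.span A (S : Set (LT T X)) := hS.symm ▸ Submodule.mem_top
    induction hx using Submodule.span_induction with
    | mem y hy =>
      rw [← he y]
      exact smul_ιT_eq_zero ((Finset.inf_le (f := fun x => (J x).obj) hy : _ ≤ (J y).obj) hc) _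
    | zero => exact smul_zero c
    | add y z _ _ iy iz => rw [smul_add, iy, iz, add_zero]
    | smul a y _ iy => rw [smul_comm, iy, smul_zero]

omit [IsNoetherianRing A] in
theorem Model.subsingleton_LT (M : Model K) (T : Set (PrimeSpectrum A)) (i : ℤ) (hi : i < M.lo) :
    Subsingleton (LT T (K⟦i⟧)) := by
  have := M.subsingleton_X (0 + i) (by omega)
  refine @Function.Injective.subsingleton _ _ (M.equiv T i) (M.equiv T i).injective
    (subsingleton_of_forall_eq 0 fun x => ?_)
  obtain ⟨⟨z, hz⟩, hc, rfl⟩ := cls_surjective x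
  refine (cls_eq_zero_iff (-1) (by norm_num) _).2 ⟨0, ?_⟩
  rw [map_zero]
  exact Subtype.ext (Subsingleton.elim (α := M.E.X (0 + i)) _ _)

/-- the cohomology of sections with supports, shifted -/
noncomputable def Model.equivH (M : Model K) (T : Set (PrimeSpectrum A)) (i : ℤ) :
    LT T (K⟦i⟧) ≃ₗ[A] (GT T M.E).homology i :=
  let e : GT T (M.E⟦i⟧) ≅ ((GT T M.E)⟦i⟧ : DRing.Cx A) :=
    HomologicalComplex.Hom.isoOfComponents (fun _ => Iso.refl _) fun a b _ => by
      refine ModuleCat.hom_ext (LinearMap.ext fun z => Subtype.ext ?_)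
      rfl
  (M.equiv T i).trans (HomologicalComplex.homologyMapIso e 0 ≪≫
    ((HomologicalComplex.homologyFunctor (ModuleCat.{u} A) (ComplexShape.up ℤ) 0).shiftIso i 0 i
      (add_zero i)).app (GT T M.E)).toLinearEquiv

omit [IsNoetherianRing A] in
/-- `H ↪ Hom(A/J, H)` in `D(A)` when `J` kills `H` -/
theorem exists_injective_E {J : Ideal A} (H : Type u) [AddCommGroup H] [Module A H]
    (h : ∀ c ∈ J, ∀ x : H, c • x = 0) :
    ∃ g : H →ₗ[A] (Dual.inD A (A ⧸ J) ⟶ Dual.inD A H), Function.Injective g := by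
  let l : H → (ModuleCat.of A (A ⧸ J) ⟶ ModuleCat.of A H) := fun x =>
    ModuleCat.ofHom (Submodule.liftQ J (LinearMap.toSpanSingleton A H x) fun c hc => h c hc x)
  have hl : ∀ x, (l x).hom (Submodule.Quotient.mk 1) = x := fun x => one_smul A x
  refine ⟨{ toFun := fun x => (DerivedCategory.singleFunctor (ModuleCat.{u} A) 0).map (l x)
            map_add' := fun x y => ?_
            map_smul' := fun c x => ?_ }, fun x y hxy => ?_⟩
  · rw [← Functor.map_add]
    congr 1
    refine ModuleCat.hom_ext (Submodule.linearMap_qext _ (LinearMap.ext_ring ?_))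
    exact (hl (x + y)).trans (congrArg₂ (· + ·) (hl x).symm (hl y).symm)
  · rw [RingHom.id_apply, ← Functor.map_smul]
    congr 1
    refine ModuleCat.hom_ext (Submodule.linearMap_qext _ (LinearMap.ext_ring ?_))
    exact (hl (c • x)).trans (congrArg (c • ·) (hl x).symm)
  · have := (DerivedCategory.singleFunctor (ModuleCat.{u} A) 0).map_injective hxy
    rw [← hl x, ← hl y, this]

/-- annihilated cohomology with supports is finite -/
theorem Model.finite_of_kills (M : Model K) (hK : ∀ i, Module.Finite A (Dual.HD A K i))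
    {T : Set (PrimeSpectrum A)} {J : Ideal A} (hJ : PrimeSpectrum.zeroLocus (J : Set A) ⊆ T) {s : ℤ}
    (hk : ∀ i, i ≤ s → ∀ c ∈ J, ∀ x : LT T (K⟦i⟧), c • x = 0) :
    ∀ i, i ≤ s → Module.Finite A (LT T (K⟦i⟧)) := by
  suffices h : ∀ (n : ℕ) (i : ℤ), i < M.lo + n → i ≤ s → Module.Finite A ((GT T M.E).homology i) from
    fun i hi => have := h ((i - M.lo).toNat + 1) i (by omega) hi
      Module.Finite.equiv (M.equivH T i).symm
  have hge : ∀ (C : DRing.Cx A), (∀ i, i < M.lo → Subsingleton (C.X i)) → C.IsStrictlyGE M.lo :=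
    fun C hC => (CochainComplex.isStrictlyGE_iff _ _).mpr fun k hk' =>
      have := hC k hk'
      ModuleCat.isZero_of_subsingleton _
  have hC : (GT T M.E).IsStrictlyGE M.lo := hge _ fun i hi => by
    have := M.subsingleton_X i hi
    exact Subtype.val_injective.subsingleton
  have hCi : ∀ i, Injective ((GT T M.E).X i) := fun i =>
    have := M.injective
    (Module.injective_iff_injective_object A _).mp (injective_tors T (M.E.X i))
  have := M.strictlyGE
  have hKge : K.IsGE M.lo := DerivedCategory.TStructure.t.isGE_of_iso M.iso M.lo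
  intro n
  induction n with
  | zero =>
    intro i hi _
    have := M.subsingleton_LT T i (by simpa using hi)
    exact Module.Finite.equiv (M.equivH T i)
  | succ n ih =>
    intro i hi his
    let K' : Dual.D A := DRing.toD (GT T M.E)
    have hge' : K'.IsGE M.lo := inferInstance
    have hfK : ∀ m, m < i → Module.Finite A (Dual.HD A K' m) := fun m hm => by
      have := ih m (by push_cast at hi; omega) (by omega)
      exact Module.Finite.equiv (DRing.DBasic.hIso _ m).toLinearEquiv.symm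
    obtain ⟨Tr, hTr, heq, hl, hr, e1, e3⟩ := exists_split K' (i - 1)
    have hge1 : Tr.obj₁.IsGE M.lo := (DerivedCategory.isGE_iff _ _).mpr fun m hm =>
      (DRing.DBasic.subsingleton_HD_iff_isZero _ m).mp (by
        by_cases hm' : m ≤ i - 1
        · obtain ⟨e⟩ := e1 m hm'
          have := (DRing.DBasic.subsingleton_HD_iff_isZero K' m).mpr
            (DerivedCategory.isZero_of_isGE K' M.lo m hm)
          exact e.toEquiv.subsingleton
        · exact hl m (by omega))
    have hf1 : ∀ m, Module.Finite A (Dual.HD A Tr.obj₁ m) := fun m => by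
      by_cases hm : m ≤ i - 1
      · obtain ⟨e⟩ := e1 m hm
        have := hfK m (by omega)
        exact Module.Finite.equiv e.symm
      · have : Subsingleton (Dual.HD A Tr.obj₁ m) := hl m (by omega)
        infer_instance
    -- `Hom(A/J, toD (GT T E)[i])` is finite
    have hkinj : CochainComplex.IsKInjective ((GT T M.E)⟦i⟧) := by
      have : CochainComplex.IsStrictlyGE ((GT T M.E)⟦i⟧) (M.lo - i) :=
        (GT T M.E).isStrictlyGE_shift M.lo i (M.lo - i) (by omega)
      have : ∀ p, Injective (((GT T M.E)⟦i⟧ : DRing.Cx A).X p) := fun p => hCi (p + i)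
      exact CochainComplex.isKInjective_of_injective _ (M.lo - i)
    have hkinj' := M.isKInjective_shift i
    have hfin : Module.Finite A (Devissage.E (A ⧸ J) K' i) := by
      have := Criterion.finite_E (K := K) M.lo hK (A ⧸ J) i
      let incT : GT T M.E ⟶ M.E :=
        { f := fun m => ModuleCat.ofHom (tors T (M.E.X m)).subtype
          comm' := fun _ _ _ => rfl }
      let θ : DRing.toD ((GT T M.E)⟦i⟧) ≅ K'⟦i⟧ := ((Q (C := ModuleCat.{u} A)).commShiftIso i).app _
      let P : K'⟦i⟧ ⟶ K⟦i⟧ := θ.inv ≫ Q.map (incT⟦i⟧') ≫ (M.shiftIso i).hom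
      refine Module.Finite.of_injective (CategoryTheory.Linear.rightComp A (Dual.inD A (A ⧸ J)) P)
        ((injective_iff_map_eq_zero _).mpr fun φ hφ => ?_)
      obtain ⟨g, rfl⟩ := SuppGamma.exists_lift θ φ
      change (Q.map g ≫ θ.hom) ≫ θ.inv ≫ Q.map (incT⟦i⟧') ≫ (M.shiftIso i).hom = 0 at hφ
      rw [Category.assoc, Iso.hom_inv_id_assoc, ← Functor.map_comp_assoc,
        ← zero_comp (f := (M.shiftIso i).hom), cancel_mono, ← Q.map_zero] at hφ
      obtain ⟨hh⟩ := (DRing.InjAmp.Q_map_eq_iff_inj _ _).1 hφ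
      obtain ⟨w, hwJ, hdw⟩ := SuppGamma.exists_primitive (M.E⟦i⟧) hh
      obtain ⟨hh'⟩ := SuppGamma.nullhomotopic ((GT T M.E)⟦i⟧) g
        (⟨w, J, hJ, hwJ⟩ : tors T (M.E.X (-1 + i))) (fun c hc' => Subtype.ext (hwJ c hc')) (Subtype.ext hdw)
      change Q.map g ≫ θ.hom = 0
      exact (congrArg (fun t => t ≫ θ.hom) (((DRing.InjAmp.Q_map_eq_iff_inj _ _).2 ⟨hh'⟩).trans
        (Q.map_zero _ _))).trans zero_comp
    have := Criterion.finite_E (K := Tr.obj₁) M.lo hf1 (A ⧸ J) (i + 1)
    have hfin3 : Module.Finite A (Devissage.E (A ⧸ J) Tr.obj₃ i) := by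
      have hfin2 : Module.Finite A (Dual.inD A (A ⧸ J) ⟶ Tr.obj₂⟦i⟧) := by rw [heq]; exact hfin
      let f : (Dual.inD A (A ⧸ J) ⟶ Tr.obj₂⟦i⟧) →ₗ[A] Devissage.E (A ⧸ J) Tr.obj₃ i :=
        Hom.post₂ A Tr (Dual.inD A (A ⧸ J)) i
      let g : Devissage.E (A ⧸ J) Tr.obj₃ i →ₗ[A] Devissage.E (A ⧸ J) Tr.obj₁ (i + 1) :=
        Hom.dδ A Tr (Dual.inD A (A ⧸ J)) i (i + 1) rfl
      have hex : Function.Exact f g := Hom.exact_post_dδ A (Dual.inD A (A ⧸ J)) hTr i (i + 1) rfl
      have : Module.Finite A (LinearMap.ker g) := by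
        rw [hex.linearMap_ker_eq]
        infer_instance
      have : Module.Finite A (Devissage.E (A ⧸ J) Tr.obj₃ i ⧸ LinearMap.ker g) :=
        Module.Finite.equiv g.quotKerEquivRange.symm
      exact Module.Finite.of_submodule_quotient (LinearMap.ker g)
    obtain ⟨S, hS, hSeq, hSl, hSr, se1, -⟩ := exists_split Tr.obj₃ i
    obtain ⟨eS⟩ := nonempty_single S.obj₁ i fun m hm => by
      rcases lt_or_gt_of_ne hm with hm' | hm'
      · obtain ⟨e⟩ := se1 m hm'.le
        have : Subsingleton (Dual.HD A Tr.obj₃ m) := hr m (by omega)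
        exact e.toEquiv.subsingleton
      · exact hSl m hm'
    obtain ⟨eH⟩ := se1 i le_rfl
    obtain ⟨eH'⟩ := e3 i (by omega)
    let eHC : Dual.HD A S.obj₁ i ≃ₗ[A] (GT T M.E).homology i :=
      (eH.trans eH'.symm).trans ((DRing.DBasic.hIso (GT T M.E) i).toLinearEquiv)
    have hkill : ∀ c ∈ J, ∀ x : Dual.HD A S.obj₁ i, c • x = 0 := fun c hc x => by
      apply eHC.injective
      rw [map_smul, map_zero, ← (M.equivH T i).apply_symm_apply (eHC x), ← map_smul, hk i his c hc,
        map_zero]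
    obtain ⟨g, hg⟩ := exists_injective_E _ hkill
    have hS3 : Subsingleton (Dual.inD A (A ⧸ J) ⟶ S.obj₃⟦i - 1⟧) := by
      have h3 : S.obj₃.IsGE (i + 1) := (DerivedCategory.isGE_iff _ _).mpr fun m hm =>
        (DRing.DBasic.subsingleton_HD_iff_isZero _ m).mp (hSr m (by omega))
      have : (S.obj₃⟦i - 1⟧).IsGE 2 :=
        DerivedCategory.TStructure.t.isGE_shift S.obj₃ (i + 1) (i - 1) 2 (by omega)
      exact subsingleton_of_forall_eq 0 fun f => DerivedCategory.TStructure.t.zero f 0 2 (by omega)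
    have hinj : Function.Injective (Hom.post₁ A S (Dual.inD A (A ⧸ J)) i) :=
      (injective_iff_map_eq_zero _).mpr fun f hf => by
        obtain ⟨w, rfl⟩ := (Hom.exact_dδ_post A (Dual.inD A (A ⧸ J)) hS (i - 1) i (by omega) f).mp hf
        rw [Subsingleton.elim w 0, map_zero]
    have : Module.Finite A (Devissage.E (A ⧸ J) S.obj₁ i) := by
      have : Module.Finite A (Dual.inD A (A ⧸ J) ⟶ S.obj₂⟦i⟧) := by rw [hSeq]; exact hfin3
      exact Module.Finite.of_injective _ hinj
    let eI : Devissage.E (A ⧸ J) S.obj₁ i ≃ₗ[A] (Dual.inD A (A ⧸ J) ⟶ Dual.inD A (Dual.HD A S.obj₁ i)) :=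
      Hom.congr A (Iso.refl _) ((shiftFunctor (Dual.D A) i).mapIso eS ≪≫
        (shiftFunctorCompIsoId (Dual.D A) (-i) i (by omega)).app _)
    have : Module.Finite A (Dual.HD A S.obj₁ i) :=
      have := Module.Finite.equiv eI
      Module.Finite.of_injective g hg
    exact Module.Finite.equiv eHC

end Finite

end Groth.Agent.LocCoh.SuppModel
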