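import Groth.Agent.LocCoh.RGamma
import Mathlib.Algebra.Module.Injective

/-!
# Torsion with supports in a set of primes

* `tors T M`, `GT T E`: sections with supports in `T`;
* `Kill T E f i`: `f` kills `H^i` of `GT T E`, elementwise;
* `exists_kill_of_subset`: a power still kills for smaller supports;
* `kill_of_local`: kills at every point of `T` imply a power kills.
-/

universe u

open CategoryTheory CategoryTheory.Limits

namespace Groth.Agent.LocCoh.SuppTors

open Groth.Agent.DRing.Homology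

variable {A : Type u} [CommRing A]

/-- elements killed by an ideal with zero locus in `T` -/
def tors (T : Set (PrimeSpectrum A)) (M : Type u) [AddCommGroup M] [Module A M] : Submodule A M where
  carrier := {z | ∃ J : Ideal A, PrimeSpectrum.zeroLocus (J : Set A) ⊆ T ∧ ∀ c ∈ J, c • z = 0}
  zero_mem' := ⟨⊤, by simp [PrimeSpectrum.zeroLocus_univ], fun c _ => smul_zero c⟩
  add_mem' := by
    rintro z z' ⟨J, hJ, hz⟩ ⟨J', hJ', hz'⟩
    refine ⟨J ⊓ J', ?_, fun c hc => by rw [smul_add, hz c hc.1, hz' c hc.2, add_zero]⟩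
    rw [PrimeSpectrum.zeroLocus_inf]
    exact Set.union_subset hJ hJ'
  smul_mem' := by
    rintro a z ⟨J, hJ, hz⟩
    exact ⟨J, hJ, fun c hc => by rw [smul_comm, hz c hc, smul_zero]⟩

variable {T T' : Set (PrimeSpectrum A)} {M N : Type u} [AddCommGroup M] [Module A M]
  [AddCommGroup N] [Module A N]

theorem mem_tors {z : M} : z ∈ tors T M ↔
    ∃ J : Ideal A, PrimeSpectrum.zeroLocus (J : Set A) ⊆ T ∧ ∀ c ∈ J, c • z = 0 := Iff.rfl

theorem tors_mono (h : T ⊆ T') : tors T M ≤ tors T' M :=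
  fun _ ⟨J, hJ, hz⟩ => ⟨J, hJ.trans h, hz⟩

theorem map_mem_tors (g : M →ₗ[A] N) {z : M} : z ∈ tors T M → g z ∈ tors T N :=
  fun ⟨J, hJ, hz⟩ => ⟨J, hJ, fun c hc => by rw [← map_smul, hz c hc, map_zero]⟩

theorem torsionSub_le {I : Ideal A} (h : PrimeSpectrum.zeroLocus (I : Set A) ⊆ T) :
    DRing.torsionSub I M ≤ tors T M := by
  rintro z ⟨n, hn⟩
  rcases n with - | n
  · refine ⟨⊤, by simp [PrimeSpectrum.zeroLocus_univ], fun c _ => hn c ?_⟩
    rw [pow_zero, Ideal.one_eq_top]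
    trivial
  · exact ⟨I ^ (n + 1), by rwa [PrimeSpectrum.zeroLocus_pow I n.succ_ne_zero], hn⟩

theorem mem_torsionSub_of_subset [IsNoetherianRing A] {I J : Ideal A} {z : M}
    (h : PrimeSpectrum.zeroLocus (J : Set A) ⊆ PrimeSpectrum.zeroLocus (I : Set A))
    (hz : ∀ c ∈ J, c • z = 0) : z ∈ DRing.torsionSub I M := by
  rw [PrimeSpectrum.zeroLocus_subset_zeroLocus_iff] at h
  obtain ⟨n, hn⟩ := Ideal.exists_pow_le_of_le_radical_of_fg_radical h (IsNoetherian.noetherian _)
  exact ⟨n, fun c hc => hz c (hn hc)⟩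

theorem tors_zeroLocus [IsNoetherianRing A] (I : Ideal A) :
    tors (PrimeSpectrum.zeroLocus (I : Set A)) M = DRing.torsionSub I M :=
  le_antisymm (fun _ ⟨_, hJ, hz⟩ => mem_torsionSub_of_subset hJ hz) (torsionSub_le subset_rfl)

theorem eq_zero_of_mem_tors_empty {z : M} (hT : T = ∅) (hz : z ∈ tors T M) : z = 0 := by
  obtain ⟨J, hJ, hz⟩ := hz
  rw [hT, Set.subset_empty_iff, PrimeSpectrum.zeroLocus_empty_iff_eq_top] at hJ
  simpa using hz 1 (hJ ▸ Submodule.mem_top)

/-- sections with supports of an injective module -/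
theorem injective_tors [IsNoetherianRing A] (T : Set (PrimeSpectrum A)) (E : ModuleCat.{u} A)
    [Injective E] : Module.Injective A (tors T E) := by
  refine Module.Baer.injective fun 𝔞 g => ?_
  obtain ⟨s, hs⟩ := IsNoetherian.noetherian 𝔞
  classical
  have hJ : ∃ J : Ideal A, PrimeSpectrum.zeroLocus (J : Set A) ⊆ T ∧
      ∀ x (hx : x ∈ 𝔞), ∀ c ∈ J, c • (g ⟨x, hx⟩).1 = 0 := by
    choose J hJ hJg using fun x : s => (g ⟨x.1, hs ▸ Submodule.subset_span x.2⟩).2
    refine ⟨Finset.univ.inf J, fun p hp => ?_, fun x hx => ?_⟩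
    · obtain ⟨i, -, hi⟩ := (Ideal.IsPrime.inf_le' p.2).1 hp
      exact hJ i hi
    · intro c hc
      have hx' : x ∈ Submodule.span A (s : Set A) := hs.symm ▸ hx
      induction hx' using Submodule.span_induction with
      | mem y hy => exact hJg ⟨y, hy⟩ c ((Finset.inf_le (f := J) (Finset.mem_univ (⟨y, hy⟩ : {a // a ∈ s}))) hc)
      | zero => rw [show (⟨0, hx⟩ : 𝔞) = 0 from rfl, map_zero, Submodule.coe_zero, smul_zero]
      | add y z hy hz iy iz =>
        rw [show (⟨y + z, hx⟩ : 𝔞) = ⟨y, hs ▸ hy⟩ + ⟨z, hs ▸ hz⟩ from rfl, map_add,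
          Submodule.coe_add, smul_add, iy, iz, add_zero]
      | smul a y hy iy =>
        rw [show (⟨a • y, hx⟩ : 𝔞) = a • ⟨y, hs ▸ hy⟩ from rfl, map_smul, Submodule.coe_smul,
          smul_comm, iy, smul_zero]
  obtain ⟨J, hJT, hJg⟩ := hJ
  have : Module.Injective A (DRing.torsionSub J E) :=
    (Module.injective_iff_injective_object A _).mpr (injective_torsionSub J E)
  let g' : 𝔞 →ₗ[A] DRing.torsionSub J E := ((tors T E).subtype.comp g).codRestrict _ fun x =>
    ⟨1, fun c hc => hJg x.1 x.2 c (by simpa using hc)⟩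
  obtain ⟨h, hh⟩ := Module.Baer.of_injective (inferInstance : Module.Injective A (DRing.torsionSub J E)) 𝔞 g'
  exact ⟨(Submodule.inclusion (torsionSub_le hJT)).comp h,
    fun x hx => Subtype.ext (congrArg (fun t : DRing.torsionSub J E => (t : E)) (hh x hx))⟩

/-- the complex of sections with supports -/
noncomputable def GT (T : Set (PrimeSpectrum A)) (E : DRing.Cx A) : DRing.Cx A where
  X i := ModuleCat.of A (tors T (E.X i))
  d i j := ModuleCat.ofHom ((E.d i j).hom.restrict fun _ hz => map_mem_tors _ hz)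
  shape i j h := ModuleCat.hom_ext (LinearMap.ext fun z => Subtype.ext (by
    change (E.d i j).hom z.1 = 0
    rw [E.shape i j h]; rfl))
  d_comp_d' i j k _ _ := ModuleCat.hom_ext (LinearMap.ext fun z => Subtype.ext (d_d i j k z.1))

theorem isCyc_GT_iff (T : Set (PrimeSpectrum A)) (E : DRing.Cx A) (i : ℤ) (z : tors T (E.X i)) :
    IsCyc (GT T E) i z ↔ IsCyc E i z.1 := Subtype.ext_iff

/-- `f` kills the cohomology with supports in `T`, elementwise -/
def Kill (T : Set (PrimeSpectrum A)) (E : DRing.Cx A) (f : A) (i : ℤ) : Prop :=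
  ∀ j : ℤ, j + 1 = i → ∀ z : E.X i, z ∈ tors T (E.X i) → IsCyc E i z →
    ∃ w : E.X j, w ∈ tors T (E.X j) ∧ (E.d j i).hom w = f • z

theorem kill_iff (T : Set (PrimeSpectrum A)) (E : DRing.Cx A) (f : A) (i : ℤ) :
    Kill T E f i ↔ ∀ x : (GT T E).homology i, f • x = 0 := by
  constructor
  · intro h x
    obtain ⟨⟨z, hz⟩, hc, rfl⟩ := cls_surjective x
    obtain ⟨w, hw, hd⟩ := h (i - 1) (by omega) z hz ((isCyc_GT_iff T E i _).1 hc)
    rw [← cls_smul hc]
    exact (cls_eq_zero_iff (i - 1) (by omega) _).2 ⟨⟨w, hw⟩, Subtype.ext hd⟩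
  · intro h j hj z hz hc
    have hc' : IsCyc (GT T E) i ⟨z, hz⟩ := (isCyc_GT_iff T E i _).2 hc
    have h0 := h (cls _ hc')
    rw [← cls_smul hc'] at h0
    obtain ⟨⟨w, hw⟩, hd⟩ := (cls_eq_zero_iff j hj _).1 h0
    exact ⟨w, hw, congrArg Subtype.val hd⟩

variable [IsNoetherianRing A]

/-- a linear null homotopy up to a power of `f` on cycles -/
theorem exists_splitting {E : DRing.Cx A} [∀ i, Injective (E.X i)] {lo s : ℤ}
    (hlo : ∀ i, i < lo → Subsingleton (E.X i)) {f : A} (hf : ∀ i, i ≤ s → Kill T E f i) :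
    ∀ (k : ℕ) (i j : ℤ), j + 1 = i → i < lo + k → i ≤ s →
      ∃ (n : ℕ) (h : tors T (E.X i) →ₗ[A] tors T (E.X j)),
        ∀ z : tors T (E.X i), IsCyc E i z.1 → (E.d j i).hom (h z).1 = f ^ n • z.1
  | 0, i, j, _, hi, _ => ⟨0, 0, fun z _ => by
      have := hlo i (by simpa using hi)
      exact Subsingleton.elim _ _⟩
  | k + 1, i, j, hj, hi, his => by
    obtain ⟨n, h', hh'⟩ := exists_splitting hlo hf k j (j - 1) (by omega) (by push_cast at hi; omega)
      (by omega)
    let d' : tors T (E.X j) →ₗ[A] tors T (E.X i) := (E.d j i).hom.restrict fun _ hz => map_mem_tors _ hz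
    let d'' : tors T (E.X (j - 1)) →ₗ[A] tors T (E.X j) :=
      (E.d (j - 1) j).hom.restrict fun _ hz => map_mem_tors _ hz
    let π : tors T (E.X j) →ₗ[A] tors T (E.X j) := f ^ n • LinearMap.id - d''.comp h'
    have hπ : LinearMap.ker d' ≤ LinearMap.ker π := fun y hy => Subtype.ext (sub_eq_zero.2
      (hh' y ((isCyc_iff hj _).2 (congrArg Subtype.val hy))).symm)
    have hdπ : ∀ y, (d' (π y)).1 = f ^ n • (d' y).1 := fun y => by
      change (E.d j i).hom (f ^ n • y.1 - (E.d (j - 1) j).hom (h' y).1) = _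
      rw [map_sub, map_smul, d_d, sub_zero]; rfl
    let Z : Submodule A (tors T (E.X i)) :=
      LinearMap.ker ((E.d i (i + 1)).hom.comp (tors T (E.X i)).subtype)
    let ρ : Z →ₗ[A] LinearMap.range d' := (f • Z.subtype).codRestrict _ fun z => by
      obtain ⟨w, hw, hd⟩ := hf i his j hj z.1.1 z.1.2 z.2
      exact ⟨⟨w, hw⟩, Subtype.ext hd⟩
    let g : Z →ₗ[A] tors T (E.X j) :=
      ((LinearMap.ker d').liftQ π hπ).comp (d'.quotKerEquivRange.symm.toLinearMap.comp ρ)
    obtain ⟨h, hh⟩ := (injective_tors T (E.X j)).out Z.subtype (Submodule.injective_subtype Z) g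
    refine ⟨n + 1, h, fun z hz => ?_⟩
    rw [show h z = g ⟨z, hz⟩ from hh ⟨z, hz⟩]
    obtain ⟨y, hy⟩ := (ρ ⟨z, hz⟩).2
    have hρ : d'.quotKerEquivRange.symm (ρ ⟨z, hz⟩) = Submodule.Quotient.mk y := by
      rw [LinearEquiv.symm_apply_eq]; exact Subtype.ext hy.symm
    have hg : g ⟨z, hz⟩ = π y := by
      change (LinearMap.ker d').liftQ π hπ (d'.quotKerEquivRange.symm (ρ ⟨z, hz⟩)) = _
      rw [hρ, Submodule.liftQ_apply]
    rw [hg, pow_succ, mul_smul]
    refine (hdπ y).trans ?_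
    rw [hy]; rfl

/-- annihilation passes to smaller supports, up to a power -/
theorem exists_kill_of_subset {E : DRing.Cx A} [∀ i, Injective (E.X i)] {lo s : ℤ}
    (hlo : ∀ i, i < lo → Subsingleton (E.X i)) {f : A} (hf : ∀ i, i ≤ s → Kill T E f i)
    {T₀ : Set (PrimeSpectrum A)} (h₀ : T₀ ⊆ T) (i : ℤ) (hi : i ≤ s) :
    ∃ n : ℕ, Kill T₀ E (f ^ n) i := by
  obtain ⟨n, h, hh⟩ := exists_splitting hlo hf ((i - lo).toNat + 1) i (i - 1) (by omega) (by omega) hi
  refine ⟨n, fun j hj z hz hc => ?_⟩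
  obtain rfl : j = i - 1 := by omega
  let zT : tors T (E.X i) := ⟨z, tors_mono h₀ hz⟩
  refine ⟨(h zT).1, ?_, hh zT hc⟩
  obtain ⟨J, hJ, hzJ⟩ := hz
  refine ⟨J, hJ, fun c hc => ?_⟩
  have : c • zT = 0 := Subtype.ext (hzJ c hc)
  rw [← Submodule.coe_smul, ← map_smul, this, map_zero]; rfl

/-- annihilation at every point of `T` implies annihilation by a power -/
theorem kill_of_local {E : DRing.Cx A} [∀ i, Injective (E.X i)] (d : PrimeSpectrum A → ℤ)
    (hd : ∀ p q, p < q → d p < d q) {f : A} {i : ℤ}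
    (h : ∀ q ∈ T, ∀ j : ℤ, j + 1 = i → ∀ z ∈ DRing.torsionSub q.asIdeal (E.X i), IsCyc E i z →
      ∃ u ∉ q.asIdeal, ∃ w ∈ DRing.torsionSub q.asIdeal (E.X j), (E.d j i).hom w = u • f • z) :
    ∀ (k : ℕ) (lo : ℤ), (∀ p ∈ T, d p < lo + k) → ∀ j : ℤ, j + 1 = i → ∀ z : E.X i,
      z ∈ tors (T ∩ {p | lo ≤ d p}) (E.X i) → IsCyc E i z →
        ∃ w ∈ tors T (E.X j), (E.d j i).hom w = f ^ k • z
  | 0, lo, hb, j, hj, z, hz, _ => by
    refine ⟨0, Submodule.zero_mem _, ?_⟩
    rw [eq_zero_of_mem_tors_empty ?_ hz, smul_zero, map_zero]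
    refine Set.eq_empty_of_forall_notMem fun p hp => ?_
    have := hb p hp.1
    have hlo : lo ≤ d p := hp.2
    omega
  | k + 1, lo, hb, j, hj, z, hz, hc => by
    classical
    obtain ⟨J, hJ, hzJ⟩ := hz
    let S : Set (PrimeSpectrum A) := {q | q.asIdeal ∈ J.minimalPrimes ∧ d q = lo}
    have hSfin : S.Finite := (J.finite_minimalPrimes_of_isNoetherianRing A).preimage
      (Function.Injective.injOn fun _ _ h => PrimeSpectrum.ext h) |>.subset fun _ hq => hq.1
    have hwit : ∀ q ∈ S, ∃ u, u ∉ q.asIdeal ∧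
        ∃ w ∈ DRing.torsionSub J (E.X j), (E.d j i).hom w = u • f • z := by
      intro q hq
      have hJq : J ≤ q.asIdeal := hq.1.1.2
      have hqT : q ∈ T := (hJ hJq).1
      obtain ⟨v, hv, hvq⟩ := SetLike.not_le_iff_exists.1 (show
          ¬ ((J.finite_minimalPrimes_of_isNoetherianRing A).toFinset.erase q.asIdeal).inf id ≤ q.asIdeal by
        rw [Ideal.IsPrime.inf_le' q.2]
        rintro ⟨P, hP, hPq⟩
        rw [Finset.mem_erase, Set.Finite.mem_toFinset] at hP
        exact hP.1 (le_antisymm hPq (hq.1.2 hP.2.1 hPq)))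
      have hrad : Ideal.span {v} * q.asIdeal ≤ J.radical := by
        rw [← Ideal.sInf_minimalPrimes]
        refine le_sInf fun P hP => ?_
        by_cases hPq : P = q.asIdeal
        · exact hPq ▸ Ideal.mul_le_right
        · refine Ideal.mul_le_left.trans ((Ideal.span_singleton_le_iff_mem _).2 ?_)
          exact (Finset.inf_le (f := id) (Finset.mem_erase.2
            ⟨hPq, (J.finite_minimalPrimes_of_isNoetherianRing A).mem_toFinset.2 hP⟩)) hv
      obtain ⟨m, hm⟩ := Ideal.exists_pow_le_of_le_radical_of_fg_radical hrad (IsNoetherian.noetherian _)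
      rw [mul_pow, Ideal.span_singleton_pow] at hm
      have hz' : v ^ m • z ∈ DRing.torsionSub q.asIdeal (E.X i) := ⟨m, fun c hc' => by
        rw [smul_smul, mul_comm]
        exact hzJ _ (hm (Ideal.mul_mem_mul (Ideal.mem_span_singleton_self _) hc'))⟩
      obtain ⟨u, huq, w, ⟨r, hr⟩, hd⟩ := h q hqT j hj _ hz' (hc.smul _)
      refine ⟨u * v ^ m, fun hmem => ?_, w, ⟨r, fun c hc' => hr c (Ideal.pow_right_mono hJq r hc')⟩, ?_⟩
      · exact (q.2.mem_or_mem hmem).elim huq fun hvm => hvq (q.2.mem_of_pow_mem m hvm)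
      · rw [hd, smul_comm f, smul_smul]
    let U : Ideal A :=
      (Submodule.map (E.d j i).hom (DRing.torsionSub J (E.X j))).comap
        (LinearMap.toSpanSingleton A (E.X i) (f • z))
    obtain ⟨u, huU, huS⟩ : ∃ u ∈ U, ∀ q ∈ S, u ∉ q.asIdeal := by
      by_contra hcon
      push Not at hcon
      by_cases hne : S = ∅
      · exact absurd (hcon 0 U.zero_mem) (by simp [hne])
      obtain ⟨q₀, hq₀⟩ := Set.nonempty_iff_ne_empty.2 hne
      obtain ⟨q, hq, hUq⟩ := (Ideal.subset_union_prime q₀ q₀ (s := hSfin.toFinset)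
        (f := fun q : PrimeSpectrum A => q.asIdeal) fun q _ _ _ => q.2).1 fun x hx => by
          obtain ⟨q, hq, hxq⟩ := hcon x hx
          exact Set.mem_biUnion (hSfin.mem_toFinset.2 hq) hxq
      obtain ⟨u, huq, w, hw, hd⟩ := hwit q (hSfin.mem_toFinset.1 hq)
      exact huq (hUq (show u ∈ U from ⟨w, hw, hd⟩))
    obtain ⟨w, hw, hdw⟩ := huU
    obtain ⟨w', hw', m, hm⟩ := (RGamma.div_of_injective J u (E.X j)).exists_divide 1 hw
    rw [pow_one] at hm
    let z' : E.X i := f • z - (E.d j i).hom w'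
    have hz'J : z' ∈ DRing.torsionSub J (E.X i) :=
      Submodule.sub_mem _ (Submodule.smul_mem _ _ ⟨1, fun c hc' => hzJ c (by simpa using hc')⟩)
        (RGamma.mem_torsionSub_d _ _ hw')
    have hu : u ^ (m + 1) • z' = 0 := by
      rw [pow_succ, mul_smul, smul_sub, ← map_smul (E.d j i).hom]
      change u ^ m • (LinearMap.toSpanSingleton A (E.X i) (f • z) u - _) = 0
      rw [← hdw, ← map_sub, ← map_smul, hm, map_zero]
    obtain ⟨r, hr⟩ := hz'J
    have hz' : z' ∈ tors (T ∩ {p | lo + 1 ≤ d p}) (E.X i) := by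
      refine ⟨J ^ (r + 1) ⊔ Ideal.span {u ^ (m + 1)}, fun p hp => ?_, fun c hc' => ?_⟩
      · rw [PrimeSpectrum.mem_zeroLocus, SetLike.coe_subset_coe, sup_le_iff,
          Ideal.span_singleton_le_iff_mem] at hp
        have hJp : J ≤ p.asIdeal := Ideal.IsPrime.le_of_pow_le hp.1
        obtain ⟨hpT, hpd⟩ := hJ hJp
        refine ⟨hpT, show lo + 1 ≤ d p from ?_⟩
        rcases lt_or_eq_of_le (show lo ≤ d p from hpd) with hlt | heq
        · omega
        · exfalso
          obtain ⟨P, hP, hPp⟩ := Ideal.exists_minimalPrimes_le hJp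
          have hP' : (⟨P, hP.1.1⟩ : PrimeSpectrum A) = p := by
            by_contra hne
            have h1 := hd _ _ (lt_of_le_of_ne (show (⟨P, hP.1.1⟩ : PrimeSpectrum A) ≤ p from hPp) hne)
            have h2 : lo ≤ d ⟨P, hP.1.1⟩ := (hJ (show J ≤ P from hP.1.2)).2
            omega
          refine huS p ⟨?_, heq.symm⟩ (p.2.mem_of_pow_mem _ hp.2)
          rw [← hP']; exact hP
      · obtain ⟨a, ha, b, hb', rfl⟩ := Submodule.mem_sup.1 hc'
        obtain ⟨e, rfl⟩ := Ideal.mem_span_singleton'.1 hb'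
        rw [add_smul, mul_smul, hu, smul_zero, add_zero,
          hr a (Ideal.pow_le_pow_right (by omega) ha)]
    obtain ⟨w₂, hw₂, hd₂⟩ := kill_of_local d hd h k (lo + 1)
      (fun p hp => by have := hb p hp; push_cast at this; omega) j hj z' hz'
      ((hc.smul _).sub (isCyc_d _ _ _))
    refine ⟨f ^ k • w' + w₂, Submodule.add_mem _ (Submodule.smul_mem _ _
      (torsionSub_le (hJ.trans Set.inter_subset_left) hw')) hw₂, ?_⟩
    rw [map_add, map_smul, hd₂, smul_sub, pow_succ, mul_smul]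
    abel

end Groth.Agent.LocCoh.SuppTors
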