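import Groth.Agent.LocCoh.BaseChange

/-!
# Enlarging the support ideal inside the Jacobson radical
-/

universe u

open CategoryTheory Limits TensorProduct

namespace Groth.Agent.LocCoh

variable {A : Type u} [CommRing A] [IsNoetherianRing A]

theorem subsingleton_H_of_sup_singleton (I : Ideal A) (x : A) : ∀ (i : ℕ) (M : ModuleCat.{u} A),
    Subsingleton ((localCohomology (I ⊔ Ideal.span {x}) (i + 1)).obj M) →
    Subsingleton ((localCohomology (I.map (algebraMap A (Localization.Away x))) (i + 1)).obj
      (tens (Localization.Away x) M)) →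
    Subsingleton ((localCohomology I (i + 1)).obj M) := by
  intro i
  induction i with
  | zero =>
    intro M hsup hloc
    obtain ⟨S, hS, rfl, h2⟩ := exists_injective_shortExact M
    rw [subsingleton_H_one_iff hS (isAcyclic_of_injective I S.X₂ 0)]
    rw [subsingleton_H_one_iff hS (isAcyclic_of_injective _ S.X₂ 0)] at hsup
    have : Module.Flat A (Localization.Away x) := IsLocalization.flat _ (Submonoid.powers x)
    rw [subsingleton_H1_tens_iff I hS] at hloc
    intro q hq
    let G := gammaMap I S.g
    let f₂ := TensorProduct.mk A (Localization.Away x) (DRing.torsionSub I S.X₂) 1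
    let f₃ := TensorProduct.mk A (Localization.Away x) (DRing.torsionSub I S.X₃) 1
    obtain ⟨w, hw⟩ := hloc (f₃ ⟨q, hq⟩)
    obtain ⟨⟨e, s⟩, hes⟩ := IsLocalizedModule.surj (Submonoid.powers x) f₂ w
    have h1 : f₃ (G e) = f₃ ((s : A) • ⟨q, hq⟩) := by
      calc f₃ (G e) = G.lTensor (Localization.Away x) (f₂ e) := rfl
        _ = G.lTensor (Localization.Away x) ((s : A) • w) := by rw [show (s : A) • w = f₂ e from hes]
        _ = (s : A) • f₃ ⟨q, hq⟩ := by rw [map_smul, hw]
        _ = _ := (map_smul f₃ _ _).symm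
    obtain ⟨c, hc⟩ := IsLocalizedModule.exists_of_eq (S := Submonoid.powers x) h1
    obtain ⟨a, ha⟩ := c.2
    obtain ⟨b, hb⟩ := s.2
    -- `x ^ a • g e = x ^ (a + b) • q`
    have hxe : S.g.hom ((x ^ a) • (e : S.X₂)) = x ^ (a + b) • q := by
      have h := congrArg Subtype.val hc
      simp only [Submonoid.smul_def, ← ha, ← hb, Submodule.coe_smul, smul_smul, ← pow_add] at h
      rw [map_smul]
      exact h
    -- divide inside the injective module `Γ_I E`
    have hE := injective_torsionSub I S.X₂
    have hdiv : ∀ (m : ℕ) (y : DRing.torsionSub I S.X₂), ∃ (y' : DRing.torsionSub I S.X₂) (n : ℕ),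
        x ^ n • (y - x ^ m • y') = 0 := by
      intro m
      induction m with
      | zero => exact fun y => ⟨y, 0, by simp⟩
      | succ m ihm =>
        intro y
        obtain ⟨y', n, hn⟩ := ihm y
        have hT : Module.Injective A (DRing.torsionSub I S.X₂) :=
          (Module.injective_iff_injective_object A _).mpr hE
        obtain ⟨y'', k, hk⟩ := isDivModTorsion_of_injective x (DRing.torsionSub I S.X₂) y'
        refine ⟨y'', n + k, ?_⟩
        have e1 : x ^ (n + k) • (y - x ^ (m + 1) • y'') =
            x ^ k • (x ^ n • (y - x ^ m • y')) + x ^ (n + m) • (x ^ k • (y' - x • y'')) := by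
          simp only [smul_sub, smul_smul, ← pow_add, ← pow_succ]
          rw [show k + (n + m) = n + m + k by omega, show n + m + (k + 1) = n + m + k + 1 by omega]
          abel_nf
        rw [e1, hn, hk, smul_zero, smul_zero, add_zero]
    obtain ⟨e', n, hn⟩ := hdiv (a + b) ((x ^ a) • e)
    have hq' : q - S.g.hom e'.1 ∈ DRing.torsionSub (I ⊔ Ideal.span {x}) S.X₃ := by
      rw [torsionSub_sup]
      refine ⟨sub_mem hq (DRing.map_mem_torsionSub I S.g.hom e'.2),
        mem_torsionSub_span_singleton.mpr ⟨n + (a + b), ?_⟩⟩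
      have h := congrArg (fun y : DRing.torsionSub I S.X₂ => S.g.hom y.1) hn
      simp only [Submodule.coe_smul, AddSubgroupClass.coe_sub, map_smul, map_sub,
        ZeroMemClass.coe_zero, map_zero] at h
      rw [← map_smul, hxe] at h
      rw [pow_add, mul_smul, smul_sub]
      exact h
    obtain ⟨d, hd, hgd⟩ := hsup _ hq'
    exact ⟨d + e'.1, add_mem (torsionSub_le_of_le le_sup_left _ hd) e'.2,
      by rw [map_add, hgd, sub_add_cancel]⟩
  | succ i ih =>
    intro M hsup hloc
    obtain ⟨S, hS, rfl, h2⟩ := exists_injective_shortExact M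
    have : Module.Flat A (Localization.Away x) := IsLocalization.flat _ (Submonoid.powers x)
    rw [subsingleton_H_succ_iff hS (isAcyclic_of_injective I S.X₂)]
    rw [subsingleton_H_succ_iff hS (isAcyclic_of_injective _ S.X₂)] at hsup
    rw [subsingleton_H_succ_iff (shortExact_tensS hS) (isAcyclic_tens I S.X₂)] at hloc
    exact ih S.X₃ hsup hloc

omit [IsNoetherianRing A] in
/-- Inverting an element of the Jacobson radical lowers the dimension. -/
theorem ringKrullDim_away_le {x : A} (hx : x ∈ (⊥ : Ideal A).jacobson) (d : ℕ)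
    (hd : ringKrullDim A ≤ ((d + 1 : ℕ) : WithBot ℕ∞)) :
    ringKrullDim (Localization.Away x) ≤ (d : WithBot ℕ∞) := by
  refine iSup_le fun l => ?_
  let l' : LTSeries (PrimeSpectrum A) := l.map (PrimeSpectrum.comap (algebraMap A (Localization.Away x)))
    (Monotone.strictMono_of_injective (fun _ _ h => Ideal.comap_mono h)
      (PrimeSpectrum.localization_comap_injective _ (Submonoid.powers x)))
  obtain ⟨m, hm, hle⟩ := Ideal.exists_le_maximal l'.last.asIdeal l'.last.2.ne_top
  have hxm : x ∈ m := Ideal.mem_sInf.mp hx ⟨bot_le, hm⟩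
  have hxp : x ∉ l'.last.asIdeal := by
    show algebraMap A (Localization.Away x) x ∉ l.last.asIdeal
    exact fun h => l.last.2.ne_top
      (Ideal.eq_top_of_isUnit_mem _ h (IsLocalization.Away.algebraMap_isUnit x))
  have hlt : l'.last < (⟨m, hm.isPrime⟩ : PrimeSpectrum A) :=
    lt_of_le_of_ne hle fun e => hxp (by rw [e]; exact hxm)
  have h : ((l'.snoc ⟨m, hm.isPrime⟩ hlt).length : WithBot ℕ∞) ≤ ringKrullDim A :=
    Order.LTSeries.length_le_krullDim _
  have h' := h.trans hd
  have hlen : (l'.snoc ⟨m, hm.isPrime⟩ hlt).length = l.length + 1 := rfl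
  rw [hlen, Nat.cast_le] at h'
  exact_mod_cast Nat.le_of_succ_le_succ h'

theorem subsingleton_H_of_le_jacobson (d : ℕ) (hd : ringKrullDim A ≤ ((d + 1 : ℕ) : WithBot ℕ∞))
    (I I' : Ideal A) (hII' : I ≤ I') (hJ : I' ≤ (⊥ : Ideal A).jacobson)
    (h : ∀ (M : ModuleCat.{u} A) (i : ℕ), d ≤ i → Subsingleton ((localCohomology I' (i + 1)).obj M)) :
    ∀ (M : ModuleCat.{u} A) (i : ℕ), d ≤ i → Subsingleton ((localCohomology I (i + 1)).obj M) := by
  classical
  obtain ⟨s, rfl⟩ := IsNoetherian.noetherian I'
  suffices ∀ t : Finset A, t ⊆ s → ∀ J : Ideal A,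
      (∀ (M : ModuleCat.{u} A) (i : ℕ), d ≤ i →
        Subsingleton ((localCohomology (J ⊔ Ideal.span (t : Set A)) (i + 1)).obj M)) →
      ∀ (M : ModuleCat.{u} A) (i : ℕ), d ≤ i → Subsingleton ((localCohomology J (i + 1)).obj M) by
    refine this s subset_rfl I ?_
    rwa [show I ⊔ Ideal.span (s : Set A) = Ideal.span (s : Set A) from sup_eq_right.mpr hII']
  intro t
  induction t using Finset.induction with
  | empty =>
    intro _ J hJ'
    simpa [Ideal.span_empty] using hJ'
  | insert a t _ ih =>
    intro hts J hJ' M i hi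
    rw [Finset.insert_subset_iff] at hts
    refine ih hts.2 J (fun M i hi => ?_) M i hi
    refine subsingleton_H_of_sup_singleton _ a i M ?_ ?_
    · have := hJ' M i hi
      rwa [Finset.coe_insert, Ideal.span_insert, sup_comm (Ideal.span {a}), ← sup_assoc] at this
    · exact cdLE_of_ringKrullDim_le _ d
        (ringKrullDim_away_le (hJ (Submodule.subset_span hts.1)) d hd) _ (i + 1) (by omega)

end Groth.Agent.LocCoh
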