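import Groth.Agent.LocCoh.TorKill
import Groth.Prelude.Def_BlowUp2
import Mathlib.Algebra.MvPolynomial.Supported
import Mathlib.RingTheory.Polynomial.Basic
import Mathlib.RingTheory.Finiteness.Ideal
import Mathlib.RingTheory.Flat.Basic

/-!
# `Tor` of an affine blow-up algebra
-/

universe u

open CategoryTheory

namespace Groth.Agent.LocCoh.BlowTor

open MvPolynomial Tor

variable {A : Type u} [CommRing A] {t : ℕ} (a : Fin (t + 1) → A)

local notation "P" => MvPolynomial (Fin t) A
local notation "LL" => Localization.Away (a 0)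

/-- `a_j / a_0` -/
noncomputable def coef (j : Fin t) : LL :=
  algebraMap A LL (a j.succ) * IsLocalization.Away.invSelf (a 0)

/-- the relation `a_0 y_j - a_j` -/
noncomputable def rel (j : Fin t) : P := C (a 0) * X j - C (a j.succ)

/-- the first `k` relations -/
noncomputable def J (k : ℕ) : Ideal P := Ideal.span (rel a '' {j | (j : ℕ) < k})

/-- substitute the first `k` fractions -/
noncomputable def φ (k : ℕ) : P →ₐ[A] MvPolynomial (Fin t) LL :=
  aeval fun j => if (j : ℕ) < k then C (coef a j) else X j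

theorem C_a0_coef (j : Fin t) : algebraMap A LL (a 0) * coef a j = algebraMap A LL (a j.succ) := by
  rw [coef, mul_left_comm, IsLocalization.Away.mul_invSelf, mul_one]

theorem φ_C (k : ℕ) (c : A) : φ a k (C c) = C (algebraMap A LL c) := by
  rw [φ, MvPolynomial.aeval_C]; rfl

theorem φ_rel (k : ℕ) (j : Fin t) :
    φ a k (rel a j) = C (algebraMap A LL (a 0)) * ((if (j : ℕ) < k then C (coef a j) else X j) - C (coef a j)) := by
  rw [rel, map_sub, map_mul, φ_C, φ_C, φ, MvPolynomial.aeval_X, mul_sub, ← C_mul, C_a0_coef]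

theorem J_le_ker (k : ℕ) : J a k ≤ RingHom.ker (φ a k) := by
  refine Ideal.span_le.mpr ?_
  rintro _ ⟨j, hj, rfl⟩
  rw [SetLike.mem_coe, RingHom.mem_ker, φ_rel, if_pos (show (j : ℕ) < k from hj), sub_self, mul_zero]

/-- every polynomial is, up to a power of `a_0` and modulo the relations, free of the first `k` variables -/
theorem exists_reduce (k : ℕ) (p : P) : ∃ (n : ℕ) (q : P),
    q ∈ supported A {j : Fin t | k ≤ (j : ℕ)} ∧ C (a 0) ^ n * p - q ∈ J a k := by
  induction p using MvPolynomial.induction_on with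
  | C c => exact ⟨0, C c, (supported A _).algebraMap_mem c, by simp⟩
  | add p p' hp hp' =>
    obtain ⟨n, q, hq, h⟩ := hp
    obtain ⟨n', q', hq', h'⟩ := hp'
    have hc : C (a 0) ∈ supported A {j : Fin t | k ≤ (j : ℕ)} := (supported A _).algebraMap_mem (a 0)
    refine ⟨n + n', C (a 0) ^ n' * q + C (a 0) ^ n * q',
      add_mem (mul_mem (pow_mem hc _) hq) (mul_mem (pow_mem hc _) hq'), ?_⟩
    convert add_mem (Ideal.mul_mem_left _ (C (a 0) ^ n') h) (Ideal.mul_mem_left _ (C (a 0) ^ n) h') using 1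
    ring
  | mul_X p j hp =>
    obtain ⟨n, q, hq, h⟩ := hp
    by_cases hj : (j : ℕ) < k
    · refine ⟨n + 1, C (a j.succ) * q, mul_mem ((supported A _).algebraMap_mem _) hq, ?_⟩
      have hrel : rel a j ∈ J a k := Ideal.subset_span ⟨j, hj, rfl⟩
      convert add_mem (Ideal.mul_mem_left _ (C (a 0) * X j) h) (Ideal.mul_mem_left _ q hrel) using 1
      rw [rel]
      ring
    · refine ⟨n, q * X j, mul_mem hq ?_, ?_⟩
      · rw [supported_eq_adjoin_X]
        exact Algebra.subset_adjoin ⟨j, not_lt.mp hj, rfl⟩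
      · convert Ideal.mul_mem_right (X j) _ h using 1
        ring

theorem exists_pow_mul_mem {k : ℕ} {p : P} (hp : φ a k p = 0) : ∃ n, C (a 0) ^ n * p ∈ J a k := by
  obtain ⟨n, q, hq, h⟩ := exists_reduce a k p
  have heq : ∀ q ∈ supported A {j : Fin t | k ≤ (j : ℕ)}, φ a k q = MvPolynomial.map (algebraMap A LL) q := by
    intro q hq
    rw [supported_eq_adjoin_X] at hq
    induction hq using Algebra.adjoin_induction with
    | mem x hx =>
      obtain ⟨j, hj, rfl⟩ := hx
      rw [map_X, φ, MvPolynomial.aeval_X, if_neg (not_lt.mpr hj)]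
    | algebraMap r => rw [MvPolynomial.algebraMap_eq, φ_C, map_C]
    | add x y _ _ hx hy => rw [map_add, map_add, hx, hy]
    | mul x y _ _ hx hy => rw [map_mul, map_mul, hx, hy]
  have hq0 : MvPolynomial.map (algebraMap A LL) q = 0 := by
    have hz : φ a k (C (a 0) ^ n * p - q) = 0 := J_le_ker a k h
    rw [map_sub, map_mul, hp, mul_zero, zero_sub, neg_eq_zero, heq q hq] at hz
    exact hz
  have hcoef : ∀ m, ∃ e, a 0 ^ e * q.coeff m = 0 := fun m => by
    have h0 := congrArg (MvPolynomial.coeff m) hq0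
    rw [MvPolynomial.coeff_map, MvPolynomial.coeff_zero, IsLocalization.map_eq_zero_iff (Submonoid.powers (a 0))] at h0
    obtain ⟨⟨_, e, rfl⟩, he⟩ := h0
    exact ⟨e, he⟩
  choose e he using hcoef
  refine ⟨q.support.sup e + n, ?_⟩
  have hkill : C (a 0) ^ q.support.sup e * q = 0 := by
    refine MvPolynomial.ext _ _ fun m => ?_
    rw [← C_pow, MvPolynomial.coeff_C_mul, MvPolynomial.coeff_zero]
    by_cases hm : m ∈ q.support
    · obtain ⟨d, hd⟩ := Nat.exists_eq_add_of_le (Finset.le_sup (f := e) hm)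
      rw [hd, pow_add, mul_comm (a 0 ^ e m), mul_assoc, he, mul_zero]
    · rw [MvPolynomial.notMem_support_iff.mp hm, mul_zero]
  have h' := Ideal.mul_mem_left (J a k) (C (a 0) ^ q.support.sup e) h
  rw [mul_sub, hkill, sub_zero, ← mul_assoc, ← pow_add] at h'
  exact h'

theorem φ_rel_regular {k : ℕ} (j : Fin t) (hj : (j : ℕ) = k) {x : MvPolynomial (Fin t) LL}
    (hx : x * φ a k (rel a j) = 0) : x = 0 := by
  classical
  rw [φ_rel, if_neg (by omega)] at hx
  have hu : IsUnit (C (algebraMap A LL (a 0)) : MvPolynomial (Fin t) LL) :=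
    (IsLocalization.Away.algebraMap_isUnit (a 0)).map C
  have h1 : x * (X j - C (coef a j)) = 0 := by
    refine (hu.mul_right_eq_zero).mp ?_
    rw [← hx]; ring
  let ψ : MvPolynomial (Fin t) LL →ₐ[LL] MvPolynomial (Fin t) LL :=
    aeval fun i => if i = j then X i + C (coef a j) else X i
  let ψ' : MvPolynomial (Fin t) LL →ₐ[LL] MvPolynomial (Fin t) LL :=
    aeval fun i => if i = j then X i - C (coef a j) else X i
  have hψ : ψ'.comp ψ = AlgHom.id LL _ := MvPolynomial.algHom_ext fun i => by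
    by_cases hi : i = j
    · subst hi; simp [ψ, ψ']
    · simp [ψ, ψ', hi]
  have h2 : ψ x * X j = 0 := by
    have h := congrArg ψ h1
    simpa [ψ] using h
  have h3 : ψ x = 0 := (MvPolynomial.isRegular_X (n := j)).right (h2.trans (zero_mul _).symm)
  rw [← AlgHom.id_apply (R := LL) x, ← hψ, AlgHom.comp_apply, h3, map_zero]

variable [IsNoetherianRing A]

theorem exists_uniform_pow {K : Ideal P} (J' : Ideal P) (h : ∀ p ∈ K, ∃ n, C (a 0) ^ n * p ∈ J') :
    ∃ e, ∀ p ∈ K, C (a 0) ^ e * p ∈ J' := by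
  obtain ⟨s, hs⟩ := IsNoetherian.noetherian K
  choose n hn using h
  refine ⟨s.attach.sup fun p => n p.1 (hs ▸ Submodule.subset_span p.2), fun p hp => ?_⟩
  rw [← hs] at hp
  induction hp using Submodule.span_induction with
  | mem x hx =>
    obtain ⟨d, hd⟩ := Nat.exists_eq_add_of_le (Finset.le_sup (f := fun p : s => n p.1 (hs ▸ Submodule.subset_span p.2))
      (Finset.mem_attach s ⟨x, hx⟩))
    rw [hd, pow_add, mul_comm (C (a 0) ^ _), mul_assoc]
    exact J'.mul_mem_left _ (hn _ _)
  | zero => rw [mul_zero]; exact J'.zero_mem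
  | add x y _ _ hx hy => rw [mul_add]; exact J'.add_mem hx hy
  | smul c x _ hx => rw [smul_eq_mul, mul_left_comm]; exact J'.mul_mem_left c hx

omit [IsNoetherianRing A] in
theorem smul_mk (e : ℕ) (J' : Ideal P) (p : P) :
    (a 0) ^ e • (Ideal.Quotient.mk J' p) = Ideal.Quotient.mk J' (C (a 0) ^ e * p) := by
  rw [← Ideal.Quotient.mkₐ_eq_mk A, ← map_smul, MvPolynomial.smul_eq_C_mul, C_pow]

/-- `Tor_i(A[y]/(g_1..g_k), -)` is killed by a fixed power of `a_0` for `i > k`. -/
theorem exists_kill : ∀ k : ℕ, k ≤ t → ∃ c, ∀ i, k < i →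
    Kill (a 0 ^ c) i (ModuleCat.of A (P ⧸ J a k)) := by
  intro k
  induction k with
  | zero =>
    intro _
    refine ⟨0, fun i hi => ?_⟩
    obtain ⟨i, rfl⟩ : ∃ i', i = i' + 1 := ⟨i - 1, by omega⟩
    have hJ : J a 0 = ⊥ := by simp [J]
    exact kill_of_iso ((Ideal.quotientEquivAlgOfEq A hJ).trans (AlgEquiv.quotientBot A P)).symm.toLinearEquiv.toModuleIso
      (kill_of_flat _ i (ModuleCat.of A P))
  | succ k ih =>
    intro hk
    obtain ⟨c, hc⟩ := ih (by omega)
    let j : Fin t := ⟨k, by omega⟩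
    have hle1 : J a k ≤ J a (k + 1) :=
      Ideal.span_mono (Set.image_mono fun (i : Fin t) (hi : (i : ℕ) < k) => (Nat.lt_succ_of_lt hi : (i : ℕ) < k + 1))
    let π : (P ⧸ J a k) →ₗ[A] (P ⧸ J a (k + 1)) := (Ideal.Quotient.factorₐ A hle1).toLinearMap
    have hπ : Function.Surjective π := Ideal.Quotient.factor_surjective hle1
    let μ : (P ⧸ J a k) →ₗ[A] (P ⧸ J a k) := LinearMap.mulLeft A (Ideal.Quotient.mk (J a k) (rel a j))
    have hμπ : ∀ x, μ x ∈ LinearMap.ker π := fun x => by
      obtain ⟨p, rfl⟩ := Ideal.Quotient.mk_surjective x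
      show Ideal.Quotient.mk (J a (k + 1)) (rel a j * p) = 0
      exact Ideal.Quotient.eq_zero_iff_mem.mpr
        (Ideal.mul_mem_right _ _ (Ideal.subset_span ⟨j, Nat.lt_succ_self k, rfl⟩))
    let μ' := μ.codRestrict (LinearMap.ker π) hμπ
    have hμ' : Function.Surjective μ' := fun ⟨x, hx⟩ => by
      obtain ⟨p, rfl⟩ := Ideal.Quotient.mk_surjective x
      have hp : p ∈ J a (k + 1) := Ideal.Quotient.eq_zero_iff_mem.mp hx
      have hle : J a (k + 1) ≤ J a k ⊔ Ideal.span {rel a j} := by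
        refine Ideal.span_le.mpr ?_
        rintro _ ⟨i, hi, rfl⟩
        rcases Nat.lt_succ_iff_lt_or_eq.mp hi with h | h
        · exact Ideal.mem_sup_left (Ideal.subset_span ⟨i, h, rfl⟩)
        · rw [show i = j from Fin.ext h]
          exact Ideal.mem_sup_right (Ideal.mem_span_singleton_self _)
      obtain ⟨u, hu, v, hv, rfl⟩ := Submodule.mem_sup.mp (hle hp)
      obtain ⟨w, rfl⟩ := Ideal.mem_span_singleton'.mp hv
      refine ⟨Ideal.Quotient.mk _ w, Subtype.ext ?_⟩
      show Ideal.Quotient.mk (J a k) (rel a j) * Ideal.Quotient.mk (J a k) w = Ideal.Quotient.mk (J a k) (u + w * rel a j)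
      rw [map_add, Ideal.Quotient.eq_zero_iff_mem.mpr hu, zero_add, map_mul, mul_comm]
    obtain ⟨e, he⟩ := exists_uniform_pow a (K := (J a k).colon {rel a j}) (J a k) (fun p hp => by
      refine exists_pow_mul_mem a (φ_rel_regular a j rfl ?_)
      rw [← map_mul]
      exact J_le_ker a k (Submodule.mem_colon_singleton.mp hp))
    have hker : ∀ x : LinearMap.ker μ', a 0 ^ e • x = 0 := by
      rintro ⟨x, hx⟩
      obtain ⟨p, rfl⟩ := Ideal.Quotient.mk_surjective x
      have h : μ (Ideal.Quotient.mk (J a k) p) = 0 := congrArg Subtype.val (LinearMap.mem_ker.mp hx)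
      change Ideal.Quotient.mk (J a k) (rel a j) * Ideal.Quotient.mk (J a k) p = 0 at h
      rw [← map_mul, Ideal.Quotient.eq_zero_iff_mem] at h
      refine Subtype.ext ?_
      show (a 0) ^ e • Ideal.Quotient.mk (J a k) p = 0
      rw [smul_mk, Ideal.Quotient.eq_zero_iff_mem]
      exact he p (Submodule.mem_colon_singleton.mpr (by rwa [smul_eq_mul, mul_comm]))
    have hS1 := LinearMap.shortExact_shortComplexKer hμ'
    have hS2 := LinearMap.shortExact_shortComplexKer hπ
    refine ⟨c + (c + e), fun i hi => ?_⟩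
    obtain ⟨i, rfl⟩ : ∃ i', i = i' + 1 := ⟨i - 1, by omega⟩
    have hi' : k < i := by omega
    obtain ⟨i, rfl⟩ : ∃ i', i = i' + 1 := ⟨i - 1, by omega⟩
    have h1 : Kill (a 0 ^ (c + e)) (i + 1) (ModuleCat.of A (LinearMap.ker π)) := by
      have := kill_X₃ (S := μ'.shortComplexKer) hS1 (kill_of_module hker i) (hc (i + 1) hi')
      rwa [← pow_add] at this
    have := kill_X₃ (S := π.shortComplexKer) hS2 h1 (hc (i + 1 + 1) (by omega))
    rwa [← pow_add] at this

theorem exists_kill_affineAlgebra : ∃ c, ∀ i, t < i →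
    Kill (a 0 ^ c) i (ModuleCat.of A (BlowUp.affineAlgebra A (Ideal.span (Set.range a)) (a 0))) := by
  obtain ⟨c, hc⟩ := exists_kill a t le_rfl
  let h : P →ₐ[A] LL := aeval (coef a)
  have hφh : ∀ p, φ a t p = C (h p) := by
    intro p
    induction p using MvPolynomial.induction_on with
    | C r =>
      rw [φ_C]
      simp [h]
    | add p q hp hq => rw [map_add, hp, hq, map_add h, C_add]
    | mul_X p i hp =>
      rw [map_mul, hp, map_mul h, C_mul, φ, MvPolynomial.aeval_X, if_pos i.isLt]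
      simp [h]
  have hrange : h.range = BlowUp.affineAlgebra A (Ideal.span (Set.range a)) (a 0) := by
    have hmk : ∀ x, IsLocalization.mk' LL x (⟨a 0, Submonoid.mem_powers _⟩ : Submonoid.powers (a 0)) =
        algebraMap A LL x * IsLocalization.Away.invSelf (a 0) := fun x => by
      rw [IsLocalization.mk'_eq_iff_eq_mul, mul_assoc, mul_comm (IsLocalization.Away.invSelf (a 0)),
        IsLocalization.Away.mul_invSelf, mul_one]
    refine le_antisymm ?_ (Algebra.adjoin_le ?_)
    · rw [← Algebra.adjoin_range_eq_range_aeval]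
      refine Algebra.adjoin_le ?_
      rintro _ ⟨i, rfl⟩
      exact Algebra.subset_adjoin ⟨a i.succ, Ideal.subset_span ⟨i.succ, rfl⟩, (hmk _).symm⟩
    · rintro _ ⟨x, hx, rfl⟩
      rw [hmk]
      induction hx using Submodule.span_induction with
      | mem z hz =>
        obtain ⟨i, rfl⟩ := hz
        induction i using Fin.cases with
        | zero => rw [IsLocalization.Away.mul_invSelf]; exact h.range.one_mem
        | succ i => exact ⟨X i, by simp [h, coef]⟩
      | zero => rw [map_zero, zero_mul]; exact h.range.zero_mem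
      | add z w _ _ hz hw => rw [map_add, add_mul]; exact h.range.add_mem hz hw
      | smul r z _ hz => rw [smul_eq_mul, map_mul, mul_assoc]; exact h.range.mul_mem (h.range.algebraMap_mem r) hz
  have hker : ∀ p ∈ RingHom.ker h, ∃ n, C (a 0) ^ n * p ∈ J a t := fun p hp =>
    exists_pow_mul_mem a (by rw [hφh, RingHom.mem_ker.mp hp, map_zero])
  obtain ⟨e, he⟩ := exists_uniform_pow a (J a t) hker
  have hJh : ∀ p ∈ J a t, h p = 0 := fun p hp => by
    have := J_le_ker a t hp
    rw [RingHom.mem_ker, hφh, MvPolynomial.C_eq_zero] at this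
    exact this
  let f : (P ⧸ J a t) →ₗ[A] h.range :=
    ((Ideal.Quotient.liftₐ (J a t) h hJh).codRestrict h.range (fun x => by
      obtain ⟨p, rfl⟩ := Ideal.Quotient.mk_surjective x
      exact ⟨p, rfl⟩)).toLinearMap
  have hf : Function.Surjective f := fun ⟨_, p, rfl⟩ => ⟨Ideal.Quotient.mk _ p, Subtype.ext rfl⟩
  have hfk : ∀ x : LinearMap.ker f, a 0 ^ e • x = 0 := by
    rintro ⟨x, hx⟩
    obtain ⟨p, rfl⟩ := Ideal.Quotient.mk_surjective x
    have hp : h p = 0 := congrArg Subtype.val (LinearMap.mem_ker.mp hx)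
    refine Subtype.ext ?_
    show (a 0) ^ e • Ideal.Quotient.mk (J a t) p = 0
    rw [smul_mk, Ideal.Quotient.eq_zero_iff_mem]
    exact he p hp
  refine ⟨c + e, fun i hi => kill_of_iso (Subalgebra.equivOfEq _ _ hrange).toLinearEquiv.toModuleIso ?_⟩
  obtain ⟨i, rfl⟩ : ∃ i', i = i' + 1 := ⟨i - 1, by omega⟩
  have := kill_X₃ (S := f.shortComplexKer) (LinearMap.shortExact_shortComplexKer hf) (kill_of_module hfk i) (hc (i + 1) hi)
  rwa [← pow_add] at this

theorem exists_pow_kill_affineAlgebra : ∃ c, ∀ (i : ℕ), t < i → ∀ x ∈ Ideal.span (Set.range a) ^ c,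
    Kill x i (ModuleCat.of A (BlowUp.affineAlgebra A (Ideal.span (Set.range a)) (a 0))) := by
  obtain ⟨c, hc⟩ := exists_kill_affineAlgebra a
  refine ⟨c, fun i hi x hx N y => ?_⟩
  let B := BlowUp.affineAlgebra A (Ideal.span (Set.range a)) (a 0)
  have hle : (Ideal.span (Set.range a)).map (algebraMap A B) ≤ Ideal.span {algebraMap A B (a 0)} := by
    refine Ideal.map_le_iff_le_comap.mpr fun z hz => ?_
    refine Ideal.mem_span_singleton'.mpr ⟨⟨_, Algebra.subset_adjoin ⟨z, hz, rfl⟩⟩, Subtype.ext ?_⟩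
    exact IsLocalization.mk'_spec LL z (⟨a 0, Submonoid.mem_powers _⟩ : Submonoid.powers (a 0))
  have hx' : algebraMap A B x ∈ Ideal.span {algebraMap A B (a 0) ^ c} := by
    rw [← Ideal.span_singleton_pow]
    exact Ideal.pow_right_mono hle c (by rw [← Ideal.map_pow]; exact Ideal.mem_map_of_mem _ hx)
  obtain ⟨b, hb⟩ := Ideal.mem_span_singleton'.mp hx'
  let mb : ModuleCat.of A B ⟶ ModuleCat.of A B := ModuleCat.ofHom (LinearMap.mulLeft A b)
  have e : x • 𝟙 (ModuleCat.of A B) = (a 0 ^ c • 𝟙 (ModuleCat.of A B)) ≫ mb := by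
    refine ModuleCat.hom_ext (LinearMap.ext fun z => ?_)
    show x • z = b * (a 0 ^ c • z)
    rw [Algebra.smul_def, Algebra.smul_def, ← hb, map_pow, mul_assoc]
  rw [← tf_smul, e, tf_comp_apply, tf_smul, hc i hi N y, map_zero]

end Groth.Agent.LocCoh.BlowTor
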