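import Groth.Agent.LocCoh.IdealTransform
import Groth.Agent.LocCoh.Basic
import Groth.Agent.LocCoh.DepthVanishing
import Groth.Agent.LocCoh.TorsionInjective
import Mathlib.Algebra.Homology.DerivedCategory.Ext.EnoughProjectives

/-!
# Ideal transforms and local cohomology

* `δD : D_I(M) →ₗ H¹_I(M)`, surjective with kernel the image of `toDT` (`coker_equiv`);
* `bijective_H_map`: maps with torsion kernel and cokernel, in degrees `≥ 2`.
-/

universe u

open CategoryTheory Limits Opposite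

namespace Groth.Agent.LocCoh.TransformExt

open IdealTransform

variable {R : Type u} [CommRing R] {I : Ideal R}

/-- The sequence `0 → Iⁿ → R → R/Iⁿ → 0`. -/
noncomputable abbrev powSeq (I : Ideal R) (n : ℕ) : ShortComplex (ModuleCat.{u} R) :=
  ShortComplex.mk (X₁ := ModuleCat.of R ↥(I ^ n)) (X₂ := ModuleCat.of R R) (X₃ := quotPow I n)
    (ModuleCat.ofHom (I ^ n).subtype) (ModuleCat.ofHom (I ^ n).mkQ)
    (ModuleCat.hom_ext (LinearMap.ext fun x => (Submodule.Quotient.mk_eq_zero _).2 x.2))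

theorem powSeq_shortExact (n : ℕ) : (powSeq I n).ShortExact where
  exact := (ShortComplex.ShortExact.moduleCat_exact_iff_function_exact _).mpr
    (LinearMap.exact_subtype_mkQ (I ^ n))
  mono_f := (ModuleCat.mono_iff_injective _).mpr Subtype.val_injective
  epi_g := (ModuleCat.epi_iff_surjective _).mpr (Submodule.mkQ_surjective _)

/-- The map of sequences for `n ≤ m`. -/
noncomputable def powSeqHom {n m : ℕ} (h : n ≤ m) : powSeq I m ⟶ powSeq I n where
  τ₁ := ModuleCat.ofHom (Submodule.inclusion (Ideal.pow_le_pow_right h))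
  τ₂ := 𝟙 _
  τ₃ := qpow I h

theorem extClass_comp_inclusion {n m : ℕ} (h : n ≤ m) {M : ModuleCat.{u} R} {i j : ℕ} (hij : 1 + i = j)
    (e : Abelian.Ext (ModuleCat.of R ↥(I ^ n)) M i) :
    (powSeq_shortExact (I := I) m).extClass.comp
        ((Abelian.Ext.mk₀ (powSeqHom h).τ₁).comp e (zero_add i)) hij =
      (Abelian.Ext.mk₀ (qpow I h)).comp ((powSeq_shortExact (I := I) n).extClass.comp e hij) (zero_add j) := by
  rw [← Abelian.Ext.comp_assoc _ _ _ (add_zero 1) (zero_add i) (by omega),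
    (powSeq_shortExact (I := I) m).extClass_naturality (powSeq_shortExact n) (powSeqHom h),
    Abelian.Ext.comp_assoc _ _ _ (zero_add 1) hij (by omega)]
  rfl

/-- The connecting map `Hom(Iⁿ, M) → H¹_I(M)`. -/
noncomputable def δn (n : ℕ) (M : ModuleCat.{u} R) :
    (↥(I ^ n) →ₗ[R] M) →ₗ[R] (localCohomology I 1).obj M :=
  ιH I 1 n M ∘ₗ ((powSeq_shortExact (I := I) n).extClass.precompOfLinear R M (add_zero 1)) ∘ₗ
    (Abelian.Ext.linearEquiv₀ (R := R)).symm.toLinearMap ∘ₗ
      (ModuleCat.homLinearEquiv (S := R) (M := ModuleCat.of R ↥(I ^ n)) (N := M)).symm.toLinearMap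

theorem δn_apply (n : ℕ) (M : ModuleCat.{u} R) (f : ↥(I ^ n) →ₗ[R] M) :
    δn n M f = ιH I 1 n M
      ((powSeq_shortExact (I := I) n).extClass.comp (Abelian.Ext.mk₀ (ModuleCat.ofHom f)) (add_zero 1)) := rfl

theorem δn_res {n m : ℕ} (h : n ≤ m) (M : ModuleCat.{u} R) (f : ↥(I ^ n) →ₗ[R] M) :
    δn m M (f ∘ₗ Submodule.inclusion (Ideal.pow_le_pow_right h)) = δn n M f := by
  rw [δn_apply, δn_apply, ← ιH_qpow h, ← extClass_comp_inclusion h (add_zero 1),
    Abelian.Ext.mk₀_comp_mk₀]
  rfl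

theorem δn_eq_of_ιD_eq {n m : ℕ} {M : ModuleCat.{u} R} {f : ↥(I ^ n) →ₗ[R] M}
    {g : ↥(I ^ m) →ₗ[R] M} (h : ιD I M n f = ιD I M m g) : δn n M f = δn m M g := by
  rw [← ιD_res M (le_max_left n m) f, ← ιD_res M (le_max_right n m) g, ← sub_eq_zero, ← map_sub,
    ιD_eq_zero_iff] at h
  obtain ⟨k, hk, h⟩ := h
  rw [← δn_res ((le_max_left n m).trans hk), ← δn_res ((le_max_right n m).trans hk) M g, ← sub_eq_zero,
    ← map_sub]
  exact (congrArg _ (LinearMap.ext h)).trans (map_zero _)

/-- The connecting map `D_I(M) → H¹_I(M)`. -/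
noncomputable def δD (M : ModuleCat.{u} R) :
    (_root_.LocCoh.idealTransform I).obj M →ₗ[R] (localCohomology I 1).obj M where
  toFun x := δn (exists_ιD x).choose M (exists_ιD x).choose_spec.choose
  map_add' x y := by
    obtain ⟨n, hn⟩ := exists_ιD_ge x
    obtain ⟨m, hm⟩ := exists_ιD_ge y
    obtain ⟨f, hf⟩ := hn (max n m) (le_max_left n m)
    obtain ⟨g, hg⟩ := hm (max n m) (le_max_right n m)
    rw [δn_eq_of_ιD_eq ((exists_ιD x).choose_spec.choose_spec.trans hf.symm),
      δn_eq_of_ιD_eq ((exists_ιD y).choose_spec.choose_spec.trans hg.symm), ← map_add]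
    exact δn_eq_of_ιD_eq ((exists_ιD (x + y)).choose_spec.choose_spec.trans
      (by rw [map_add, hf, hg]))
  map_smul' r x := by
    rw [RingHom.id_apply, ← map_smul]
    exact δn_eq_of_ιD_eq ((exists_ιD (r • x)).choose_spec.choose_spec.trans
      (by rw [map_smul, (exists_ιD x).choose_spec.choose_spec]))

theorem δD_ιD {M : ModuleCat.{u} R} (n : ℕ) (f : ↥(I ^ n) →ₗ[R] M) :
    δD M (ιD I M n f) = δn n M f :=
  δn_eq_of_ιD_eq (exists_ιD (ιD I M n f)).choose_spec.choose_spec

theorem surjective_δD (M : ModuleCat.{u} R) : Function.Surjective (δD (I := I) M) := fun z => by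
  obtain ⟨n, e, rfl⟩ := exists_ιH z
  have : Projective (powSeq I n).X₂ := (IsProjective.iff_projective R).mp inferInstance
  obtain ⟨x, hx⟩ := Abelian.Ext.contravariant_sequence_exact₃ (powSeq_shortExact (I := I) n) M e
    (Abelian.Ext.eq_zero_of_projective _) (add_zero 1)
  obtain ⟨f, rfl⟩ := (Abelian.Ext.mk₀_bijective _ _).2 x
  exact ⟨ιD I M n f.hom, by rw [δD_ιD, δn_apply]; exact congrArg _ hx⟩

theorem ker_δD (M : Type u) [AddCommGroup M] [Module R M] :
    LinearMap.ker (δD (I := I) (ModuleCat.of R M)) = LinearMap.range (_root_.LocCoh.toDT I M) := by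
  ext x
  rw [LinearMap.mem_ker, LinearMap.mem_range]
  constructor
  · intro hx
    obtain ⟨n, f, rfl⟩ := exists_ιD x
    rw [δD_ιD, δn_apply, ιH_eq_zero_iff] at hx
    obtain ⟨m, h, hm⟩ := hx
    rw [← extClass_comp_inclusion h (add_zero 1), Abelian.Ext.mk₀_comp_mk₀] at hm
    obtain ⟨x₂, hx₂⟩ := Abelian.Ext.contravariant_sequence_exact₁ (powSeq_shortExact (I := I) m)
      (ModuleCat.of R M) _ (add_zero 1) hm
    obtain ⟨φ, rfl⟩ := (Abelian.Ext.mk₀_bijective _ _).2 x₂
    rw [Abelian.Ext.mk₀_comp_mk₀] at hx₂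
    have hφ := congrArg ModuleCat.Hom.hom ((Abelian.Ext.mk₀_bijective _ _).1 hx₂)
    refine ⟨φ.hom (1 : R), ?_⟩
    rw [toDT_eq m, ← ιD_res _ h f]
    refine congrArg _ (LinearMap.ext fun r => ?_)
    refine Eq.trans ?_ (LinearMap.congr_fun hφ r)
    show (r : R) • φ.hom (1 : R) = φ.hom (r : R)
    rw [← map_smul, smul_eq_mul, mul_one]
  · rintro ⟨m, rfl⟩
    rw [toDT_eq 0, δD_ιD, δn_apply]
    have : ModuleCat.ofHom (mulHom I 0 m) =
        (powSeq I 0).f ≫ ModuleCat.ofHom (LinearMap.toSpanSingleton R M m) := rfl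
    rw [this, ← Abelian.Ext.mk₀_comp_mk₀, (powSeq_shortExact (I := I) 0).extClass_comp_assoc, map_zero]

/-- `D_I(M) / M ≅ H¹_I(M)`. -/
noncomputable def cokerEquiv (M : Type u) [AddCommGroup M] [Module R M] :
    (_root_.LocCoh.DT I M ⧸ LinearMap.range (_root_.LocCoh.toDT I M)) ≃ₗ[R] _root_.LocCoh.H I 1 M :=
  (Submodule.quotEquivOfEq _ _ (ker_δD M).symm).trans
    ((δD (I := I) (ModuleCat.of R M)).quotKerEquivOfSurjective (surjective_δD _))

theorem surjective_toDT_iff (M : Type u) [AddCommGroup M] [Module R M] :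
    Function.Surjective (_root_.LocCoh.toDT I M) ↔ Subsingleton (_root_.LocCoh.H I 1 M) := by
  rw [← (cokerEquiv (I := I) M).toEquiv.subsingleton_congr, Submodule.Quotient.subsingleton_iff,
    LinearMap.range_eq_top]

/-- In degrees `≥ 2` maps with torsion kernel and cokernel are invisible. -/
theorem bijective_H_map [IsNoetherianRing R] {M N : Type u} [AddCommGroup M] [Module R M]
    [AddCommGroup N] [Module R N] (e : M →ₗ[R] N) (hker : _root_.LocCoh.IsPowerTorsion I (LinearMap.ker e))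
    (hcoker : _root_.LocCoh.IsPowerTorsion I (N ⧸ LinearMap.range e)) (i : ℕ) (hi : 1 < i) :
    Function.Bijective ((localCohomology I i).map (ModuleCat.ofHom e)).hom := by
  obtain ⟨i, rfl⟩ : ∃ j, i = j + 1 + 1 := ⟨i - 2, by omega⟩
  let p : ModuleCat.of R M ⟶ ModuleCat.of R (LinearMap.range e) := ModuleCat.ofHom e.rangeRestrict
  let q : ModuleCat.of R (LinearMap.range e) ⟶ ModuleCat.of R N := ModuleCat.ofHom (LinearMap.range e).subtype
  have hpq : ModuleCat.ofHom e = p ≫ q := rfl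
  rw [hpq, Functor.map_comp]
  refine (show Function.Bijective (⇑((localCohomology I (i + 1 + 1)).map q).hom ∘
    ⇑((localCohomology I (i + 1 + 1)).map p).hom) from Function.Bijective.comp ?_ ?_)
  · let S : ShortComplex (ModuleCat.{u} R) := ShortComplex.mk q (ModuleCat.ofHom (LinearMap.range e).mkQ)
      (ModuleCat.hom_ext (LinearMap.ext fun x => (Submodule.Quotient.mk_eq_zero _).2 x.2))
    have hS : S.ShortExact :=
      { exact := (ShortComplex.ShortExact.moduleCat_exact_iff_function_exact _).mpr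
          (LinearMap.exact_subtype_mkQ _)
        mono_f := (ModuleCat.mono_iff_injective _).mpr Subtype.val_injective
        epi_g := (ModuleCat.epi_iff_surjective _).mpr (Submodule.mkQ_surjective _) }
    have h0 := subsingleton_H_succ_of_isPowerTorsion I i S.X₃ hcoker
    have h1 := subsingleton_H_succ_of_isPowerTorsion I (i + 1) S.X₃ hcoker
    refine ⟨(injective_iff_map_eq_zero _).2 fun x hx => ?_, fun y => ?_⟩
    · obtain ⟨z, rfl⟩ := (exact₁ (I := I) (i := i + 1) hS x).1 hx
      rw [h0.elim z 0, map_zero]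
    · exact (exact₂ (I := I) (i := i + 1 + 1) hS y).1 (h1.elim _ _)
  · let S : ShortComplex (ModuleCat.{u} R) := ShortComplex.mk (ModuleCat.ofHom (LinearMap.ker e).subtype) p
      (ModuleCat.hom_ext (LinearMap.ext fun x => Subtype.ext (LinearMap.mem_ker.1 x.2)))
    have hS : S.ShortExact :=
      { exact := (ShortComplex.ShortExact.moduleCat_exact_iff_function_exact _).mpr fun x =>
          ⟨fun hx => ⟨⟨x, congrArg Subtype.val hx⟩, rfl⟩,
            fun ⟨y, hy⟩ => hy ▸ Subtype.ext (LinearMap.mem_ker.1 y.2)⟩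
        mono_f := (ModuleCat.mono_iff_injective _).mpr Subtype.val_injective
        epi_g := (ModuleCat.epi_iff_surjective _).mpr (LinearMap.surjective_rangeRestrict e) }
    have h1 := subsingleton_H_succ_of_isPowerTorsion I (i + 1) S.X₁ hker
    have h2 := subsingleton_H_succ_of_isPowerTorsion I (i + 1 + 1) S.X₁ hker
    refine ⟨(injective_iff_map_eq_zero _).2 fun x hx => ?_, fun y => ?_⟩
    · obtain ⟨z, rfl⟩ := (exact₂ (I := I) (i := i + 1 + 1) hS x).1 hx
      rw [h1.elim z 0, map_zero]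
    · exact (exact₃ (I := I) (i := i + 1 + 1) hS y).1 (h2.elim _ _)

end Groth.Agent.LocCoh.TransformExt
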